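import Cfsg.Agent.H16.Sch2
import Cfsg.Agent.H16.P.Fi22L

/-! Generated by tools/h16 (computation kit). -/

set_option maxRecDepth 100000
set_option maxHeartbeats 0

namespace H16.ScFi22

noncomputable def Us5 : List (List ℕ) := [[nat_lit 7, nat_lit 1, nat_lit 2, nat_lit 0, nat_lit 0, nat_lit 8, nat_lit 5, nat_lit 3, nat_lit 2, nat_lit 1, nat_lit 0, nat_lit 8, nat_lit 5, nat_lit 3, nat_lit 2, nat_lit 1, nat_lit 0, nat_lit 8, nat_lit 5, nat_lit 3, nat_lit 2, nat_lit 1, nat_lit 0, nat_lit 8, nat_lit 5, nat_lit 3, nat_lit 2, nat_lit 1, nat_lit 0, nat_lit 8, nat_lit 5, nat_lit 3, nat_lit 2, nat_lit 1, nat_lit 0, nat_lit 8, nat_lit 2, nat_lit 3, nat_lit 5, nat_lit 2, nat_lit 1, nat_lit 2, nat_lit 5, nat_lit 3, nat_lit 2, nat_lit 5, nat_lit 3, nat_lit 1, nat_lit 6, nat_lit 3, nat_lit 7, nat_lit 4, nat_lit 3, nat_lit 5, nat_lit 3, nat_lit 2, nat_lit 1, nat_lit 0, nat_lit 8, nat_lit 5, nat_lit 3, nat_lit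 2, nat_lit 1, nat_lit 0, nat_lit 8, nat_lit 5, nat_lit 3, nat_lit 2, nat_lit 1, nat_lit 0, nat_lit 8, nat_lit 5, nat_lit 3, nat_lit 2, nat_lit 1, nat_lit 0, nat_lit 8, nat_lit 5, nat_lit 3, nat_lit 2, nat_lit 1, nat_lit 0, nat_lit 8, nat_lit 4, nat_lit 6, nat_lit 4, nat_lit 5, nat_lit 3, nat_lit 2, nat_lit 1, nat_lit 0, nat_lit 8, nat_lit 5, nat_lit 3, nat_lit 2, nat_lit 1, nat_lit 0, nat_lit 8, nat_lit 5, nat_lit 3, nat_lit 2, nat_lit 1, nat_lit 0, nat_lit 8, nat_lit 5, nat_lit 3, nat_lit 2, nat_lit 1, nat_lit 0, nat_lit 8, nat_lit 5, nat_lit 3, nat_lit 2, nat_lit 1, nat_lit 0, nat_lit 8, nat_lit 3, nat_lit 4, nat_lit 2, nat_lit 3, nat_lit 5, nat_lit 2, nat_lit 1, nat_lit 2, nat_lit 5, nat_lit 3, nat_lit 2, nat_lit 5, nat_lit 3, nat_lit 1, nat_lit 4, nat_lit 5, nat_lit 3, nat_lit 2, nat_lit 1, nat_lit 0, nat_lit 8, nat_lit 5, nat_lit 3, nat_lit 2, nat_lit 1, nat_lit 0, nat_lit 8, nat_lit 5,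 nat_lit 3, nat_lit 2, nat_lit 1, nat_lit 0, nat_lit 8, nat_lit 5, nat_lit 3, nat_lit 2, nat_lit 1, nat_lit 0, nat_lit 8, nat_lit 5, nat_lit 3, nat_lit 2, nat_lit 1, nat_lit 0, nat_lit 8, nat_lit 7, nat_lit 2, nat_lit 3, nat_lit 5, nat_lit 2, nat_lit 1, nat_lit 2, nat_lit 5, nat_lit 3, nat_lit 2, nat_lit 5, nat_lit 3, nat_lit 1, nat_lit 6, nat_lit 3, nat_lit 7, nat_lit 4, nat_lit 2, nat_lit 3, nat_lit 4, nat_lit 5, nat_lit 3, nat_lit 2, nat_lit 1, nat_lit 0, nat_lit 8, nat_lit 5, nat_lit 3, nat_lit 2, nat_lit 1, nat_lit 0, nat_lit 8, nat_lit 5, nat_lit 3, nat_lit 2, nat_lit 1, nat_lit 0, nat_lit 8, nat_lit 5, nat_lit 3, nat_lit 2, nat_lit 1, nat_lit 0, nat_lit 8, nat_lit 5, nat_lit 3, nat_lit 2, nat_lit 1, nat_lit 0, nat_lit 8, nat_lit 6, nat_lit 7, nat_lit 5, nat_lit 4, nat_lit 3, nat_lit 2, nat_lit 1, nat_lit 3, nat_lit 5, nat_lit 4, nat_lit 6, nat_lit 2, nat_lit 5, nat_lit 0, nat_lit 1, nat_lit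 2, nat_lit 3, nat_lit 5, nat_lit 7, nat_lit 4, nat_lit 6, nat_lit 2, nat_lit 1, nat_lit 3, nat_lit 5, nat_lit 4, nat_lit 2, nat_lit 3, nat_lit 4, nat_lit 0, nat_lit 1, nat_lit 2, nat_lit 3, nat_lit 5, nat_lit 4, nat_lit 1, nat_lit 1, nat_lit 3, nat_lit 6],
  [nat_lit 6, nat_lit 4, nat_lit 0, nat_lit 6, nat_lit 5, nat_lit 2, nat_lit 5, nat_lit 8, nat_lit 2, nat_lit 3, nat_lit 5, nat_lit 2, nat_lit 1, nat_lit 2, nat_lit 5, nat_lit 3, nat_lit 2, nat_lit 5, nat_lit 3, nat_lit 1, nat_lit 6, nat_lit 4, nat_lit 3, nat_lit 5, nat_lit 3, nat_lit 2, nat_lit 1, nat_lit 0, nat_lit 8, nat_lit 5, nat_lit 3, nat_lit 2, nat_lit 1, nat_lit 0, nat_lit 8, nat_lit 5, nat_lit 3, nat_lit 2, nat_lit 1, nat_lit 0, nat_lit 8, nat_lit 5, nat_lit 3, nat_lit 2, nat_lit 1, nat_lit 0, nat_lit 8, nat_lit 5, nat_lit 3, nat_lit 2, nat_lit 1, nat_lit 0, nat_lit 8, nat_lit 4, nat_lit 6, nat_lit 4, nat_lit 5, nat_lit 3, nat_lit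 2, nat_lit 1, nat_lit 0, nat_lit 8, nat_lit 5, nat_lit 3, nat_lit 2, nat_lit 1, nat_lit 0, nat_lit 8, nat_lit 5, nat_lit 3, nat_lit 2, nat_lit 1, nat_lit 0, nat_lit 8, nat_lit 5, nat_lit 3, nat_lit 2, nat_lit 1, nat_lit 0, nat_lit 8, nat_lit 5, nat_lit 3, nat_lit 2, nat_lit 1, nat_lit 0, nat_lit 8, nat_lit 3, nat_lit 4, nat_lit 1, nat_lit 7, nat_lit 4, nat_lit 5, nat_lit 3, nat_lit 2, nat_lit 1, nat_lit 0, nat_lit 8, nat_lit 5, nat_lit 3, nat_lit 2, nat_lit 1, nat_lit 0, nat_lit 8, nat_lit 5, nat_lit 3, nat_lit 2, nat_lit 1, nat_lit 0, nat_lit 8, nat_lit 5, nat_lit 3, nat_lit 2, nat_lit 1, nat_lit 0, nat_lit 8, nat_lit 5, nat_lit 3, nat_lit 2, nat_lit 1, nat_lit 0, nat_lit 8, nat_lit 2, nat_lit 3, nat_lit 5, nat_lit 2, nat_lit 1, nat_lit 2, nat_lit 5, nat_lit 3, nat_lit 2, nat_lit 5, nat_lit 3, nat_lit 1, nat_lit 6, nat_lit 4, nat_lit 2, nat_lit 3, nat_lit 4, nat_lit 5, nat_lit 3, nat_lit 2,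 nat_lit 1, nat_lit 0, nat_lit 8, nat_lit 5, nat_lit 3, nat_lit 2, nat_lit 1, nat_lit 0, nat_lit 8, nat_lit 5, nat_lit 3, nat_lit 2, nat_lit 1, nat_lit 0, nat_lit 8, nat_lit 5, nat_lit 3, nat_lit 2, nat_lit 1, nat_lit 0, nat_lit 8, nat_lit 5, nat_lit 3, nat_lit 2, nat_lit 1, nat_lit 0, nat_lit 8, nat_lit 6, nat_lit 1, nat_lit 7, nat_lit 5, nat_lit 2, nat_lit 3, nat_lit 5, nat_lit 4, nat_lit 0, nat_lit 1, nat_lit 2, nat_lit 3, nat_lit 5, nat_lit 7, nat_lit 4, nat_lit 6, nat_lit 2, nat_lit 1, nat_lit 3, nat_lit 5, nat_lit 4, nat_lit 2, nat_lit 3, nat_lit 5, nat_lit 4, nat_lit 2, nat_lit 0, nat_lit 1, nat_lit 2, nat_lit 3, nat_lit 5, nat_lit 4, nat_lit 6, nat_lit 2, nat_lit 8]]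
noncomputable def Fs5 : List (List ℕ) := [[nat_lit 2, nat_lit 6, nat_lit 5, nat_lit 3, nat_lit 2, nat_lit 1, nat_lit 0, nat_lit 8, nat_lit 5, nat_lit 3, nat_lit 2, nat_lit 1, nat_lit 0, nat_lit 8, nat_lit 5, nat_lit 3, nat_lit 2, nat_lit 1, nat_lit 0, nat_lit 8, nat_lit 5, nat_lit 3, nat_lit 2, nat_lit 1, nat_lit 0, nat_lit 8, nat_lit 5, nat_lit 3, nat_lit 2, nat_lit 1, nat_lit 0, nat_lit 8, nat_lit 2, nat_lit 3, nat_lit 5, nat_lit 2, nat_lit 1, nat_lit 2, nat_lit 5, nat_lit 3, nat_lit 2, nat_lit 5, nat_lit 3, nat_lit 1, nat_lit 6, nat_lit 4, nat_lit 3, nat_lit 5, nat_lit 3, nat_lit 2, nat_lit 1, nat_lit 0, nat_lit 8, nat_lit 5, nat_lit 3, nat_lit 2, nat_lit 1, nat_lit 0, nat_lit 8, nat_lit 5, nat_lit 3, nat_lit 2, nat_lit 1, nat_lit 0, nat_lit 8, nat_lit 5, nat_lit 3, nat_lit 2, nat_lit 1, nat_lit 0, nat_lit 8, nat_lit 5, nat_lit 3, nat_lit 2, nat_lit 1, nat_lit 0, nat_lit 8, nat_lit 4, nat_lit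 6, nat_lit 4, nat_lit 5, nat_lit 3, nat_lit 2, nat_lit 1, nat_lit 0, nat_lit 8, nat_lit 5, nat_lit 3, nat_lit 2, nat_lit 1, nat_lit 0, nat_lit 8, nat_lit 5, nat_lit 3, nat_lit 2, nat_lit 1, nat_lit 0, nat_lit 8, nat_lit 5, nat_lit 3, nat_lit 2, nat_lit 1, nat_lit 0, nat_lit 8, nat_lit 5, nat_lit 3, nat_lit 2, nat_lit 1, nat_lit 0, nat_lit 8, nat_lit 3, nat_lit 4, nat_lit 1, nat_lit 5, nat_lit 7, nat_lit 5, nat_lit 4, nat_lit 2, nat_lit 3, nat_lit 5, nat_lit 2, nat_lit 1, nat_lit 2, nat_lit 5, nat_lit 3, nat_lit 2, nat_lit 5, nat_lit 3, nat_lit 1, nat_lit 4, nat_lit 2, nat_lit 3, nat_lit 4, nat_lit 5, nat_lit 3, nat_lit 2, nat_lit 1, nat_lit 0, nat_lit 8, nat_lit 5, nat_lit 3, nat_lit 2, nat_lit 1, nat_lit 0, nat_lit 8, nat_lit 5, nat_lit 3, nat_lit 2, nat_lit 1, nat_lit 0, nat_lit 8, nat_lit 5, nat_lit 3, nat_lit 2, nat_lit 1, nat_lit 0, nat_lit 8, nat_lit 5, nat_lit 3, nat_lit 2, nat_lit 1,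 nat_lit 0, nat_lit 8, nat_lit 6, nat_lit 1, nat_lit 5, nat_lit 7, nat_lit 5, nat_lit 2, nat_lit 3, nat_lit 4, nat_lit 6, nat_lit 0, nat_lit 1, nat_lit 2, nat_lit 3, nat_lit 5, nat_lit 7, nat_lit 4, nat_lit 6, nat_lit 2, nat_lit 1, nat_lit 3, nat_lit 5, nat_lit 4, nat_lit 2, nat_lit 1, nat_lit 3, nat_lit 5, nat_lit 2, nat_lit 1, nat_lit 0, nat_lit 8, nat_lit 1, nat_lit 2, nat_lit 3, nat_lit 5, nat_lit 7, nat_lit 2, nat_lit 1, nat_lit 5, nat_lit 0, nat_lit 0, nat_lit 2]]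
noncomputable def c5 : Pc := ⟨(nat_lit 4), (nat_lit 4), (nat_lit 2), (nat_lit 2), (nat_lit 2), (nat_lit 10),
  [[[]],
  [[nat_lit 1], []]],
  [((nat_lit 0), [nat_lit 1], [nat_lit 0, nat_lit 0]),
  ((nat_lit 0), [nat_lit 0], [nat_lit 1])]⟩
noncomputable def I5_0 : List Pc.Idn := [⟨true, (nat_lit 0), [nat_lit 0, nat_lit 1], [nat_lit 1, nat_lit 0], [((nat_lit 4), (nat_lit 3))]⟩]
noncomputable def Ds5 : List (List (ℕ × ℕ)) := I5_0.map Pc.Idn.D
noncomputable def S5 : List (List (ℕ × ℕ)) := [[],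
  []]
noncomputable def Yo5 : List (List (ℕ × ℕ) × ℕ × ℕ) := []
noncomputable def La5 : List ℕ := [nat_lit 0,
  nat_lit 0,
  nat_lit 2,
  nat_lit 0]
noncomputable def Wsx5 : List (List ℕ) := [[nat_lit 0, nat_lit 1, nat_lit 1],
  [nat_lit 0]]
noncomputable def LDx5_1d : ℕ := nat_lit 0x390
noncomputable def LDx5_1 (u : ℕ) : ℕ := Nat.land (Nat.shiftRight LDx5_1d (Nat.mul u (nat_lit 2))) (nat_lit 3)
noncomputable def Ptx5_1d : ℕ := nat_lit 0x748447ca0745000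
noncomputable def Ptx5_1 (u : ℕ) : ℕ := Nat.land (Nat.shiftRight Ptx5_1d (Nat.mul u (nat_lit 12))) (nat_lit 4095)
noncomputable def Qx5_1d : ℕ := nat_lit 0x20000000000000000000000000000000000000000000000000000000000000000000000000000000000000000000000000000000000000000000000000000000000000000000000000000000000000000000000000000000000000000000000000000000000000000000000000000000000000000000000000000000000000000000000000000000000000000000000000000000000000000000000000000000000000000000000000000000000000000000000000000000000000000000000000000000000000000000000000000000000000000000000000000000000000000000000000000000000000000000000000000000000000000000000000000000000000000000000000000000000000000000000000000000000000000000000000000000000000000000000000000000000000000000000000000000000000000000000000000000000000000000000000000000000000000000000000000000000000000000000000000000000000000000000000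000000000000000000000000000000000000000000000000000000000000000000000000000000000000000000000000000000000000000000000000000000000000000000000000000000000000000000000000000000000000000000000000000000000000000000000000000000000000000000000000000000000000000000000000000000000000000040080000000000000000000000000000000000000000000000000000000000000000000000000000000000000000000000000000000000000000000000000000000000000000000000000000000000000000000000000000000000000000000000000000000000000000000000000000000000000000000000000000000000000000000000000000000000000000000000000000000000000000000000000000000000000000000000000000000000000000000000000000000000000000000000000000000000000000000000000000000000000000000000000000000000000000000000000000000000000000000000000000000000000000000000000000000000000000000000000000000000000000000000000000000000000000000006000000000000000000000000000000000000000000000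00000000000000000000000000000000000000000000000000000000000000000000000000000000000000000000000000000000000000000000000000000000000000000000000000000000000000000000000000000000000000000000000000000000000000000000000000000000000000000000000000000000000000000000000000000000000000000000000000000000000000000000000000000000000000000000000000000000000000000000000000000000000000000000000000000000000000000000000000000000000000000000000000000000000000000000000000000000000000000000000000000000000000000000000000000000000000000000000000000000000000000000000000000000000000000000000000000000000000000000000000000000000000000000000000000000000000000000000000000000000000000000000000000000000000000000000000000000000000000000000000000000000000000000000000000000000000000000000000000000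
noncomputable def Qx5_1 (u : ℕ) : ℕ := Nat.land (Nat.shiftRight Qx5_1d (Nat.mul u (nat_lit 3))) (nat_lit 7)
noncomputable def lx5_1 : Lev := ⟨5, 1, LDx5_1, Ptx5_1, Qx5_1⟩
noncomputable def LDx5_0d : ℕ := nat_lit 0x7ac8
noncomputable def LDx5_0 (u : ℕ) : ℕ := Nat.land (Nat.shiftRight LDx5_0d (Nat.mul u (nat_lit 3))) (nat_lit 7)
noncomputable def Ptx5_0d : ℕ := nat_lit 0xda459bdb48d7041
noncomputable def Ptx5_0 (u : ℕ) : ℕ := Nat.land (Nat.shiftRight Ptx5_0d (Nat.mul u (nat_lit 12))) (nat_lit 4095)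
noncomputable def Qx5_0d : ℕ := nat_lit 0x20000000000040000000000000000000000000000000000000000000000000000000000000000000000000000000000000000000000000000000000000000000000000000000000000000000000000000000000000000000000000000000000000000000000000000000000000000000000000000000000000000000000000000000000000000000000000000000000000000000000000000000000000000000000000000000000000000000000000000000000000000000000000000000000000000000000000000000000000000000000000000000000000000000000000000000000000000000000000000000000000000000000000000000000000000000000000000000000000000000000000000000000000000000000000000000000000000000000000000000000000000000000000000000000000000000000000000000000000000000000000000000000000000000000000000000000000000000000000000000000000000000000000000000000000000000000000000000000000000000000000000000000000000000000000000000000000000000000000000000000000000000000000000000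000000000000000000000000000000000000000000000000000000000000000000000000002000000000000000000000000000000000000000000000000000000000000000000000000000000000000000000000000000000000000000000000000000000000000000000000000000000000000000000000000000000000000000000000000000000000000000000000000000000000000000000000000000000000000000000000000000000000000000000000000000000000000000000000000000000000000000000000000000000000000000000000000000000000000000000000000000000000000000000000000000000000000000000000000000000000000000000000000000000000000000000000000000000000000000000000000000000000000000000000000000000000000000000000000000000000000000000000000000000000000000000000000000000000000000000006000000000000000000000000000000000000000000000000000000000000000000000000000000000000000000000000000000000000000000000000000000000000000000000000000000000000000000000000000000000000000000000000000000000000000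00000000000000000000000000000000000000000000000000000000000000000000000000000000000000000000000000000000000000000000000000000000000000000000000000000000000000000000000000000000000000000000000000000000000000000000000000000000000000000000000000000000000000000000000000000000000000000000000000000000000000000000000000000000000000000000000000000000000000000000000000000000000000000000000000000000000000000000000000000000000000000000000000000000000000000000000000000000000000000000000000000000000000000000000000000000000000000000000000000000000000000000000000000000000000000000000000000000000000000000000000000000000000000000000000000000000000000000000000000000000000000000000000000000000000000000000000000000000000000000000000000000000000000000000000000000000000000000000000000000000000000000000000000000000000000000000000000000000000000000000000000000000000000000000000000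
noncomputable def Qx5_0 (u : ℕ) : ℕ := Nat.land (Nat.shiftRight Qx5_0d (Nat.mul u (nat_lit 3))) (nat_lit 7)
noncomputable def lx5_0 : Lev := ⟨5, 2, LDx5_0, Ptx5_0, Qx5_0⟩
noncomputable def Lx5 : List Lev := [lx5_0, lx5_1]
noncomputable def Bx5 : List ℕ := [nat_lit 65, nat_lit 0]
noncomputable def Us3 : List (List ℕ) := [[nat_lit 6, nat_lit 4, nat_lit 3, nat_lit 2, nat_lit 4, nat_lit 4, nat_lit 4, nat_lit 3, nat_lit 5, nat_lit 3, nat_lit 2, nat_lit 1, nat_lit 0, nat_lit 8, nat_lit 5, nat_lit 3, nat_lit 2, nat_lit 1, nat_lit 0, nat_lit 8, nat_lit 5, nat_lit 3, nat_lit 2, nat_lit 1, nat_lit 0, nat_lit 8, nat_lit 5, nat_lit 3, nat_lit 2, nat_lit 1, nat_lit 0, nat_lit 8, nat_lit 5, nat_lit 3, nat_lit 2, nat_lit 1, nat_lit 0, nat_lit 8, nat_lit 4, nat_lit 6, nat_lit 4, nat_lit 5, nat_lit 3, nat_lit 2, nat_lit 1, nat_lit 0, nat_lit 8, nat_lit 5, nat_lit 3, nat_lit 2, nat_lit 1, nat_lit 0, nat_lit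 8, nat_lit 5, nat_lit 3, nat_lit 2, nat_lit 1, nat_lit 0, nat_lit 8, nat_lit 5, nat_lit 3, nat_lit 2, nat_lit 1, nat_lit 0, nat_lit 8, nat_lit 5, nat_lit 3, nat_lit 2, nat_lit 1, nat_lit 0, nat_lit 8, nat_lit 3, nat_lit 4, nat_lit 3, nat_lit 7, nat_lit 5, nat_lit 3, nat_lit 2, nat_lit 1, nat_lit 0, nat_lit 8, nat_lit 5, nat_lit 3, nat_lit 2, nat_lit 1, nat_lit 0, nat_lit 8, nat_lit 5, nat_lit 3, nat_lit 2, nat_lit 1, nat_lit 0, nat_lit 8, nat_lit 5, nat_lit 3, nat_lit 2, nat_lit 1, nat_lit 0, nat_lit 8, nat_lit 5, nat_lit 3, nat_lit 2, nat_lit 1, nat_lit 0, nat_lit 8, nat_lit 5, nat_lit 7, nat_lit 4, nat_lit 8, nat_lit 0, nat_lit 1, nat_lit 2, nat_lit 3, nat_lit 5, nat_lit 8, nat_lit 0, nat_lit 1, nat_lit 2, nat_lit 3, nat_lit 5, nat_lit 8, nat_lit 0, nat_lit 1, nat_lit 2, nat_lit 3, nat_lit 5, nat_lit 8, nat_lit 0, nat_lit 1, nat_lit 2, nat_lit 3, nat_lit 5, nat_lit 8, nat_lit 0, nat_lit 1,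 nat_lit 2, nat_lit 3, nat_lit 5, nat_lit 7, nat_lit 5, nat_lit 2, nat_lit 1, nat_lit 3, nat_lit 5, nat_lit 7, nat_lit 8, nat_lit 0, nat_lit 1, nat_lit 2, nat_lit 3, nat_lit 5, nat_lit 8, nat_lit 0, nat_lit 1, nat_lit 2, nat_lit 3, nat_lit 5, nat_lit 8, nat_lit 0, nat_lit 1, nat_lit 2, nat_lit 3, nat_lit 5, nat_lit 8, nat_lit 0, nat_lit 1, nat_lit 2, nat_lit 3, nat_lit 5, nat_lit 8, nat_lit 0, nat_lit 1, nat_lit 2, nat_lit 3, nat_lit 5, nat_lit 4, nat_lit 3, nat_lit 2, nat_lit 8, nat_lit 0, nat_lit 1, nat_lit 2, nat_lit 3, nat_lit 5, nat_lit 8, nat_lit 0, nat_lit 1, nat_lit 2, nat_lit 3, nat_lit 5, nat_lit 8, nat_lit 0, nat_lit 1, nat_lit 2, nat_lit 3, nat_lit 5, nat_lit 8, nat_lit 0, nat_lit 1, nat_lit 2, nat_lit 3, nat_lit 5, nat_lit 8, nat_lit 0, nat_lit 1, nat_lit 2, nat_lit 3, nat_lit 7, nat_lit 8, nat_lit 0, nat_lit 1, nat_lit 2, nat_lit 3, nat_lit 5, nat_lit 8, nat_lit 0, nat_lit 1, nat_lit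 2, nat_lit 3, nat_lit 5, nat_lit 8, nat_lit 0, nat_lit 1, nat_lit 2, nat_lit 3, nat_lit 5, nat_lit 8, nat_lit 0, nat_lit 1, nat_lit 2, nat_lit 3, nat_lit 5, nat_lit 8, nat_lit 0, nat_lit 1, nat_lit 2, nat_lit 3, nat_lit 5, nat_lit 4, nat_lit 3, nat_lit 5, nat_lit 1, nat_lit 2, nat_lit 4, nat_lit 2, nat_lit 3, nat_lit 5, nat_lit 2, nat_lit 1, nat_lit 2, nat_lit 5, nat_lit 3, nat_lit 2, nat_lit 5, nat_lit 3, nat_lit 1, nat_lit 6, nat_lit 3, nat_lit 2, nat_lit 3, nat_lit 4, nat_lit 5, nat_lit 3, nat_lit 2, nat_lit 1, nat_lit 0, nat_lit 8, nat_lit 5, nat_lit 3, nat_lit 2, nat_lit 1, nat_lit 0, nat_lit 8, nat_lit 5, nat_lit 3, nat_lit 2, nat_lit 1, nat_lit 0, nat_lit 8, nat_lit 5, nat_lit 3, nat_lit 2, nat_lit 1, nat_lit 0, nat_lit 8, nat_lit 5, nat_lit 3, nat_lit 2, nat_lit 1, nat_lit 0, nat_lit 8, nat_lit 6, nat_lit 1, nat_lit 7, nat_lit 5, nat_lit 4, nat_lit 2, nat_lit 1, nat_lit 3, nat_lit 4,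 nat_lit 6, nat_lit 2, nat_lit 5, nat_lit 7, nat_lit 0, nat_lit 1, nat_lit 2, nat_lit 3, nat_lit 5, nat_lit 7, nat_lit 4, nat_lit 6, nat_lit 2, nat_lit 1, nat_lit 3, nat_lit 5, nat_lit 4, nat_lit 2, nat_lit 3, nat_lit 5, nat_lit 7, nat_lit 4, nat_lit 6, nat_lit 0, nat_lit 3, nat_lit 1, nat_lit 1, nat_lit 4],
  [nat_lit 0, nat_lit 2, nat_lit 3, nat_lit 5, nat_lit 2, nat_lit 1, nat_lit 2, nat_lit 5, nat_lit 3, nat_lit 2, nat_lit 5, nat_lit 3, nat_lit 1, nat_lit 6, nat_lit 3, nat_lit 5, nat_lit 7, nat_lit 5, nat_lit 3, nat_lit 2, nat_lit 1, nat_lit 0, nat_lit 8, nat_lit 5, nat_lit 3, nat_lit 2, nat_lit 1, nat_lit 0, nat_lit 8, nat_lit 5, nat_lit 3, nat_lit 2, nat_lit 1, nat_lit 0, nat_lit 8, nat_lit 5, nat_lit 3, nat_lit 2, nat_lit 1, nat_lit 0, nat_lit 8, nat_lit 5, nat_lit 3, nat_lit 2, nat_lit 1, nat_lit 0, nat_lit 8, nat_lit 4, nat_lit 2, nat_lit 3, nat_lit 5, nat_lit 2, nat_lit 1, nat_lit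 2, nat_lit 5, nat_lit 3, nat_lit 2, nat_lit 5, nat_lit 3, nat_lit 1, nat_lit 6, nat_lit 3, nat_lit 7, nat_lit 4, nat_lit 2, nat_lit 3, nat_lit 4, nat_lit 5, nat_lit 3, nat_lit 2, nat_lit 1, nat_lit 0, nat_lit 8, nat_lit 5, nat_lit 3, nat_lit 2, nat_lit 1, nat_lit 0, nat_lit 8, nat_lit 5, nat_lit 3, nat_lit 2, nat_lit 1, nat_lit 0, nat_lit 8, nat_lit 5, nat_lit 3, nat_lit 2, nat_lit 1, nat_lit 0, nat_lit 8, nat_lit 5, nat_lit 3, nat_lit 2, nat_lit 1, nat_lit 0, nat_lit 8, nat_lit 6, nat_lit 7, nat_lit 5, nat_lit 4, nat_lit 3, nat_lit 2, nat_lit 1, nat_lit 3, nat_lit 4, nat_lit 6, nat_lit 2, nat_lit 3, nat_lit 5, nat_lit 7, nat_lit 4, nat_lit 2, nat_lit 0, nat_lit 8, nat_lit 1, nat_lit 2, nat_lit 3, nat_lit 5, nat_lit 7, nat_lit 4, nat_lit 6, nat_lit 2, nat_lit 1, nat_lit 3, nat_lit 5, nat_lit 4, nat_lit 2, nat_lit 3, nat_lit 5, nat_lit 4, nat_lit 6, nat_lit 2, nat_lit 1],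
  [nat_lit 3, nat_lit 4, nat_lit 1, nat_lit 5, nat_lit 0, nat_lit 6, nat_lit 1, nat_lit 8, nat_lit 6, nat_lit 7, nat_lit 3, nat_lit 2, nat_lit 1, nat_lit 0, nat_lit 8, nat_lit 5, nat_lit 3, nat_lit 2, nat_lit 1, nat_lit 0, nat_lit 8, nat_lit 5, nat_lit 3, nat_lit 2, nat_lit 1, nat_lit 0, nat_lit 8, nat_lit 5, nat_lit 3, nat_lit 2, nat_lit 1, nat_lit 0, nat_lit 8, nat_lit 5, nat_lit 3, nat_lit 2, nat_lit 1, nat_lit 0, nat_lit 8, nat_lit 2, nat_lit 1, nat_lit 3, nat_lit 2, nat_lit 4, nat_lit 3, nat_lit 6, nat_lit 4, nat_lit 3, nat_lit 5, nat_lit 3, nat_lit 2, nat_lit 1, nat_lit 0, nat_lit 8, nat_lit 5, nat_lit 3, nat_lit 2, nat_lit 1, nat_lit 0, nat_lit 8, nat_lit 5, nat_lit 3, nat_lit 2, nat_lit 1, nat_lit 0, nat_lit 8, nat_lit 5, nat_lit 3, nat_lit 2, nat_lit 1, nat_lit 0, nat_lit 8, nat_lit 5, nat_lit 3, nat_lit 2, nat_lit 1, nat_lit 0, nat_lit 8, nat_lit 7, nat_lit 5, nat_lit 3, nat_lit 2,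 nat_lit 1, nat_lit 0, nat_lit 8, nat_lit 5, nat_lit 3, nat_lit 2, nat_lit 1, nat_lit 0, nat_lit 8, nat_lit 5, nat_lit 3, nat_lit 2, nat_lit 1, nat_lit 0, nat_lit 8, nat_lit 5, nat_lit 3, nat_lit 2, nat_lit 1, nat_lit 0, nat_lit 8, nat_lit 5, nat_lit 3, nat_lit 2, nat_lit 1, nat_lit 0, nat_lit 8, nat_lit 4, nat_lit 6, nat_lit 3, nat_lit 4, nat_lit 2, nat_lit 5, nat_lit 3, nat_lit 5, nat_lit 1, nat_lit 2, nat_lit 5, nat_lit 3, nat_lit 2, nat_lit 1, nat_lit 0, nat_lit 8, nat_lit 5, nat_lit 3, nat_lit 2, nat_lit 1, nat_lit 0, nat_lit 8, nat_lit 5, nat_lit 3, nat_lit 2, nat_lit 1, nat_lit 0, nat_lit 8, nat_lit 5, nat_lit 3, nat_lit 2, nat_lit 1, nat_lit 0, nat_lit 8, nat_lit 5, nat_lit 3, nat_lit 2, nat_lit 1, nat_lit 0, nat_lit 8, nat_lit 5, nat_lit 7, nat_lit 1, nat_lit 5, nat_lit 7, nat_lit 5, nat_lit 4, nat_lit 6, nat_lit 3, nat_lit 2, nat_lit 3, nat_lit 4, nat_lit 5, nat_lit 3, nat_lit 2, nat_lit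 1, nat_lit 0, nat_lit 8, nat_lit 5, nat_lit 3, nat_lit 2, nat_lit 1, nat_lit 0, nat_lit 8, nat_lit 5, nat_lit 3, nat_lit 2, nat_lit 1, nat_lit 0, nat_lit 8, nat_lit 5, nat_lit 3, nat_lit 2, nat_lit 1, nat_lit 0, nat_lit 8, nat_lit 5, nat_lit 3, nat_lit 2, nat_lit 1, nat_lit 0, nat_lit 8, nat_lit 6, nat_lit 1, nat_lit 5, nat_lit 7, nat_lit 5, nat_lit 4, nat_lit 2, nat_lit 3, nat_lit 0, nat_lit 1, nat_lit 2, nat_lit 3, nat_lit 5, nat_lit 7, nat_lit 4, nat_lit 6, nat_lit 2, nat_lit 1, nat_lit 3, nat_lit 5, nat_lit 4, nat_lit 2, nat_lit 1, nat_lit 3, nat_lit 5, nat_lit 2, nat_lit 1, nat_lit 5, nat_lit 0, nat_lit 1, nat_lit 2, nat_lit 3, nat_lit 5, nat_lit 4, nat_lit 6, nat_lit 2, nat_lit 1, nat_lit 4, nat_lit 8, nat_lit 3, nat_lit 8],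
  [nat_lit 2, nat_lit 8, nat_lit 5, nat_lit 6, nat_lit 3, nat_lit 0, nat_lit 2, nat_lit 3, nat_lit 5, nat_lit 2, nat_lit 1, nat_lit 2, nat_lit 5, nat_lit 3, nat_lit 2, nat_lit 5, nat_lit 3, nat_lit 1, nat_lit 4, nat_lit 3, nat_lit 5, nat_lit 3, nat_lit 2, nat_lit 1, nat_lit 0, nat_lit 8, nat_lit 5, nat_lit 3, nat_lit 2, nat_lit 1, nat_lit 0, nat_lit 8, nat_lit 5, nat_lit 3, nat_lit 2, nat_lit 1, nat_lit 0, nat_lit 8, nat_lit 5, nat_lit 3, nat_lit 2, nat_lit 1, nat_lit 0, nat_lit 8, nat_lit 5, nat_lit 3, nat_lit 2, nat_lit 1, nat_lit 0, nat_lit 8, nat_lit 4, nat_lit 6, nat_lit 4, nat_lit 5, nat_lit 3, nat_lit 2, nat_lit 1, nat_lit 0, nat_lit 8, nat_lit 5, nat_lit 3, nat_lit 2, nat_lit 1, nat_lit 0, nat_lit 8, nat_lit 5, nat_lit 3, nat_lit 2, nat_lit 1, nat_lit 0, nat_lit 8, nat_lit 5, nat_lit 3, nat_lit 2, nat_lit 1, nat_lit 0, nat_lit 8, nat_lit 5, nat_lit 3, nat_lit 2, nat_lit 1, nat_lit 0,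 nat_lit 8, nat_lit 3, nat_lit 4, nat_lit 1, nat_lit 3, nat_lit 5, nat_lit 7, nat_lit 2, nat_lit 3, nat_lit 5, nat_lit 2, nat_lit 1, nat_lit 2, nat_lit 5, nat_lit 3, nat_lit 2, nat_lit 5, nat_lit 3, nat_lit 1, nat_lit 5, nat_lit 4, nat_lit 6, nat_lit 2, nat_lit 3, nat_lit 4, nat_lit 5, nat_lit 3, nat_lit 2, nat_lit 1, nat_lit 0, nat_lit 8, nat_lit 5, nat_lit 3, nat_lit 2, nat_lit 1, nat_lit 0, nat_lit 8, nat_lit 5, nat_lit 3, nat_lit 2, nat_lit 1, nat_lit 0, nat_lit 8, nat_lit 5, nat_lit 3, nat_lit 2, nat_lit 1, nat_lit 0, nat_lit 8, nat_lit 5, nat_lit 3, nat_lit 2, nat_lit 1, nat_lit 0, nat_lit 8, nat_lit 6, nat_lit 1, nat_lit 5, nat_lit 7, nat_lit 5, nat_lit 4, nat_lit 3, nat_lit 2, nat_lit 3, nat_lit 5, nat_lit 4, nat_lit 0, nat_lit 1, nat_lit 2, nat_lit 3, nat_lit 5, nat_lit 7, nat_lit 4, nat_lit 6, nat_lit 2, nat_lit 1, nat_lit 3, nat_lit 5, nat_lit 4, nat_lit 2, nat_lit 1, nat_lit 3, nat_lit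 5, nat_lit 7, nat_lit 4, nat_lit 2, nat_lit 1, nat_lit 0, nat_lit 1, nat_lit 2, nat_lit 3, nat_lit 5, nat_lit 7, nat_lit 4, nat_lit 2, nat_lit 1, nat_lit 3, nat_lit 5, nat_lit 2, nat_lit 1, nat_lit 7, nat_lit 7, nat_lit 8, nat_lit 7, nat_lit 5],
  [nat_lit 0, nat_lit 5, nat_lit 8, nat_lit 1, nat_lit 2, nat_lit 1, nat_lit 5, nat_lit 7, nat_lit 4, nat_lit 3, nat_lit 5, nat_lit 3, nat_lit 2, nat_lit 1, nat_lit 0, nat_lit 8, nat_lit 5, nat_lit 3, nat_lit 2, nat_lit 1, nat_lit 0, nat_lit 8, nat_lit 5, nat_lit 3, nat_lit 2, nat_lit 1, nat_lit 0, nat_lit 8, nat_lit 5, nat_lit 3, nat_lit 2, nat_lit 1, nat_lit 0, nat_lit 8, nat_lit 5, nat_lit 3, nat_lit 2, nat_lit 1, nat_lit 0, nat_lit 8, nat_lit 4, nat_lit 6, nat_lit 4, nat_lit 5, nat_lit 3, nat_lit 2, nat_lit 1, nat_lit 0, nat_lit 8, nat_lit 5, nat_lit 3, nat_lit 2, nat_lit 1, nat_lit 0, nat_lit 8, nat_lit 5, nat_lit 3, nat_lit 2, nat_lit 1, nat_lit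 0, nat_lit 8, nat_lit 5, nat_lit 3, nat_lit 2, nat_lit 1, nat_lit 0, nat_lit 8, nat_lit 5, nat_lit 3, nat_lit 2, nat_lit 1, nat_lit 0, nat_lit 8, nat_lit 3, nat_lit 4, nat_lit 5, nat_lit 3, nat_lit 2, nat_lit 1, nat_lit 0, nat_lit 8, nat_lit 5, nat_lit 3, nat_lit 2, nat_lit 1, nat_lit 0, nat_lit 8, nat_lit 5, nat_lit 3, nat_lit 2, nat_lit 1, nat_lit 0, nat_lit 8, nat_lit 5, nat_lit 3, nat_lit 2, nat_lit 1, nat_lit 0, nat_lit 8, nat_lit 5, nat_lit 3, nat_lit 2, nat_lit 1, nat_lit 0, nat_lit 8, nat_lit 2, nat_lit 3, nat_lit 5, nat_lit 2, nat_lit 1, nat_lit 2, nat_lit 5, nat_lit 3, nat_lit 2, nat_lit 5, nat_lit 3, nat_lit 1, nat_lit 5, nat_lit 4, nat_lit 5, nat_lit 3, nat_lit 2, nat_lit 1, nat_lit 0, nat_lit 8, nat_lit 5, nat_lit 3, nat_lit 2, nat_lit 1, nat_lit 0, nat_lit 8, nat_lit 5, nat_lit 3, nat_lit 2, nat_lit 1, nat_lit 0, nat_lit 8, nat_lit 5, nat_lit 3, nat_lit 2, nat_lit 1, nat_lit 0,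 nat_lit 8, nat_lit 5, nat_lit 3, nat_lit 2, nat_lit 1, nat_lit 0, nat_lit 8, nat_lit 2, nat_lit 3, nat_lit 5, nat_lit 2, nat_lit 1, nat_lit 2, nat_lit 5, nat_lit 3, nat_lit 2, nat_lit 5, nat_lit 3, nat_lit 1, nat_lit 6, nat_lit 7, nat_lit 4, nat_lit 2, nat_lit 3, nat_lit 5, nat_lit 2, nat_lit 1, nat_lit 2, nat_lit 5, nat_lit 3, nat_lit 2, nat_lit 5, nat_lit 3, nat_lit 1, nat_lit 4, nat_lit 6, nat_lit 2, nat_lit 3, nat_lit 4, nat_lit 5, nat_lit 3, nat_lit 2, nat_lit 1, nat_lit 0, nat_lit 8, nat_lit 5, nat_lit 3, nat_lit 2, nat_lit 1, nat_lit 0, nat_lit 8, nat_lit 5, nat_lit 3, nat_lit 2, nat_lit 1, nat_lit 0, nat_lit 8, nat_lit 5, nat_lit 3, nat_lit 2, nat_lit 1, nat_lit 0, nat_lit 8, nat_lit 5, nat_lit 3, nat_lit 2, nat_lit 1, nat_lit 0, nat_lit 8, nat_lit 6, nat_lit 7, nat_lit 5, nat_lit 2, nat_lit 1, nat_lit 3, nat_lit 2, nat_lit 0, nat_lit 1, nat_lit 2, nat_lit 3, nat_lit 5, nat_lit 7, nat_lit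 4, nat_lit 6, nat_lit 2, nat_lit 1, nat_lit 3, nat_lit 5, nat_lit 4, nat_lit 2, nat_lit 1, nat_lit 3, nat_lit 5, nat_lit 7, nat_lit 2, nat_lit 0, nat_lit 1, nat_lit 2, nat_lit 3, nat_lit 5, nat_lit 2, nat_lit 1, nat_lit 1, nat_lit 0, nat_lit 5, nat_lit 1, nat_lit 5],
  [nat_lit 4, nat_lit 6, nat_lit 1, nat_lit 7, nat_lit 5, nat_lit 3, nat_lit 2, nat_lit 1, nat_lit 0, nat_lit 8, nat_lit 5, nat_lit 3, nat_lit 2, nat_lit 1, nat_lit 0, nat_lit 8, nat_lit 5, nat_lit 3, nat_lit 2, nat_lit 1, nat_lit 0, nat_lit 8, nat_lit 5, nat_lit 3, nat_lit 2, nat_lit 1, nat_lit 0, nat_lit 8, nat_lit 5, nat_lit 3, nat_lit 2, nat_lit 1, nat_lit 0, nat_lit 8, nat_lit 4, nat_lit 8, nat_lit 0, nat_lit 1, nat_lit 2, nat_lit 3, nat_lit 5, nat_lit 8, nat_lit 0, nat_lit 1, nat_lit 2, nat_lit 3, nat_lit 5, nat_lit 8, nat_lit 0, nat_lit 1, nat_lit 2, nat_lit 3, nat_lit 5, nat_lit 8, nat_lit 0, nat_lit 1, nat_lit 2, nat_lit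 3, nat_lit 5, nat_lit 8, nat_lit 0, nat_lit 1, nat_lit 2, nat_lit 3, nat_lit 5, nat_lit 7, nat_lit 5, nat_lit 2, nat_lit 1, nat_lit 3, nat_lit 5, nat_lit 7, nat_lit 8, nat_lit 0, nat_lit 1, nat_lit 2, nat_lit 3, nat_lit 5, nat_lit 8, nat_lit 0, nat_lit 1, nat_lit 2, nat_lit 3, nat_lit 5, nat_lit 8, nat_lit 0, nat_lit 1, nat_lit 2, nat_lit 3, nat_lit 5, nat_lit 8, nat_lit 0, nat_lit 1, nat_lit 2, nat_lit 3, nat_lit 5, nat_lit 8, nat_lit 0, nat_lit 1, nat_lit 2, nat_lit 3, nat_lit 5, nat_lit 4, nat_lit 3, nat_lit 2, nat_lit 8, nat_lit 0, nat_lit 1, nat_lit 2, nat_lit 3, nat_lit 5, nat_lit 8, nat_lit 0, nat_lit 1, nat_lit 2, nat_lit 3, nat_lit 5, nat_lit 8, nat_lit 0, nat_lit 1, nat_lit 2, nat_lit 3, nat_lit 5, nat_lit 8, nat_lit 0, nat_lit 1, nat_lit 2, nat_lit 3, nat_lit 5, nat_lit 8, nat_lit 0, nat_lit 1, nat_lit 2, nat_lit 3, nat_lit 7, nat_lit 8, nat_lit 0, nat_lit 1, nat_lit 2, nat_lit 3,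 nat_lit 5, nat_lit 8, nat_lit 0, nat_lit 1, nat_lit 2, nat_lit 3, nat_lit 5, nat_lit 8, nat_lit 0, nat_lit 1, nat_lit 2, nat_lit 3, nat_lit 5, nat_lit 8, nat_lit 0, nat_lit 1, nat_lit 2, nat_lit 3, nat_lit 5, nat_lit 8, nat_lit 0, nat_lit 1, nat_lit 2, nat_lit 3, nat_lit 5, nat_lit 4, nat_lit 3, nat_lit 5, nat_lit 1, nat_lit 2, nat_lit 4, nat_lit 5, nat_lit 3, nat_lit 2, nat_lit 1, nat_lit 0, nat_lit 8, nat_lit 5, nat_lit 3, nat_lit 2, nat_lit 1, nat_lit 0, nat_lit 8, nat_lit 5, nat_lit 3, nat_lit 2, nat_lit 1, nat_lit 0, nat_lit 8, nat_lit 5, nat_lit 3, nat_lit 2, nat_lit 1, nat_lit 0, nat_lit 8, nat_lit 5, nat_lit 3, nat_lit 2, nat_lit 1, nat_lit 0, nat_lit 8, nat_lit 6, nat_lit 7, nat_lit 4, nat_lit 2, nat_lit 3, nat_lit 5, nat_lit 2, nat_lit 1, nat_lit 2, nat_lit 5, nat_lit 3, nat_lit 2, nat_lit 5, nat_lit 3, nat_lit 1, nat_lit 5, nat_lit 4, nat_lit 6, nat_lit 3, nat_lit 4, nat_lit 2, nat_lit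 3, nat_lit 5, nat_lit 7, nat_lit 4, nat_lit 0, nat_lit 1, nat_lit 2, nat_lit 3, nat_lit 5, nat_lit 7, nat_lit 4, nat_lit 6, nat_lit 2, nat_lit 1, nat_lit 3, nat_lit 5, nat_lit 4, nat_lit 2, nat_lit 1, nat_lit 3, nat_lit 5, nat_lit 7, nat_lit 4, nat_lit 6, nat_lit 2, nat_lit 0, nat_lit 1, nat_lit 2, nat_lit 3, nat_lit 5, nat_lit 7, nat_lit 4, nat_lit 2, nat_lit 3, nat_lit 7, nat_lit 0, nat_lit 5],
  [nat_lit 2, nat_lit 0, nat_lit 3, nat_lit 6, nat_lit 5, nat_lit 8, nat_lit 6, nat_lit 5, nat_lit 3, nat_lit 2, nat_lit 1, nat_lit 0, nat_lit 8, nat_lit 5, nat_lit 3, nat_lit 2, nat_lit 1, nat_lit 0, nat_lit 8, nat_lit 5, nat_lit 3, nat_lit 2, nat_lit 1, nat_lit 0, nat_lit 8, nat_lit 5, nat_lit 3, nat_lit 2, nat_lit 1, nat_lit 0, nat_lit 8, nat_lit 5, nat_lit 3, nat_lit 2, nat_lit 1, nat_lit 0, nat_lit 8, nat_lit 2, nat_lit 3, nat_lit 5, nat_lit 2, nat_lit 1, nat_lit 2, nat_lit 5, nat_lit 3, nat_lit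 2, nat_lit 5, nat_lit 3, nat_lit 1, nat_lit 6, nat_lit 5, nat_lit 7, nat_lit 4, nat_lit 3, nat_lit 5, nat_lit 3, nat_lit 2, nat_lit 1, nat_lit 0, nat_lit 8, nat_lit 5, nat_lit 3, nat_lit 2, nat_lit 1, nat_lit 0, nat_lit 8, nat_lit 5, nat_lit 3, nat_lit 2, nat_lit 1, nat_lit 0, nat_lit 8, nat_lit 5, nat_lit 3, nat_lit 2, nat_lit 1, nat_lit 0, nat_lit 8, nat_lit 5, nat_lit 3, nat_lit 2, nat_lit 1, nat_lit 0, nat_lit 8, nat_lit 4, nat_lit 6, nat_lit 4, nat_lit 5, nat_lit 3, nat_lit 2, nat_lit 1, nat_lit 0, nat_lit 8, nat_lit 5, nat_lit 3, nat_lit 2, nat_lit 1, nat_lit 0, nat_lit 8, nat_lit 5, nat_lit 3, nat_lit 2, nat_lit 1, nat_lit 0, nat_lit 8, nat_lit 5, nat_lit 3, nat_lit 2, nat_lit 1, nat_lit 0, nat_lit 8, nat_lit 5, nat_lit 3, nat_lit 2, nat_lit 1, nat_lit 0, nat_lit 8, nat_lit 3, nat_lit 4, nat_lit 2, nat_lit 3, nat_lit 5, nat_lit 2, nat_lit 1, nat_lit 2, nat_lit 5, nat_lit 3, nat_lit 2,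 nat_lit 5, nat_lit 3, nat_lit 1, nat_lit 5, nat_lit 4, nat_lit 5, nat_lit 3, nat_lit 2, nat_lit 1, nat_lit 0, nat_lit 8, nat_lit 5, nat_lit 3, nat_lit 2, nat_lit 1, nat_lit 0, nat_lit 8, nat_lit 5, nat_lit 3, nat_lit 2, nat_lit 1, nat_lit 0, nat_lit 8, nat_lit 5, nat_lit 3, nat_lit 2, nat_lit 1, nat_lit 0, nat_lit 8, nat_lit 5, nat_lit 3, nat_lit 2, nat_lit 1, nat_lit 0, nat_lit 8, nat_lit 7, nat_lit 2, nat_lit 3, nat_lit 5, nat_lit 2, nat_lit 1, nat_lit 2, nat_lit 5, nat_lit 3, nat_lit 2, nat_lit 5, nat_lit 3, nat_lit 1, nat_lit 6, nat_lit 5, nat_lit 4, nat_lit 2, nat_lit 3, nat_lit 4, nat_lit 5, nat_lit 3, nat_lit 2, nat_lit 1, nat_lit 0, nat_lit 8, nat_lit 5, nat_lit 3, nat_lit 2, nat_lit 1, nat_lit 0, nat_lit 8, nat_lit 5, nat_lit 3, nat_lit 2, nat_lit 1, nat_lit 0, nat_lit 8, nat_lit 5, nat_lit 3, nat_lit 2, nat_lit 1, nat_lit 0, nat_lit 8, nat_lit 5, nat_lit 3, nat_lit 2, nat_lit 1, nat_lit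 0, nat_lit 8, nat_lit 6, nat_lit 1, nat_lit 7, nat_lit 5, nat_lit 4, nat_lit 2, nat_lit 1, nat_lit 3, nat_lit 5, nat_lit 2, nat_lit 5, nat_lit 0, nat_lit 1, nat_lit 2, nat_lit 3, nat_lit 5, nat_lit 7, nat_lit 4, nat_lit 6, nat_lit 2, nat_lit 1, nat_lit 3, nat_lit 5, nat_lit 4, nat_lit 2, nat_lit 1, nat_lit 3, nat_lit 5, nat_lit 4, nat_lit 2, nat_lit 5, nat_lit 0, nat_lit 1, nat_lit 2, nat_lit 3, nat_lit 5, nat_lit 4, nat_lit 2, nat_lit 1, nat_lit 5, nat_lit 0, nat_lit 6, nat_lit 5],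
  [nat_lit 7, nat_lit 6, nat_lit 1, nat_lit 0, nat_lit 3, nat_lit 2, nat_lit 3, nat_lit 5, nat_lit 2, nat_lit 1, nat_lit 2, nat_lit 5, nat_lit 3, nat_lit 2, nat_lit 5, nat_lit 7, nat_lit 2, nat_lit 3, nat_lit 5, nat_lit 2, nat_lit 1, nat_lit 2, nat_lit 5, nat_lit 3, nat_lit 2, nat_lit 5, nat_lit 3, nat_lit 1, nat_lit 4, nat_lit 5, nat_lit 3, nat_lit 2, nat_lit 1, nat_lit 0, nat_lit 8, nat_lit 5, nat_lit 3, nat_lit 2, nat_lit 1, nat_lit 0, nat_lit 8, nat_lit 5, nat_lit 3, nat_lit 2, nat_lit 1, nat_lit 0, nat_lit 8, nat_lit 5, nat_lit 3, nat_lit 2, nat_lit 1, nat_lit 0, nat_lit 8, nat_lit 5, nat_lit 3, nat_lit 2, nat_lit 1, nat_lit 0, nat_lit 8, nat_lit 6, nat_lit 7, nat_lit 4, nat_lit 5, nat_lit 3, nat_lit 2, nat_lit 1, nat_lit 0, nat_lit 8, nat_lit 5, nat_lit 3, nat_lit 2, nat_lit 1, nat_lit 0, nat_lit 8, nat_lit 5, nat_lit 3, nat_lit 2, nat_lit 1, nat_lit 0, nat_lit 8, nat_lit 5, nat_lit 3,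 nat_lit 2, nat_lit 1, nat_lit 0, nat_lit 8, nat_lit 5, nat_lit 3, nat_lit 2, nat_lit 1, nat_lit 0, nat_lit 8, nat_lit 2, nat_lit 3, nat_lit 5, nat_lit 2, nat_lit 1, nat_lit 2, nat_lit 5, nat_lit 3, nat_lit 2, nat_lit 5, nat_lit 3, nat_lit 1, nat_lit 5, nat_lit 4, nat_lit 6, nat_lit 3, nat_lit 2, nat_lit 3, nat_lit 4, nat_lit 5, nat_lit 3, nat_lit 2, nat_lit 1, nat_lit 0, nat_lit 8, nat_lit 5, nat_lit 3, nat_lit 2, nat_lit 1, nat_lit 0, nat_lit 8, nat_lit 5, nat_lit 3, nat_lit 2, nat_lit 1, nat_lit 0, nat_lit 8, nat_lit 5, nat_lit 3, nat_lit 2, nat_lit 1, nat_lit 0, nat_lit 8, nat_lit 5, nat_lit 3, nat_lit 2, nat_lit 1, nat_lit 0, nat_lit 8, nat_lit 6, nat_lit 5, nat_lit 7, nat_lit 2, nat_lit 0, nat_lit 1, nat_lit 2, nat_lit 3, nat_lit 5, nat_lit 7, nat_lit 4, nat_lit 6, nat_lit 2, nat_lit 1, nat_lit 3, nat_lit 5, nat_lit 4, nat_lit 2, nat_lit 1, nat_lit 3, nat_lit 5, nat_lit 2, nat_lit 1, nat_lit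 0, nat_lit 8, nat_lit 1, nat_lit 2, nat_lit 3, nat_lit 5, nat_lit 7, nat_lit 4, nat_lit 6, nat_lit 2, nat_lit 5, nat_lit 0, nat_lit 7, nat_lit 6, nat_lit 7, nat_lit 6],
  [nat_lit 0, nat_lit 6, nat_lit 2, nat_lit 3, nat_lit 8, nat_lit 2, nat_lit 3, nat_lit 5, nat_lit 2, nat_lit 1, nat_lit 2, nat_lit 5, nat_lit 3, nat_lit 2, nat_lit 5, nat_lit 3, nat_lit 5, nat_lit 4, nat_lit 5, nat_lit 3, nat_lit 2, nat_lit 1, nat_lit 0, nat_lit 8, nat_lit 5, nat_lit 3, nat_lit 2, nat_lit 1, nat_lit 0, nat_lit 8, nat_lit 5, nat_lit 3, nat_lit 2, nat_lit 1, nat_lit 0, nat_lit 8, nat_lit 5, nat_lit 3, nat_lit 2, nat_lit 1, nat_lit 0, nat_lit 8, nat_lit 5, nat_lit 3, nat_lit 2, nat_lit 1, nat_lit 0, nat_lit 8, nat_lit 7, nat_lit 2, nat_lit 3, nat_lit 5, nat_lit 2, nat_lit 1, nat_lit 2, nat_lit 5, nat_lit 3, nat_lit 2, nat_lit 5, nat_lit 3, nat_lit 1, nat_lit 6, nat_lit 7, nat_lit 4, nat_lit 2, nat_lit 1, nat_lit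 0, nat_lit 8, nat_lit 1, nat_lit 2, nat_lit 3, nat_lit 5, nat_lit 7, nat_lit 4, nat_lit 6, nat_lit 2, nat_lit 1, nat_lit 3, nat_lit 5, nat_lit 4, nat_lit 2, nat_lit 1, nat_lit 3, nat_lit 5, nat_lit 7, nat_lit 4, nat_lit 2, nat_lit 5, nat_lit 3, nat_lit 2, nat_lit 6]]
noncomputable def Fs3 : List (List ℕ) := [[nat_lit 6, nat_lit 1, nat_lit 5, nat_lit 7, nat_lit 4, nat_lit 3, nat_lit 5, nat_lit 3, nat_lit 2, nat_lit 1, nat_lit 0, nat_lit 8, nat_lit 5, nat_lit 3, nat_lit 2, nat_lit 1, nat_lit 0, nat_lit 8, nat_lit 5, nat_lit 3, nat_lit 2, nat_lit 1, nat_lit 0, nat_lit 8, nat_lit 5, nat_lit 3, nat_lit 2, nat_lit 1, nat_lit 0, nat_lit 8, nat_lit 5, nat_lit 3, nat_lit 2, nat_lit 1, nat_lit 0, nat_lit 8, nat_lit 4, nat_lit 6, nat_lit 4, nat_lit 5, nat_lit 3, nat_lit 2, nat_lit 1, nat_lit 0, nat_lit 8, nat_lit 5, nat_lit 3, nat_lit 2, nat_lit 1, nat_lit 0, nat_lit 8, nat_lit 5, nat_lit 3, nat_lit 2,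 nat_lit 1, nat_lit 0, nat_lit 8, nat_lit 5, nat_lit 3, nat_lit 2, nat_lit 1, nat_lit 0, nat_lit 8, nat_lit 5, nat_lit 3, nat_lit 2, nat_lit 1, nat_lit 0, nat_lit 8, nat_lit 3, nat_lit 4, nat_lit 2, nat_lit 3, nat_lit 5, nat_lit 2, nat_lit 1, nat_lit 2, nat_lit 5, nat_lit 3, nat_lit 2, nat_lit 5, nat_lit 3, nat_lit 1, nat_lit 5, nat_lit 7, nat_lit 4, nat_lit 2, nat_lit 3, nat_lit 5, nat_lit 2, nat_lit 1, nat_lit 2, nat_lit 5, nat_lit 3, nat_lit 2, nat_lit 5, nat_lit 3, nat_lit 1, nat_lit 3, nat_lit 7, nat_lit 2, nat_lit 3, nat_lit 4, nat_lit 5, nat_lit 3, nat_lit 2, nat_lit 1, nat_lit 0, nat_lit 8, nat_lit 5, nat_lit 3, nat_lit 2, nat_lit 1, nat_lit 0, nat_lit 8, nat_lit 5, nat_lit 3, nat_lit 2, nat_lit 1, nat_lit 0, nat_lit 8, nat_lit 5, nat_lit 3, nat_lit 2, nat_lit 1, nat_lit 0, nat_lit 8, nat_lit 5, nat_lit 3, nat_lit 2, nat_lit 1, nat_lit 0, nat_lit 8, nat_lit 7, nat_lit 5, nat_lit 2, nat_lit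 3, nat_lit 0, nat_lit 1, nat_lit 2, nat_lit 3, nat_lit 5, nat_lit 7, nat_lit 4, nat_lit 2, nat_lit 1, nat_lit 3, nat_lit 5, nat_lit 2, nat_lit 5, nat_lit 7, nat_lit 0, nat_lit 1],
  [nat_lit 2, nat_lit 7, nat_lit 1, nat_lit 0, nat_lit 7, nat_lit 8, nat_lit 5, nat_lit 2, nat_lit 1, nat_lit 5, nat_lit 3, nat_lit 4, nat_lit 5, nat_lit 3, nat_lit 2, nat_lit 1, nat_lit 0, nat_lit 8, nat_lit 5, nat_lit 3, nat_lit 2, nat_lit 1, nat_lit 0, nat_lit 8, nat_lit 5, nat_lit 3, nat_lit 2, nat_lit 1, nat_lit 0, nat_lit 8, nat_lit 5, nat_lit 3, nat_lit 2, nat_lit 1, nat_lit 0, nat_lit 8, nat_lit 5, nat_lit 3, nat_lit 2, nat_lit 1, nat_lit 0, nat_lit 8, nat_lit 7, nat_lit 3, nat_lit 2, nat_lit 1, nat_lit 0, nat_lit 8, nat_lit 5, nat_lit 3, nat_lit 2, nat_lit 1, nat_lit 0, nat_lit 8, nat_lit 5, nat_lit 3, nat_lit 2, nat_lit 1, nat_lit 0, nat_lit 8, nat_lit 5, nat_lit 3, nat_lit 2, nat_lit 1, nat_lit 0, nat_lit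 8, nat_lit 5, nat_lit 3, nat_lit 2, nat_lit 1, nat_lit 0, nat_lit 8, nat_lit 2, nat_lit 3, nat_lit 4, nat_lit 5, nat_lit 3, nat_lit 2, nat_lit 1, nat_lit 0, nat_lit 8, nat_lit 5, nat_lit 3, nat_lit 2, nat_lit 1, nat_lit 0, nat_lit 8, nat_lit 5, nat_lit 3, nat_lit 2, nat_lit 1, nat_lit 0, nat_lit 8, nat_lit 5, nat_lit 3, nat_lit 2, nat_lit 1, nat_lit 0, nat_lit 8, nat_lit 5, nat_lit 3, nat_lit 2, nat_lit 1, nat_lit 0, nat_lit 8, nat_lit 7, nat_lit 5, nat_lit 3, nat_lit 1, nat_lit 2, nat_lit 5, nat_lit 7, nat_lit 5, nat_lit 3, nat_lit 2, nat_lit 1, nat_lit 0, nat_lit 8, nat_lit 5, nat_lit 3, nat_lit 2, nat_lit 1, nat_lit 0, nat_lit 8, nat_lit 5, nat_lit 3, nat_lit 2, nat_lit 1, nat_lit 0, nat_lit 8, nat_lit 5, nat_lit 3, nat_lit 2, nat_lit 1, nat_lit 0, nat_lit 8, nat_lit 5, nat_lit 3, nat_lit 2, nat_lit 1, nat_lit 0, nat_lit 8, nat_lit 5, nat_lit 3, nat_lit 2, nat_lit 1, nat_lit 0, nat_lit 8,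 nat_lit 5, nat_lit 3, nat_lit 2, nat_lit 1, nat_lit 0, nat_lit 8, nat_lit 5, nat_lit 3, nat_lit 2, nat_lit 1, nat_lit 0, nat_lit 8, nat_lit 5, nat_lit 3, nat_lit 2, nat_lit 1, nat_lit 0, nat_lit 8, nat_lit 5, nat_lit 3, nat_lit 2, nat_lit 1, nat_lit 0, nat_lit 8, nat_lit 6, nat_lit 4, nat_lit 2, nat_lit 3, nat_lit 4, nat_lit 5, nat_lit 3, nat_lit 2, nat_lit 1, nat_lit 0, nat_lit 8, nat_lit 5, nat_lit 3, nat_lit 2, nat_lit 1, nat_lit 0, nat_lit 8, nat_lit 5, nat_lit 3, nat_lit 2, nat_lit 1, nat_lit 0, nat_lit 8, nat_lit 5, nat_lit 3, nat_lit 2, nat_lit 1, nat_lit 0, nat_lit 8, nat_lit 5, nat_lit 3, nat_lit 2, nat_lit 1, nat_lit 0, nat_lit 8, nat_lit 6, nat_lit 1, nat_lit 7, nat_lit 5, nat_lit 2, nat_lit 1, nat_lit 3, nat_lit 5, nat_lit 4, nat_lit 0, nat_lit 1, nat_lit 2, nat_lit 3, nat_lit 5, nat_lit 4, nat_lit 6, nat_lit 2, nat_lit 1, nat_lit 3, nat_lit 2, nat_lit 0, nat_lit 1, nat_lit 8, nat_lit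 1],
  [nat_lit 0, nat_lit 8, nat_lit 5, nat_lit 3, nat_lit 2, nat_lit 1, nat_lit 0, nat_lit 8, nat_lit 5, nat_lit 3, nat_lit 2, nat_lit 1, nat_lit 0, nat_lit 8, nat_lit 5, nat_lit 3, nat_lit 2, nat_lit 1, nat_lit 0, nat_lit 8, nat_lit 5, nat_lit 3, nat_lit 2, nat_lit 1, nat_lit 0, nat_lit 8, nat_lit 5, nat_lit 3, nat_lit 2, nat_lit 1, nat_lit 0, nat_lit 8, nat_lit 2, nat_lit 3, nat_lit 5, nat_lit 2, nat_lit 1, nat_lit 2, nat_lit 5, nat_lit 3, nat_lit 2, nat_lit 5, nat_lit 3, nat_lit 7, nat_lit 4, nat_lit 3, nat_lit 5, nat_lit 3, nat_lit 2, nat_lit 1, nat_lit 0, nat_lit 8, nat_lit 5, nat_lit 3, nat_lit 2, nat_lit 1, nat_lit 0, nat_lit 8, nat_lit 5, nat_lit 3, nat_lit 2, nat_lit 1, nat_lit 0, nat_lit 8, nat_lit 5, nat_lit 3, nat_lit 2, nat_lit 1, nat_lit 0, nat_lit 8, nat_lit 5, nat_lit 3, nat_lit 2, nat_lit 1, nat_lit 0, nat_lit 8, nat_lit 4, nat_lit 6, nat_lit 4, nat_lit 5, nat_lit 3, nat_lit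 2, nat_lit 1, nat_lit 0, nat_lit 8, nat_lit 5, nat_lit 3, nat_lit 2, nat_lit 1, nat_lit 0, nat_lit 8, nat_lit 5, nat_lit 3, nat_lit 2, nat_lit 1, nat_lit 0, nat_lit 8, nat_lit 5, nat_lit 3, nat_lit 2, nat_lit 1, nat_lit 0, nat_lit 8, nat_lit 5, nat_lit 3, nat_lit 2, nat_lit 1, nat_lit 0, nat_lit 8, nat_lit 3, nat_lit 4, nat_lit 5, nat_lit 7, nat_lit 4, nat_lit 2, nat_lit 3, nat_lit 5, nat_lit 2, nat_lit 1, nat_lit 2, nat_lit 5, nat_lit 3, nat_lit 2, nat_lit 5, nat_lit 3, nat_lit 1, nat_lit 7, nat_lit 4, nat_lit 2, nat_lit 3, nat_lit 5, nat_lit 2, nat_lit 1, nat_lit 2, nat_lit 5, nat_lit 3, nat_lit 2, nat_lit 5, nat_lit 3, nat_lit 1, nat_lit 5, nat_lit 2, nat_lit 3, nat_lit 5, nat_lit 4, nat_lit 6, nat_lit 0, nat_lit 1, nat_lit 2, nat_lit 3, nat_lit 5, nat_lit 7, nat_lit 4, nat_lit 6, nat_lit 2, nat_lit 1, nat_lit 3, nat_lit 5, nat_lit 4, nat_lit 2, nat_lit 1, nat_lit 3, nat_lit 5, nat_lit 7,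 nat_lit 0, nat_lit 8, nat_lit 1, nat_lit 2, nat_lit 3, nat_lit 5, nat_lit 2, nat_lit 1]]
noncomputable def c3 : Pc := ⟨(nat_lit 2), (nat_lit 8), (nat_lit 9), (nat_lit 3), (nat_lit 13), (nat_lit 19),
  [[[nat_lit 5, nat_lit 5, nat_lit 6, nat_lit 7, nat_lit 8]],
  [[nat_lit 1, nat_lit 3], [nat_lit 5, nat_lit 5, nat_lit 6, nat_lit 6, nat_lit 8]],
  [[nat_lit 2, nat_lit 4], [nat_lit 2, nat_lit 4, nat_lit 4, nat_lit 5, nat_lit 5, nat_lit 6, nat_lit 8, nat_lit 8], [nat_lit 7, nat_lit 8, nat_lit 8]],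
  [[nat_lit 3, nat_lit 5], [nat_lit 3, nat_lit 5, nat_lit 5, nat_lit 7, nat_lit 8], [nat_lit 3, nat_lit 5, nat_lit 5, nat_lit 7, nat_lit 8, nat_lit 8], []],
  [[nat_lit 4, nat_lit 6], [nat_lit 4, nat_lit 5, nat_lit 5, nat_lit 6, nat_lit 6, nat_lit 7], [nat_lit 4, nat_lit 5, nat_lit 5, nat_lit 6, nat_lit 6, nat_lit 7, nat_lit 8, nat_lit 8], [nat_lit 4], []],
  [[nat_lit 5, nat_lit 7], [nat_lit 5, nat_lit 7, nat_lit 7, nat_lit 8], [nat_lit 5, nat_lit 7, nat_lit 7, nat_lit 8], [nat_lit 5], [nat_lit 5, nat_lit 8, nat_lit 8], []],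
  [[nat_lit 6, nat_lit 7, nat_lit 8, nat_lit 8], [nat_lit 6, nat_lit 7, nat_lit 8, nat_lit 8], [nat_lit 6, nat_lit 7, nat_lit 8], [nat_lit 6, nat_lit 8, nat_lit 8], [nat_lit 6, nat_lit 8], [nat_lit 6], []],
  [[nat_lit 7, nat_lit 8], [nat_lit 7, nat_lit 8, nat_lit 8], [nat_lit 7], [nat_lit 7], [nat_lit 7], [nat_lit 7], [nat_lit 7], []],
  [[nat_lit 8], [nat_lit 8], [nat_lit 8], [nat_lit 8], [nat_lit 8], [nat_lit 8], [nat_lit 8], [nat_lit 8], []]],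
  [((nat_lit 2), [nat_lit 7], [nat_lit 0, nat_lit 1, nat_lit 3, nat_lit 3, nat_lit 5, nat_lit 5, nat_lit 6, nat_lit 7, nat_lit 8, nat_lit 8]),
  ((nat_lit 2), [nat_lit 3], [nat_lit 3]),
  ((nat_lit 0), [nat_lit 7], [nat_lit 3, nat_lit 3, nat_lit 7, nat_lit 8, nat_lit 8]),
  ((nat_lit 0), [nat_lit 1, nat_lit 2, nat_lit 2], [nat_lit 4, nat_lit 4, nat_lit 5, nat_lit 6, nat_lit 8, nat_lit 8]),
  ((nat_lit 0), [nat_lit 8], [nat_lit 8]),
  ((nat_lit 0), [nat_lit 5], [nat_lit 3, nat_lit 5, nat_lit 5, nat_lit 7, nat_lit 8]),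
  ((nat_lit 0), [nat_lit 0, nat_lit 2], [nat_lit 0, nat_lit 2, nat_lit 4, nat_lit 5, nat_lit 7, nat_lit 8, nat_lit 8]),
  ((nat_lit 1), [nat_lit 3], [nat_lit 4, nat_lit 5, nat_lit 6, nat_lit 7, nat_lit 8, nat_lit 8]),
  ((nat_lit 1), [nat_lit 1, nat_lit 2, nat_lit 2], [nat_lit 3, nat_lit 8]),
  ((nat_lit 1), [nat_lit 8], [nat_lit 8]),
  ((nat_lit 1), [nat_lit 5], [nat_lit 4, nat_lit 7, nat_lit 7, nat_lit 8]),
  ((nat_lit 1), [nat_lit 4], [nat_lit 1, nat_lit 2, nat_lit 2, nat_lit 3, nat_lit 7, nat_lit 7]),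
  ((nat_lit 2), [nat_lit 2, nat_lit 4, nat_lit 4, nat_lit 6], [nat_lit 0, nat_lit 1, nat_lit 2, nat_lit 3, nat_lit 3, nat_lit 6, nat_lit 7])]⟩
noncomputable def I3_0 : List Pc.Idn := [⟨false, (nat_lit 0), [nat_lit 4], [nat_lit 3, nat_lit 3], [((nat_lit 52), (nat_lit 3))]⟩,
  ⟨false, (nat_lit 0), [nat_lit 5], [nat_lit 3, nat_lit 3], [((nat_lit 61), (nat_lit 3))]⟩,
  ⟨false, (nat_lit 0), [nat_lit 7], [nat_lit 3, nat_lit 3], [((nat_lit 79), (nat_lit 3))]⟩,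
  ⟨false, (nat_lit 0), [nat_lit 8], [nat_lit 3, nat_lit 3], [((nat_lit 88), (nat_lit 3))]⟩,
  ⟨false, (nat_lit 0), [nat_lit 7], [nat_lit 4, nat_lit 4], [((nat_lit 80), (nat_lit 3))]⟩,
  ⟨false, (nat_lit 0), [nat_lit 8], [nat_lit 4, nat_lit 4], [((nat_lit 89), (nat_lit 3))]⟩,
  ⟨false, (nat_lit 0), [nat_lit 6], [nat_lit 5, nat_lit 5], [((nat_lit 72), (nat_lit 3))]⟩,
  ⟨false, (nat_lit 0), [nat_lit 7], [nat_lit 5, nat_lit 5], [((nat_lit 81), (nat_lit 3))]⟩,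
  ⟨false, (nat_lit 0), [nat_lit 8], [nat_lit 5, nat_lit 5], [((nat_lit 90), (nat_lit 3))]⟩,
  ⟨false, (nat_lit 0), [nat_lit 7], [nat_lit 6, nat_lit 6], [((nat_lit 82), (nat_lit 3))]⟩,
  ⟨false, (nat_lit 0), [nat_lit 8], [nat_lit 6, nat_lit 6], [((nat_lit 91), (nat_lit 3))]⟩,
  ⟨false, (nat_lit 0), [nat_lit 8], [nat_lit 7, nat_lit 7], [((nat_lit 92), (nat_lit 3))]⟩,
  ⟨false, (nat_lit 0), [nat_lit 8, nat_lit 8], [nat_lit 8, nat_lit 1], [((nat_lit 86), (nat_lit 6))]⟩,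
  ⟨false, (nat_lit 0), [nat_lit 2], [nat_lit 2, nat_lit 2], [((nat_lit 78), (nat_lit 1)), ((nat_lit 87), (nat_lit 2))]⟩,
  ⟨false, (nat_lit 0), [nat_lit 8], [nat_lit 2, nat_lit 2], [((nat_lit 87), (nat_lit 3)), ((nat_lit 92), (nat_lit 8))]⟩,
  ⟨false, (nat_lit 0), [nat_lit 8], [nat_lit 1, nat_lit 0], [((nat_lit 88), (nat_lit 8))]⟩,
  ⟨false, (nat_lit 0), [nat_lit 8], [nat_lit 2, nat_lit 0], [((nat_lit 89), (nat_lit 8))]⟩,
  ⟨false, (nat_lit 0), [nat_lit 8], [nat_lit 3, nat_lit 0], [((nat_lit 90), (nat_lit 8))]⟩,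
  ⟨false, (nat_lit 0), [nat_lit 8], [nat_lit 4, nat_lit 0], [((nat_lit 91), (nat_lit 8))]⟩,
  ⟨false, (nat_lit 0), [nat_lit 6], [nat_lit 4, nat_lit 4], [((nat_lit 71), (nat_lit 3)), ((nat_lit 89), (nat_lit 3)), ((nat_lit 93), (nat_lit 1))]⟩,
  ⟨false, (nat_lit 0), [nat_lit 3, nat_lit 3], [nat_lit 3, nat_lit 0], [((nat_lit 40), (nat_lit 6)), ((nat_lit 61), (nat_lit 6)), ((nat_lit 63), (nat_lit 8))]⟩,
  ⟨false, (nat_lit 0), [nat_lit 5, nat_lit 5], [nat_lit 5, nat_lit 0], [((nat_lit 58), (nat_lit 6)), ((nat_lit 81), (nat_lit 6)), ((nat_lit 83), (nat_lit 8))]⟩,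
  ⟨false, (nat_lit 0), [nat_lit 7, nat_lit 7], [nat_lit 7, nat_lit 0], [((nat_lit 76), (nat_lit 6)), ((nat_lit 92), (nat_lit 6)), ((nat_lit 93), (nat_lit 8))]⟩,
  ⟨false, (nat_lit 0), [nat_lit 6], [nat_lit 3, nat_lit 3], [((nat_lit 70), (nat_lit 3)), ((nat_lit 88), (nat_lit 3)), ((nat_lit 93), (nat_lit 2))]⟩,
  ⟨false, (nat_lit 0), [nat_lit 5], [nat_lit 4, nat_lit 4], [((nat_lit 62), (nat_lit 3)), ((nat_lit 89), (nat_lit 3)), ((nat_lit 93), (nat_lit 2))]⟩,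
  ⟨false, (nat_lit 0), [nat_lit 5], [nat_lit 3, nat_lit 0], [((nat_lit 79), (nat_lit 8)), ((nat_lit 81), (nat_lit 8))]⟩,
  ⟨false, (nat_lit 0), [nat_lit 7, nat_lit 7], [nat_lit 7, nat_lit 1], [((nat_lit 77), (nat_lit 6)), ((nat_lit 92), (nat_lit 6)), ((nat_lit 93), (nat_lit 7))]⟩,
  ⟨false, (nat_lit 0), [nat_lit 7], [nat_lit 2, nat_lit 0], [((nat_lit 80), (nat_lit 8)), ((nat_lit 87), (nat_lit 8)), ((nat_lit 89), (nat_lit 8))]⟩,
  ⟨false, (nat_lit 0), [nat_lit 7], [nat_lit 3, nat_lit 0], [((nat_lit 81), (nat_lit 8)), ((nat_lit 88), (nat_lit 8)), ((nat_lit 90), (nat_lit 8))]⟩,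
  ⟨false, (nat_lit 0), [nat_lit 7], [nat_lit 4, nat_lit 0], [((nat_lit 82), (nat_lit 8)), ((nat_lit 89), (nat_lit 8)), ((nat_lit 91), (nat_lit 8))]⟩,
  ⟨false, (nat_lit 0), [nat_lit 4, nat_lit 4], [nat_lit 4, nat_lit 0], [((nat_lit 49), (nat_lit 6)), ((nat_lit 71), (nat_lit 6)), ((nat_lit 73), (nat_lit 8)), ((nat_lit 89), (nat_lit 8)), ((nat_lit 91), (nat_lit 7)), ((nat_lit 93), (nat_lit 8))]⟩,
  ⟨false, (nat_lit 0), [nat_lit 7], [nat_lit 1, nat_lit 0], [((nat_lit 79), (nat_lit 8)), ((nat_lit 85), (nat_lit 2)), ((nat_lit 86), (nat_lit 8))]⟩,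
  ⟨false, (nat_lit 0), [nat_lit 6, nat_lit 6], [nat_lit 6, nat_lit 2], [((nat_lit 69), (nat_lit 6)), ((nat_lit 82), (nat_lit 6)), ((nat_lit 83), (nat_lit 8)), ((nat_lit 91), (nat_lit 6)), ((nat_lit 92), (nat_lit 6)), ((nat_lit 93), (nat_lit 8))]⟩,
  ⟨false, (nat_lit 0), [nat_lit 4], [nat_lit 3, nat_lit 0], [((nat_lit 62), (nat_lit 1)), ((nat_lit 70), (nat_lit 8)), ((nat_lit 72), (nat_lit 8)), ((nat_lit 90), (nat_lit 7)), ((nat_lit 91), (nat_lit 2))]⟩,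
  ⟨false, (nat_lit 0), [nat_lit 6], [nat_lit 4, nat_lit 0], [((nat_lit 80), (nat_lit 8)), ((nat_lit 82), (nat_lit 8)), ((nat_lit 85), (nat_lit 1)), ((nat_lit 89), (nat_lit 7)), ((nat_lit 92), (nat_lit 8))]⟩,
  ⟨false, (nat_lit 0), [nat_lit 6, nat_lit 6], [nat_lit 6, nat_lit 0], [((nat_lit 67), (nat_lit 6)), ((nat_lit 82), (nat_lit 6)), ((nat_lit 83), (nat_lit 8)), ((nat_lit 91), (nat_lit 6)), ((nat_lit 92), (nat_lit 6)), ((nat_lit 93), (nat_lit 7))]⟩,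
  ⟨false, (nat_lit 0), [nat_lit 6, nat_lit 6], [nat_lit 6, nat_lit 1], [((nat_lit 68), (nat_lit 6)), ((nat_lit 82), (nat_lit 6)), ((nat_lit 83), (nat_lit 8)), ((nat_lit 91), (nat_lit 6)), ((nat_lit 92), (nat_lit 6)), ((nat_lit 93), (nat_lit 7))]⟩,
  ⟨false, (nat_lit 0), [nat_lit 0], [nat_lit 0, nat_lit 0], [((nat_lit 58), (nat_lit 2)), ((nat_lit 67), (nat_lit 1)), ((nat_lit 76), (nat_lit 1)), ((nat_lit 81), (nat_lit 1)), ((nat_lit 82), (nat_lit 2)), ((nat_lit 83), (nat_lit 1)), ((nat_lit 85), (nat_lit 1)), ((nat_lit 92), (nat_lit 2)), ((nat_lit 93), (nat_lit 1))]⟩,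
  ⟨false, (nat_lit 0), [nat_lit 5], [nat_lit 4, nat_lit 0], [((nat_lit 72), (nat_lit 1)), ((nat_lit 80), (nat_lit 8)), ((nat_lit 82), (nat_lit 8)), ((nat_lit 85), (nat_lit 2)), ((nat_lit 91), (nat_lit 7)), ((nat_lit 92), (nat_lit 7))]⟩,
  ⟨false, (nat_lit 0), [nat_lit 5], [nat_lit 1, nat_lit 0], [((nat_lit 61), (nat_lit 8)), ((nat_lit 76), (nat_lit 2)), ((nat_lit 77), (nat_lit 8)), ((nat_lit 85), (nat_lit 1))]⟩,
  ⟨false, (nat_lit 0), [nat_lit 5, nat_lit 5], [nat_lit 5, nat_lit 1], [((nat_lit 59), (nat_lit 6)), ((nat_lit 81), (nat_lit 6)), ((nat_lit 83), (nat_lit 7)), ((nat_lit 90), (nat_lit 6)), ((nat_lit 92), (nat_lit 3)), ((nat_lit 93), (nat_lit 8))]⟩,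
  ⟨false, (nat_lit 0), [nat_lit 5, nat_lit 5], [nat_lit 5, nat_lit 2], [((nat_lit 60), (nat_lit 6)), ((nat_lit 81), (nat_lit 6)), ((nat_lit 83), (nat_lit 7)), ((nat_lit 90), (nat_lit 6)), ((nat_lit 92), (nat_lit 3)), ((nat_lit 93), (nat_lit 8))]⟩,
  ⟨false, (nat_lit 0), [nat_lit 5], [nat_lit 2, nat_lit 0], [((nat_lit 62), (nat_lit 8)), ((nat_lit 76), (nat_lit 2)), ((nat_lit 78), (nat_lit 8)), ((nat_lit 85), (nat_lit 1)), ((nat_lit 89), (nat_lit 8))]⟩,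
  ⟨false, (nat_lit 0), [nat_lit 6], [nat_lit 2, nat_lit 0], [((nat_lit 71), (nat_lit 8)), ((nat_lit 76), (nat_lit 1)), ((nat_lit 78), (nat_lit 8)), ((nat_lit 80), (nat_lit 7)), ((nat_lit 85), (nat_lit 1)), ((nat_lit 87), (nat_lit 7)), ((nat_lit 92), (nat_lit 8))]⟩,
  ⟨false, (nat_lit 0), [nat_lit 3], [nat_lit 1, nat_lit 0], [((nat_lit 58), (nat_lit 2)), ((nat_lit 59), (nat_lit 8)), ((nat_lit 76), (nat_lit 1)), ((nat_lit 85), (nat_lit 1)), ((nat_lit 88), (nat_lit 7)), ((nat_lit 90), (nat_lit 8)), ((nat_lit 92), (nat_lit 7))]⟩,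
  ⟨false, (nat_lit 0), [nat_lit 1], [nat_lit 1, nat_lit 1], [((nat_lit 59), (nat_lit 2)), ((nat_lit 68), (nat_lit 2)), ((nat_lit 81), (nat_lit 2)), ((nat_lit 82), (nat_lit 3)), ((nat_lit 83), (nat_lit 2)), ((nat_lit 86), (nat_lit 1)), ((nat_lit 90), (nat_lit 1)), ((nat_lit 91), (nat_lit 3)), ((nat_lit 92), (nat_lit 5)), ((nat_lit 93), (nat_lit 2))]⟩,
  ⟨false, (nat_lit 0), [nat_lit 3], [nat_lit 2, nat_lit 0], [((nat_lit 52), (nat_lit 1)), ((nat_lit 58), (nat_lit 2)), ((nat_lit 60), (nat_lit 8)), ((nat_lit 76), (nat_lit 1)), ((nat_lit 85), (nat_lit 2)), ((nat_lit 90), (nat_lit 7)), ((nat_lit 92), (nat_lit 5))]⟩,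
  ⟨false, (nat_lit 0), [nat_lit 3], [nat_lit 0, nat_lit 0], [((nat_lit 40), (nat_lit 3)), ((nat_lit 58), (nat_lit 3)), ((nat_lit 61), (nat_lit 2)), ((nat_lit 63), (nat_lit 1)), ((nat_lit 70), (nat_lit 1)), ((nat_lit 72), (nat_lit 3)), ((nat_lit 76), (nat_lit 1)), ((nat_lit 79), (nat_lit 1)), ((nat_lit 81), (nat_lit 4)), ((nat_lit 83), (nat_lit 1)), ((nat_lit 88), (nat_lit 1)), ((nat_lit 92), (nat_lit 2)), ((nat_lit 93), (nat_lit 1))]⟩,
  ⟨false, (nat_lit 0), [nat_lit 3, nat_lit 3], [nat_lit 3, nat_lit 1], [((nat_lit 41), (nat_lit 6)), ((nat_lit 61), (nat_lit 6)), ((nat_lit 63), (nat_lit 7)), ((nat_lit 79), (nat_lit 6)), ((nat_lit 81), (nat_lit 3)), ((nat_lit 83), (nat_lit 8)), ((nat_lit 88), (nat_lit 6)), ((nat_lit 90), (nat_lit 3)), ((nat_lit 92), (nat_lit 6)), ((nat_lit 93), (nat_lit 8))]⟩,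
  ⟨false, (nat_lit 0), [nat_lit 3, nat_lit 3], [nat_lit 3, nat_lit 2], [((nat_lit 42), (nat_lit 6)), ((nat_lit 61), (nat_lit 6)), ((nat_lit 63), (nat_lit 7)), ((nat_lit 79), (nat_lit 6)), ((nat_lit 81), (nat_lit 3)), ((nat_lit 83), (nat_lit 8)), ((nat_lit 88), (nat_lit 6)), ((nat_lit 90), (nat_lit 3)), ((nat_lit 92), (nat_lit 6)), ((nat_lit 93), (nat_lit 7))]⟩,
  ⟨false, (nat_lit 0), [nat_lit 4], [nat_lit 1, nat_lit 0], [((nat_lit 52), (nat_lit 8)), ((nat_lit 58), (nat_lit 2)), ((nat_lit 61), (nat_lit 7)), ((nat_lit 67), (nat_lit 2)), ((nat_lit 68), (nat_lit 8)), ((nat_lit 72), (nat_lit 2)), ((nat_lit 76), (nat_lit 1)), ((nat_lit 79), (nat_lit 7)), ((nat_lit 81), (nat_lit 1)), ((nat_lit 82), (nat_lit 1)), ((nat_lit 83), (nat_lit 1)), ((nat_lit 88), (nat_lit 7)), ((nat_lit 91), (nat_lit 2)), ((nat_lit 92), (nat_lit 3)), ((nat_lit 93), (nat_lit 1))]⟩,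
  ⟨false, (nat_lit 0), [nat_lit 4, nat_lit 4], [nat_lit 4, nat_lit 1], [((nat_lit 50), (nat_lit 6)), ((nat_lit 62), (nat_lit 6)), ((nat_lit 63), (nat_lit 7)), ((nat_lit 71), (nat_lit 6)), ((nat_lit 72), (nat_lit 3)), ((nat_lit 73), (nat_lit 7)), ((nat_lit 80), (nat_lit 6)), ((nat_lit 81), (nat_lit 3)), ((nat_lit 82), (nat_lit 3)), ((nat_lit 83), (nat_lit 8)), ((nat_lit 90), (nat_lit 7)), ((nat_lit 91), (nat_lit 4)), ((nat_lit 93), (nat_lit 6))]⟩,
  ⟨false, (nat_lit 0), [nat_lit 4], [nat_lit 2, nat_lit 0], [((nat_lit 58), (nat_lit 2)), ((nat_lit 62), (nat_lit 7)), ((nat_lit 67), (nat_lit 2)), ((nat_lit 69), (nat_lit 8)), ((nat_lit 72), (nat_lit 2)), ((nat_lit 76), (nat_lit 1)), ((nat_lit 80), (nat_lit 7)), ((nat_lit 81), (nat_lit 1)), ((nat_lit 82), (nat_lit 1)), ((nat_lit 83), (nat_lit 1)), ((nat_lit 85), (nat_lit 2)), ((nat_lit 90), (nat_lit 7)), ((nat_lit 92), (nat_lit 8))]⟩,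
  ⟨false, (nat_lit 0), [nat_lit 1], [nat_lit 0, nat_lit 0], [((nat_lit 22), (nat_lit 3)), ((nat_lit 40), (nat_lit 3)), ((nat_lit 43), (nat_lit 1)), ((nat_lit 58), (nat_lit 1)), ((nat_lit 59), (nat_lit 2)), ((nat_lit 61), (nat_lit 4)), ((nat_lit 63), (nat_lit 1)), ((nat_lit 68), (nat_lit 1)), ((nat_lit 70), (nat_lit 3)), ((nat_lit 72), (nat_lit 3)), ((nat_lit 77), (nat_lit 1)), ((nat_lit 81), (nat_lit 2)), ((nat_lit 82), (nat_lit 1)), ((nat_lit 83), (nat_lit 2)), ((nat_lit 86), (nat_lit 1)), ((nat_lit 88), (nat_lit 3)), ((nat_lit 90), (nat_lit 5)), ((nat_lit 91), (nat_lit 2)), ((nat_lit 92), (nat_lit 6)), ((nat_lit 93), (nat_lit 4))]⟩,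
  ⟨false, (nat_lit 0), [nat_lit 4, nat_lit 4], [nat_lit 4, nat_lit 2], [((nat_lit 51), (nat_lit 6)), ((nat_lit 62), (nat_lit 6)), ((nat_lit 63), (nat_lit 7)), ((nat_lit 71), (nat_lit 6)), ((nat_lit 72), (nat_lit 3)), ((nat_lit 73), (nat_lit 7)), ((nat_lit 80), (nat_lit 6)), ((nat_lit 81), (nat_lit 3)), ((nat_lit 82), (nat_lit 3)), ((nat_lit 83), (nat_lit 8)), ((nat_lit 89), (nat_lit 6)), ((nat_lit 90), (nat_lit 1)), ((nat_lit 91), (nat_lit 7)), ((nat_lit 92), (nat_lit 6)), ((nat_lit 93), (nat_lit 4))]⟩,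
  ⟨false, (nat_lit 0), [nat_lit 2], [nat_lit 0, nat_lit 0], [((nat_lit 31), (nat_lit 3)), ((nat_lit 49), (nat_lit 3)), ((nat_lit 53), (nat_lit 1)), ((nat_lit 60), (nat_lit 2)), ((nat_lit 62), (nat_lit 6)), ((nat_lit 67), (nat_lit 1)), ((nat_lit 69), (nat_lit 1)), ((nat_lit 71), (nat_lit 4)), ((nat_lit 73), (nat_lit 1)), ((nat_lit 78), (nat_lit 1)), ((nat_lit 81), (nat_lit 2)), ((nat_lit 82), (nat_lit 1)), ((nat_lit 83), (nat_lit 2)), ((nat_lit 87), (nat_lit 1)), ((nat_lit 89), (nat_lit 3)), ((nat_lit 90), (nat_lit 7)), ((nat_lit 91), (nat_lit 4)), ((nat_lit 92), (nat_lit 6)), ((nat_lit 93), (nat_lit 7))]⟩,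
  ⟨false, (nat_lit 0), [nat_lit 2], [nat_lit 1, nat_lit 0], [((nat_lit 42), (nat_lit 1)), ((nat_lit 49), (nat_lit 2)), ((nat_lit 50), (nat_lit 8)), ((nat_lit 58), (nat_lit 2)), ((nat_lit 61), (nat_lit 8)), ((nat_lit 62), (nat_lit 4)), ((nat_lit 67), (nat_lit 1)), ((nat_lit 72), (nat_lit 2)), ((nat_lit 79), (nat_lit 8)), ((nat_lit 80), (nat_lit 3)), ((nat_lit 81), (nat_lit 3)), ((nat_lit 82), (nat_lit 2)), ((nat_lit 83), (nat_lit 1)), ((nat_lit 85), (nat_lit 2)), ((nat_lit 88), (nat_lit 8)), ((nat_lit 89), (nat_lit 1)), ((nat_lit 90), (nat_lit 2)), ((nat_lit 91), (nat_lit 8)), ((nat_lit 92), (nat_lit 3)), ((nat_lit 93), (nat_lit 4))]⟩,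
  ⟨false, (nat_lit 0), [nat_lit 2], [nat_lit 1, nat_lit 1], [((nat_lit 32), (nat_lit 3)), ((nat_lit 50), (nat_lit 3)), ((nat_lit 53), (nat_lit 2)), ((nat_lit 59), (nat_lit 4)), ((nat_lit 60), (nat_lit 2)), ((nat_lit 62), (nat_lit 8)), ((nat_lit 63), (nat_lit 4)), ((nat_lit 68), (nat_lit 1)), ((nat_lit 69), (nat_lit 2)), ((nat_lit 71), (nat_lit 5)), ((nat_lit 72), (nat_lit 5)), ((nat_lit 73), (nat_lit 3)), ((nat_lit 77), (nat_lit 1)), ((nat_lit 80), (nat_lit 1)), ((nat_lit 81), (nat_lit 8)), ((nat_lit 82), (nat_lit 5)), ((nat_lit 83), (nat_lit 6)), ((nat_lit 86), (nat_lit 2)), ((nat_lit 87), (nat_lit 1)), ((nat_lit 89), (nat_lit 8)), ((nat_lit 90), (nat_lit 6)), ((nat_lit 91), (nat_lit 6)), ((nat_lit 92), (nat_lit 6)), ((nat_lit 93), (nat_lit 4))]⟩,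
  ⟨true, (nat_lit 2), [nat_lit 0, nat_lit 1], [nat_lit 1, nat_lit 0], [((nat_lit 40), (nat_lit 1)), ((nat_lit 41), (nat_lit 1)), ((nat_lit 59), (nat_lit 1)), ((nat_lit 61), (nat_lit 7)), ((nat_lit 63), (nat_lit 1)), ((nat_lit 70), (nat_lit 8)), ((nat_lit 81), (nat_lit 1)), ((nat_lit 83), (nat_lit 1)), ((nat_lit 88), (nat_lit 2)), ((nat_lit 90), (nat_lit 5)), ((nat_lit 91), (nat_lit 2)), ((nat_lit 92), (nat_lit 2))]⟩,
  ⟨true, (nat_lit 0), [nat_lit 2, nat_lit 3], [nat_lit 3, nat_lit 2, nat_lit 4, nat_lit 4], [((nat_lit 4), (nat_lit 2)), ((nat_lit 52), (nat_lit 4)), ((nat_lit 61), (nat_lit 2)), ((nat_lit 70), (nat_lit 2)), ((nat_lit 77), (nat_lit 1)), ((nat_lit 78), (nat_lit 2)), ((nat_lit 80), (nat_lit 7)), ((nat_lit 81), (nat_lit 8)), ((nat_lit 82), (nat_lit 8)), ((nat_lit 87), (nat_lit 4)), ((nat_lit 88), (nat_lit 3)), ((nat_lit 89), (nat_lit 5)), ((nat_lit 90), (nat_lit 7)), ((nat_lit 91),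 (nat_lit 7)), ((nat_lit 93), (nat_lit 2))]⟩,
  ⟨true, (nat_lit 0), [nat_lit 5, nat_lit 6], [nat_lit 6, nat_lit 5, nat_lit 4], [((nat_lit 4), (nat_lit 1)), ((nat_lit 40), (nat_lit 8)), ((nat_lit 42), (nat_lit 8)), ((nat_lit 52), (nat_lit 1)), ((nat_lit 58), (nat_lit 8)), ((nat_lit 60), (nat_lit 1)), ((nat_lit 61), (nat_lit 1)), ((nat_lit 62), (nat_lit 7)), ((nat_lit 63), (nat_lit 8)), ((nat_lit 76), (nat_lit 8)), ((nat_lit 78), (nat_lit 1)), ((nat_lit 79), (nat_lit 1)), ((nat_lit 80), (nat_lit 8)), ((nat_lit 85), (nat_lit 8)), ((nat_lit 87), (nat_lit 7)), ((nat_lit 88), (nat_lit 2)), ((nat_lit 89), (nat_lit 8)), ((nat_lit 93), (nat_lit 7))]⟩,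
  ⟨true, (nat_lit 1), [nat_lit 7, nat_lit 8], [nat_lit 8, nat_lit 7, nat_lit 9, nat_lit 9], [((nat_lit 9), (nat_lit 2)), ((nat_lit 41), (nat_lit 1)), ((nat_lit 42), (nat_lit 2)), ((nat_lit 52), (nat_lit 8)), ((nat_lit 60), (nat_lit 3)), ((nat_lit 61), (nat_lit 8)), ((nat_lit 63), (nat_lit 2)), ((nat_lit 70), (nat_lit 8)), ((nat_lit 78), (nat_lit 1)), ((nat_lit 79), (nat_lit 8)), ((nat_lit 81), (nat_lit 2)), ((nat_lit 83), (nat_lit 3)), ((nat_lit 87), (nat_lit 3)), ((nat_lit 88), (nat_lit 7)), ((nat_lit 89), (nat_lit 1)), ((nat_lit 90), (nat_lit 5)), ((nat_lit 91), (nat_lit 1)), ((nat_lit 92), (nat_lit 8)), ((nat_lit 93), (nat_lit 2))]⟩,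
  ⟨true, (nat_lit 1), [nat_lit 10, nat_lit 11], [nat_lit 11, nat_lit 10, nat_lit 9, nat_lit 9], [((nat_lit 9), (nat_lit 2)), ((nat_lit 50), (nat_lit 8)), ((nat_lit 51), (nat_lit 7)), ((nat_lit 52), (nat_lit 8)), ((nat_lit 60), (nat_lit 6)), ((nat_lit 62), (nat_lit 1)), ((nat_lit 63), (nat_lit 7)), ((nat_lit 69), (nat_lit 6)), ((nat_lit 72), (nat_lit 3)), ((nat_lit 73), (nat_lit 7)), ((nat_lit 77), (nat_lit 7)), ((nat_lit 78), (nat_lit 8)), ((nat_lit 79), (nat_lit 7)), ((nat_lit 80), (nat_lit 2)), ((nat_lit 81), (nat_lit 7)), ((nat_lit 82), (nat_lit 7)), ((nat_lit 83), (nat_lit 5)), ((nat_lit 86), (nat_lit 8)), ((nat_lit 87), (nat_lit 5)), ((nat_lit 90), (nat_lit 5)), ((nat_lit 91), (nat_lit 6)), ((nat_lit 92), (nat_lit 4)), ((nat_lit 93), (nat_lit 5))]⟩,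
  ⟨true, (nat_lit 2), [nat_lit 0, nat_lit 12], [nat_lit 12, nat_lit 0], [((nat_lit 31), (nat_lit 1)), ((nat_lit 32), (nat_lit 1)), ((nat_lit 42), (nat_lit 1)), ((nat_lit 50), (nat_lit 1)), ((nat_lit 52), (nat_lit 2)), ((nat_lit 53), (nat_lit 1)), ((nat_lit 58), (nat_lit 7)), ((nat_lit 60), (nat_lit 8)), ((nat_lit 61), (nat_lit 3)), ((nat_lit 62), (nat_lit 4)), ((nat_lit 63), (nat_lit 2)), ((nat_lit 69), (nat_lit 8)), ((nat_lit 71), (nat_lit 1)), ((nat_lit 72), (nat_lit 4)), ((nat_lit 73), (nat_lit 1)), ((nat_lit 77), (nat_lit 8)), ((nat_lit 79), (nat_lit 2)), ((nat_lit 80), (nat_lit 3)), ((nat_lit 81), (nat_lit 4)), ((nat_lit 82), (nat_lit 5)), ((nat_lit 83), (nat_lit 8)), ((nat_lit 85), (nat_lit 7)), ((nat_lit 86), (nat_lit 7)), ((nat_lit 87), (nat_lit 8)), ((nat_lit 88), (nat_lit 8)), ((nat_lit 89), (nat_lit 4)), ((nat_lit 90), (nat_lit 2)), ((nat_lit 91), (nat_lit 4)), ((nat_lit 92), (nat_lit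 3)), ((nat_lit 93), (nat_lit 3))]⟩]
noncomputable def Ds3 : List (List (ℕ × ℕ)) := I3_0.map Pc.Idn.D
noncomputable def S3 : List (List (ℕ × ℕ)) := [[],
  [],
  [],
  [((nat_lit 22), (nat_lit 1))],
  [((nat_lit 31), (nat_lit 1))],
  [((nat_lit 40), (nat_lit 1))],
  [((nat_lit 49), (nat_lit 1))],
  [((nat_lit 58), (nat_lit 1))],
  [((nat_lit 76), (nat_lit 1))]]
noncomputable def Yo3 : List (List (ℕ × ℕ) × ℕ × ℕ) := [([((nat_lit 31), (nat_lit 8)), ((nat_lit 32), (nat_lit 5)), ((nat_lit 40), (nat_lit 8)), ((nat_lit 41), (nat_lit 6)), ((nat_lit 42), (nat_lit 1)), ((nat_lit 50), (nat_lit 2))], (nat_lit 3), nat_lit 0x27312a96f6752fb1cc66595eb8e609af11463187977c08a77ff)]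
noncomputable def La3 : List ℕ := [nat_lit 0,
  nat_lit 0,
  nat_lit 0,
  nat_lit 0,
  nat_lit 0,
  nat_lit 0,
  nat_lit 0,
  nat_lit 0,
  nat_lit 0,
  nat_lit 0,
  nat_lit 0,
  nat_lit 0,
  nat_lit 0,
  nat_lit 0,
  nat_lit 0,
  nat_lit 0,
  nat_lit 0,
  nat_lit 0,
  nat_lit 0,
  nat_lit 0x763f5a21a56e9164a0298a25b510f2ff893ee196418992e2708,
  nat_lit 0,
  nat_lit 0,
  nat_lit 0,
  nat_lit 0,
  nat_lit 0,
  nat_lit 0,
  nat_lit 0,
  nat_lit 0,
  nat_lit 0x3363ab475077000cc3b5f44128fb4b489a6f9ace84e4fde425c3,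
  nat_lit 0x768d4070dca8d8b7b6de171fee60313cabc9566193afdd9650f,
  nat_lit 0x909ab2a53c163bc23b2b04f0a6c88cd2ce9212b415d,
  nat_lit 0,
  nat_lit 0,
  nat_lit 0,
  nat_lit 0,
  nat_lit 0,
  nat_lit 0,
  nat_lit 0x16108659dd2f4e5afc1378f8cc3d45e79d77e8cf861e7e490777,
  nat_lit 0x178d4f34bca1c2ef6a567f93625ef7c983d160a93a965dc62d97,
  nat_lit 0xebf034dc2eed965e59c87c68f5192dafa2c3fb0c3caba615b32,
  nat_lit 0x2c0e4ed42e4527fc2730bc99cfe000c17aa73a6ffbb5910a2a5f,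
  nat_lit 0,
  nat_lit 0,
  nat_lit 0,
  nat_lit 0,
  nat_lit 0,
  nat_lit 0x3ab619abc65768ffdfd0e80d75ecca10145f968e0625ef0b2141,
  nat_lit 0x65b86d658b04163e027de33bf3f8856cd3ee20004,
  nat_lit 0x592b7d10609fdad818aad5f6141b24d9953352e,
  nat_lit 0x3363a322af62ae44078b82c5d7b0e76fcdc712f402ce5b5678b3,
  nat_lit 0x357f3da0e40269922b684229b7b73bed55f05ad,
  nat_lit 0,
  nat_lit 0,
  nat_lit 0,
  nat_lit 0x3363a322af62ae4408c8283d18ec3e7d3c0c0f8b18b224823426,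
  nat_lit 0xebf034dc305194ff76109e363448155680042df3c609e4a5ae9,
  nat_lit 0x3ab619abc2531fecc2affec7954b34cda7aee8547bb5aab98e98,
  nat_lit 0x16140d6dd14846026aff03f668ed55890bf8429386de126b7515,
  nat_lit 0x76c8cc4ac105e83b03eeb256b417d297e81d4661364b71bab3a,
  nat_lit 0x3363a322af62ae4408c833382a584738eded0d8d3da81b29bf40,
  nat_lit 0x26861263300ed1a5df69bf2bea,
  nat_lit 0,
  nat_lit 0,
  nat_lit 0,
  nat_lit 0x3ab619abc65766c4928f6d86f7e454b5a75443af37b25edcb4c1,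
  nat_lit 0x3363a322af62ae43c5fcb2dd67163ca65c3f9f980d29db5898d0,
  nat_lit 0xf52d97c1bc32dca3c002f78,
  nat_lit 0x24bbd84840557a23192f7b9113d2b08b10264627e670969be018,
  nat_lit 0x4c28ab4d78917d607d3ed44d,
  nat_lit 0x2acddb8aa8f7d5a2195504853,
  nat_lit 0x2da863500fd3f2d411126d41,
  nat_lit 0,
  nat_lit 0x3ab619abc65768ff13bca1bf6a653d8fcda405d61d344c970b87,
  nat_lit 0x76c8cc4ac105e839644fc93d3de68479b2a353301970bbaca4e,
  nat_lit 0x76c8cc4ac105e839644fc944ff8f94f9e5fe61ea5037d597778,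
  nat_lit 0x20ea8f6a98058d,
  nat_lit 0x1283f0abf91dc35,
  nat_lit 0xa6a376172956c5d,
  nat_lit 0x5dbbf2a0fc47b385,
  nat_lit 0x16140d6dd14846026c3b8f33a5d7e364345d9e41ee29433c4142,
  nat_lit 0x2c0e4ed1574a34de882e0c87bff459d5c36d1128abfc8d063028]
noncomputable def Wsx3 : List (List ℕ) := [[nat_lit 1, nat_lit 2, nat_lit 2, nat_lit 3, nat_lit 3, nat_lit 4, nat_lit 4, nat_lit 5, nat_lit 5, nat_lit 6, nat_lit 7, nat_lit 7, nat_lit 8, nat_lit 8],
  [nat_lit 8],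
  [nat_lit 3, nat_lit 7],
  [nat_lit 5, nat_lit 7, nat_lit 7],
  [nat_lit 4, nat_lit 6, nat_lit 7, nat_lit 7],
  [nat_lit 0, nat_lit 2, nat_lit 6],
  [nat_lit 0]]
noncomputable def LDx3_4d : ℕ := nat_lit 4
noncomputable def LDx3_4 (u : ℕ) : ℕ := Nat.land (Nat.shiftRight LDx3_4d (Nat.mul u (nat_lit 1))) (nat_lit 1)
noncomputable def Ptx3_4d : ℕ := nat_lit 0x9e47f6000
noncomputable def Ptx3_4 (u : ℕ) : ℕ := Nat.land (Nat.shiftRight Ptx3_4d (Nat.mul u (nat_lit 12))) (nat_lit 4095)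
noncomputable def Qx3_4d : ℕ := nat_lit 0x2000000000000000000000000000000000000000000000000000000000000000000000000000000000000000000000000000000000000000000000000000000000000000000000000000000000000000000000000000000000000000000000000000000000000000000000000000000000000000000000000000000100000000000000000000000000000000000000000000000000000000000000000000000000000000000000000000000000000000000000000000000000000000000000000000000000000000000000000000000000000000000000000000000000000000000000000000000000000000000000000000000000000000000000000000000000000000000000000000000000000000000000000000000000000000000000000000000000000000000000000000000000000000000000000000000000000000000000000000000000000000000000000000000000000000000000000000000000000000000000000000000000000000000000000000000000000000000000000000000000000000000000000000000000000000000000000000000000000000000000000000000000000000000000000000000000000000000000000000000000000000000000000000000000000000000000000000000000000000000000000000000000000000000000000000000000000000000000000000000000000000000000000000000000000000000000000000000000000000000000000000000000000000000000000000000000000000000000000000000000000000000000000000000000000000000000000000000000000000000000000000000000000000000000000000000000000000000000000000000000000000000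
noncomputable def Qx3_4 (u : ℕ) : ℕ := Nat.land (Nat.shiftRight Qx3_4d (Nat.mul u (nat_lit 2))) (nat_lit 3)
noncomputable def lx3_4 : Lev := ⟨3, 1, LDx3_4, Ptx3_4, Qx3_4⟩
noncomputable def LDx3_3d : ℕ := nat_lit 0x11720c520820
noncomputable def LDx3_3 (u : ℕ) : ℕ := Nat.land (Nat.shiftRight LDx3_3d (Nat.mul u (nat_lit 5))) (nat_lit 31)
noncomputable def Ptx3_3d : ℕ := nat_lit 0xc9f5302d460e7453f9153487001
noncomputable def Ptx3_3 (u : ℕ) : ℕ := Nat.land (Nat.shiftRight Ptx3_3d (Nat.mul u (nat_lit 12))) (nat_lit 4095)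
noncomputable def Qx3_3d : BT := (.node (.node (.leaf (nat_lit 0x3000000000000000000000000000000000000000000000000000000000000000000000000000000000000000000000000000000000000000000000000000000000000000000000000000000000000000000000000000000000000000000000000000000000000000000000000000000000000000000000000000000000000000000000000000000000000000000000000000060000000000000000000000000000000000000000000000000000000000000000000000000000000000000000000000000000000000000000000000000000000000000000000000000000000000000000000000000000000000000000000000000000000000000000000000000000000000000000000000000000000000000000000000000000000000000000000000000000000000000000000000000000000000000000000000000000000000000000000000000000000000000000000000002000000000000000000000000000000000000000000000000000000000000000000000000000000000000000000000000000000000000000000000000000000000000000000000000000000000000000000000000000000000000000000000000000000000000000000000000000000000000000000000000000000000000000000000000000000000000000000000000000000000000000000000000000000000000000000000000000))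 (.leaf (nat_lit 0))) (.node (.leaf (nat_lit 0x4000000000000000000000000000000000000000000000000000000000000000000000000000000000000000000000000000000000000000000000000000000000000000000000000000000000000000000000000000000000000000000000000000000000000000000000000000000000000000000000000000000000000000000000000000000000000000000000000000000000000000000000050000000000000000000000000000000000000000000000000000000000000000000000000000000000000000000000000000000000000000000000000000000000000000000000000000000000000000000000000000000000000000000000000000000000000000000000000000070000000000000000000000000000000000000000000000000000000000000000000000000000000000000000000000000000000000000000000000000000000000000000000000000000000000000000000000001000000000000000000000000000000000000000000000000000000000000000000000000000000000000000000000000000000000000000000000000000000000000000)) (.leaf (nat_lit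 0x8000000000000000000000000000000000000000000000000000000000000000000000000000000000000000000000000000000000000000000000000000000000000000000000000000000000000000))))
noncomputable def Qx3_3 (u : ℕ) : ℕ := force (Nat.shiftRight u (nat_lit 10)) fun j => Nat.land (Nat.shiftRight (Qx3_3d.get j) (Nat.mul (Nat.land u (nat_lit 1023)) (nat_lit 4))) (nat_lit 15)
noncomputable def lx3_3 : Lev := ⟨9, 3, LDx3_3, Ptx3_3, Qx3_3⟩
noncomputable def LDx3_2d : ℕ := nat_lit 0x226133892040c0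
noncomputable def LDx3_2 (u : ℕ) : ℕ := Nat.land (Nat.shiftRight LDx3_2d (Nat.mul u (nat_lit 6))) (nat_lit 63)
noncomputable def Ptx3_2d : ℕ := nat_lit 0x89976d583b418f386d4c435707a
noncomputable def Ptx3_2 (u : ℕ) : ℕ := Nat.land (Nat.shiftRight Ptx3_2d (Nat.mul u (nat_lit 12))) (nat_lit 4095)
noncomputable def Qx3_2d : BT := (.node (.node (.leaf (nat_lit 0x1000000000000000000000000000000000000000000000000000000000000000000000000000000000000000000000000000000000000000000000000000000000000000000000000000000000000000000000000000000000000000000000000000000000000000000000000000000000000000000000000000000000000000000000000000000000000000000000000000000000000000000000000000000000000000000000000000000000000000000000000000000000000000000000000000000000000000000000000000000000000000000000000000000000000000000000000000000000000000000000000000000000000000000000000000000000000000000000000000000000000000000000000000000000000000000000000000000000000000000000000000000000000000000000000000000000000000000000000000000000000000000000000000000000000000000000000000000000000000000000000000000000000000000000000000000000000000000000000000000000000000000000000000000000000000000000000000000000000000000000000000000000000000))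 (.leaf (nat_lit 0x500000000000000000000000000000000000000000000000000000000000000000000000000000000000000000000000000000000000000000000000000000000000000000000000000000000000000000000000000000000000000000000000000000000000000000000000000000000000000000000000000000000000000000000000000000000000000000000000000000000000000000000000000000000000000000000000000000000000000000000000000000000000000000000000000000000000000000000000000000000000000000000000000000000000000000000000000000000000000000000000000000000000000000000000000000000000000000000000000000000000000000000000000000000000000000000000000000000000004000000000000000000000000000000000000000000000000000000000000000000000000000000000000000008000000000000000000000000000000000000000000030000000000000000000000000000000000000000000000000000000000000000000000000000000000000000000000000000000000000))) (.node (.leaf (nat_lit 0x700000000000000000000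00000000000000000000000000000000000000000000000000000000000000000000000000000000000000000000000000000000000000000000000000000000000000000000000000000000000000000000000000000000000000000000000000000000000000000000000000000000000000000000000000000000000000000000000000000000000000000000000000000000000000000000000000000000000000000000000000000000000000000000000000000000000000000000000000000000000000000000000000000000000000000000000000000000000000000000000000000000000006000000000000000000000000000000000000000000000000000000000000000000000000000000000000000000000000000000000000000000000000000000000000000000000000000000000000000000000000000000000000000000000020000000000000000000000000000000000000000000000000000000000000000000000000000000000000000000000000000000000000000000000000000000000000000000000000000000000000000000000000000000000000000000000000000)) (.leaf (nat_lit 0))))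
noncomputable def Qx3_2 (u : ℕ) : ℕ := force (Nat.shiftRight u (nat_lit 10)) fun j => Nat.land (Nat.shiftRight (Qx3_2d.get j) (Nat.mul (Nat.land u (nat_lit 1023)) (nat_lit 4))) (nat_lit 15)
noncomputable def lx3_2 : Lev := ⟨9, 5, LDx3_2, Ptx3_2, Qx3_2⟩
noncomputable def LDx3_1d : ℕ := nat_lit 0xb50
noncomputable def LDx3_1 (u : ℕ) : ℕ := Nat.land (Nat.shiftRight LDx3_1d (Nat.mul u (nat_lit 4))) (nat_lit 15)
noncomputable def Ptx3_1d : ℕ := nat_lit 0x889ae86c4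
noncomputable def Ptx3_1 (u : ℕ) : ℕ := Nat.land (Nat.shiftRight Ptx3_1d (Nat.mul u (nat_lit 12))) (nat_lit 4095)
noncomputable def Qx3_1d : ℕ := nat_lit 0x10000000000000000000000000000000000000000000000000000000000000000000000000000000000000000000000000000000000000000000000000000000000000000000000000000000000000000000000000000000000000000000000000000000000000000000000000000000000000000000000000000000000000000000000000000000000000000000000000000000000000008000000000000000000000000000000000000000000000000000000000000000000000000000000000000000000000000000000000000000000000000000000000000000000000000000000000000000000000000000000000000000000000000000000000000000000000000000000000000000000000000000000000000000000000000000000000000000000000000000000000000000000000000000000000000000000000000000000000000000000000000000000000000000000000000000000000000000000000000000000000000000000000000000000000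000000000000000000000000000000000000000000000000000000000000000000000000000000000000000000000000000000000000000000000000000000000000000000000000000000000000000000000000000000000000000000000000000000000000000000000000000000000000000000000000000000000000000000000000000000000000000000000000000000000000000000000000000000000000000000000000000000000000000000000000000000000000000000000000000000000000000000000000000000000000000000000000000000000000000000000000000000000000000000000000000000000000000000000000000000000000000000000000000000000000000000000000000000000000000000000000000000000000000000000000000000000000000000000000000000000000000000000000000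
noncomputable def Qx3_1 (u : ℕ) : ℕ := Nat.land (Nat.shiftRight Qx3_1d (Nat.mul u (nat_lit 2))) (nat_lit 3)
noncomputable def lx3_1 : Lev := ⟨3, 6, LDx3_1, Ptx3_1, Qx3_1⟩
noncomputable def LDx3_0d : ℕ := nat_lit 0x92847d615a534b3735302e2722201e1c1b1a191412110d0b0a0600
noncomputable def LDx3_0 (u : ℕ) : ℕ := Nat.land (Nat.shiftRight LDx3_0d (Nat.mul u (nat_lit 8))) (nat_lit 255)
noncomputable def Ptx3_0d : ℕ := nat_lit 0xae8889ce96c4907cadae98b8bdf49eb418f39bf8b728e2e556376d89928b4c435773f58307a86d067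
noncomputable def Ptx3_0 (u : ℕ) : ℕ := Nat.land (Nat.shiftRight Ptx3_0d (Nat.mul u (nat_lit 12))) (nat_lit 4095)
noncomputable def Qx3_0d : BT := (.node (.node (.node (.leaf (nat_lit 0x800000000000000000000000000000000000000000000000000000000000000000000000000000000000000000000000000000000000000000000000000000000000000000000000000000000)) (.leaf (nat_lit 0x70000000000000000000000000000000000000000000000000000000000000000000000000000000000000000000000000000000000000000000000000000000000000000000000000000000000000000000000000000000000000000000000000000000000000000000000000000000000000b00000000000000000000000078000000000000000000000000000000000000000000000000000000000000000000000001368000000000000000000000000000000000001000000000000000000032000000000000000000000000000000000020000000000000000000000000000000000000000000000000000000000000000000000000000000000000000000000000000000000000000000000000000000000000000)))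 (.node (.leaf (nat_lit 0x18000000000000000000000000000000000000005000000000000000000000000000000000000000000000000000000000000000000000000000000000000000000000000000000000000000000000000000000000000000000000000000000000000000000000000000000000000000000000000000000600000000000000000000000000000000000000000000004400000000000000000000000000000000000000000000000000000000000000000000000000000000000000000000000000000000000000000000000000000000000000000000000000000000000000000000000000000000000000000000000000000)) (.leaf (nat_lit 0x3000000000000000000000000000000000000000000000000000000000000000000000000002a000000000000000000000000000000000000000000000000000000000000000000000000000000000000000000000000000000000000000000000000000000000000000000000000000000000000000000000000000000000000000000000000000000000000000000000000)))) (.node (.node (.leaf (nat_lit 0x2800000000000000000000000000000000000000000000000000000000000000000000000000000000000000000000000000000000000000000000000000000000000000000000160000000000000000000000000000000000000000000000000000000000000000000000000000000000000000000000000000000000030003800000000000000000000000000000000000000000000000000000000000000000000000000000000000000000000000000000000000000000000000000000000000000000000000000000000000000000000000000000))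 (.leaf (nat_lit 0x900000000000000000000000000000000000000000000000000000000000000000000000000000000000000000000000000000000000000000000000000000000000000000000000000000000000000000000000000000000000000000000000000002000000000000000000000000000000000000000000000000000000000000000000000000000000000000000000000000000000000000029a00000000000000000000000000000000000000000000000000000000000000000000000000000000000000000000000000000000000000000000000000000000000000000000000000000000000000000000000000000000000000000000000000000000000000000000000000000000000000000000000000000000000000000000000000000000000000000000000000))) (.leaf (nat_lit 0x12000000000000000000000000000000000000000000000000000000002000000000000000000000000000000000000000000000000000000000000000000000000000000000000000000000000000000000000000000000000000000000000000000000000000000001700000000000000000000000000000000000000000000000000000000000000000000000000000000000000000000000000000000000000000000000000000000000000000000000000000000000000000000000000000000000000000000000000000000000000000000000000000000000000000000000000000))))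
noncomputable def Qx3_0 (u : ℕ) : ℕ := force (Nat.shiftRight u (nat_lit 9)) fun j => Nat.land (Nat.shiftRight (Qx3_0d.get j) (Nat.mul (Nat.land u (nat_lit 511)) (nat_lit 5))) (nat_lit 31)
noncomputable def lx3_0 : Lev := ⟨27, 7, LDx3_0, Ptx3_0, Qx3_0⟩
noncomputable def Lx3 : List Lev := [lx3_0, lx3_1, lx3_2, lx3_3, lx3_4]
noncomputable def Bx3 : List ℕ := [nat_lit 103, nat_lit 1732, nat_lit 122, nat_lit 1, nat_lit 0]
noncomputable def Us2 : List (List ℕ) := [[nat_lit 6, nat_lit 4, nat_lit 3, nat_lit 8, nat_lit 5, nat_lit 3, nat_lit 2, nat_lit 1, nat_lit 0, nat_lit 8, nat_lit 5, nat_lit 3, nat_lit 2, nat_lit 1, nat_lit 0, nat_lit 8, nat_lit 5, nat_lit 3, nat_lit 2, nat_lit 1, nat_lit 0, nat_lit 8, nat_lit 5, nat_lit 3, nat_lit 2, nat_lit 1, nat_lit 0, nat_lit 8, nat_lit 5, nat_lit 3, nat_lit 2, nat_lit 1, nat_lit 0, nat_lit 8, nat_lit 2, nat_lit 3, nat_lit 5, nat_lit 2, nat_lit 1, nat_lit 2,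 nat_lit 5, nat_lit 3, nat_lit 2, nat_lit 5, nat_lit 3, nat_lit 1, nat_lit 6, nat_lit 7, nat_lit 2, nat_lit 3, nat_lit 5, nat_lit 2, nat_lit 1, nat_lit 2, nat_lit 5, nat_lit 3, nat_lit 2, nat_lit 5, nat_lit 3, nat_lit 1, nat_lit 4, nat_lit 5, nat_lit 3, nat_lit 2, nat_lit 1, nat_lit 0, nat_lit 8, nat_lit 5, nat_lit 3, nat_lit 2, nat_lit 1, nat_lit 0, nat_lit 8, nat_lit 5, nat_lit 3, nat_lit 2, nat_lit 1, nat_lit 0, nat_lit 8, nat_lit 5, nat_lit 3, nat_lit 2, nat_lit 1, nat_lit 0, nat_lit 8, nat_lit 5, nat_lit 3, nat_lit 2, nat_lit 1, nat_lit 0, nat_lit 8, nat_lit 6, nat_lit 7, nat_lit 4, nat_lit 2, nat_lit 3, nat_lit 5, nat_lit 2, nat_lit 1, nat_lit 2, nat_lit 5, nat_lit 3, nat_lit 2, nat_lit 5, nat_lit 3, nat_lit 1, nat_lit 5, nat_lit 4, nat_lit 2, nat_lit 3, nat_lit 4, nat_lit 5, nat_lit 3, nat_lit 2, nat_lit 1, nat_lit 0, nat_lit 8, nat_lit 5, nat_lit 3, nat_lit 2, nat_lit 1, nat_lit 0, nat_lit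 8, nat_lit 5, nat_lit 3, nat_lit 2, nat_lit 1, nat_lit 0, nat_lit 8, nat_lit 5, nat_lit 3, nat_lit 2, nat_lit 1, nat_lit 0, nat_lit 8, nat_lit 5, nat_lit 3, nat_lit 2, nat_lit 1, nat_lit 0, nat_lit 8, nat_lit 6, nat_lit 1, nat_lit 7, nat_lit 5, nat_lit 4, nat_lit 3, nat_lit 2, nat_lit 1, nat_lit 3, nat_lit 4, nat_lit 0, nat_lit 1, nat_lit 2, nat_lit 3, nat_lit 5, nat_lit 7, nat_lit 4, nat_lit 6, nat_lit 2, nat_lit 1, nat_lit 3, nat_lit 5, nat_lit 4, nat_lit 2, nat_lit 1, nat_lit 3, nat_lit 5, nat_lit 4, nat_lit 6, nat_lit 2, nat_lit 1, nat_lit 5, nat_lit 0, nat_lit 1, nat_lit 2, nat_lit 3, nat_lit 5, nat_lit 4, nat_lit 2],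
  [nat_lit 2, nat_lit 3, nat_lit 8, nat_lit 6, nat_lit 4, nat_lit 3, nat_lit 5, nat_lit 3, nat_lit 2, nat_lit 1, nat_lit 0, nat_lit 8, nat_lit 5, nat_lit 3, nat_lit 2, nat_lit 1, nat_lit 0, nat_lit 8, nat_lit 5, nat_lit 3, nat_lit 2, nat_lit 1, nat_lit 0, nat_lit 8, nat_lit 5, nat_lit 3, nat_lit 2, nat_lit 1, nat_lit 0, nat_lit 8, nat_lit 5, nat_lit 3, nat_lit 2, nat_lit 1, nat_lit 0, nat_lit 8, nat_lit 4, nat_lit 6, nat_lit 4, nat_lit 5, nat_lit 3, nat_lit 2, nat_lit 1, nat_lit 0, nat_lit 8, nat_lit 5, nat_lit 3, nat_lit 2, nat_lit 1, nat_lit 0, nat_lit 8, nat_lit 5, nat_lit 3, nat_lit 2, nat_lit 1, nat_lit 0, nat_lit 8, nat_lit 5, nat_lit 3, nat_lit 2, nat_lit 1, nat_lit 0, nat_lit 8, nat_lit 5, nat_lit 3, nat_lit 2, nat_lit 1, nat_lit 0, nat_lit 8, nat_lit 3, nat_lit 4, nat_lit 1, nat_lit 7, nat_lit 2, nat_lit 3, nat_lit 5, nat_lit 2, nat_lit 1, nat_lit 2, nat_lit 5, nat_lit 3, nat_lit 2,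 nat_lit 5, nat_lit 3, nat_lit 1, nat_lit 4, nat_lit 2, nat_lit 3, nat_lit 5, nat_lit 2, nat_lit 1, nat_lit 2, nat_lit 5, nat_lit 3, nat_lit 2, nat_lit 5, nat_lit 3, nat_lit 1, nat_lit 6, nat_lit 2, nat_lit 1, nat_lit 3, nat_lit 2, nat_lit 0, nat_lit 8, nat_lit 1, nat_lit 2, nat_lit 3, nat_lit 5, nat_lit 7, nat_lit 4, nat_lit 6, nat_lit 2, nat_lit 1, nat_lit 3, nat_lit 5, nat_lit 2, nat_lit 1, nat_lit 3, nat_lit 5, nat_lit 4, nat_lit 0, nat_lit 1, nat_lit 5, nat_lit 8, nat_lit 8, nat_lit 2],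
  [nat_lit 7, nat_lit 0, nat_lit 6, nat_lit 1, nat_lit 0, nat_lit 8, nat_lit 7, nat_lit 8, nat_lit 6, nat_lit 4, nat_lit 3, nat_lit 5, nat_lit 3, nat_lit 2, nat_lit 1, nat_lit 0, nat_lit 8, nat_lit 5, nat_lit 3, nat_lit 2, nat_lit 1, nat_lit 0, nat_lit 8, nat_lit 5, nat_lit 3, nat_lit 2, nat_lit 1, nat_lit 0, nat_lit 8, nat_lit 5, nat_lit 3, nat_lit 2, nat_lit 1, nat_lit 0, nat_lit 8, nat_lit 5, nat_lit 3, nat_lit 2, nat_lit 1, nat_lit 0, nat_lit 8, nat_lit 4, nat_lit 6, nat_lit 4, nat_lit 5, nat_lit 3, nat_lit 2, nat_lit 1, nat_lit 0, nat_lit 8, nat_lit 5, nat_lit 3, nat_lit 2, nat_lit 1, nat_lit 0, nat_lit 8, nat_lit 5, nat_lit 3, nat_lit 2, nat_lit 1, nat_lit 0, nat_lit 8, nat_lit 5, nat_lit 3, nat_lit 2, nat_lit 1, nat_lit 0, nat_lit 8, nat_lit 5, nat_lit 3, nat_lit 2, nat_lit 1, nat_lit 0, nat_lit 8, nat_lit 3, nat_lit 4, nat_lit 7, nat_lit 2, nat_lit 3, nat_lit 5, nat_lit 2, nat_lit 1,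 nat_lit 2, nat_lit 5, nat_lit 3, nat_lit 2, nat_lit 5, nat_lit 3, nat_lit 1, nat_lit 4, nat_lit 5, nat_lit 3, nat_lit 2, nat_lit 1, nat_lit 0, nat_lit 8, nat_lit 5, nat_lit 3, nat_lit 2, nat_lit 1, nat_lit 0, nat_lit 8, nat_lit 5, nat_lit 3, nat_lit 2, nat_lit 1, nat_lit 0, nat_lit 8, nat_lit 5, nat_lit 3, nat_lit 2, nat_lit 1, nat_lit 0, nat_lit 8, nat_lit 5, nat_lit 3, nat_lit 2, nat_lit 1, nat_lit 0, nat_lit 8, nat_lit 2, nat_lit 3, nat_lit 5, nat_lit 2, nat_lit 1, nat_lit 2, nat_lit 5, nat_lit 3, nat_lit 2, nat_lit 5, nat_lit 3, nat_lit 1, nat_lit 6, nat_lit 7, nat_lit 4, nat_lit 2, nat_lit 3, nat_lit 5, nat_lit 2, nat_lit 1, nat_lit 2, nat_lit 5, nat_lit 3, nat_lit 2, nat_lit 5, nat_lit 3, nat_lit 1, nat_lit 4, nat_lit 6, nat_lit 3, nat_lit 4, nat_lit 2, nat_lit 3, nat_lit 4, nat_lit 5, nat_lit 3, nat_lit 2, nat_lit 1, nat_lit 0, nat_lit 8, nat_lit 5, nat_lit 3, nat_lit 2, nat_lit 1, nat_lit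 0, nat_lit 8, nat_lit 5, nat_lit 3, nat_lit 2, nat_lit 1, nat_lit 0, nat_lit 8, nat_lit 5, nat_lit 3, nat_lit 2, nat_lit 1, nat_lit 0, nat_lit 8, nat_lit 5, nat_lit 3, nat_lit 2, nat_lit 1, nat_lit 0, nat_lit 8, nat_lit 6, nat_lit 1, nat_lit 5, nat_lit 7, nat_lit 5, nat_lit 4, nat_lit 3, nat_lit 2, nat_lit 1, nat_lit 3, nat_lit 5, nat_lit 4, nat_lit 6, nat_lit 2, nat_lit 3, nat_lit 0, nat_lit 1, nat_lit 2, nat_lit 3, nat_lit 5, nat_lit 7, nat_lit 4, nat_lit 6, nat_lit 2, nat_lit 1, nat_lit 3, nat_lit 5, nat_lit 4, nat_lit 2, nat_lit 3, nat_lit 5, nat_lit 4, nat_lit 2, nat_lit 1, nat_lit 0, nat_lit 1, nat_lit 2, nat_lit 3, nat_lit 5, nat_lit 7, nat_lit 2, nat_lit 1, nat_lit 5, nat_lit 0, nat_lit 1, nat_lit 6, nat_lit 2],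
  [nat_lit 0, nat_lit 8, nat_lit 1, nat_lit 0, nat_lit 7, nat_lit 8, nat_lit 5, nat_lit 3, nat_lit 2, nat_lit 1, nat_lit 0, nat_lit 8, nat_lit 5, nat_lit 3, nat_lit 2, nat_lit 1, nat_lit 0, nat_lit 8, nat_lit 5, nat_lit 3, nat_lit 2, nat_lit 1, nat_lit 0, nat_lit 8, nat_lit 5, nat_lit 3, nat_lit 2, nat_lit 1, nat_lit 0, nat_lit 8, nat_lit 5, nat_lit 3, nat_lit 2, nat_lit 1, nat_lit 0, nat_lit 8, nat_lit 6, nat_lit 4, nat_lit 3, nat_lit 5, nat_lit 3, nat_lit 2, nat_lit 1, nat_lit 0, nat_lit 8, nat_lit 5, nat_lit 3, nat_lit 2, nat_lit 1, nat_lit 0, nat_lit 8, nat_lit 5, nat_lit 3, nat_lit 2, nat_lit 1, nat_lit 0, nat_lit 8, nat_lit 5, nat_lit 3, nat_lit 2, nat_lit 1, nat_lit 0, nat_lit 8, nat_lit 5, nat_lit 3, nat_lit 2, nat_lit 1, nat_lit 0, nat_lit 8, nat_lit 4, nat_lit 6, nat_lit 4, nat_lit 5, nat_lit 3, nat_lit 2, nat_lit 1, nat_lit 0, nat_lit 8, nat_lit 5, nat_lit 3, nat_lit 2, nat_lit 1,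 nat_lit 0, nat_lit 8, nat_lit 5, nat_lit 3, nat_lit 2, nat_lit 1, nat_lit 0, nat_lit 8, nat_lit 5, nat_lit 3, nat_lit 2, nat_lit 1, nat_lit 0, nat_lit 8, nat_lit 5, nat_lit 3, nat_lit 2, nat_lit 1, nat_lit 0, nat_lit 8, nat_lit 3, nat_lit 4, nat_lit 7, nat_lit 2, nat_lit 3, nat_lit 5, nat_lit 2, nat_lit 1, nat_lit 2, nat_lit 5, nat_lit 3, nat_lit 2, nat_lit 5, nat_lit 3, nat_lit 1, nat_lit 7, nat_lit 4, nat_lit 5, nat_lit 3, nat_lit 2, nat_lit 1, nat_lit 0, nat_lit 8, nat_lit 5, nat_lit 3, nat_lit 2, nat_lit 1, nat_lit 0, nat_lit 8, nat_lit 5, nat_lit 3, nat_lit 2, nat_lit 1, nat_lit 0, nat_lit 8, nat_lit 5, nat_lit 3, nat_lit 2, nat_lit 1, nat_lit 0, nat_lit 8, nat_lit 5, nat_lit 3, nat_lit 2, nat_lit 1, nat_lit 0, nat_lit 8, nat_lit 2, nat_lit 3, nat_lit 5, nat_lit 2, nat_lit 1, nat_lit 2, nat_lit 5, nat_lit 3, nat_lit 2, nat_lit 5, nat_lit 3, nat_lit 1, nat_lit 6, nat_lit 7, nat_lit 4, nat_lit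 2, nat_lit 3, nat_lit 5, nat_lit 2, nat_lit 1, nat_lit 2, nat_lit 5, nat_lit 3, nat_lit 2, nat_lit 5, nat_lit 3, nat_lit 1, nat_lit 7, nat_lit 2, nat_lit 3, nat_lit 4, nat_lit 5, nat_lit 3, nat_lit 2, nat_lit 1, nat_lit 0, nat_lit 8, nat_lit 5, nat_lit 3, nat_lit 2, nat_lit 1, nat_lit 0, nat_lit 8, nat_lit 5, nat_lit 3, nat_lit 2, nat_lit 1, nat_lit 0, nat_lit 8, nat_lit 5, nat_lit 3, nat_lit 2, nat_lit 1, nat_lit 0, nat_lit 8, nat_lit 5, nat_lit 3, nat_lit 2, nat_lit 1, nat_lit 0, nat_lit 8, nat_lit 1, nat_lit 2, nat_lit 0, nat_lit 1, nat_lit 2, nat_lit 3, nat_lit 5, nat_lit 7, nat_lit 4, nat_lit 6, nat_lit 2, nat_lit 1, nat_lit 3, nat_lit 5, nat_lit 4, nat_lit 2, nat_lit 1, nat_lit 3, nat_lit 5, nat_lit 4, nat_lit 2, nat_lit 0, nat_lit 1, nat_lit 2, nat_lit 3, nat_lit 5, nat_lit 7, nat_lit 4, nat_lit 6, nat_lit 2, nat_lit 3],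
  [nat_lit 2, nat_lit 4, nat_lit 1, nat_lit 8, nat_lit 5, nat_lit 3, nat_lit 2, nat_lit 1, nat_lit 0, nat_lit 8, nat_lit 5, nat_lit 3, nat_lit 2, nat_lit 1, nat_lit 0, nat_lit 8, nat_lit 5, nat_lit 3, nat_lit 2, nat_lit 1, nat_lit 0, nat_lit 8, nat_lit 5, nat_lit 3, nat_lit 2, nat_lit 1, nat_lit 0, nat_lit 8, nat_lit 5, nat_lit 3, nat_lit 2, nat_lit 1, nat_lit 0, nat_lit 8, nat_lit 6, nat_lit 4, nat_lit 3, nat_lit 5, nat_lit 3, nat_lit 2, nat_lit 1, nat_lit 0, nat_lit 8, nat_lit 5, nat_lit 3, nat_lit 2, nat_lit 1, nat_lit 0, nat_lit 8, nat_lit 5, nat_lit 3, nat_lit 2, nat_lit 1, nat_lit 0, nat_lit 8, nat_lit 5, nat_lit 3, nat_lit 2, nat_lit 1, nat_lit 0, nat_lit 8, nat_lit 5, nat_lit 3, nat_lit 2, nat_lit 1, nat_lit 0, nat_lit 8, nat_lit 4, nat_lit 6, nat_lit 4, nat_lit 5, nat_lit 3, nat_lit 2, nat_lit 1, nat_lit 0, nat_lit 8, nat_lit 5, nat_lit 3, nat_lit 2, nat_lit 1, nat_lit 0, nat_lit 8,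 nat_lit 5, nat_lit 3, nat_lit 2, nat_lit 1, nat_lit 0, nat_lit 8, nat_lit 5, nat_lit 3, nat_lit 2, nat_lit 1, nat_lit 0, nat_lit 8, nat_lit 5, nat_lit 3, nat_lit 2, nat_lit 1, nat_lit 0, nat_lit 8, nat_lit 3, nat_lit 4, nat_lit 3, nat_lit 5, nat_lit 7, nat_lit 5, nat_lit 4, nat_lit 5, nat_lit 3, nat_lit 2, nat_lit 1, nat_lit 0, nat_lit 8, nat_lit 5, nat_lit 3, nat_lit 2, nat_lit 1, nat_lit 0, nat_lit 8, nat_lit 5, nat_lit 3, nat_lit 2, nat_lit 1, nat_lit 0, nat_lit 8, nat_lit 5, nat_lit 3, nat_lit 2, nat_lit 1, nat_lit 0, nat_lit 8, nat_lit 5, nat_lit 3, nat_lit 2, nat_lit 1, nat_lit 0, nat_lit 8, nat_lit 2, nat_lit 3, nat_lit 5, nat_lit 2, nat_lit 1, nat_lit 2, nat_lit 5, nat_lit 3, nat_lit 2, nat_lit 5, nat_lit 3, nat_lit 1, nat_lit 6, nat_lit 7, nat_lit 4, nat_lit 2, nat_lit 3, nat_lit 5, nat_lit 2, nat_lit 1, nat_lit 2, nat_lit 5, nat_lit 3, nat_lit 2, nat_lit 5, nat_lit 3, nat_lit 1, nat_lit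 4, nat_lit 6, nat_lit 3, nat_lit 2, nat_lit 3, nat_lit 4, nat_lit 5, nat_lit 3, nat_lit 2, nat_lit 1, nat_lit 0, nat_lit 8, nat_lit 5, nat_lit 3, nat_lit 2, nat_lit 1, nat_lit 0, nat_lit 8, nat_lit 5, nat_lit 3, nat_lit 2, nat_lit 1, nat_lit 0, nat_lit 8, nat_lit 5, nat_lit 3, nat_lit 2, nat_lit 1, nat_lit 0, nat_lit 8, nat_lit 5, nat_lit 3, nat_lit 2, nat_lit 1, nat_lit 0, nat_lit 8, nat_lit 6, nat_lit 1, nat_lit 5, nat_lit 4, nat_lit 0, nat_lit 1, nat_lit 2, nat_lit 3, nat_lit 5, nat_lit 7, nat_lit 4, nat_lit 6, nat_lit 2, nat_lit 1, nat_lit 5, nat_lit 2, nat_lit 3, nat_lit 4, nat_lit 0, nat_lit 2, nat_lit 1],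
  [nat_lit 2, nat_lit 6, nat_lit 1, nat_lit 4, nat_lit 5, nat_lit 3, nat_lit 2, nat_lit 1, nat_lit 0, nat_lit 8, nat_lit 5, nat_lit 3, nat_lit 2, nat_lit 1, nat_lit 0, nat_lit 8, nat_lit 5, nat_lit 3, nat_lit 2, nat_lit 1, nat_lit 0, nat_lit 8, nat_lit 5, nat_lit 3, nat_lit 2, nat_lit 1, nat_lit 0, nat_lit 8, nat_lit 5, nat_lit 3, nat_lit 2, nat_lit 1, nat_lit 0, nat_lit 8, nat_lit 3, nat_lit 7, nat_lit 2, nat_lit 3, nat_lit 4, nat_lit 5, nat_lit 3, nat_lit 2, nat_lit 1, nat_lit 0, nat_lit 8, nat_lit 5, nat_lit 3, nat_lit 2, nat_lit 1, nat_lit 0, nat_lit 8, nat_lit 5, nat_lit 3, nat_lit 2, nat_lit 1, nat_lit 0, nat_lit 8, nat_lit 5, nat_lit 3, nat_lit 2, nat_lit 1, nat_lit 0, nat_lit 8, nat_lit 5, nat_lit 3, nat_lit 2, nat_lit 1, nat_lit 0, nat_lit 8, nat_lit 6, nat_lit 7, nat_lit 5, nat_lit 4, nat_lit 2, nat_lit 1, nat_lit 3, nat_lit 4, nat_lit 6, nat_lit 2, nat_lit 3, nat_lit 5, nat_lit 7,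 nat_lit 4, nat_lit 0, nat_lit 1, nat_lit 2, nat_lit 3, nat_lit 5, nat_lit 7, nat_lit 4, nat_lit 2, nat_lit 3, nat_lit 5, nat_lit 1, nat_lit 4, nat_lit 0],
  [nat_lit 2, nat_lit 0, nat_lit 8, nat_lit 3, nat_lit 6, nat_lit 2, nat_lit 3, nat_lit 5, nat_lit 2, nat_lit 1, nat_lit 2, nat_lit 5, nat_lit 3, nat_lit 2, nat_lit 5, nat_lit 3, nat_lit 1, nat_lit 7, nat_lit 3, nat_lit 2, nat_lit 1, nat_lit 0, nat_lit 8, nat_lit 5, nat_lit 3, nat_lit 2, nat_lit 1, nat_lit 0, nat_lit 8, nat_lit 5, nat_lit 3, nat_lit 2, nat_lit 1, nat_lit 0, nat_lit 8, nat_lit 5, nat_lit 3, nat_lit 2, nat_lit 1, nat_lit 0, nat_lit 8, nat_lit 5, nat_lit 3, nat_lit 2, nat_lit 1, nat_lit 0, nat_lit 8, nat_lit 2, nat_lit 1, nat_lit 3, nat_lit 2, nat_lit 4, nat_lit 3, nat_lit 6, nat_lit 4, nat_lit 3, nat_lit 5, nat_lit 3, nat_lit 2, nat_lit 1, nat_lit 0, nat_lit 8, nat_lit 5, nat_lit 3, nat_lit 2, nat_lit 1, nat_lit 0, nat_lit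 8, nat_lit 5, nat_lit 3, nat_lit 2, nat_lit 1, nat_lit 0, nat_lit 8, nat_lit 5, nat_lit 3, nat_lit 2, nat_lit 1, nat_lit 0, nat_lit 8, nat_lit 5, nat_lit 3, nat_lit 2, nat_lit 1, nat_lit 0, nat_lit 8, nat_lit 7, nat_lit 5, nat_lit 3, nat_lit 2, nat_lit 1, nat_lit 0, nat_lit 8, nat_lit 5, nat_lit 3, nat_lit 2, nat_lit 1, nat_lit 0, nat_lit 8, nat_lit 5, nat_lit 3, nat_lit 2, nat_lit 1, nat_lit 0, nat_lit 8, nat_lit 5, nat_lit 3, nat_lit 2, nat_lit 1, nat_lit 0, nat_lit 8, nat_lit 5, nat_lit 3, nat_lit 2, nat_lit 1, nat_lit 0, nat_lit 8, nat_lit 4, nat_lit 6, nat_lit 3, nat_lit 4, nat_lit 2, nat_lit 5, nat_lit 3, nat_lit 5, nat_lit 1, nat_lit 2, nat_lit 5, nat_lit 3, nat_lit 2, nat_lit 1, nat_lit 0, nat_lit 8, nat_lit 5, nat_lit 3, nat_lit 2, nat_lit 1, nat_lit 0, nat_lit 8, nat_lit 5, nat_lit 3, nat_lit 2, nat_lit 1, nat_lit 0, nat_lit 8, nat_lit 5, nat_lit 3, nat_lit 2, nat_lit 1, nat_lit 0,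 nat_lit 8, nat_lit 5, nat_lit 3, nat_lit 2, nat_lit 1, nat_lit 0, nat_lit 8, nat_lit 3, nat_lit 2, nat_lit 1, nat_lit 0, nat_lit 8, nat_lit 5, nat_lit 3, nat_lit 2, nat_lit 1, nat_lit 0, nat_lit 8, nat_lit 5, nat_lit 3, nat_lit 2, nat_lit 1, nat_lit 0, nat_lit 8, nat_lit 5, nat_lit 3, nat_lit 2, nat_lit 1, nat_lit 0, nat_lit 8, nat_lit 5, nat_lit 3, nat_lit 2, nat_lit 1, nat_lit 0, nat_lit 8, nat_lit 2, nat_lit 3, nat_lit 5, nat_lit 2, nat_lit 1, nat_lit 2, nat_lit 5, nat_lit 3, nat_lit 2, nat_lit 5, nat_lit 3, nat_lit 1, nat_lit 4, nat_lit 5, nat_lit 3, nat_lit 2, nat_lit 1, nat_lit 0, nat_lit 8, nat_lit 5, nat_lit 3, nat_lit 2, nat_lit 1, nat_lit 0, nat_lit 8, nat_lit 5, nat_lit 3, nat_lit 2, nat_lit 1, nat_lit 0, nat_lit 8, nat_lit 5, nat_lit 3, nat_lit 2, nat_lit 1, nat_lit 0, nat_lit 8, nat_lit 5, nat_lit 3, nat_lit 2, nat_lit 1, nat_lit 0, nat_lit 8, nat_lit 6, nat_lit 3, nat_lit 7, nat_lit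 5, nat_lit 2, nat_lit 1, nat_lit 0, nat_lit 1, nat_lit 2, nat_lit 3, nat_lit 5, nat_lit 7, nat_lit 4, nat_lit 6, nat_lit 2, nat_lit 1, nat_lit 3, nat_lit 5, nat_lit 4, nat_lit 2, nat_lit 3, nat_lit 4, nat_lit 0, nat_lit 1, nat_lit 2, nat_lit 3, nat_lit 5, nat_lit 2, nat_lit 1],
  [nat_lit 5, nat_lit 1, nat_lit 3, nat_lit 7, nat_lit 0, nat_lit 3, nat_lit 2, nat_lit 3, nat_lit 5, nat_lit 2, nat_lit 1, nat_lit 2, nat_lit 5, nat_lit 3, nat_lit 2, nat_lit 5, nat_lit 3, nat_lit 1, nat_lit 6, nat_lit 4, nat_lit 3, nat_lit 5, nat_lit 3, nat_lit 2, nat_lit 1, nat_lit 0, nat_lit 8, nat_lit 5, nat_lit 3, nat_lit 2, nat_lit 1, nat_lit 0, nat_lit 8, nat_lit 5, nat_lit 3, nat_lit 2, nat_lit 1, nat_lit 0, nat_lit 8, nat_lit 5, nat_lit 3, nat_lit 2, nat_lit 1, nat_lit 0, nat_lit 8, nat_lit 5, nat_lit 3, nat_lit 2, nat_lit 1, nat_lit 0, nat_lit 8, nat_lit 4, nat_lit 6, nat_lit 4, nat_lit 5, nat_lit 3, nat_lit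 2, nat_lit 1, nat_lit 0, nat_lit 8, nat_lit 5, nat_lit 3, nat_lit 2, nat_lit 1, nat_lit 0, nat_lit 8, nat_lit 5, nat_lit 3, nat_lit 2, nat_lit 1, nat_lit 0, nat_lit 8, nat_lit 5, nat_lit 3, nat_lit 2, nat_lit 1, nat_lit 0, nat_lit 8, nat_lit 5, nat_lit 3, nat_lit 2, nat_lit 1, nat_lit 0, nat_lit 8, nat_lit 3, nat_lit 4, nat_lit 1, nat_lit 3, nat_lit 7, nat_lit 2, nat_lit 3, nat_lit 5, nat_lit 2, nat_lit 1, nat_lit 2, nat_lit 5, nat_lit 3, nat_lit 2, nat_lit 5, nat_lit 3, nat_lit 1, nat_lit 7, nat_lit 4, nat_lit 5, nat_lit 3, nat_lit 2, nat_lit 1, nat_lit 0, nat_lit 8, nat_lit 5, nat_lit 3, nat_lit 2, nat_lit 1, nat_lit 0, nat_lit 8, nat_lit 5, nat_lit 3, nat_lit 2, nat_lit 1, nat_lit 0, nat_lit 8, nat_lit 5, nat_lit 3, nat_lit 2, nat_lit 1, nat_lit 0, nat_lit 8, nat_lit 5, nat_lit 3, nat_lit 2, nat_lit 1, nat_lit 0, nat_lit 8, nat_lit 2, nat_lit 3, nat_lit 5, nat_lit 2, nat_lit 1, nat_lit 2,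 nat_lit 5, nat_lit 3, nat_lit 2, nat_lit 5, nat_lit 3, nat_lit 1, nat_lit 6, nat_lit 7, nat_lit 5, nat_lit 2, nat_lit 3, nat_lit 4, nat_lit 5, nat_lit 3, nat_lit 2, nat_lit 1, nat_lit 0, nat_lit 8, nat_lit 5, nat_lit 3, nat_lit 2, nat_lit 1, nat_lit 0, nat_lit 8, nat_lit 5, nat_lit 3, nat_lit 2, nat_lit 1, nat_lit 0, nat_lit 8, nat_lit 5, nat_lit 3, nat_lit 2, nat_lit 1, nat_lit 0, nat_lit 8, nat_lit 5, nat_lit 3, nat_lit 2, nat_lit 1, nat_lit 0, nat_lit 8, nat_lit 6, nat_lit 4, nat_lit 3, nat_lit 2, nat_lit 0, nat_lit 1, nat_lit 2, nat_lit 3, nat_lit 5, nat_lit 7, nat_lit 4, nat_lit 6, nat_lit 2, nat_lit 1, nat_lit 3, nat_lit 5, nat_lit 4, nat_lit 2, nat_lit 3, nat_lit 5, nat_lit 7, nat_lit 4, nat_lit 6, nat_lit 0, nat_lit 1, nat_lit 2, nat_lit 3, nat_lit 5, nat_lit 7, nat_lit 2, nat_lit 1],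
  [nat_lit 2, nat_lit 7, nat_lit 2, nat_lit 4, nat_lit 7, nat_lit 2, nat_lit 3, nat_lit 5, nat_lit 2, nat_lit 1, nat_lit 2, nat_lit 5, nat_lit 3, nat_lit 2, nat_lit 5, nat_lit 3, nat_lit 5, nat_lit 7, nat_lit 4, nat_lit 3, nat_lit 5, nat_lit 3, nat_lit 2, nat_lit 1, nat_lit 0, nat_lit 8, nat_lit 5, nat_lit 3, nat_lit 2, nat_lit 1, nat_lit 0, nat_lit 8, nat_lit 5, nat_lit 3, nat_lit 2, nat_lit 1, nat_lit 0, nat_lit 8, nat_lit 5, nat_lit 3, nat_lit 2, nat_lit 1, nat_lit 0, nat_lit 8, nat_lit 5, nat_lit 3, nat_lit 2, nat_lit 1, nat_lit 0, nat_lit 8, nat_lit 4, nat_lit 6, nat_lit 4, nat_lit 5, nat_lit 3, nat_lit 2, nat_lit 1, nat_lit 0, nat_lit 8, nat_lit 5, nat_lit 3, nat_lit 2, nat_lit 1, nat_lit 0, nat_lit 8, nat_lit 5, nat_lit 3, nat_lit 2, nat_lit 1, nat_lit 0, nat_lit 8, nat_lit 5, nat_lit 3, nat_lit 2, nat_lit 1, nat_lit 0, nat_lit 8, nat_lit 5, nat_lit 3, nat_lit 2, nat_lit 1, nat_lit 0,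 nat_lit 8, nat_lit 3, nat_lit 4, nat_lit 5, nat_lit 3, nat_lit 2, nat_lit 1, nat_lit 0, nat_lit 8, nat_lit 5, nat_lit 3, nat_lit 2, nat_lit 1, nat_lit 0, nat_lit 8, nat_lit 5, nat_lit 3, nat_lit 2, nat_lit 1, nat_lit 0, nat_lit 8, nat_lit 5, nat_lit 3, nat_lit 2, nat_lit 1, nat_lit 0, nat_lit 8, nat_lit 5, nat_lit 3, nat_lit 2, nat_lit 1, nat_lit 0, nat_lit 8, nat_lit 4, nat_lit 5, nat_lit 3, nat_lit 2, nat_lit 1, nat_lit 0, nat_lit 8, nat_lit 5, nat_lit 3, nat_lit 2, nat_lit 1, nat_lit 0, nat_lit 8, nat_lit 5, nat_lit 3, nat_lit 2, nat_lit 1, nat_lit 0, nat_lit 8, nat_lit 5, nat_lit 3, nat_lit 2, nat_lit 1, nat_lit 0, nat_lit 8, nat_lit 5, nat_lit 3, nat_lit 2, nat_lit 1, nat_lit 0, nat_lit 8, nat_lit 2, nat_lit 3, nat_lit 5, nat_lit 2, nat_lit 1, nat_lit 2, nat_lit 5, nat_lit 3, nat_lit 2, nat_lit 5, nat_lit 3, nat_lit 1, nat_lit 6, nat_lit 7, nat_lit 4, nat_lit 2, nat_lit 3, nat_lit 5, nat_lit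 2, nat_lit 1, nat_lit 2, nat_lit 5, nat_lit 3, nat_lit 2, nat_lit 5, nat_lit 3, nat_lit 1, nat_lit 5, nat_lit 4, nat_lit 6, nat_lit 3, nat_lit 4, nat_lit 2, nat_lit 3, nat_lit 4, nat_lit 5, nat_lit 3, nat_lit 2, nat_lit 1, nat_lit 0, nat_lit 8, nat_lit 5, nat_lit 3, nat_lit 2, nat_lit 1, nat_lit 0, nat_lit 8, nat_lit 5, nat_lit 3, nat_lit 2, nat_lit 1, nat_lit 0, nat_lit 8, nat_lit 5, nat_lit 3, nat_lit 2, nat_lit 1, nat_lit 0, nat_lit 8, nat_lit 5, nat_lit 3, nat_lit 2, nat_lit 1, nat_lit 0, nat_lit 8, nat_lit 6, nat_lit 7, nat_lit 5, nat_lit 2, nat_lit 1, nat_lit 3, nat_lit 4, nat_lit 2, nat_lit 3, nat_lit 5, nat_lit 2, nat_lit 0, nat_lit 8, nat_lit 1, nat_lit 2, nat_lit 3, nat_lit 5, nat_lit 7, nat_lit 2, nat_lit 1, nat_lit 5, nat_lit 2, nat_lit 0, nat_lit 8],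
  [nat_lit 7, nat_lit 3, nat_lit 5, nat_lit 2, nat_lit 8, nat_lit 4, nat_lit 3, nat_lit 8, nat_lit 2, nat_lit 3, nat_lit 5, nat_lit 2, nat_lit 1, nat_lit 2, nat_lit 5, nat_lit 3, nat_lit 2, nat_lit 5, nat_lit 4, nat_lit 5, nat_lit 3, nat_lit 2, nat_lit 1, nat_lit 0, nat_lit 8, nat_lit 5, nat_lit 3, nat_lit 2, nat_lit 1, nat_lit 0, nat_lit 8, nat_lit 5, nat_lit 3, nat_lit 2, nat_lit 1, nat_lit 0, nat_lit 8, nat_lit 5, nat_lit 3, nat_lit 2, nat_lit 1, nat_lit 0, nat_lit 8, nat_lit 5, nat_lit 3, nat_lit 2, nat_lit 1, nat_lit 0, nat_lit 8, nat_lit 7, nat_lit 2, nat_lit 3, nat_lit 5, nat_lit 2, nat_lit 1, nat_lit 2, nat_lit 5, nat_lit 3, nat_lit 2, nat_lit 5, nat_lit 3, nat_lit 1, nat_lit 6, nat_lit 7, nat_lit 5, nat_lit 2, nat_lit 3, nat_lit 4, nat_lit 5, nat_lit 3, nat_lit 2, nat_lit 1, nat_lit 0, nat_lit 8, nat_lit 5, nat_lit 3, nat_lit 2, nat_lit 1, nat_lit 0, nat_lit 8, nat_lit 5, nat_lit 3,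 nat_lit 2, nat_lit 1, nat_lit 0, nat_lit 8, nat_lit 5, nat_lit 3, nat_lit 2, nat_lit 1, nat_lit 0, nat_lit 8, nat_lit 5, nat_lit 3, nat_lit 2, nat_lit 1, nat_lit 0, nat_lit 8, nat_lit 6, nat_lit 5, nat_lit 7, nat_lit 5, nat_lit 4, nat_lit 2, nat_lit 3, nat_lit 4, nat_lit 0, nat_lit 8, nat_lit 1, nat_lit 2, nat_lit 3, nat_lit 5, nat_lit 7, nat_lit 2, nat_lit 1, nat_lit 5, nat_lit 2, nat_lit 3, nat_lit 4],
  [nat_lit 4, nat_lit 5, nat_lit 1, nat_lit 2, nat_lit 6, nat_lit 8, nat_lit 6, nat_lit 1, nat_lit 3, nat_lit 7, nat_lit 4, nat_lit 3, nat_lit 5, nat_lit 3, nat_lit 2, nat_lit 1, nat_lit 0, nat_lit 8, nat_lit 5, nat_lit 3, nat_lit 2, nat_lit 1, nat_lit 0, nat_lit 8, nat_lit 5, nat_lit 3, nat_lit 2, nat_lit 1, nat_lit 0, nat_lit 8, nat_lit 5, nat_lit 3, nat_lit 2, nat_lit 1, nat_lit 0, nat_lit 8, nat_lit 5, nat_lit 3, nat_lit 2, nat_lit 1, nat_lit 0, nat_lit 8, nat_lit 4, nat_lit 6, nat_lit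 4, nat_lit 5, nat_lit 3, nat_lit 2, nat_lit 1, nat_lit 0, nat_lit 8, nat_lit 5, nat_lit 3, nat_lit 2, nat_lit 1, nat_lit 0, nat_lit 8, nat_lit 5, nat_lit 3, nat_lit 2, nat_lit 1, nat_lit 0, nat_lit 8, nat_lit 5, nat_lit 3, nat_lit 2, nat_lit 1, nat_lit 0, nat_lit 8, nat_lit 5, nat_lit 3, nat_lit 2, nat_lit 1, nat_lit 0, nat_lit 8, nat_lit 3, nat_lit 4, nat_lit 2, nat_lit 3, nat_lit 5, nat_lit 2, nat_lit 1, nat_lit 2, nat_lit 5, nat_lit 3, nat_lit 2, nat_lit 5, nat_lit 3, nat_lit 1, nat_lit 5, nat_lit 7, nat_lit 4, nat_lit 5, nat_lit 3, nat_lit 2, nat_lit 1, nat_lit 0, nat_lit 8, nat_lit 5, nat_lit 3, nat_lit 2, nat_lit 1, nat_lit 0, nat_lit 8, nat_lit 5, nat_lit 3, nat_lit 2, nat_lit 1, nat_lit 0, nat_lit 8, nat_lit 5, nat_lit 3, nat_lit 2, nat_lit 1, nat_lit 0, nat_lit 8, nat_lit 5, nat_lit 3, nat_lit 2, nat_lit 1, nat_lit 0, nat_lit 8, nat_lit 6, nat_lit 7, nat_lit 4, nat_lit 2, nat_lit 3,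 nat_lit 5, nat_lit 2, nat_lit 1, nat_lit 2, nat_lit 5, nat_lit 3, nat_lit 2, nat_lit 5, nat_lit 3, nat_lit 1, nat_lit 4, nat_lit 3, nat_lit 2, nat_lit 3, nat_lit 4, nat_lit 5, nat_lit 3, nat_lit 2, nat_lit 1, nat_lit 0, nat_lit 8, nat_lit 5, nat_lit 3, nat_lit 2, nat_lit 1, nat_lit 0, nat_lit 8, nat_lit 5, nat_lit 3, nat_lit 2, nat_lit 1, nat_lit 0, nat_lit 8, nat_lit 5, nat_lit 3, nat_lit 2, nat_lit 1, nat_lit 0, nat_lit 8, nat_lit 5, nat_lit 3, nat_lit 2, nat_lit 1, nat_lit 0, nat_lit 8, nat_lit 6, nat_lit 7, nat_lit 5, nat_lit 4, nat_lit 3, nat_lit 2, nat_lit 1, nat_lit 3, nat_lit 5, nat_lit 4, nat_lit 6, nat_lit 2, nat_lit 5, nat_lit 0, nat_lit 1, nat_lit 2, nat_lit 3, nat_lit 5, nat_lit 7, nat_lit 4, nat_lit 6, nat_lit 2, nat_lit 1, nat_lit 3, nat_lit 5, nat_lit 4, nat_lit 2, nat_lit 1, nat_lit 3, nat_lit 5, nat_lit 7, nat_lit 4, nat_lit 2, nat_lit 5, nat_lit 0, nat_lit 1, nat_lit 2, nat_lit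 3, nat_lit 5, nat_lit 7, nat_lit 4, nat_lit 2, nat_lit 0, nat_lit 5, nat_lit 6, nat_lit 4, nat_lit 5],
  [nat_lit 4, nat_lit 1, nat_lit 7, nat_lit 6, nat_lit 3, nat_lit 5, nat_lit 7, nat_lit 4, nat_lit 3, nat_lit 5, nat_lit 3, nat_lit 2, nat_lit 1, nat_lit 0, nat_lit 8, nat_lit 5, nat_lit 3, nat_lit 2, nat_lit 1, nat_lit 0, nat_lit 8, nat_lit 5, nat_lit 3, nat_lit 2, nat_lit 1, nat_lit 0, nat_lit 8, nat_lit 5, nat_lit 3, nat_lit 2, nat_lit 1, nat_lit 0, nat_lit 8, nat_lit 5, nat_lit 3, nat_lit 2, nat_lit 1, nat_lit 0, nat_lit 8, nat_lit 4, nat_lit 6, nat_lit 4, nat_lit 5, nat_lit 3, nat_lit 2, nat_lit 1, nat_lit 0, nat_lit 8, nat_lit 5, nat_lit 3, nat_lit 2, nat_lit 1, nat_lit 0, nat_lit 8, nat_lit 5, nat_lit 3, nat_lit 2, nat_lit 1, nat_lit 0, nat_lit 8, nat_lit 5, nat_lit 3, nat_lit 2, nat_lit 1, nat_lit 0, nat_lit 8, nat_lit 5, nat_lit 3, nat_lit 2, nat_lit 1, nat_lit 0, nat_lit 8, nat_lit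 3, nat_lit 2, nat_lit 3, nat_lit 5, nat_lit 2, nat_lit 1, nat_lit 2, nat_lit 5, nat_lit 3, nat_lit 2, nat_lit 5, nat_lit 3, nat_lit 1, nat_lit 7, nat_lit 5, nat_lit 4, nat_lit 2, nat_lit 3, nat_lit 4, nat_lit 5, nat_lit 3, nat_lit 2, nat_lit 1, nat_lit 0, nat_lit 8, nat_lit 5, nat_lit 3, nat_lit 2, nat_lit 1, nat_lit 0, nat_lit 8, nat_lit 5, nat_lit 3, nat_lit 2, nat_lit 1, nat_lit 0, nat_lit 8, nat_lit 5, nat_lit 3, nat_lit 2, nat_lit 1, nat_lit 0, nat_lit 8, nat_lit 5, nat_lit 3, nat_lit 2, nat_lit 1, nat_lit 0, nat_lit 8, nat_lit 6, nat_lit 5, nat_lit 7, nat_lit 4, nat_lit 2, nat_lit 0, nat_lit 8, nat_lit 1, nat_lit 2, nat_lit 3, nat_lit 5, nat_lit 7, nat_lit 2, nat_lit 1, nat_lit 5, nat_lit 2, nat_lit 7, nat_lit 7, nat_lit 7],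
  [nat_lit 1, nat_lit 5, nat_lit 0, nat_lit 2, nat_lit 2, nat_lit 3, nat_lit 5, nat_lit 2, nat_lit 1, nat_lit 2, nat_lit 5, nat_lit 3, nat_lit 2, nat_lit 5, nat_lit 3, nat_lit 1, nat_lit 6, nat_lit 3, nat_lit 5, nat_lit 7, nat_lit 5, nat_lit 3, nat_lit 2, nat_lit 1, nat_lit 0, nat_lit 8, nat_lit 5, nat_lit 3, nat_lit 2, nat_lit 1, nat_lit 0, nat_lit 8, nat_lit 5, nat_lit 3, nat_lit 2, nat_lit 1, nat_lit 0, nat_lit 8, nat_lit 5, nat_lit 3, nat_lit 2, nat_lit 1, nat_lit 0, nat_lit 8, nat_lit 5, nat_lit 3, nat_lit 2, nat_lit 1, nat_lit 0, nat_lit 8, nat_lit 2, nat_lit 3, nat_lit 5, nat_lit 2, nat_lit 1, nat_lit 2, nat_lit 5, nat_lit 3, nat_lit 2, nat_lit 5, nat_lit 3, nat_lit 1, nat_lit 5, nat_lit 7, nat_lit 4, nat_lit 2, nat_lit 3, nat_lit 5, nat_lit 2, nat_lit 1, nat_lit 2, nat_lit 5, nat_lit 3, nat_lit 2, nat_lit 5, nat_lit 3, nat_lit 1, nat_lit 3, nat_lit 7, nat_lit 2, nat_lit 3, nat_lit 4,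 nat_lit 5, nat_lit 3, nat_lit 2, nat_lit 1, nat_lit 0, nat_lit 8, nat_lit 5, nat_lit 3, nat_lit 2, nat_lit 1, nat_lit 0, nat_lit 8, nat_lit 5, nat_lit 3, nat_lit 2, nat_lit 1, nat_lit 0, nat_lit 8, nat_lit 5, nat_lit 3, nat_lit 2, nat_lit 1, nat_lit 0, nat_lit 8, nat_lit 5, nat_lit 3, nat_lit 2, nat_lit 1, nat_lit 0, nat_lit 8, nat_lit 6, nat_lit 1, nat_lit 7, nat_lit 5, nat_lit 4, nat_lit 2, nat_lit 1, nat_lit 3, nat_lit 4, nat_lit 2, nat_lit 3, nat_lit 5, nat_lit 7, nat_lit 2, nat_lit 1, nat_lit 0, nat_lit 1, nat_lit 2, nat_lit 3, nat_lit 5, nat_lit 7, nat_lit 4, nat_lit 6, nat_lit 2, nat_lit 1, nat_lit 3, nat_lit 5, nat_lit 4, nat_lit 2, nat_lit 1, nat_lit 3, nat_lit 4, nat_lit 6, nat_lit 2, nat_lit 0, nat_lit 1, nat_lit 2, nat_lit 3, nat_lit 4, nat_lit 6, nat_lit 3, nat_lit 4],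
  [nat_lit 8, nat_lit 1, nat_lit 0, nat_lit 5, nat_lit 3, nat_lit 8, nat_lit 2, nat_lit 3, nat_lit 5, nat_lit 2, nat_lit 1, nat_lit 2, nat_lit 5, nat_lit 3, nat_lit 2, nat_lit 5, nat_lit 7, nat_lit 5, nat_lit 2, nat_lit 1, nat_lit 5, nat_lit 7, nat_lit 2, nat_lit 5, nat_lit 0, nat_lit 8, nat_lit 1, nat_lit 2, nat_lit 3, nat_lit 5, nat_lit 7, nat_lit 2, nat_lit 1, nat_lit 5, nat_lit 2, nat_lit 3, nat_lit 0, nat_lit 1, nat_lit 8],
  [nat_lit 4, nat_lit 5, nat_lit 8, nat_lit 1, nat_lit 5, nat_lit 7, nat_lit 2, nat_lit 3, nat_lit 5, nat_lit 2, nat_lit 1, nat_lit 2, nat_lit 5, nat_lit 3, nat_lit 2, nat_lit 5, nat_lit 3, nat_lit 1, nat_lit 4, nat_lit 2, nat_lit 3, nat_lit 5, nat_lit 2, nat_lit 1, nat_lit 2, nat_lit 5, nat_lit 3, nat_lit 2, nat_lit 5, nat_lit 3, nat_lit 1, nat_lit 6, nat_lit 7, nat_lit 5, nat_lit 2, nat_lit 3, nat_lit 4, nat_lit 5, nat_lit 3, nat_lit 2, nat_lit 1, nat_lit 0, nat_lit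 8, nat_lit 5, nat_lit 3, nat_lit 2, nat_lit 1, nat_lit 0, nat_lit 8, nat_lit 5, nat_lit 3, nat_lit 2, nat_lit 1, nat_lit 0, nat_lit 8, nat_lit 5, nat_lit 3, nat_lit 2, nat_lit 1, nat_lit 0, nat_lit 8, nat_lit 5, nat_lit 3, nat_lit 2, nat_lit 1, nat_lit 0, nat_lit 8, nat_lit 6, nat_lit 7, nat_lit 5, nat_lit 4, nat_lit 3, nat_lit 2, nat_lit 1, nat_lit 3, nat_lit 5, nat_lit 4, nat_lit 6, nat_lit 2, nat_lit 3, nat_lit 5, nat_lit 4, nat_lit 2, nat_lit 3, nat_lit 0, nat_lit 1, nat_lit 2, nat_lit 3, nat_lit 5, nat_lit 7, nat_lit 4, nat_lit 6, nat_lit 2, nat_lit 1, nat_lit 3, nat_lit 2, nat_lit 0, nat_lit 1, nat_lit 5, nat_lit 3, nat_lit 5],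
  [nat_lit 7, nat_lit 6, nat_lit 0, nat_lit 3, nat_lit 2, nat_lit 4, nat_lit 5, nat_lit 3, nat_lit 2, nat_lit 1, nat_lit 0, nat_lit 8, nat_lit 5, nat_lit 3, nat_lit 2, nat_lit 1, nat_lit 0, nat_lit 8, nat_lit 5, nat_lit 3, nat_lit 2, nat_lit 1, nat_lit 0, nat_lit 8, nat_lit 5, nat_lit 3, nat_lit 2, nat_lit 1, nat_lit 0, nat_lit 8, nat_lit 5, nat_lit 3, nat_lit 2, nat_lit 1, nat_lit 0, nat_lit 8, nat_lit 6, nat_lit 7, nat_lit 4, nat_lit 2, nat_lit 3, nat_lit 5, nat_lit 2, nat_lit 1, nat_lit 2, nat_lit 5, nat_lit 3, nat_lit 2, nat_lit 5, nat_lit 3, nat_lit 1, nat_lit 4, nat_lit 6, nat_lit 3, nat_lit 2, nat_lit 3, nat_lit 4, nat_lit 5, nat_lit 3, nat_lit 2, nat_lit 1, nat_lit 0, nat_lit 8, nat_lit 5, nat_lit 3, nat_lit 2, nat_lit 1, nat_lit 0, nat_lit 8, nat_lit 5, nat_lit 3, nat_lit 2, nat_lit 1, nat_lit 0, nat_lit 8, nat_lit 5, nat_lit 3, nat_lit 2, nat_lit 1, nat_lit 0, nat_lit 8, nat_lit 5,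 nat_lit 3, nat_lit 2, nat_lit 1, nat_lit 0, nat_lit 8, nat_lit 6, nat_lit 7, nat_lit 4, nat_lit 3, nat_lit 2, nat_lit 5, nat_lit 0, nat_lit 1, nat_lit 2, nat_lit 3, nat_lit 5, nat_lit 7, nat_lit 4, nat_lit 6, nat_lit 2, nat_lit 1, nat_lit 3, nat_lit 5, nat_lit 4, nat_lit 2, nat_lit 1, nat_lit 3, nat_lit 4, nat_lit 2, nat_lit 0, nat_lit 1, nat_lit 2, nat_lit 3, nat_lit 5, nat_lit 7, nat_lit 2, nat_lit 4, nat_lit 2, nat_lit 7, nat_lit 1],
  [nat_lit 2, nat_lit 1, nat_lit 3, nat_lit 5, nat_lit 7, nat_lit 5, nat_lit 3, nat_lit 2, nat_lit 1, nat_lit 0, nat_lit 8, nat_lit 5, nat_lit 3, nat_lit 2, nat_lit 1, nat_lit 0, nat_lit 8, nat_lit 5, nat_lit 3, nat_lit 2, nat_lit 1, nat_lit 0, nat_lit 8, nat_lit 5, nat_lit 3, nat_lit 2, nat_lit 1, nat_lit 0, nat_lit 8, nat_lit 5, nat_lit 3, nat_lit 2, nat_lit 1, nat_lit 0, nat_lit 8, nat_lit 5, nat_lit 7, nat_lit 4, nat_lit 2, nat_lit 3, nat_lit 5, nat_lit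 2, nat_lit 1, nat_lit 2, nat_lit 5, nat_lit 3, nat_lit 2, nat_lit 5, nat_lit 3, nat_lit 1, nat_lit 7, nat_lit 5, nat_lit 2, nat_lit 1, nat_lit 5, nat_lit 7, nat_lit 2, nat_lit 5, nat_lit 0, nat_lit 1, nat_lit 2, nat_lit 3, nat_lit 5, nat_lit 7, nat_lit 4, nat_lit 2, nat_lit 1, nat_lit 3, nat_lit 5, nat_lit 2, nat_lit 3, nat_lit 4, nat_lit 7]]
noncomputable def Fs2 : List (List ℕ) := [[nat_lit 8, nat_lit 5, nat_lit 8, nat_lit 7, nat_lit 2, nat_lit 1, nat_lit 2, nat_lit 3, nat_lit 5, nat_lit 2, nat_lit 1, nat_lit 2, nat_lit 5, nat_lit 3, nat_lit 2, nat_lit 5, nat_lit 3, nat_lit 1, nat_lit 6, nat_lit 1, nat_lit 5, nat_lit 7, nat_lit 2, nat_lit 3, nat_lit 5, nat_lit 2, nat_lit 1, nat_lit 2, nat_lit 5, nat_lit 3, nat_lit 2, nat_lit 5, nat_lit 3, nat_lit 1, nat_lit 7, nat_lit 4, nat_lit 5, nat_lit 3, nat_lit 2, nat_lit 1, nat_lit 0, nat_lit 8, nat_lit 5, nat_lit 3, nat_lit 2, nat_lit 1, nat_lit 0,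 nat_lit 8, nat_lit 5, nat_lit 3, nat_lit 2, nat_lit 1, nat_lit 0, nat_lit 8, nat_lit 5, nat_lit 3, nat_lit 2, nat_lit 1, nat_lit 0, nat_lit 8, nat_lit 5, nat_lit 3, nat_lit 2, nat_lit 1, nat_lit 0, nat_lit 8, nat_lit 6, nat_lit 7, nat_lit 4, nat_lit 5, nat_lit 3, nat_lit 2, nat_lit 1, nat_lit 0, nat_lit 8, nat_lit 5, nat_lit 3, nat_lit 2, nat_lit 1, nat_lit 0, nat_lit 8, nat_lit 5, nat_lit 3, nat_lit 2, nat_lit 1, nat_lit 0, nat_lit 8, nat_lit 5, nat_lit 3, nat_lit 2, nat_lit 1, nat_lit 0, nat_lit 8, nat_lit 5, nat_lit 3, nat_lit 2, nat_lit 1, nat_lit 0, nat_lit 8, nat_lit 2, nat_lit 3, nat_lit 5, nat_lit 2, nat_lit 1, nat_lit 2, nat_lit 5, nat_lit 3, nat_lit 2, nat_lit 5, nat_lit 3, nat_lit 1, nat_lit 4, nat_lit 3, nat_lit 2, nat_lit 3, nat_lit 4, nat_lit 5, nat_lit 3, nat_lit 2, nat_lit 1, nat_lit 0, nat_lit 8, nat_lit 5, nat_lit 3, nat_lit 2, nat_lit 1, nat_lit 0, nat_lit 8, nat_lit 5, nat_lit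 3, nat_lit 2, nat_lit 1, nat_lit 0, nat_lit 8, nat_lit 5, nat_lit 3, nat_lit 2, nat_lit 1, nat_lit 0, nat_lit 8, nat_lit 5, nat_lit 3, nat_lit 2, nat_lit 1, nat_lit 0, nat_lit 8, nat_lit 6, nat_lit 1, nat_lit 7, nat_lit 5, nat_lit 4, nat_lit 3, nat_lit 2, nat_lit 1, nat_lit 3, nat_lit 4, nat_lit 6, nat_lit 2, nat_lit 0, nat_lit 8, nat_lit 1, nat_lit 2, nat_lit 3, nat_lit 5, nat_lit 7, nat_lit 4, nat_lit 2, nat_lit 1, nat_lit 3, nat_lit 5, nat_lit 2, nat_lit 3, nat_lit 5, nat_lit 2, nat_lit 7, nat_lit 5],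
  [nat_lit 0, nat_lit 2, nat_lit 3, nat_lit 5, nat_lit 2, nat_lit 1, nat_lit 2, nat_lit 5, nat_lit 3, nat_lit 2, nat_lit 5, nat_lit 3, nat_lit 1, nat_lit 6, nat_lit 1, nat_lit 3, nat_lit 5, nat_lit 7, nat_lit 4, nat_lit 3, nat_lit 5, nat_lit 3, nat_lit 2, nat_lit 1, nat_lit 0, nat_lit 8, nat_lit 5, nat_lit 3, nat_lit 2, nat_lit 1, nat_lit 0, nat_lit 8, nat_lit 5, nat_lit 3, nat_lit 2, nat_lit 1, nat_lit 0, nat_lit 8, nat_lit 5, nat_lit 3, nat_lit 2, nat_lit 1, nat_lit 0, nat_lit 8, nat_lit 5, nat_lit 3, nat_lit 2, nat_lit 1, nat_lit 0, nat_lit 8, nat_lit 4, nat_lit 6, nat_lit 4, nat_lit 5, nat_lit 3, nat_lit 2, nat_lit 1, nat_lit 0, nat_lit 8, nat_lit 5, nat_lit 3, nat_lit 2, nat_lit 1, nat_lit 0, nat_lit 8, nat_lit 5, nat_lit 3, nat_lit 2, nat_lit 1, nat_lit 0, nat_lit 8, nat_lit 5, nat_lit 3, nat_lit 2, nat_lit 1, nat_lit 0, nat_lit 8, nat_lit 5, nat_lit 3, nat_lit 2, nat_lit 1, nat_lit 0,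 nat_lit 8, nat_lit 3, nat_lit 4, nat_lit 5, nat_lit 3, nat_lit 2, nat_lit 1, nat_lit 0, nat_lit 8, nat_lit 5, nat_lit 3, nat_lit 2, nat_lit 1, nat_lit 0, nat_lit 8, nat_lit 5, nat_lit 3, nat_lit 2, nat_lit 1, nat_lit 0, nat_lit 8, nat_lit 5, nat_lit 3, nat_lit 2, nat_lit 1, nat_lit 0, nat_lit 8, nat_lit 5, nat_lit 3, nat_lit 2, nat_lit 1, nat_lit 0, nat_lit 8, nat_lit 7, nat_lit 4, nat_lit 2, nat_lit 3, nat_lit 5, nat_lit 2, nat_lit 1, nat_lit 2, nat_lit 5, nat_lit 3, nat_lit 2, nat_lit 5, nat_lit 3, nat_lit 1, nat_lit 7, nat_lit 2, nat_lit 3, nat_lit 4, nat_lit 5, nat_lit 3, nat_lit 2, nat_lit 1, nat_lit 0, nat_lit 8, nat_lit 5, nat_lit 3, nat_lit 2, nat_lit 1, nat_lit 0, nat_lit 8, nat_lit 5, nat_lit 3, nat_lit 2, nat_lit 1, nat_lit 0, nat_lit 8, nat_lit 5, nat_lit 3, nat_lit 2, nat_lit 1, nat_lit 0, nat_lit 8, nat_lit 5, nat_lit 3, nat_lit 2, nat_lit 1, nat_lit 0, nat_lit 8, nat_lit 6, nat_lit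 1, nat_lit 5, nat_lit 7, nat_lit 5, nat_lit 4, nat_lit 3, nat_lit 2, nat_lit 1, nat_lit 3, nat_lit 5, nat_lit 4, nat_lit 2, nat_lit 3, nat_lit 5, nat_lit 7, nat_lit 2, nat_lit 1, nat_lit 0, nat_lit 1, nat_lit 2, nat_lit 3, nat_lit 5, nat_lit 7, nat_lit 4, nat_lit 6, nat_lit 2, nat_lit 1, nat_lit 3, nat_lit 5, nat_lit 4, nat_lit 2, nat_lit 3, nat_lit 5, nat_lit 4, nat_lit 6, nat_lit 0, nat_lit 1, nat_lit 2, nat_lit 3, nat_lit 4, nat_lit 5],
  [nat_lit 4, nat_lit 1, nat_lit 0, nat_lit 2, nat_lit 6, nat_lit 4, nat_lit 3, nat_lit 5, nat_lit 3, nat_lit 2, nat_lit 1, nat_lit 0, nat_lit 8, nat_lit 5, nat_lit 3, nat_lit 2, nat_lit 1, nat_lit 0, nat_lit 8, nat_lit 5, nat_lit 3, nat_lit 2, nat_lit 1, nat_lit 0, nat_lit 8, nat_lit 5, nat_lit 3, nat_lit 2, nat_lit 1, nat_lit 0, nat_lit 8, nat_lit 5, nat_lit 3, nat_lit 2, nat_lit 1, nat_lit 0, nat_lit 8, nat_lit 4, nat_lit 6, nat_lit 4, nat_lit 5, nat_lit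 3, nat_lit 2, nat_lit 1, nat_lit 0, nat_lit 8, nat_lit 5, nat_lit 3, nat_lit 2, nat_lit 1, nat_lit 0, nat_lit 8, nat_lit 5, nat_lit 3, nat_lit 2, nat_lit 1, nat_lit 0, nat_lit 8, nat_lit 5, nat_lit 3, nat_lit 2, nat_lit 1, nat_lit 0, nat_lit 8, nat_lit 5, nat_lit 3, nat_lit 2, nat_lit 1, nat_lit 0, nat_lit 8, nat_lit 3, nat_lit 4, nat_lit 3, nat_lit 7, nat_lit 4, nat_lit 5, nat_lit 3, nat_lit 2, nat_lit 1, nat_lit 0, nat_lit 8, nat_lit 5, nat_lit 3, nat_lit 2, nat_lit 1, nat_lit 0, nat_lit 8, nat_lit 5, nat_lit 3, nat_lit 2, nat_lit 1, nat_lit 0, nat_lit 8, nat_lit 5, nat_lit 3, nat_lit 2, nat_lit 1, nat_lit 0, nat_lit 8, nat_lit 5, nat_lit 3, nat_lit 2, nat_lit 1, nat_lit 0, nat_lit 8, nat_lit 6, nat_lit 7, nat_lit 5, nat_lit 4, nat_lit 2, nat_lit 3, nat_lit 4, nat_lit 5, nat_lit 3, nat_lit 2, nat_lit 1, nat_lit 0, nat_lit 8, nat_lit 5, nat_lit 3, nat_lit 2, nat_lit 1, nat_lit 0, nat_lit 8,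 nat_lit 5, nat_lit 3, nat_lit 2, nat_lit 1, nat_lit 0, nat_lit 8, nat_lit 5, nat_lit 3, nat_lit 2, nat_lit 1, nat_lit 0, nat_lit 8, nat_lit 5, nat_lit 3, nat_lit 2, nat_lit 1, nat_lit 0, nat_lit 8, nat_lit 6, nat_lit 7, nat_lit 5, nat_lit 4, nat_lit 3, nat_lit 2, nat_lit 3, nat_lit 0, nat_lit 1, nat_lit 2, nat_lit 3, nat_lit 5, nat_lit 7, nat_lit 4, nat_lit 6, nat_lit 2, nat_lit 1, nat_lit 3, nat_lit 5, nat_lit 4, nat_lit 2, nat_lit 1, nat_lit 3, nat_lit 5, nat_lit 7, nat_lit 4, nat_lit 2, nat_lit 5, nat_lit 0, nat_lit 8, nat_lit 1, nat_lit 2, nat_lit 3, nat_lit 5, nat_lit 7, nat_lit 4, nat_lit 6, nat_lit 2, nat_lit 5, nat_lit 7, nat_lit 1, nat_lit 3],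
  [nat_lit 1, nat_lit 3, nat_lit 0, nat_lit 8, nat_lit 6, nat_lit 4, nat_lit 3, nat_lit 5, nat_lit 3, nat_lit 2, nat_lit 1, nat_lit 0, nat_lit 8, nat_lit 5, nat_lit 3, nat_lit 2, nat_lit 1, nat_lit 0, nat_lit 8, nat_lit 5, nat_lit 3, nat_lit 2, nat_lit 1, nat_lit 0, nat_lit 8, nat_lit 5, nat_lit 3, nat_lit 2, nat_lit 1, nat_lit 0, nat_lit 8, nat_lit 5, nat_lit 3, nat_lit 2, nat_lit 1, nat_lit 0, nat_lit 8, nat_lit 4, nat_lit 6, nat_lit 4, nat_lit 5, nat_lit 3, nat_lit 2, nat_lit 1, nat_lit 0, nat_lit 8, nat_lit 5, nat_lit 3, nat_lit 2, nat_lit 1, nat_lit 0, nat_lit 8, nat_lit 5, nat_lit 3, nat_lit 2, nat_lit 1, nat_lit 0, nat_lit 8, nat_lit 5, nat_lit 3, nat_lit 2, nat_lit 1, nat_lit 0, nat_lit 8, nat_lit 5, nat_lit 3, nat_lit 2, nat_lit 1, nat_lit 0, nat_lit 8, nat_lit 3, nat_lit 4, nat_lit 1, nat_lit 3, nat_lit 7, nat_lit 4, nat_lit 3, nat_lit 5, nat_lit 3, nat_lit 2, nat_lit 1, nat_lit 0,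 nat_lit 8, nat_lit 5, nat_lit 3, nat_lit 2, nat_lit 1, nat_lit 0, nat_lit 8, nat_lit 5, nat_lit 3, nat_lit 2, nat_lit 1, nat_lit 0, nat_lit 8, nat_lit 5, nat_lit 3, nat_lit 2, nat_lit 1, nat_lit 0, nat_lit 8, nat_lit 5, nat_lit 3, nat_lit 2, nat_lit 1, nat_lit 0, nat_lit 8, nat_lit 4, nat_lit 6, nat_lit 4, nat_lit 5, nat_lit 3, nat_lit 2, nat_lit 1, nat_lit 0, nat_lit 8, nat_lit 5, nat_lit 3, nat_lit 2, nat_lit 1, nat_lit 0, nat_lit 8, nat_lit 5, nat_lit 3, nat_lit 2, nat_lit 1, nat_lit 0, nat_lit 8, nat_lit 5, nat_lit 3, nat_lit 2, nat_lit 1, nat_lit 0, nat_lit 8, nat_lit 5, nat_lit 3, nat_lit 2, nat_lit 1, nat_lit 0, nat_lit 8, nat_lit 3, nat_lit 2, nat_lit 3, nat_lit 5, nat_lit 2, nat_lit 1, nat_lit 2, nat_lit 5, nat_lit 3, nat_lit 2, nat_lit 5, nat_lit 3, nat_lit 1, nat_lit 6, nat_lit 3, nat_lit 2, nat_lit 3, nat_lit 4, nat_lit 5, nat_lit 3, nat_lit 2, nat_lit 1, nat_lit 0, nat_lit 8, nat_lit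 5, nat_lit 3, nat_lit 2, nat_lit 1, nat_lit 0, nat_lit 8, nat_lit 5, nat_lit 3, nat_lit 2, nat_lit 1, nat_lit 0, nat_lit 8, nat_lit 5, nat_lit 3, nat_lit 2, nat_lit 1, nat_lit 0, nat_lit 8, nat_lit 5, nat_lit 3, nat_lit 2, nat_lit 1, nat_lit 0, nat_lit 8, nat_lit 6, nat_lit 7, nat_lit 5, nat_lit 4, nat_lit 3, nat_lit 2, nat_lit 1, nat_lit 3, nat_lit 5, nat_lit 4, nat_lit 6, nat_lit 2, nat_lit 3, nat_lit 5, nat_lit 2, nat_lit 1, nat_lit 0, nat_lit 1, nat_lit 2, nat_lit 3, nat_lit 5, nat_lit 7, nat_lit 4, nat_lit 6, nat_lit 2, nat_lit 1, nat_lit 3, nat_lit 5, nat_lit 4, nat_lit 2, nat_lit 1, nat_lit 3, nat_lit 5, nat_lit 7, nat_lit 4, nat_lit 2, nat_lit 5, nat_lit 6],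
  [nat_lit 8, nat_lit 4, nat_lit 8, nat_lit 2, nat_lit 3, nat_lit 5, nat_lit 2, nat_lit 1, nat_lit 2, nat_lit 5, nat_lit 3, nat_lit 2, nat_lit 5, nat_lit 3, nat_lit 1, nat_lit 6, nat_lit 4, nat_lit 3, nat_lit 5, nat_lit 3, nat_lit 2, nat_lit 1, nat_lit 0, nat_lit 8, nat_lit 5, nat_lit 3, nat_lit 2, nat_lit 1, nat_lit 0, nat_lit 8, nat_lit 5, nat_lit 3, nat_lit 2, nat_lit 1, nat_lit 0, nat_lit 8, nat_lit 5, nat_lit 3, nat_lit 2, nat_lit 1, nat_lit 0, nat_lit 8, nat_lit 5, nat_lit 3, nat_lit 2, nat_lit 1, nat_lit 0, nat_lit 8, nat_lit 4, nat_lit 6, nat_lit 4, nat_lit 5, nat_lit 3, nat_lit 2, nat_lit 1, nat_lit 0, nat_lit 8, nat_lit 5, nat_lit 3, nat_lit 2, nat_lit 1, nat_lit 0, nat_lit 8, nat_lit 5, nat_lit 3, nat_lit 2, nat_lit 1, nat_lit 0, nat_lit 8, nat_lit 5, nat_lit 3, nat_lit 2, nat_lit 1, nat_lit 0, nat_lit 8, nat_lit 5, nat_lit 3, nat_lit 2, nat_lit 1, nat_lit 0, nat_lit 8, nat_lit 3,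 nat_lit 4, nat_lit 3, nat_lit 4, nat_lit 5, nat_lit 3, nat_lit 2, nat_lit 1, nat_lit 0, nat_lit 8, nat_lit 5, nat_lit 3, nat_lit 2, nat_lit 1, nat_lit 0, nat_lit 8, nat_lit 5, nat_lit 3, nat_lit 2, nat_lit 1, nat_lit 0, nat_lit 8, nat_lit 5, nat_lit 3, nat_lit 2, nat_lit 1, nat_lit 0, nat_lit 8, nat_lit 5, nat_lit 3, nat_lit 2, nat_lit 1, nat_lit 0, nat_lit 8, nat_lit 2, nat_lit 3, nat_lit 5, nat_lit 2, nat_lit 1, nat_lit 2, nat_lit 5, nat_lit 3, nat_lit 2, nat_lit 5, nat_lit 3, nat_lit 1, nat_lit 6, nat_lit 7, nat_lit 4, nat_lit 2, nat_lit 3, nat_lit 5, nat_lit 2, nat_lit 1, nat_lit 2, nat_lit 5, nat_lit 3, nat_lit 2, nat_lit 5, nat_lit 3, nat_lit 1, nat_lit 4, nat_lit 6, nat_lit 3, nat_lit 2, nat_lit 3, nat_lit 4, nat_lit 5, nat_lit 3, nat_lit 2, nat_lit 1, nat_lit 0, nat_lit 8, nat_lit 5, nat_lit 3, nat_lit 2, nat_lit 1, nat_lit 0, nat_lit 8, nat_lit 5, nat_lit 3, nat_lit 2, nat_lit 1, nat_lit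 0, nat_lit 8, nat_lit 5, nat_lit 3, nat_lit 2, nat_lit 1, nat_lit 0, nat_lit 8, nat_lit 5, nat_lit 3, nat_lit 2, nat_lit 1, nat_lit 0, nat_lit 8, nat_lit 6, nat_lit 1, nat_lit 5, nat_lit 7, nat_lit 5, nat_lit 4, nat_lit 3, nat_lit 2, nat_lit 1, nat_lit 3, nat_lit 5, nat_lit 4, nat_lit 6, nat_lit 2, nat_lit 5, nat_lit 7, nat_lit 0, nat_lit 1, nat_lit 2, nat_lit 3, nat_lit 5, nat_lit 7, nat_lit 4, nat_lit 6, nat_lit 2, nat_lit 1, nat_lit 3, nat_lit 5, nat_lit 4, nat_lit 2, nat_lit 1, nat_lit 3, nat_lit 5, nat_lit 4, nat_lit 6, nat_lit 2, nat_lit 1, nat_lit 5, nat_lit 0, nat_lit 1, nat_lit 2, nat_lit 3, nat_lit 5, nat_lit 7, nat_lit 4, nat_lit 6, nat_lit 2, nat_lit 5, nat_lit 0, nat_lit 3, nat_lit 5, nat_lit 1, nat_lit 4],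
  [nat_lit 1, nat_lit 7, nat_lit 4, nat_lit 6, nat_lit 4, nat_lit 2, nat_lit 6, nat_lit 5, nat_lit 4, nat_lit 5, nat_lit 3, nat_lit 2, nat_lit 1, nat_lit 0, nat_lit 8, nat_lit 5, nat_lit 3, nat_lit 2, nat_lit 1, nat_lit 0, nat_lit 8, nat_lit 5, nat_lit 3, nat_lit 2, nat_lit 1, nat_lit 0, nat_lit 8, nat_lit 5, nat_lit 3, nat_lit 2, nat_lit 1, nat_lit 0, nat_lit 8, nat_lit 5, nat_lit 3, nat_lit 2, nat_lit 1, nat_lit 0, nat_lit 8, nat_lit 6, nat_lit 7, nat_lit 4, nat_lit 2, nat_lit 3, nat_lit 5, nat_lit 2, nat_lit 1, nat_lit 2, nat_lit 5, nat_lit 3, nat_lit 2, nat_lit 5, nat_lit 3, nat_lit 1, nat_lit 4, nat_lit 6, nat_lit 3, nat_lit 4, nat_lit 2, nat_lit 3, nat_lit 4, nat_lit 5, nat_lit 3, nat_lit 2, nat_lit 1, nat_lit 0, nat_lit 8, nat_lit 5, nat_lit 3, nat_lit 2, nat_lit 1, nat_lit 0, nat_lit 8, nat_lit 5, nat_lit 3, nat_lit 2, nat_lit 1, nat_lit 0, nat_lit 8, nat_lit 5, nat_lit 3, nat_lit 2,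 nat_lit 1, nat_lit 0, nat_lit 8, nat_lit 5, nat_lit 3, nat_lit 2, nat_lit 1, nat_lit 0, nat_lit 8, nat_lit 5, nat_lit 7, nat_lit 5, nat_lit 2, nat_lit 1, nat_lit 3, nat_lit 2, nat_lit 0, nat_lit 1, nat_lit 2, nat_lit 3, nat_lit 5, nat_lit 7, nat_lit 4, nat_lit 6, nat_lit 2, nat_lit 1, nat_lit 3, nat_lit 5, nat_lit 4, nat_lit 2, nat_lit 1, nat_lit 3, nat_lit 5, nat_lit 4, nat_lit 6, nat_lit 0, nat_lit 8, nat_lit 1, nat_lit 2, nat_lit 3, nat_lit 5, nat_lit 3, nat_lit 5, nat_lit 1, nat_lit 1]]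
noncomputable def c2 : Pc := ⟨(nat_lit 1), (nat_lit 3), (nat_lit 17), (nat_lit 4), (nat_lit 33), (nat_lit 18),
  [[[nat_lit 5, nat_lit 7, nat_lit 8, nat_lit 10, nat_lit 12, nat_lit 13, nat_lit 14, nat_lit 15]],
  [[nat_lit 1, nat_lit 4], [nat_lit 4, nat_lit 5, nat_lit 6, nat_lit 8, nat_lit 11, nat_lit 13, nat_lit 15]],
  [[nat_lit 2, nat_lit 5], [nat_lit 2, nat_lit 5, nat_lit 7, nat_lit 9, nat_lit 10, nat_lit 14, nat_lit 15, nat_lit 16], [nat_lit 9, nat_lit 10, nat_lit 12, nat_lit 13, nat_lit 14, nat_lit 15, nat_lit 16]],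
  [[nat_lit 3, nat_lit 4, nat_lit 9, nat_lit 13, nat_lit 16], [nat_lit 3, nat_lit 6], [nat_lit 3, nat_lit 5, nat_lit 7, nat_lit 15], [nat_lit 4, nat_lit 5, nat_lit 8, nat_lit 9, nat_lit 10, nat_lit 11, nat_lit 13]],
  [[nat_lit 4, nat_lit 7], [nat_lit 4, nat_lit 8], [nat_lit 4, nat_lit 7, nat_lit 9, nat_lit 11, nat_lit 13, nat_lit 14, nat_lit 15, nat_lit 16], [nat_lit 4, nat_lit 7, nat_lit 13, nat_lit 15, nat_lit 16], [nat_lit 9, nat_lit 12, nat_lit 16]],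
  [[nat_lit 5, nat_lit 9, nat_lit 10, nat_lit 14, nat_lit 15], [nat_lit 5, nat_lit 7, nat_lit 9, nat_lit 10, nat_lit 11, nat_lit 12, nat_lit 13, nat_lit 16], [nat_lit 5, nat_lit 12, nat_lit 14, nat_lit 16], [nat_lit 5, nat_lit 7, nat_lit 9, nat_lit 10, nat_lit 11, nat_lit 13, nat_lit 15, nat_lit 16], [nat_lit 5, nat_lit 9, nat_lit 12, nat_lit 15, nat_lit 16], []],
  [[nat_lit 6, nat_lit 7, nat_lit 8, nat_lit 14, nat_lit 15], [nat_lit 6, nat_lit 7, nat_lit 8, nat_lit 9, nat_lit 10, nat_lit 16], [nat_lit 6, nat_lit 9, nat_lit 10, nat_lit 15, nat_lit 16], [nat_lit 6, nat_lit 7, nat_lit 8, nat_lit 9, nat_lit 10, nat_lit 12, nat_lit 13, nat_lit 14, nat_lit 15], [nat_lit 6, nat_lit 9, nat_lit 11, nat_lit 14, nat_lit 15], [nat_lit 6, nat_lit 9, nat_lit 10, nat_lit 12, nat_lit 15, nat_lit 16], [nat_lit 14, nat_lit 16]],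
  [[nat_lit 7, nat_lit 9], [nat_lit 7, nat_lit 10], [nat_lit 7, nat_lit 13], [nat_lit 7, nat_lit 9], [nat_lit 7, nat_lit 14, nat_lit 15, nat_lit 16], [nat_lit 7, nat_lit 15, nat_lit 16], [nat_lit 7, nat_lit 13, nat_lit 15, nat_lit 16], [nat_lit 16]],
  [[nat_lit 8, nat_lit 10, nat_lit 12, nat_lit 14, nat_lit 16], [nat_lit 8, nat_lit 11], [nat_lit 8, nat_lit 9, nat_lit 10, nat_lit 12, nat_lit 13, nat_lit 16], [nat_lit 8, nat_lit 9, nat_lit 10, nat_lit 11, nat_lit 14, nat_lit 15, nat_lit 16], [nat_lit 8, nat_lit 12, nat_lit 15, nat_lit 16], [nat_lit 8, nat_lit 12, nat_lit 14, nat_lit 16], [nat_lit 8, nat_lit 13, nat_lit 16], [nat_lit 8, nat_lit 14, nat_lit 15, nat_lit 16], [nat_lit 14, nat_lit 15]],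
  [[nat_lit 9, nat_lit 14], [nat_lit 9, nat_lit 12], [nat_lit 9, nat_lit 15, nat_lit 16], [nat_lit 9, nat_lit 15, nat_lit 16], [nat_lit 9, nat_lit 15, nat_lit 16], [nat_lit 9, nat_lit 16], [nat_lit 9, nat_lit 14, nat_lit 16], [nat_lit 9], [nat_lit 9, nat_lit 15], []],
  [[nat_lit 10, nat_lit 12, nat_lit 16], [nat_lit 10, nat_lit 13], [nat_lit 10, nat_lit 15, nat_lit 16], [nat_lit 10, nat_lit 12, nat_lit 13, nat_lit 15, nat_lit 16], [nat_lit 10, nat_lit 14, nat_lit 15, nat_lit 16], [nat_lit 10], [nat_lit 10, nat_lit 14], [nat_lit 10, nat_lit 16], [nat_lit 10, nat_lit 15, nat_lit 16], [nat_lit 10, nat_lit 16], [nat_lit 16]],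
  [[nat_lit 11, nat_lit 12, nat_lit 13, nat_lit 14, nat_lit 15, nat_lit 16], [nat_lit 11, nat_lit 13, nat_lit 14, nat_lit 16], [nat_lit 11, nat_lit 13, nat_lit 14], [nat_lit 11, nat_lit 12, nat_lit 13, nat_lit 14, nat_lit 15, nat_lit 16], [nat_lit 11, nat_lit 14, nat_lit 15, nat_lit 16], [nat_lit 11, nat_lit 15], [nat_lit 11, nat_lit 14], [nat_lit 11], [nat_lit 11, nat_lit 15], [nat_lit 11, nat_lit 16], [nat_lit 11], [nat_lit 16]],
  [[nat_lit 12, nat_lit 15], [nat_lit 12, nat_lit 14], [nat_lit 12], [nat_lit 12, nat_lit 14, nat_lit 16], [nat_lit 12, nat_lit 15, nat_lit 16], [nat_lit 12, nat_lit 16], [nat_lit 12], [nat_lit 12, nat_lit 16], [nat_lit 12, nat_lit 16], [nat_lit 12], [nat_lit 12], [nat_lit 12], []],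
  [[nat_lit 13, nat_lit 16], [nat_lit 13, nat_lit 16], [nat_lit 13], [nat_lit 13, nat_lit 16], [nat_lit 13], [nat_lit 13], [nat_lit 13], [nat_lit 13], [nat_lit 13], [nat_lit 13], [nat_lit 13], [nat_lit 13], [nat_lit 13], []],
  [[nat_lit 14, nat_lit 15], [nat_lit 14, nat_lit 15, nat_lit 16], [nat_lit 14, nat_lit 16], [nat_lit 14, nat_lit 15, nat_lit 16], [nat_lit 14, nat_lit 16], [nat_lit 14, nat_lit 16], [nat_lit 14], [nat_lit 14], [nat_lit 14], [nat_lit 14], [nat_lit 14], [nat_lit 14], [nat_lit 14], [nat_lit 14], []],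
  [[nat_lit 15, nat_lit 16], [nat_lit 15], [nat_lit 15, nat_lit 16], [nat_lit 15], [nat_lit 15], [nat_lit 15], [nat_lit 15], [nat_lit 15], [nat_lit 15], [nat_lit 15], [nat_lit 15], [nat_lit 15], [nat_lit 15], [nat_lit 15], [nat_lit 15], []],
  [[nat_lit 16], [nat_lit 16], [nat_lit 16], [nat_lit 16], [nat_lit 16], [nat_lit 16], [nat_lit 16], [nat_lit 16], [nat_lit 16], [nat_lit 16], [nat_lit 16], [nat_lit 16], [nat_lit 16], [nat_lit 16], [nat_lit 16], [nat_lit 16], []]],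
  [((nat_lit 4), [nat_lit 12], [nat_lit 15]),
  ((nat_lit 4), [nat_lit 8], [nat_lit 2, nat_lit 10, nat_lit 11, nat_lit 12]),
  ((nat_lit 4), [nat_lit 16], [nat_lit 16]),
  ((nat_lit 1), [nat_lit 12, nat_lit 14], [nat_lit 12, nat_lit 16]),
  ((nat_lit 1), [nat_lit 0, nat_lit 6, nat_lit 8], [nat_lit 4, nat_lit 7, nat_lit 10, nat_lit 11, nat_lit 12, nat_lit 16]),
  ((nat_lit 1), [nat_lit 16], [nat_lit 15]),
  ((nat_lit 1), [nat_lit 5], [nat_lit 9, nat_lit 12, nat_lit 14]),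
  ((nat_lit 1), [nat_lit 2, nat_lit 8], [nat_lit 7, nat_lit 8, nat_lit 12, nat_lit 13]),
  ((nat_lit 2), [nat_lit 15], [nat_lit 7, nat_lit 8, nat_lit 12, nat_lit 13, nat_lit 16]),
  ((nat_lit 2), [nat_lit 9, nat_lit 11], [nat_lit 6, nat_lit 9, nat_lit 15, nat_lit 16]),
  ((nat_lit 5), [nat_lit 14], [nat_lit 9, nat_lit 10, nat_lit 13, nat_lit 14]),
  ((nat_lit 5), [nat_lit 5], [nat_lit 7, nat_lit 10, nat_lit 11, nat_lit 13, nat_lit 15, nat_lit 16]),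
  ((nat_lit 5), [nat_lit 16], [nat_lit 16]),
  ((nat_lit 4), [nat_lit 10], [nat_lit 5, nat_lit 13, nat_lit 14, nat_lit 15, nat_lit 16]),
  ((nat_lit 4), [nat_lit 15], [nat_lit 12, nat_lit 14, nat_lit 15, nat_lit 16]),
  ((nat_lit 4), [nat_lit 0, nat_lit 4], [nat_lit 0, nat_lit 5, nat_lit 13, nat_lit 14, nat_lit 15, nat_lit 16]),
  ((nat_lit 4), [nat_lit 14], [nat_lit 9, nat_lit 10, nat_lit 14, nat_lit 15, nat_lit 16]),
  ((nat_lit 4), [nat_lit 9], [nat_lit 5, nat_lit 9, nat_lit 10, nat_lit 14]),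
  ((nat_lit 4), [nat_lit 6], [nat_lit 5, nat_lit 6, nat_lit 7, nat_lit 8, nat_lit 11, nat_lit 12, nat_lit 13, nat_lit 14, nat_lit 16]),
  ((nat_lit 4), [nat_lit 13], [nat_lit 13]),
  ((nat_lit 0), [nat_lit 15], [nat_lit 0, nat_lit 2, nat_lit 6, nat_lit 7, nat_lit 11, nat_lit 12, nat_lit 13, nat_lit 14, nat_lit 16]),
  ((nat_lit 0), [nat_lit 7, nat_lit 11, nat_lit 14], [nat_lit 4, nat_lit 5, nat_lit 9, nat_lit 13]),
  ((nat_lit 3), [nat_lit 13], [nat_lit 1, nat_lit 3, nat_lit 4, nat_lit 5, nat_lit 10, nat_lit 11, nat_lit 16]),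
  ((nat_lit 3), [nat_lit 7, nat_lit 11], [nat_lit 6, nat_lit 11, nat_lit 16]),
  ((nat_lit 4), [nat_lit 11], [nat_lit 1, nat_lit 3, nat_lit 4, nat_lit 10, nat_lit 11, nat_lit 14, nat_lit 15, nat_lit 16]),
  ((nat_lit 5), [nat_lit 10], [nat_lit 2, nat_lit 7, nat_lit 8, nat_lit 11, nat_lit 12, nat_lit 13]),
  ((nat_lit 5), [nat_lit 0, nat_lit 3, nat_lit 8], [nat_lit 2, nat_lit 5, nat_lit 6, nat_lit 8, nat_lit 9, nat_lit 10, nat_lit 14]),
  ((nat_lit 5), [nat_lit 13], [nat_lit 13, nat_lit 16]),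
  ((nat_lit 5), [nat_lit 4], [nat_lit 1, nat_lit 2, nat_lit 3, nat_lit 4, nat_lit 5, nat_lit 7, nat_lit 8, nat_lit 9, nat_lit 12, nat_lit 13]),
  ((nat_lit 5), [nat_lit 9], [nat_lit 2, nat_lit 5, nat_lit 8, nat_lit 12, nat_lit 13, nat_lit 14, nat_lit 15]),
  ((nat_lit 5), [nat_lit 12], [nat_lit 2, nat_lit 5, nat_lit 8, nat_lit 12, nat_lit 15, nat_lit 16]),
  ((nat_lit 5), [nat_lit 15], [nat_lit 9, nat_lit 10, nat_lit 12, nat_lit 14]),
  ((nat_lit 5), [nat_lit 2, nat_lit 8], [nat_lit 2, nat_lit 5, nat_lit 8, nat_lit 10, nat_lit 13])]⟩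
noncomputable def I2_1 : List Pc.Idn := [⟨false, (nat_lit 0), [nat_lit 7], [nat_lit 3, nat_lit 2], [((nat_lit 157), (nat_lit 3)), ((nat_lit 188), (nat_lit 1)), ((nat_lit 191), (nat_lit 3)), ((nat_lit 193), (nat_lit 3)), ((nat_lit 257), (nat_lit 3)), ((nat_lit 259), (nat_lit 3)), ((nat_lit 261), (nat_lit 3)), ((nat_lit 263), (nat_lit 1)), ((nat_lit 310), (nat_lit 3)), ((nat_lit 312), (nat_lit 3)), ((nat_lit 314), (nat_lit 3)), ((nat_lit 320), (nat_lit 1)), ((nat_lit 321), (nat_lit 3))]⟩,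
  ⟨false, (nat_lit 0), [nat_lit 4], [nat_lit 4, nat_lit 3], [((nat_lit 104), (nat_lit 2)), ((nat_lit 156), (nat_lit 3)), ((nat_lit 159), (nat_lit 3)), ((nat_lit 189), (nat_lit 1)), ((nat_lit 193), (nat_lit 2)), ((nat_lit 240), (nat_lit 1)), ((nat_lit 244), (nat_lit 2)), ((nat_lit 258), (nat_lit 3)), ((nat_lit 261), (nat_lit 3)), ((nat_lit 267), (nat_lit 3)), ((nat_lit 278), (nat_lit 3)), ((nat_lit 284), (nat_lit 2)), ((nat_lit 292), (nat_lit 3)), ((nat_lit 300), (nat_lit 1)), ((nat_lit 301), (nat_lit 3)), ((nat_lit 302), (nat_lit 1)), ((nat_lit 303), (nat_lit 3)), ((nat_lit 308), (nat_lit 1)), ((nat_lit 309), (nat_lit 3)), ((nat_lit 312), (nat_lit 3)), ((nat_lit 314), (nat_lit 3)), ((nat_lit 318), (nat_lit 3)), ((nat_lit 319), (nat_lit 1)), ((nat_lit 320), (nat_lit 3)), ((nat_lit 321), (nat_lit 2))]⟩,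
  ⟨false, (nat_lit 0), [nat_lit 6], [nat_lit 4, nat_lit 4], [((nat_lit 139), (nat_lit 2)), ((nat_lit 190), (nat_lit 1)), ((nat_lit 192), (nat_lit 1)), ((nat_lit 195), (nat_lit 1)), ((nat_lit 224), (nat_lit 1)), ((nat_lit 229), (nat_lit 1)), ((nat_lit 231), (nat_lit 1)), ((nat_lit 243), (nat_lit 1)), ((nat_lit 246), (nat_lit 2)), ((nat_lit 248), (nat_lit 2)), ((nat_lit 275), (nat_lit 1)), ((nat_lit 280), (nat_lit 1)), ((nat_lit 282), (nat_lit 1)), ((nat_lit 283), (nat_lit 1)), ((nat_lit 285), (nat_lit 2)), ((nat_lit 292), (nat_lit 1)), ((nat_lit 297), (nat_lit 1)), ((nat_lit 302), (nat_lit 1)), ((nat_lit 303), (nat_lit 2)), ((nat_lit 311), (nat_lit 1)), ((nat_lit 317), (nat_lit 3)), ((nat_lit 319), (nat_lit 1)), ((nat_lit 321), (nat_lit 3))]⟩,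
  ⟨false, (nat_lit 0), [nat_lit 11], [nat_lit 3, nat_lit 1], [((nat_lit 226), (nat_lit 3)), ((nat_lit 238), (nat_lit 1)), ((nat_lit 243), (nat_lit 3)), ((nat_lit 255), (nat_lit 1)), ((nat_lit 257), (nat_lit 3)), ((nat_lit 266), (nat_lit 1)), ((nat_lit 272), (nat_lit 1)), ((nat_lit 274), (nat_lit 3)), ((nat_lit 284), (nat_lit 3)), ((nat_lit 289), (nat_lit 1)), ((nat_lit 301), (nat_lit 3)), ((nat_lit 302), (nat_lit 3)), ((nat_lit 306), (nat_lit 1)), ((nat_lit 308), (nat_lit 3)), ((nat_lit 317), (nat_lit 1)), ((nat_lit 319), (nat_lit 1)), ((nat_lit 320), (nat_lit 1))]⟩,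
  ⟨false, (nat_lit 0), [nat_lit 6], [nat_lit 6, nat_lit 5], [((nat_lit 140), (nat_lit 2)), ((nat_lit 192), (nat_lit 3)), ((nat_lit 195), (nat_lit 3)), ((nat_lit 209), (nat_lit 3)), ((nat_lit 212), (nat_lit 3)), ((nat_lit 213), (nat_lit 3)), ((nat_lit 243), (nat_lit 3)), ((nat_lit 246), (nat_lit 3)), ((nat_lit 247), (nat_lit 3)), ((nat_lit 249), (nat_lit 3)), ((nat_lit 276), (nat_lit 1)), ((nat_lit 280), (nat_lit 2)), ((nat_lit 281), (nat_lit 3)), ((nat_lit 283), (nat_lit 2)), ((nat_lit 285), (nat_lit 3)), ((nat_lit 294), (nat_lit 3)), ((nat_lit 297), (nat_lit 3)), ((nat_lit 298), (nat_lit 3)), ((nat_lit 300), (nat_lit 3)), ((nat_lit 303), (nat_lit 3)), ((nat_lit 310), (nat_lit 1)), ((nat_lit 311), (nat_lit 3)), ((nat_lit 314), (nat_lit 2)), ((nat_lit 317), (nat_lit 1)), ((nat_lit 319), (nat_lit 1)), ((nat_lit 320), (nat_lit 1)), ((nat_lit 321), (nat_lit 2))]⟩,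
  ⟨false, (nat_lit 0), [nat_lit 5], [nat_lit 2, nat_lit 0], [((nat_lit 188), (nat_lit 3)), ((nat_lit 191), (nat_lit 3)), ((nat_lit 205), (nat_lit 3)), ((nat_lit 208), (nat_lit 3)), ((nat_lit 237), (nat_lit 1)), ((nat_lit 242), (nat_lit 3)), ((nat_lit 246), (nat_lit 3)), ((nat_lit 247), (nat_lit 3)), ((nat_lit 271), (nat_lit 1)), ((nat_lit 273), (nat_lit 3)), ((nat_lit 280), (nat_lit 3)), ((nat_lit 281), (nat_lit 3)), ((nat_lit 283), (nat_lit 1)), ((nat_lit 290), (nat_lit 3)), ((nat_lit 293), (nat_lit 3)), ((nat_lit 298), (nat_lit 3)), ((nat_lit 300), (nat_lit 1)), ((nat_lit 305), (nat_lit 1)), ((nat_lit 310), (nat_lit 3)), ((nat_lit 314), (nat_lit 3)), ((nat_lit 315), (nat_lit 3)), ((nat_lit 317), (nat_lit 3)), ((nat_lit 319), (nat_lit 3)), ((nat_lit 320), (nat_lit 3)), ((nat_lit 321), (nat_lit 1))]⟩,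
  ⟨false, (nat_lit 0), [nat_lit 6], [nat_lit 6, nat_lit 0], [((nat_lit 135), (nat_lit 2)), ((nat_lit 158), (nat_lit 3)), ((nat_lit 159), (nat_lit 3)), ((nat_lit 175), (nat_lit 3)), ((nat_lit 176), (nat_lit 3)), ((nat_lit 177), (nat_lit 3)), ((nat_lit 262), (nat_lit 3)), ((nat_lit 267), (nat_lit 3)), ((nat_lit 271), (nat_lit 1)), ((nat_lit 277), (nat_lit 3)), ((nat_lit 278), (nat_lit 3)), ((nat_lit 279), (nat_lit 2)), ((nat_lit 284), (nat_lit 2)), ((nat_lit 285), (nat_lit 2)), ((nat_lit 294), (nat_lit 3)), ((nat_lit 296), (nat_lit 2)), ((nat_lit 301), (nat_lit 3)), ((nat_lit 302), (nat_lit 2)), ((nat_lit 303), (nat_lit 2)), ((nat_lit 305), (nat_lit 1)), ((nat_lit 312), (nat_lit 2)), ((nat_lit 313), (nat_lit 2)), ((nat_lit 318), (nat_lit 3)), ((nat_lit 319), (nat_lit 1)), ((nat_lit 321), (nat_lit 2))]⟩,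
  ⟨false, (nat_lit 0), [nat_lit 5], [nat_lit 4, nat_lit 0], [((nat_lit 157), (nat_lit 1)), ((nat_lit 186), (nat_lit 1)), ((nat_lit 190), (nat_lit 3)), ((nat_lit 207), (nat_lit 3)), ((nat_lit 210), (nat_lit 3)), ((nat_lit 212), (nat_lit 1)), ((nat_lit 237), (nat_lit 1)), ((nat_lit 244), (nat_lit 3)), ((nat_lit 246), (nat_lit 3)), ((nat_lit 247), (nat_lit 3)), ((nat_lit 275), (nat_lit 3)), ((nat_lit 280), (nat_lit 1)), ((nat_lit 288), (nat_lit 1)), ((nat_lit 292), (nat_lit 3)), ((nat_lit 298), (nat_lit 1)), ((nat_lit 305), (nat_lit 1)), ((nat_lit 314), (nat_lit 1)), ((nat_lit 315), (nat_lit 1)), ((nat_lit 317), (nat_lit 3)), ((nat_lit 319), (nat_lit 1)), ((nat_lit 321), (nat_lit 3))]⟩,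
  ⟨false, (nat_lit 0), [nat_lit 5], [nat_lit 5, nat_lit 3], [((nat_lit 121), (nat_lit 2)), ((nat_lit 157), (nat_lit 3)), ((nat_lit 159), (nat_lit 3)), ((nat_lit 191), (nat_lit 3)), ((nat_lit 193), (nat_lit 3)), ((nat_lit 195), (nat_lit 3)), ((nat_lit 208), (nat_lit 3)), ((nat_lit 210), (nat_lit 3)), ((nat_lit 212), (nat_lit 3)), ((nat_lit 213), (nat_lit 3)), ((nat_lit 225), (nat_lit 3)), ((nat_lit 227), (nat_lit 3)), ((nat_lit 229), (nat_lit 3)), ((nat_lit 230), (nat_lit 3)), ((nat_lit 231), (nat_lit 3)), ((nat_lit 259), (nat_lit 3)), ((nat_lit 261), (nat_lit 3)), ((nat_lit 263), (nat_lit 3)), ((nat_lit 264), (nat_lit 3)), ((nat_lit 265), (nat_lit 3)), ((nat_lit 267), (nat_lit 3)), ((nat_lit 293), (nat_lit 3)), ((nat_lit 295), (nat_lit 3)), ((nat_lit 297), (nat_lit 2)), ((nat_lit 298), (nat_lit 2)), ((nat_lit 299), (nat_lit 2)), ((nat_lit 301), (nat_lit 3)), ((nat_lit 303), (nat_lit 2)), ((nat_lit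 310), (nat_lit 3)), ((nat_lit 312), (nat_lit 3)), ((nat_lit 314), (nat_lit 1)), ((nat_lit 315), (nat_lit 2)), ((nat_lit 316), (nat_lit 2)), ((nat_lit 318), (nat_lit 1)), ((nat_lit 320), (nat_lit 1)), ((nat_lit 321), (nat_lit 3))]⟩,
  ⟨false, (nat_lit 0), [nat_lit 8], [nat_lit 8, nat_lit 2], [((nat_lit 171), (nat_lit 2)), ((nat_lit 194), (nat_lit 3)), ((nat_lit 195), (nat_lit 3)), ((nat_lit 211), (nat_lit 3)), ((nat_lit 212), (nat_lit 3)), ((nat_lit 213), (nat_lit 3)), ((nat_lit 245), (nat_lit 3)), ((nat_lit 246), (nat_lit 3)), ((nat_lit 247), (nat_lit 3)), ((nat_lit 249), (nat_lit 3)), ((nat_lit 262), (nat_lit 3)), ((nat_lit 263), (nat_lit 3)), ((nat_lit 264), (nat_lit 3)), ((nat_lit 266), (nat_lit 3)), ((nat_lit 267), (nat_lit 3)), ((nat_lit 273), (nat_lit 1)), ((nat_lit 280), (nat_lit 2)), ((nat_lit 281), (nat_lit 2)), ((nat_lit 283), (nat_lit 2)), ((nat_lit 284), (nat_lit 2)), ((nat_lit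 290), (nat_lit 1)), ((nat_lit 297), (nat_lit 2)), ((nat_lit 298), (nat_lit 3)), ((nat_lit 300), (nat_lit 2)), ((nat_lit 301), (nat_lit 2)), ((nat_lit 303), (nat_lit 3)), ((nat_lit 313), (nat_lit 3)), ((nat_lit 314), (nat_lit 3)), ((nat_lit 318), (nat_lit 1)), ((nat_lit 319), (nat_lit 2)), ((nat_lit 320), (nat_lit 3)), ((nat_lit 321), (nat_lit 2))]⟩,
  ⟨false, (nat_lit 0), [nat_lit 8], [nat_lit 1, nat_lit 0], [((nat_lit 173), (nat_lit 3)), ((nat_lit 204), (nat_lit 3)), ((nat_lit 207), (nat_lit 3)), ((nat_lit 220), (nat_lit 1)), ((nat_lit 224), (nat_lit 3)), ((nat_lit 230), (nat_lit 3)), ((nat_lit 238), (nat_lit 3)), ((nat_lit 241), (nat_lit 3)), ((nat_lit 247), (nat_lit 3)), ((nat_lit 258), (nat_lit 3)), ((nat_lit 266), (nat_lit 3)), ((nat_lit 272), (nat_lit 3)), ((nat_lit 283), (nat_lit 1)), ((nat_lit 284), (nat_lit 1)), ((nat_lit 285), (nat_lit 3)), ((nat_lit 292), (nat_lit 3)), ((nat_lit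 298), (nat_lit 3)), ((nat_lit 300), (nat_lit 3)), ((nat_lit 302), (nat_lit 3)), ((nat_lit 303), (nat_lit 2)), ((nat_lit 306), (nat_lit 3)), ((nat_lit 315), (nat_lit 3)), ((nat_lit 316), (nat_lit 1)), ((nat_lit 318), (nat_lit 1)), ((nat_lit 320), (nat_lit 3)), ((nat_lit 321), (nat_lit 2))]⟩,
  ⟨false, (nat_lit 0), [nat_lit 5], [nat_lit 5, nat_lit 1], [((nat_lit 119), (nat_lit 2)), ((nat_lit 157), (nat_lit 3)), ((nat_lit 159), (nat_lit 3)), ((nat_lit 191), (nat_lit 3)), ((nat_lit 193), (nat_lit 3)), ((nat_lit 195), (nat_lit 3)), ((nat_lit 208), (nat_lit 3)), ((nat_lit 210), (nat_lit 3)), ((nat_lit 212), (nat_lit 3)), ((nat_lit 213), (nat_lit 3)), ((nat_lit 225), (nat_lit 3)), ((nat_lit 227), (nat_lit 3)), ((nat_lit 229), (nat_lit 3)), ((nat_lit 230), (nat_lit 3)), ((nat_lit 231), (nat_lit 3)), ((nat_lit 242), (nat_lit 3)), ((nat_lit 244), (nat_lit 3)), ((nat_lit 246), (nat_lit 3)), ((nat_lit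 247), (nat_lit 3)), ((nat_lit 248), (nat_lit 3)), ((nat_lit 249), (nat_lit 3)), ((nat_lit 259), (nat_lit 3)), ((nat_lit 261), (nat_lit 3)), ((nat_lit 263), (nat_lit 3)), ((nat_lit 264), (nat_lit 3)), ((nat_lit 265), (nat_lit 3)), ((nat_lit 266), (nat_lit 3)), ((nat_lit 267), (nat_lit 3)), ((nat_lit 297), (nat_lit 3)), ((nat_lit 298), (nat_lit 3)), ((nat_lit 299), (nat_lit 3)), ((nat_lit 303), (nat_lit 3)), ((nat_lit 310), (nat_lit 3)), ((nat_lit 314), (nat_lit 1)), ((nat_lit 315), (nat_lit 2)), ((nat_lit 316), (nat_lit 2)), ((nat_lit 317), (nat_lit 1)), ((nat_lit 318), (nat_lit 3)), ((nat_lit 321), (nat_lit 2))]⟩,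
  ⟨false, (nat_lit 0), [nat_lit 0], [nat_lit 0, nat_lit 0], [((nat_lit 118), (nat_lit 1)), ((nat_lit 152), (nat_lit 1)), ((nat_lit 169), (nat_lit 1)), ((nat_lit 193), (nat_lit 1)), ((nat_lit 195), (nat_lit 1)), ((nat_lit 203), (nat_lit 1)), ((nat_lit 210), (nat_lit 1)), ((nat_lit 211), (nat_lit 1)), ((nat_lit 212), (nat_lit 1)), ((nat_lit 213), (nat_lit 1)), ((nat_lit 237), (nat_lit 1)), ((nat_lit 247), (nat_lit 1)), ((nat_lit 249), (nat_lit 1)), ((nat_lit 254), (nat_lit 1)), ((nat_lit 271), (nat_lit 1)), ((nat_lit 278), (nat_lit 1)), ((nat_lit 279), (nat_lit 1)), ((nat_lit 280), (nat_lit 1)), ((nat_lit 281), (nat_lit 1)), ((nat_lit 283), (nat_lit 1)), ((nat_lit 285), (nat_lit 1)), ((nat_lit 288), (nat_lit 1)), ((nat_lit 295), (nat_lit 1)), ((nat_lit 296), (nat_lit 1)), ((nat_lit 297), (nat_lit 1)), ((nat_lit 301), (nat_lit 1)), ((nat_lit 302), (nat_lit 2)), ((nat_lit 303), (nat_lit 2)), ((nat_lit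 314), (nat_lit 1)), ((nat_lit 315), (nat_lit 2)), ((nat_lit 317), (nat_lit 1)), ((nat_lit 319), (nat_lit 1)), ((nat_lit 320), (nat_lit 1))]⟩,
  ⟨false, (nat_lit 0), [nat_lit 2], [nat_lit 2, nat_lit 0], [((nat_lit 67), (nat_lit 2)), ((nat_lit 120), (nat_lit 3)), ((nat_lit 123), (nat_lit 3)), ((nat_lit 186), (nat_lit 1)), ((nat_lit 191), (nat_lit 2)), ((nat_lit 203), (nat_lit 1)), ((nat_lit 208), (nat_lit 2)), ((nat_lit 237), (nat_lit 1)), ((nat_lit 242), (nat_lit 3)), ((nat_lit 254), (nat_lit 1)), ((nat_lit 259), (nat_lit 2)), ((nat_lit 266), (nat_lit 3)), ((nat_lit 271), (nat_lit 1)), ((nat_lit 276), (nat_lit 3)), ((nat_lit 281), (nat_lit 1)), ((nat_lit 283), (nat_lit 1)), ((nat_lit 284), (nat_lit 1)), ((nat_lit 288), (nat_lit 1)), ((nat_lit 293), (nat_lit 2)), ((nat_lit 300), (nat_lit 3)), ((nat_lit 301), (nat_lit 1)), ((nat_lit 303), (nat_lit 1)), ((nat_lit 305), (nat_lit 1)), ((nat_lit 310),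 (nat_lit 2)), ((nat_lit 315), (nat_lit 2)), ((nat_lit 320), (nat_lit 3)), ((nat_lit 321), (nat_lit 3))]⟩,
  ⟨false, (nat_lit 0), [nat_lit 7], [nat_lit 1, nat_lit 1], [((nat_lit 153), (nat_lit 2)), ((nat_lit 156), (nat_lit 3)), ((nat_lit 157), (nat_lit 3)), ((nat_lit 158), (nat_lit 3)), ((nat_lit 176), (nat_lit 1)), ((nat_lit 204), (nat_lit 1)), ((nat_lit 213), (nat_lit 1)), ((nat_lit 227), (nat_lit 1)), ((nat_lit 230), (nat_lit 2)), ((nat_lit 261), (nat_lit 1)), ((nat_lit 262), (nat_lit 3)), ((nat_lit 264), (nat_lit 2)), ((nat_lit 265), (nat_lit 3)), ((nat_lit 276), (nat_lit 3)), ((nat_lit 277), (nat_lit 3)), ((nat_lit 279), (nat_lit 3)), ((nat_lit 281), (nat_lit 2)), ((nat_lit 284), (nat_lit 1)), ((nat_lit 293), (nat_lit 3)), ((nat_lit 295), (nat_lit 1)), ((nat_lit 296), (nat_lit 3)), ((nat_lit 302), (nat_lit 2)), ((nat_lit 303), (nat_lit 3)), ((nat_lit 310), (nat_lit 3)), ((nat_lit 311),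 (nat_lit 3)), ((nat_lit 315), (nat_lit 2)), ((nat_lit 316), (nat_lit 2)), ((nat_lit 318), (nat_lit 2)), ((nat_lit 319), (nat_lit 3)), ((nat_lit 320), (nat_lit 1)), ((nat_lit 321), (nat_lit 3))]⟩,
  ⟨false, (nat_lit 0), [nat_lit 8], [nat_lit 1, nat_lit 1], [((nat_lit 170), (nat_lit 2)), ((nat_lit 173), (nat_lit 3)), ((nat_lit 174), (nat_lit 3)), ((nat_lit 175), (nat_lit 3)), ((nat_lit 221), (nat_lit 1)), ((nat_lit 228), (nat_lit 1)), ((nat_lit 231), (nat_lit 1)), ((nat_lit 242), (nat_lit 3)), ((nat_lit 249), (nat_lit 3)), ((nat_lit 265), (nat_lit 1)), ((nat_lit 277), (nat_lit 3)), ((nat_lit 279), (nat_lit 3)), ((nat_lit 282), (nat_lit 3)), ((nat_lit 283), (nat_lit 3)), ((nat_lit 284), (nat_lit 1)), ((nat_lit 293), (nat_lit 3)), ((nat_lit 294), (nat_lit 3)), ((nat_lit 299), (nat_lit 3)), ((nat_lit 310), (nat_lit 3)), ((nat_lit 311), (nat_lit 3)), ((nat_lit 316), (nat_lit 1)), ((nat_lit 317),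 (nat_lit 3)), ((nat_lit 318), (nat_lit 2)), ((nat_lit 319), (nat_lit 1)), ((nat_lit 321), (nat_lit 3))]⟩,
  ⟨false, (nat_lit 0), [nat_lit 8], [nat_lit 2, nat_lit 0], [((nat_lit 174), (nat_lit 3)), ((nat_lit 186), (nat_lit 1)), ((nat_lit 191), (nat_lit 3)), ((nat_lit 203), (nat_lit 1)), ((nat_lit 205), (nat_lit 3)), ((nat_lit 212), (nat_lit 1)), ((nat_lit 237), (nat_lit 1)), ((nat_lit 239), (nat_lit 3)), ((nat_lit 254), (nat_lit 1)), ((nat_lit 259), (nat_lit 3)), ((nat_lit 264), (nat_lit 3)), ((nat_lit 266), (nat_lit 3)), ((nat_lit 273), (nat_lit 3)), ((nat_lit 276), (nat_lit 3)), ((nat_lit 284), (nat_lit 3)), ((nat_lit 293), (nat_lit 3)), ((nat_lit 300), (nat_lit 3)), ((nat_lit 301), (nat_lit 1)), ((nat_lit 302), (nat_lit 3)), ((nat_lit 305), (nat_lit 1)), ((nat_lit 307), (nat_lit 3)), ((nat_lit 310), (nat_lit 3)), ((nat_lit 315), (nat_lit 3)), ((nat_lit 317), (nat_lit 1)), ((nat_lit 318),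 (nat_lit 3)), ((nat_lit 320), (nat_lit 3)), ((nat_lit 321), (nat_lit 3))]⟩,
  ⟨false, (nat_lit 0), [nat_lit 8], [nat_lit 3, nat_lit 1], [((nat_lit 175), (nat_lit 3)), ((nat_lit 187), (nat_lit 1)), ((nat_lit 192), (nat_lit 3)), ((nat_lit 204), (nat_lit 1)), ((nat_lit 209), (nat_lit 3)), ((nat_lit 221), (nat_lit 1)), ((nat_lit 223), (nat_lit 3)), ((nat_lit 229), (nat_lit 1)), ((nat_lit 230), (nat_lit 1)), ((nat_lit 243), (nat_lit 3)), ((nat_lit 247), (nat_lit 1)), ((nat_lit 248), (nat_lit 1)), ((nat_lit 260), (nat_lit 3)), ((nat_lit 263), (nat_lit 3)), ((nat_lit 264), (nat_lit 3)), ((nat_lit 265), (nat_lit 1)), ((nat_lit 266), (nat_lit 3)), ((nat_lit 272), (nat_lit 1)), ((nat_lit 281), (nat_lit 3)), ((nat_lit 282), (nat_lit 3)), ((nat_lit 283), (nat_lit 3)), ((nat_lit 284), (nat_lit 3)), ((nat_lit 285), (nat_lit 3)), ((nat_lit 289), (nat_lit 1)), ((nat_lit 299), (nat_lit 3)), ((nat_lit 300),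 (nat_lit 3)), ((nat_lit 301), (nat_lit 3)), ((nat_lit 302), (nat_lit 3)), ((nat_lit 306), (nat_lit 1)), ((nat_lit 311), (nat_lit 3)), ((nat_lit 314), (nat_lit 3)), ((nat_lit 315), (nat_lit 1)), ((nat_lit 317), (nat_lit 2)), ((nat_lit 318), (nat_lit 2)), ((nat_lit 319), (nat_lit 3))]⟩,
  ⟨false, (nat_lit 0), [nat_lit 4], [nat_lit 3, nat_lit 0], [((nat_lit 152), (nat_lit 1)), ((nat_lit 155), (nat_lit 3)), ((nat_lit 244), (nat_lit 2)), ((nat_lit 254), (nat_lit 1)), ((nat_lit 261), (nat_lit 1)), ((nat_lit 263), (nat_lit 3)), ((nat_lit 288), (nat_lit 1)), ((nat_lit 292), (nat_lit 3)), ((nat_lit 295), (nat_lit 1)), ((nat_lit 301), (nat_lit 1)), ((nat_lit 305), (nat_lit 1)), ((nat_lit 309), (nat_lit 1)), ((nat_lit 317), (nat_lit 1)), ((nat_lit 320), (nat_lit 1)), ((nat_lit 321), (nat_lit 2))]⟩,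
  ⟨false, (nat_lit 0), [nat_lit 3], [nat_lit 2, nat_lit 2], [((nat_lit 86), (nat_lit 2)), ((nat_lit 120), (nat_lit 1)), ((nat_lit 123), (nat_lit 1)), ((nat_lit 154), (nat_lit 1)), ((nat_lit 157), (nat_lit 1)), ((nat_lit 159), (nat_lit 1)), ((nat_lit 189), (nat_lit 1)), ((nat_lit 191), (nat_lit 2)), ((nat_lit 193), (nat_lit 2)), ((nat_lit 206), (nat_lit 1)), ((nat_lit 208), (nat_lit 2)), ((nat_lit 210), (nat_lit 2)), ((nat_lit 240), (nat_lit 1)), ((nat_lit 244), (nat_lit 1)), ((nat_lit 249), (nat_lit 1)), ((nat_lit 257), (nat_lit 1)), ((nat_lit 266), (nat_lit 1)), ((nat_lit 267), (nat_lit 1)), ((nat_lit 274), (nat_lit 1)), ((nat_lit 278), (nat_lit 1)), ((nat_lit 284), (nat_lit 2)), ((nat_lit 285), (nat_lit 1)), ((nat_lit 290), (nat_lit 1)), ((nat_lit 291), (nat_lit 1)), ((nat_lit 293), (nat_lit 1)), ((nat_lit 297), (nat_lit 1)), ((nat_lit 298), (nat_lit 2)), ((nat_lit 300), (nat_lit 1)), ((nat_lit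 301), (nat_lit 1)), ((nat_lit 303), (nat_lit 3)), ((nat_lit 308), (nat_lit 1)), ((nat_lit 312), (nat_lit 2)), ((nat_lit 314), (nat_lit 2)), ((nat_lit 315), (nat_lit 3)), ((nat_lit 317), (nat_lit 1)), ((nat_lit 318), (nat_lit 2)), ((nat_lit 319), (nat_lit 1)), ((nat_lit 320), (nat_lit 2)), ((nat_lit 321), (nat_lit 3))]⟩,
  ⟨false, (nat_lit 0), [nat_lit 4], [nat_lit 1, nat_lit 0], [((nat_lit 153), (nat_lit 3)), ((nat_lit 156), (nat_lit 3)), ((nat_lit 169), (nat_lit 1)), ((nat_lit 173), (nat_lit 3)), ((nat_lit 176), (nat_lit 3)), ((nat_lit 207), (nat_lit 3)), ((nat_lit 247), (nat_lit 1)), ((nat_lit 275), (nat_lit 3)), ((nat_lit 279), (nat_lit 3)), ((nat_lit 281), (nat_lit 2)), ((nat_lit 283), (nat_lit 3)), ((nat_lit 285), (nat_lit 3)), ((nat_lit 292), (nat_lit 3)), ((nat_lit 296), (nat_lit 3)), ((nat_lit 298), (nat_lit 3)), ((nat_lit 300), (nat_lit 1)), ((nat_lit 302), (nat_lit 3)), ((nat_lit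 303), (nat_lit 2)), ((nat_lit 309), (nat_lit 3)), ((nat_lit 313), (nat_lit 3)), ((nat_lit 315), (nat_lit 3)), ((nat_lit 317), (nat_lit 1)), ((nat_lit 319), (nat_lit 3)), ((nat_lit 320), (nat_lit 1)), ((nat_lit 321), (nat_lit 2))]⟩,
  ⟨false, (nat_lit 0), [nat_lit 4], [nat_lit 4, nat_lit 2], [((nat_lit 103), (nat_lit 2)), ((nat_lit 156), (nat_lit 3)), ((nat_lit 159), (nat_lit 3)), ((nat_lit 188), (nat_lit 1)), ((nat_lit 190), (nat_lit 3)), ((nat_lit 193), (nat_lit 3)), ((nat_lit 195), (nat_lit 3)), ((nat_lit 224), (nat_lit 3)), ((nat_lit 227), (nat_lit 3)), ((nat_lit 229), (nat_lit 3)), ((nat_lit 231), (nat_lit 3)), ((nat_lit 239), (nat_lit 1)), ((nat_lit 244), (nat_lit 2)), ((nat_lit 246), (nat_lit 2)), ((nat_lit 248), (nat_lit 2)), ((nat_lit 258), (nat_lit 3)), ((nat_lit 261), (nat_lit 3)), ((nat_lit 263), (nat_lit 3)), ((nat_lit 265), (nat_lit 3)), ((nat_lit 267), (nat_lit 3)), ((nat_lit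 275), (nat_lit 3)), ((nat_lit 278), (nat_lit 3)), ((nat_lit 280), (nat_lit 2)), ((nat_lit 282), (nat_lit 2)), ((nat_lit 284), (nat_lit 3)), ((nat_lit 285), (nat_lit 2)), ((nat_lit 292), (nat_lit 3)), ((nat_lit 297), (nat_lit 3)), ((nat_lit 300), (nat_lit 1)), ((nat_lit 301), (nat_lit 3)), ((nat_lit 302), (nat_lit 3)), ((nat_lit 303), (nat_lit 2)), ((nat_lit 307), (nat_lit 1)), ((nat_lit 309), (nat_lit 3)), ((nat_lit 312), (nat_lit 2)), ((nat_lit 314), (nat_lit 2)), ((nat_lit 316), (nat_lit 3)), ((nat_lit 317), (nat_lit 2)), ((nat_lit 320), (nat_lit 2)), ((nat_lit 321), (nat_lit 3))]⟩,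
  ⟨false, (nat_lit 0), [nat_lit 6], [nat_lit 6, nat_lit 1], [((nat_lit 136), (nat_lit 2)), ((nat_lit 158), (nat_lit 3)), ((nat_lit 159), (nat_lit 3)), ((nat_lit 175), (nat_lit 3)), ((nat_lit 176), (nat_lit 3)), ((nat_lit 177), (nat_lit 3)), ((nat_lit 192), (nat_lit 3)), ((nat_lit 193), (nat_lit 3)), ((nat_lit 194), (nat_lit 3)), ((nat_lit 195), (nat_lit 3)), ((nat_lit 209), (nat_lit 3)), ((nat_lit 210), (nat_lit 3)), ((nat_lit 211), (nat_lit 3)), ((nat_lit 212), (nat_lit 3)), ((nat_lit 213), (nat_lit 3)), ((nat_lit 262), (nat_lit 3)), ((nat_lit 267), (nat_lit 3)), ((nat_lit 272), (nat_lit 1)), ((nat_lit 278), (nat_lit 2)), ((nat_lit 279), (nat_lit 3)), ((nat_lit 281), (nat_lit 1)), ((nat_lit 284), (nat_lit 2)), ((nat_lit 285), (nat_lit 2)), ((nat_lit 295), (nat_lit 3)), ((nat_lit 296), (nat_lit 3)), ((nat_lit 298), (nat_lit 1)), ((nat_lit 301), (nat_lit 3)), ((nat_lit 302), (nat_lit 1)), ((nat_lit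 303), (nat_lit 2)), ((nat_lit 306), (nat_lit 1)), ((nat_lit 311), (nat_lit 3)), ((nat_lit 312), (nat_lit 2)), ((nat_lit 313), (nat_lit 3)), ((nat_lit 314), (nat_lit 2)), ((nat_lit 318), (nat_lit 3)), ((nat_lit 319), (nat_lit 3)), ((nat_lit 320), (nat_lit 3)), ((nat_lit 321), (nat_lit 3))]⟩,
  ⟨false, (nat_lit 0), [nat_lit 4], [nat_lit 2, nat_lit 0], [((nat_lit 122), (nat_lit 1)), ((nat_lit 152), (nat_lit 1)), ((nat_lit 154), (nat_lit 3)), ((nat_lit 186), (nat_lit 1)), ((nat_lit 191), (nat_lit 3)), ((nat_lit 193), (nat_lit 1)), ((nat_lit 195), (nat_lit 1)), ((nat_lit 220), (nat_lit 1)), ((nat_lit 225), (nat_lit 3)), ((nat_lit 227), (nat_lit 3)), ((nat_lit 244), (nat_lit 2)), ((nat_lit 246), (nat_lit 2)), ((nat_lit 248), (nat_lit 1)), ((nat_lit 249), (nat_lit 1)), ((nat_lit 254), (nat_lit 1)), ((nat_lit 261), (nat_lit 3)), ((nat_lit 271), (nat_lit 1)), ((nat_lit 276), (nat_lit 3)), ((nat_lit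 278), (nat_lit 3)), ((nat_lit 282), (nat_lit 1)), ((nat_lit 283), (nat_lit 1)), ((nat_lit 285), (nat_lit 1)), ((nat_lit 288), (nat_lit 1)), ((nat_lit 293), (nat_lit 3)), ((nat_lit 295), (nat_lit 1)), ((nat_lit 297), (nat_lit 2)), ((nat_lit 299), (nat_lit 1)), ((nat_lit 300), (nat_lit 1)), ((nat_lit 302), (nat_lit 1)), ((nat_lit 303), (nat_lit 1)), ((nat_lit 305), (nat_lit 1)), ((nat_lit 316), (nat_lit 2)), ((nat_lit 317), (nat_lit 1)), ((nat_lit 319), (nat_lit 2)), ((nat_lit 320), (nat_lit 3)), ((nat_lit 321), (nat_lit 2))]⟩,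
  ⟨false, (nat_lit 0), [nat_lit 3], [nat_lit 3, nat_lit 3], [((nat_lit 104), (nat_lit 1)), ((nat_lit 121), (nat_lit 1)), ((nat_lit 157), (nat_lit 1)), ((nat_lit 159), (nat_lit 1)), ((nat_lit 172), (nat_lit 1)), ((nat_lit 189), (nat_lit 1)), ((nat_lit 194), (nat_lit 1)), ((nat_lit 195), (nat_lit 1)), ((nat_lit 206), (nat_lit 1)), ((nat_lit 211), (nat_lit 1)), ((nat_lit 212), (nat_lit 1)), ((nat_lit 213), (nat_lit 1)), ((nat_lit 223), (nat_lit 1)), ((nat_lit 228), (nat_lit 1)), ((nat_lit 229), (nat_lit 1)), ((nat_lit 230), (nat_lit 1)), ((nat_lit 231), (nat_lit 1)), ((nat_lit 248), (nat_lit 1)), ((nat_lit 249), (nat_lit 1)), ((nat_lit 257), (nat_lit 1)), ((nat_lit 259), (nat_lit 1)), ((nat_lit 261), (nat_lit 1)), ((nat_lit 263), (nat_lit 1)), ((nat_lit 264), (nat_lit 1)), ((nat_lit 265), (nat_lit 2)), ((nat_lit 266), (nat_lit 1)), ((nat_lit 267), (nat_lit 2)), ((nat_lit 280), (nat_lit 1)), ((nat_lit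 281), (nat_lit 1)), ((nat_lit 282), (nat_lit 1)), ((nat_lit 283), (nat_lit 2)), ((nat_lit 284), (nat_lit 2)), ((nat_lit 285), (nat_lit 1)), ((nat_lit 293), (nat_lit 1)), ((nat_lit 296), (nat_lit 1)), ((nat_lit 297), (nat_lit 1)), ((nat_lit 298), (nat_lit 1)), ((nat_lit 299), (nat_lit 1)), ((nat_lit 300), (nat_lit 1)), ((nat_lit 301), (nat_lit 2)), ((nat_lit 302), (nat_lit 1)), ((nat_lit 303), (nat_lit 1)), ((nat_lit 310), (nat_lit 1)), ((nat_lit 314), (nat_lit 2)), ((nat_lit 315), (nat_lit 3)), ((nat_lit 317), (nat_lit 1)), ((nat_lit 318), (nat_lit 1)), ((nat_lit 319), (nat_lit 1)), ((nat_lit 320), (nat_lit 2)), ((nat_lit 321), (nat_lit 3))]⟩,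
  ⟨false, (nat_lit 0), [nat_lit 5], [nat_lit 3, nat_lit 2], [((nat_lit 154), (nat_lit 1)), ((nat_lit 188), (nat_lit 1)), ((nat_lit 191), (nat_lit 3)), ((nat_lit 193), (nat_lit 3)), ((nat_lit 205), (nat_lit 1)), ((nat_lit 208), (nat_lit 3)), ((nat_lit 210), (nat_lit 3)), ((nat_lit 222), (nat_lit 1)), ((nat_lit 225), (nat_lit 3)), ((nat_lit 227), (nat_lit 3)), ((nat_lit 240), (nat_lit 3)), ((nat_lit 242), (nat_lit 3)), ((nat_lit 246), (nat_lit 1)), ((nat_lit 247), (nat_lit 1)), ((nat_lit 248), (nat_lit 1)), ((nat_lit 256), (nat_lit 1)), ((nat_lit 259), (nat_lit 3)), ((nat_lit 261), (nat_lit 3)), ((nat_lit 263), (nat_lit 1)), ((nat_lit 264), (nat_lit 1)), ((nat_lit 265), (nat_lit 1)), ((nat_lit 266), (nat_lit 3)), ((nat_lit 267), (nat_lit 1)), ((nat_lit 274), (nat_lit 3)), ((nat_lit 278), (nat_lit 1)), ((nat_lit 280), (nat_lit 1)), ((nat_lit 281), (nat_lit 1)), ((nat_lit 282), (nat_lit 1)), ((nat_lit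 284), (nat_lit 2)), ((nat_lit 290), (nat_lit 1)), ((nat_lit 293), (nat_lit 1)), ((nat_lit 297), (nat_lit 3)), ((nat_lit 299), (nat_lit 3)), ((nat_lit 300), (nat_lit 3)), ((nat_lit 302), (nat_lit 2)), ((nat_lit 307), (nat_lit 1)), ((nat_lit 308), (nat_lit 3)), ((nat_lit 312), (nat_lit 3)), ((nat_lit 314), (nat_lit 2)), ((nat_lit 317), (nat_lit 1)), ((nat_lit 318), (nat_lit 2)), ((nat_lit 320), (nat_lit 2)), ((nat_lit 321), (nat_lit 3))]⟩,
  ⟨false, (nat_lit 0), [nat_lit 2], [nat_lit 2, nat_lit 1], [((nat_lit 68), (nat_lit 2)), ((nat_lit 120), (nat_lit 3)), ((nat_lit 123), (nat_lit 3)), ((nat_lit 154), (nat_lit 3)), ((nat_lit 157), (nat_lit 3)), ((nat_lit 159), (nat_lit 3)), ((nat_lit 187), (nat_lit 1)), ((nat_lit 188), (nat_lit 3)), ((nat_lit 191), (nat_lit 3)), ((nat_lit 193), (nat_lit 3)), ((nat_lit 195), (nat_lit 3)), ((nat_lit 204), (nat_lit 1)), ((nat_lit 205), (nat_lit 3)), ((nat_lit 208),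 (nat_lit 3)), ((nat_lit 210), (nat_lit 3)), ((nat_lit 212), (nat_lit 3)), ((nat_lit 213), (nat_lit 3)), ((nat_lit 238), (nat_lit 1)), ((nat_lit 242), (nat_lit 3)), ((nat_lit 247), (nat_lit 1)), ((nat_lit 255), (nat_lit 1)), ((nat_lit 259), (nat_lit 3)), ((nat_lit 261), (nat_lit 3)), ((nat_lit 272), (nat_lit 1)), ((nat_lit 273), (nat_lit 3)), ((nat_lit 276), (nat_lit 2)), ((nat_lit 278), (nat_lit 3)), ((nat_lit 280), (nat_lit 3)), ((nat_lit 281), (nat_lit 3)), ((nat_lit 283), (nat_lit 3)), ((nat_lit 284), (nat_lit 1)), ((nat_lit 285), (nat_lit 3)), ((nat_lit 289), (nat_lit 1)), ((nat_lit 290), (nat_lit 3)), ((nat_lit 293), (nat_lit 3)), ((nat_lit 295), (nat_lit 2)), ((nat_lit 297), (nat_lit 2)), ((nat_lit 298), (nat_lit 3)), ((nat_lit 300), (nat_lit 3)), ((nat_lit 301), (nat_lit 3)), ((nat_lit 303), (nat_lit 2)), ((nat_lit 306), (nat_lit 1)), ((nat_lit 307), (nat_lit 3)), ((nat_lit 310), (nat_lit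 2)), ((nat_lit 312), (nat_lit 2)), ((nat_lit 315), (nat_lit 3)), ((nat_lit 317), (nat_lit 3)), ((nat_lit 318), (nat_lit 3)), ((nat_lit 319), (nat_lit 3)), ((nat_lit 320), (nat_lit 2)), ((nat_lit 321), (nat_lit 1))]⟩,
  ⟨false, (nat_lit 0), [nat_lit 4], [nat_lit 2, nat_lit 2], [((nat_lit 103), (nat_lit 2)), ((nat_lit 154), (nat_lit 1)), ((nat_lit 159), (nat_lit 1)), ((nat_lit 188), (nat_lit 1)), ((nat_lit 190), (nat_lit 1)), ((nat_lit 193), (nat_lit 1)), ((nat_lit 195), (nat_lit 1)), ((nat_lit 207), (nat_lit 1)), ((nat_lit 210), (nat_lit 2)), ((nat_lit 212), (nat_lit 2)), ((nat_lit 222), (nat_lit 1)), ((nat_lit 227), (nat_lit 1)), ((nat_lit 229), (nat_lit 1)), ((nat_lit 231), (nat_lit 1)), ((nat_lit 241), (nat_lit 1)), ((nat_lit 244), (nat_lit 2)), ((nat_lit 246), (nat_lit 2)), ((nat_lit 248), (nat_lit 2)), ((nat_lit 256), (nat_lit 1)), ((nat_lit 258), (nat_lit 1)), ((nat_lit 261), (nat_lit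 1)), ((nat_lit 263), (nat_lit 2)), ((nat_lit 265), (nat_lit 2)), ((nat_lit 267), (nat_lit 2)), ((nat_lit 273), (nat_lit 1)), ((nat_lit 275), (nat_lit 1)), ((nat_lit 278), (nat_lit 1)), ((nat_lit 280), (nat_lit 1)), ((nat_lit 282), (nat_lit 1)), ((nat_lit 283), (nat_lit 1)), ((nat_lit 284), (nat_lit 3)), ((nat_lit 285), (nat_lit 2)), ((nat_lit 290), (nat_lit 1)), ((nat_lit 292), (nat_lit 1)), ((nat_lit 295), (nat_lit 1)), ((nat_lit 297), (nat_lit 1)), ((nat_lit 298), (nat_lit 1)), ((nat_lit 301), (nat_lit 2)), ((nat_lit 302), (nat_lit 2)), ((nat_lit 303), (nat_lit 3)), ((nat_lit 307), (nat_lit 1)), ((nat_lit 309), (nat_lit 1)), ((nat_lit 312), (nat_lit 2)), ((nat_lit 314), (nat_lit 1)), ((nat_lit 315), (nat_lit 2)), ((nat_lit 316), (nat_lit 2)), ((nat_lit 317), (nat_lit 3)), ((nat_lit 318), (nat_lit 3)), ((nat_lit 320), (nat_lit 3)), ((nat_lit 321), (nat_lit 1))]⟩,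
  ⟨false, (nat_lit 0), [nat_lit 6], [nat_lit 2, nat_lit 0], [((nat_lit 140), (nat_lit 3)), ((nat_lit 154), (nat_lit 3)), ((nat_lit 157), (nat_lit 3)), ((nat_lit 171), (nat_lit 3)), ((nat_lit 174), (nat_lit 3)), ((nat_lit 186), (nat_lit 1)), ((nat_lit 193), (nat_lit 2)), ((nat_lit 194), (nat_lit 2)), ((nat_lit 195), (nat_lit 3)), ((nat_lit 203), (nat_lit 1)), ((nat_lit 210), (nat_lit 2)), ((nat_lit 211), (nat_lit 2)), ((nat_lit 212), (nat_lit 3)), ((nat_lit 213), (nat_lit 3)), ((nat_lit 242), (nat_lit 3)), ((nat_lit 244), (nat_lit 3)), ((nat_lit 245), (nat_lit 3)), ((nat_lit 249), (nat_lit 3)), ((nat_lit 262), (nat_lit 3)), ((nat_lit 263), (nat_lit 3)), ((nat_lit 264), (nat_lit 3)), ((nat_lit 266), (nat_lit 3)), ((nat_lit 267), (nat_lit 3)), ((nat_lit 273), (nat_lit 3)), ((nat_lit 276), (nat_lit 3)), ((nat_lit 280), (nat_lit 1)), ((nat_lit 283), (nat_lit 3)), ((nat_lit 288), (nat_lit 1)), ((nat_lit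 290), (nat_lit 3)), ((nat_lit 295), (nat_lit 2)), ((nat_lit 296), (nat_lit 3)), ((nat_lit 298), (nat_lit 2)), ((nat_lit 301), (nat_lit 2)), ((nat_lit 303), (nat_lit 1)), ((nat_lit 305), (nat_lit 1)), ((nat_lit 312), (nat_lit 2)), ((nat_lit 314), (nat_lit 3)), ((nat_lit 320), (nat_lit 3)), ((nat_lit 321), (nat_lit 1))]⟩,
  ⟨false, (nat_lit 0), [nat_lit 4], [nat_lit 3, nat_lit 1], [((nat_lit 139), (nat_lit 1)), ((nat_lit 153), (nat_lit 1)), ((nat_lit 158), (nat_lit 3)), ((nat_lit 172), (nat_lit 3)), ((nat_lit 175), (nat_lit 3)), ((nat_lit 176), (nat_lit 1)), ((nat_lit 192), (nat_lit 3)), ((nat_lit 193), (nat_lit 1)), ((nat_lit 194), (nat_lit 1)), ((nat_lit 209), (nat_lit 3)), ((nat_lit 226), (nat_lit 3)), ((nat_lit 227), (nat_lit 1)), ((nat_lit 228), (nat_lit 1)), ((nat_lit 230), (nat_lit 1)), ((nat_lit 255), (nat_lit 1)), ((nat_lit 260), (nat_lit 3)), ((nat_lit 262), (nat_lit 2)), ((nat_lit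 263), (nat_lit 3)), ((nat_lit 264), (nat_lit 3)), ((nat_lit 265), (nat_lit 3)), ((nat_lit 267), (nat_lit 3)), ((nat_lit 277), (nat_lit 3)), ((nat_lit 278), (nat_lit 1)), ((nat_lit 279), (nat_lit 1)), ((nat_lit 280), (nat_lit 1)), ((nat_lit 281), (nat_lit 3)), ((nat_lit 282), (nat_lit 1)), ((nat_lit 284), (nat_lit 3)), ((nat_lit 285), (nat_lit 3)), ((nat_lit 289), (nat_lit 1)), ((nat_lit 295), (nat_lit 1)), ((nat_lit 296), (nat_lit 3)), ((nat_lit 297), (nat_lit 3)), ((nat_lit 298), (nat_lit 2)), ((nat_lit 301), (nat_lit 2)), ((nat_lit 303), (nat_lit 1)), ((nat_lit 306), (nat_lit 1)), ((nat_lit 313), (nat_lit 2)), ((nat_lit 315), (nat_lit 3)), ((nat_lit 316), (nat_lit 3)), ((nat_lit 318), (nat_lit 3)), ((nat_lit 319), (nat_lit 1)), ((nat_lit 321), (nat_lit 3))]⟩,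
  ⟨false, (nat_lit 0), [nat_lit 6], [nat_lit 4, nat_lit 2], [((nat_lit 158), (nat_lit 1)), ((nat_lit 188), (nat_lit 1)), ((nat_lit 190), (nat_lit 3)), ((nat_lit 192), (nat_lit 1)), ((nat_lit 207), (nat_lit 3)), ((nat_lit 210), (nat_lit 3)), ((nat_lit 222), (nat_lit 1)), ((nat_lit 226), (nat_lit 1)), ((nat_lit 227), (nat_lit 3)), ((nat_lit 260), (nat_lit 1)), ((nat_lit 263), (nat_lit 1)), ((nat_lit 265), (nat_lit 1)), ((nat_lit 267), (nat_lit 1)), ((nat_lit 273), (nat_lit 1)), ((nat_lit 277), (nat_lit 1)), ((nat_lit 280), (nat_lit 1)), ((nat_lit 282), (nat_lit 2)), ((nat_lit 284), (nat_lit 1)), ((nat_lit 285), (nat_lit 1)), ((nat_lit 290), (nat_lit 1)), ((nat_lit 292), (nat_lit 3)), ((nat_lit 294), (nat_lit 1)), ((nat_lit 297), (nat_lit 1)), ((nat_lit 299), (nat_lit 1)), ((nat_lit 301), (nat_lit 1)), ((nat_lit 302), (nat_lit 3)), ((nat_lit 309), (nat_lit 3)), ((nat_lit 311), (nat_lit 1)), ((nat_lit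 314), (nat_lit 2)), ((nat_lit 316), (nat_lit 2)), ((nat_lit 318), (nat_lit 1)), ((nat_lit 320), (nat_lit 2)), ((nat_lit 321), (nat_lit 1))]⟩,
  ⟨false, (nat_lit 0), [nat_lit 6], [nat_lit 1, nat_lit 0], [((nat_lit 139), (nat_lit 3)), ((nat_lit 152), (nat_lit 1)), ((nat_lit 153), (nat_lit 3)), ((nat_lit 169), (nat_lit 1)), ((nat_lit 170), (nat_lit 3)), ((nat_lit 186), (nat_lit 1)), ((nat_lit 190), (nat_lit 3)), ((nat_lit 193), (nat_lit 3)), ((nat_lit 203), (nat_lit 1)), ((nat_lit 210), (nat_lit 3)), ((nat_lit 212), (nat_lit 1)), ((nat_lit 224), (nat_lit 3)), ((nat_lit 229), (nat_lit 3)), ((nat_lit 231), (nat_lit 3)), ((nat_lit 246), (nat_lit 1)), ((nat_lit 247), (nat_lit 1)), ((nat_lit 249), (nat_lit 1)), ((nat_lit 272), (nat_lit 3)), ((nat_lit 275), (nat_lit 3)), ((nat_lit 278), (nat_lit 1)), ((nat_lit 279), (nat_lit 3)), ((nat_lit 280), (nat_lit 2)), ((nat_lit 282), (nat_lit 3)), ((nat_lit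 283), (nat_lit 2)), ((nat_lit 289), (nat_lit 3)), ((nat_lit 292), (nat_lit 3)), ((nat_lit 295), (nat_lit 1)), ((nat_lit 296), (nat_lit 3)), ((nat_lit 297), (nat_lit 2)), ((nat_lit 298), (nat_lit 2)), ((nat_lit 299), (nat_lit 3)), ((nat_lit 302), (nat_lit 3)), ((nat_lit 303), (nat_lit 2)), ((nat_lit 305), (nat_lit 1)), ((nat_lit 312), (nat_lit 3)), ((nat_lit 313), (nat_lit 3)), ((nat_lit 314), (nat_lit 1)), ((nat_lit 316), (nat_lit 3)), ((nat_lit 317), (nat_lit 3)), ((nat_lit 320), (nat_lit 2)), ((nat_lit 321), (nat_lit 2))]⟩,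
  ⟨false, (nat_lit 0), [nat_lit 2], [nat_lit 0, nat_lit 0], [((nat_lit 67), (nat_lit 2)), ((nat_lit 118), (nat_lit 1)), ((nat_lit 120), (nat_lit 1)), ((nat_lit 123), (nat_lit 1)), ((nat_lit 154), (nat_lit 1)), ((nat_lit 157), (nat_lit 2)), ((nat_lit 171), (nat_lit 1)), ((nat_lit 174), (nat_lit 2)), ((nat_lit 191), (nat_lit 2)), ((nat_lit 195), (nat_lit 1)), ((nat_lit 205), (nat_lit 1)), ((nat_lit 213), (nat_lit 1)), ((nat_lit 239), (nat_lit 1)), ((nat_lit 242), (nat_lit 1)), ((nat_lit 244), (nat_lit 1)), ((nat_lit 245), (nat_lit 1)), ((nat_lit 247), (nat_lit 2)), ((nat_lit 249), (nat_lit 2)), ((nat_lit 256), (nat_lit 1)), ((nat_lit 259), (nat_lit 2)), ((nat_lit 262), (nat_lit 1)), ((nat_lit 263), (nat_lit 2)), ((nat_lit 264), (nat_lit 2)), ((nat_lit 266), (nat_lit 1)), ((nat_lit 267), (nat_lit 1)), ((nat_lit 273), (nat_lit 1)), ((nat_lit 276), (nat_lit 1)), ((nat_lit 278), (nat_lit 1)), ((nat_lit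 279), (nat_lit 1)), ((nat_lit 280), (nat_lit 3)), ((nat_lit 281), (nat_lit 2)), ((nat_lit 283), (nat_lit 3)), ((nat_lit 284), (nat_lit 1)), ((nat_lit 285), (nat_lit 2)), ((nat_lit 290), (nat_lit 1)), ((nat_lit 293), (nat_lit 1)), ((nat_lit 296), (nat_lit 2)), ((nat_lit 297), (nat_lit 2)), ((nat_lit 301), (nat_lit 3)), ((nat_lit 303), (nat_lit 2)), ((nat_lit 312), (nat_lit 1)), ((nat_lit 313), (nat_lit 2)), ((nat_lit 314), (nat_lit 1)), ((nat_lit 315), (nat_lit 1)), ((nat_lit 318), (nat_lit 3)), ((nat_lit 319), (nat_lit 2)), ((nat_lit 320), (nat_lit 2))]⟩,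
  ⟨false, (nat_lit 0), [nat_lit 3], [nat_lit 1, nat_lit 0], [((nat_lit 102), (nat_lit 3)), ((nat_lit 104), (nat_lit 1)), ((nat_lit 135), (nat_lit 1)), ((nat_lit 139), (nat_lit 2)), ((nat_lit 156), (nat_lit 1)), ((nat_lit 158), (nat_lit 1)), ((nat_lit 159), (nat_lit 1)), ((nat_lit 173), (nat_lit 3)), ((nat_lit 187), (nat_lit 3)), ((nat_lit 192), (nat_lit 3)), ((nat_lit 193), (nat_lit 1)), ((nat_lit 194), (nat_lit 3)), ((nat_lit 195), (nat_lit 3)), ((nat_lit 224), (nat_lit 3)), ((nat_lit 228), (nat_lit 2)), ((nat_lit 229), (nat_lit 3)), ((nat_lit 231), (nat_lit 3)), ((nat_lit 241), (nat_lit 3)), ((nat_lit 244), (nat_lit 2)), ((nat_lit 248), (nat_lit 3)), ((nat_lit 249), (nat_lit 3)), ((nat_lit 255), (nat_lit 3)), ((nat_lit 261), (nat_lit 1)), ((nat_lit 262), (nat_lit 1)), ((nat_lit 263), (nat_lit 1)), ((nat_lit 266), (nat_lit 1)), ((nat_lit 267), (nat_lit 1)), ((nat_lit 275), (nat_lit 3)), ((nat_lit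 277), (nat_lit 1)), ((nat_lit 278), (nat_lit 1)), ((nat_lit 280), (nat_lit 3)), ((nat_lit 282), (nat_lit 3)), ((nat_lit 283), (nat_lit 1)), ((nat_lit 285), (nat_lit 3)), ((nat_lit 295), (nat_lit 1)), ((nat_lit 296), (nat_lit 3)), ((nat_lit 297), (nat_lit 3)), ((nat_lit 299), (nat_lit 2)), ((nat_lit 300), (nat_lit 3)), ((nat_lit 301), (nat_lit 3)), ((nat_lit 303), (nat_lit 2)), ((nat_lit 306), (nat_lit 3)), ((nat_lit 312), (nat_lit 1)), ((nat_lit 317), (nat_lit 3)), ((nat_lit 320), (nat_lit 2)), ((nat_lit 321), (nat_lit 3))]⟩,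
  ⟨false, (nat_lit 0), [nat_lit 1], [nat_lit 0, nat_lit 0], [((nat_lit 50), (nat_lit 2)), ((nat_lit 101), (nat_lit 1)), ((nat_lit 105), (nat_lit 1)), ((nat_lit 119), (nat_lit 1)), ((nat_lit 122), (nat_lit 2)), ((nat_lit 153), (nat_lit 1)), ((nat_lit 159), (nat_lit 1)), ((nat_lit 170), (nat_lit 1)), ((nat_lit 173), (nat_lit 2)), ((nat_lit 176), (nat_lit 1)), ((nat_lit 190), (nat_lit 1)), ((nat_lit 191), (nat_lit 1)), ((nat_lit 193), (nat_lit 1)), ((nat_lit 194), (nat_lit 2)), ((nat_lit 195), (nat_lit 2)), ((nat_lit 204), (nat_lit 1)), ((nat_lit 207), (nat_lit 2)), ((nat_lit 210), (nat_lit 2)), ((nat_lit 213), (nat_lit 1)), ((nat_lit 227), (nat_lit 1)), ((nat_lit 228), (nat_lit 1)), ((nat_lit 230), (nat_lit 1)), ((nat_lit 231), (nat_lit 1)), ((nat_lit 238), (nat_lit 1)), ((nat_lit 242), (nat_lit 1)), ((nat_lit 244), (nat_lit 2)), ((nat_lit 245), (nat_lit 2)), ((nat_lit 246), (nat_lit 1)), ((nat_lit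 247), (nat_lit 3)), ((nat_lit 248), (nat_lit 1)), ((nat_lit 249), (nat_lit 3)), ((nat_lit 255), (nat_lit 1)), ((nat_lit 258), (nat_lit 2)), ((nat_lit 261), (nat_lit 2)), ((nat_lit 262), (nat_lit 1)), ((nat_lit 264), (nat_lit 2)), ((nat_lit 265), (nat_lit 1)), ((nat_lit 267), (nat_lit 1)), ((nat_lit 272), (nat_lit 1)), ((nat_lit 275), (nat_lit 1)), ((nat_lit 281), (nat_lit 1)), ((nat_lit 283), (nat_lit 1)), ((nat_lit 285), (nat_lit 2)), ((nat_lit 289), (nat_lit 1)), ((nat_lit 292), (nat_lit 1)), ((nat_lit 296), (nat_lit 2)), ((nat_lit 297), (nat_lit 1)), ((nat_lit 298), (nat_lit 1)), ((nat_lit 299), (nat_lit 1)), ((nat_lit 300), (nat_lit 3)), ((nat_lit 301), (nat_lit 3)), ((nat_lit 302), (nat_lit 1)), ((nat_lit 303), (nat_lit 2)), ((nat_lit 309), (nat_lit 1)), ((nat_lit 310), (nat_lit 1)), ((nat_lit 312), (nat_lit 2)), ((nat_lit 313), (nat_lit 2)), ((nat_lit 314), (nat_lit 3)), ((nat_lit 316),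 (nat_lit 1)), ((nat_lit 317), (nat_lit 1)), ((nat_lit 319), (nat_lit 2)), ((nat_lit 320), (nat_lit 2))]⟩,
  ⟨false, (nat_lit 0), [nat_lit 2], [nat_lit 1, nat_lit 0], [((nat_lit 103), (nat_lit 1)), ((nat_lit 118), (nat_lit 1)), ((nat_lit 119), (nat_lit 3)), ((nat_lit 152), (nat_lit 1)), ((nat_lit 157), (nat_lit 1)), ((nat_lit 186), (nat_lit 1)), ((nat_lit 191), (nat_lit 1)), ((nat_lit 193), (nat_lit 3)), ((nat_lit 195), (nat_lit 1)), ((nat_lit 203), (nat_lit 1)), ((nat_lit 208), (nat_lit 3)), ((nat_lit 212), (nat_lit 1)), ((nat_lit 224), (nat_lit 3)), ((nat_lit 225), (nat_lit 2)), ((nat_lit 227), (nat_lit 1)), ((nat_lit 229), (nat_lit 3)), ((nat_lit 230), (nat_lit 2)), ((nat_lit 241), (nat_lit 3)), ((nat_lit 258), (nat_lit 3)), ((nat_lit 259), (nat_lit 2)), ((nat_lit 261), (nat_lit 1)), ((nat_lit 263), (nat_lit 3)), ((nat_lit 264), (nat_lit 2)), ((nat_lit 266), (nat_lit 1)), ((nat_lit 271),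 (nat_lit 1)), ((nat_lit 275), (nat_lit 3)), ((nat_lit 276), (nat_lit 1)), ((nat_lit 278), (nat_lit 3)), ((nat_lit 281), (nat_lit 1)), ((nat_lit 282), (nat_lit 3)), ((nat_lit 283), (nat_lit 3)), ((nat_lit 284), (nat_lit 2)), ((nat_lit 285), (nat_lit 1)), ((nat_lit 288), (nat_lit 1)), ((nat_lit 293), (nat_lit 1)), ((nat_lit 297), (nat_lit 2)), ((nat_lit 299), (nat_lit 2)), ((nat_lit 300), (nat_lit 3)), ((nat_lit 303), (nat_lit 2)), ((nat_lit 305), (nat_lit 1)), ((nat_lit 309), (nat_lit 3)), ((nat_lit 314), (nat_lit 1)), ((nat_lit 315), (nat_lit 3)), ((nat_lit 316), (nat_lit 3)), ((nat_lit 318), (nat_lit 2)), ((nat_lit 320), (nat_lit 1)), ((nat_lit 321), (nat_lit 3))]⟩,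
  ⟨false, (nat_lit 0), [nat_lit 1], [nat_lit 1, nat_lit 1], [((nat_lit 102), (nat_lit 1)), ((nat_lit 119), (nat_lit 1)), ((nat_lit 136), (nat_lit 1)), ((nat_lit 158), (nat_lit 1)), ((nat_lit 159), (nat_lit 1)), ((nat_lit 170), (nat_lit 1)), ((nat_lit 174), (nat_lit 1)), ((nat_lit 175), (nat_lit 1)), ((nat_lit 176), (nat_lit 2)), ((nat_lit 177), (nat_lit 1)), ((nat_lit 192), (nat_lit 1)), ((nat_lit 193), (nat_lit 1)), ((nat_lit 194), (nat_lit 1)), ((nat_lit 195), (nat_lit 1)), ((nat_lit 209), (nat_lit 1)), ((nat_lit 210), (nat_lit 1)), ((nat_lit 211), (nat_lit 1)), ((nat_lit 212), (nat_lit 1)), ((nat_lit 213), (nat_lit 1)), ((nat_lit 221), (nat_lit 1)), ((nat_lit 226), (nat_lit 1)), ((nat_lit 227), (nat_lit 1)), ((nat_lit 228), (nat_lit 2)), ((nat_lit 229), (nat_lit 1)), ((nat_lit 230), (nat_lit 1)), ((nat_lit 231), (nat_lit 1)), ((nat_lit 244), (nat_lit 1)), ((nat_lit 246), (nat_lit 1)), ((nat_lit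 247), (nat_lit 1)), ((nat_lit 248), (nat_lit 1)), ((nat_lit 249), (nat_lit 1)), ((nat_lit 255), (nat_lit 1)), ((nat_lit 260), (nat_lit 1)), ((nat_lit 261), (nat_lit 1)), ((nat_lit 262), (nat_lit 3)), ((nat_lit 263), (nat_lit 1)), ((nat_lit 264), (nat_lit 1)), ((nat_lit 265), (nat_lit 2)), ((nat_lit 267), (nat_lit 2)), ((nat_lit 278), (nat_lit 2)), ((nat_lit 279), (nat_lit 1)), ((nat_lit 280), (nat_lit 3)), ((nat_lit 283), (nat_lit 1)), ((nat_lit 289), (nat_lit 1)), ((nat_lit 294), (nat_lit 1)), ((nat_lit 296), (nat_lit 3)), ((nat_lit 297), (nat_lit 1)), ((nat_lit 300), (nat_lit 2)), ((nat_lit 301), (nat_lit 1)), ((nat_lit 302), (nat_lit 2)), ((nat_lit 312), (nat_lit 2)), ((nat_lit 313), (nat_lit 3)), ((nat_lit 314), (nat_lit 2)), ((nat_lit 315), (nat_lit 3)), ((nat_lit 316), (nat_lit 3)), ((nat_lit 317), (nat_lit 2)), ((nat_lit 319), (nat_lit 2)), ((nat_lit 320), (nat_lit 1)), ((nat_lit 321),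 (nat_lit 1))]⟩,
  ⟨false, (nat_lit 0), [nat_lit 3], [nat_lit 2, nat_lit 0], [((nat_lit 103), (nat_lit 3)), ((nat_lit 118), (nat_lit 1)), ((nat_lit 121), (nat_lit 1)), ((nat_lit 152), (nat_lit 1)), ((nat_lit 157), (nat_lit 1)), ((nat_lit 188), (nat_lit 3)), ((nat_lit 190), (nat_lit 1)), ((nat_lit 193), (nat_lit 3)), ((nat_lit 195), (nat_lit 1)), ((nat_lit 207), (nat_lit 1)), ((nat_lit 208), (nat_lit 1)), ((nat_lit 212), (nat_lit 2)), ((nat_lit 213), (nat_lit 1)), ((nat_lit 224), (nat_lit 1)), ((nat_lit 227), (nat_lit 1)), ((nat_lit 229), (nat_lit 2)), ((nat_lit 230), (nat_lit 1)), ((nat_lit 246), (nat_lit 2)), ((nat_lit 247), (nat_lit 2)), ((nat_lit 256), (nat_lit 3)), ((nat_lit 258), (nat_lit 1)), ((nat_lit 276), (nat_lit 1)), ((nat_lit 278), (nat_lit 3)), ((nat_lit 280), (nat_lit 2)), ((nat_lit 281), (nat_lit 2)), ((nat_lit 282), (nat_lit 3)), ((nat_lit 284), (nat_lit 1)), ((nat_lit 285),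 (nat_lit 1)), ((nat_lit 288), (nat_lit 1)), ((nat_lit 293), (nat_lit 3)), ((nat_lit 297), (nat_lit 1)), ((nat_lit 298), (nat_lit 2)), ((nat_lit 300), (nat_lit 3)), ((nat_lit 301), (nat_lit 3)), ((nat_lit 303), (nat_lit 2)), ((nat_lit 307), (nat_lit 3)), ((nat_lit 309), (nat_lit 1)), ((nat_lit 310), (nat_lit 3)), ((nat_lit 314), (nat_lit 2)), ((nat_lit 316), (nat_lit 3)), ((nat_lit 318), (nat_lit 3)), ((nat_lit 319), (nat_lit 3)), ((nat_lit 321), (nat_lit 1))]⟩,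
  ⟨false, (nat_lit 0), [nat_lit 3], [nat_lit 3, nat_lit 1], [((nat_lit 85), (nat_lit 2)), ((nat_lit 102), (nat_lit 1)), ((nat_lit 119), (nat_lit 1)), ((nat_lit 138), (nat_lit 3)), ((nat_lit 141), (nat_lit 3)), ((nat_lit 158), (nat_lit 3)), ((nat_lit 170), (nat_lit 1)), ((nat_lit 174), (nat_lit 1)), ((nat_lit 175), (nat_lit 3)), ((nat_lit 187), (nat_lit 1)), ((nat_lit 192), (nat_lit 3)), ((nat_lit 193), (nat_lit 3)), ((nat_lit 204), (nat_lit 1)), ((nat_lit 209), (nat_lit 3)), ((nat_lit 210), (nat_lit 3)), ((nat_lit 221), (nat_lit 1)), ((nat_lit 226), (nat_lit 2)), ((nat_lit 227), (nat_lit 3)), ((nat_lit 229), (nat_lit 3)), ((nat_lit 230), (nat_lit 3)), ((nat_lit 231), (nat_lit 1)), ((nat_lit 243), (nat_lit 3)), ((nat_lit 244), (nat_lit 1)), ((nat_lit 246), (nat_lit 1)), ((nat_lit 247), (nat_lit 2)), ((nat_lit 248), (nat_lit 2)), ((nat_lit 249), (nat_lit 1)), ((nat_lit 255), (nat_lit 1)), ((nat_lit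 260), (nat_lit 2)), ((nat_lit 262), (nat_lit 1)), ((nat_lit 265), (nat_lit 3)), ((nat_lit 278), (nat_lit 3)), ((nat_lit 280), (nat_lit 3)), ((nat_lit 281), (nat_lit 2)), ((nat_lit 283), (nat_lit 1)), ((nat_lit 285), (nat_lit 2)), ((nat_lit 299), (nat_lit 1)), ((nat_lit 300), (nat_lit 1)), ((nat_lit 301), (nat_lit 2)), ((nat_lit 302), (nat_lit 3)), ((nat_lit 303), (nat_lit 3)), ((nat_lit 314), (nat_lit 2)), ((nat_lit 318), (nat_lit 1)), ((nat_lit 319), (nat_lit 1)), ((nat_lit 320), (nat_lit 1))]⟩,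
  ⟨false, (nat_lit 0), [nat_lit 3], [nat_lit 2, nat_lit 1], [((nat_lit 119), (nat_lit 1)), ((nat_lit 121), (nat_lit 1)), ((nat_lit 137), (nat_lit 3)), ((nat_lit 153), (nat_lit 1)), ((nat_lit 155), (nat_lit 1)), ((nat_lit 157), (nat_lit 3)), ((nat_lit 158), (nat_lit 3)), ((nat_lit 159), (nat_lit 1)), ((nat_lit 189), (nat_lit 1)), ((nat_lit 192), (nat_lit 1)), ((nat_lit 193), (nat_lit 1)), ((nat_lit 195), (nat_lit 1)), ((nat_lit 206), (nat_lit 1)), ((nat_lit 208), (nat_lit 3)), ((nat_lit 210), (nat_lit 1)), ((nat_lit 212), (nat_lit 3)), ((nat_lit 213), (nat_lit 1)), ((nat_lit 225), (nat_lit 1)), ((nat_lit 226), (nat_lit 1)), ((nat_lit 227), (nat_lit 2)), ((nat_lit 229), (nat_lit 3)), ((nat_lit 230), (nat_lit 2)), ((nat_lit 231), (nat_lit 1)), ((nat_lit 242), (nat_lit 1)), ((nat_lit 243), (nat_lit 1)), ((nat_lit 244), (nat_lit 3)), ((nat_lit 246), (nat_lit 3)), ((nat_lit 247), (nat_lit 3)), ((nat_lit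 248), (nat_lit 1)), ((nat_lit 249), (nat_lit 1)), ((nat_lit 259), (nat_lit 3)), ((nat_lit 261), (nat_lit 1)), ((nat_lit 266), (nat_lit 1)), ((nat_lit 267), (nat_lit 1)), ((nat_lit 274), (nat_lit 1)), ((nat_lit 276), (nat_lit 1)), ((nat_lit 277), (nat_lit 1)), ((nat_lit 278), (nat_lit 2)), ((nat_lit 280), (nat_lit 1)), ((nat_lit 281), (nat_lit 2)), ((nat_lit 282), (nat_lit 2)), ((nat_lit 283), (nat_lit 1)), ((nat_lit 284), (nat_lit 1)), ((nat_lit 285), (nat_lit 1)), ((nat_lit 289), (nat_lit 1)), ((nat_lit 291), (nat_lit 1)), ((nat_lit 295), (nat_lit 1)), ((nat_lit 297), (nat_lit 3)), ((nat_lit 298), (nat_lit 1)), ((nat_lit 299), (nat_lit 2)), ((nat_lit 300), (nat_lit 1)), ((nat_lit 301), (nat_lit 1)), ((nat_lit 303), (nat_lit 1)), ((nat_lit 308), (nat_lit 1)), ((nat_lit 310), (nat_lit 1)), ((nat_lit 312), (nat_lit 3)), ((nat_lit 317), (nat_lit 2)), ((nat_lit 318), (nat_lit 2)), ((nat_lit 320),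 (nat_lit 1)), ((nat_lit 321), (nat_lit 3))]⟩,
  ⟨true, (nat_lit 4), [nat_lit 0, nat_lit 1], [nat_lit 1, nat_lit 0, nat_lit 2], [((nat_lit 2), (nat_lit 1)), ((nat_lit 245), (nat_lit 1)), ((nat_lit 290), (nat_lit 3)), ((nat_lit 298), (nat_lit 3)), ((nat_lit 299), (nat_lit 3)), ((nat_lit 300), (nat_lit 3)), ((nat_lit 315), (nat_lit 3)), ((nat_lit 316), (nat_lit 3)), ((nat_lit 317), (nat_lit 3))]⟩,
  ⟨true, (nat_lit 1), [nat_lit 3, nat_lit 4], [nat_lit 4, nat_lit 3, nat_lit 5], [((nat_lit 5), (nat_lit 1)), ((nat_lit 237), (nat_lit 1)), ((nat_lit 241), (nat_lit 3)), ((nat_lit 243), (nat_lit 1)), ((nat_lit 244), (nat_lit 3)), ((nat_lit 245), (nat_lit 1)), ((nat_lit 247), (nat_lit 3)), ((nat_lit 248), (nat_lit 3)), ((nat_lit 271), (nat_lit 1)), ((nat_lit 277), (nat_lit 1)), ((nat_lit 279), (nat_lit 1)), ((nat_lit 295), (nat_lit 3)), ((nat_lit 298), (nat_lit 3)), ((nat_lit 299), (nat_lit 3)), ((nat_lit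 300), (nat_lit 3)), ((nat_lit 302), (nat_lit 1)), ((nat_lit 303), (nat_lit 1)), ((nat_lit 309), (nat_lit 3)), ((nat_lit 315), (nat_lit 3)), ((nat_lit 316), (nat_lit 3)), ((nat_lit 319), (nat_lit 1)), ((nat_lit 320), (nat_lit 3)), ((nat_lit 321), (nat_lit 3))]⟩,
  ⟨true, (nat_lit 1), [nat_lit 6, nat_lit 7], [nat_lit 7, nat_lit 6, nat_lit 5], [((nat_lit 5), (nat_lit 1)), ((nat_lit 120), (nat_lit 1)), ((nat_lit 174), (nat_lit 3)), ((nat_lit 193), (nat_lit 3)), ((nat_lit 194), (nat_lit 3)), ((nat_lit 244), (nat_lit 3)), ((nat_lit 246), (nat_lit 1)), ((nat_lit 263), (nat_lit 1)), ((nat_lit 266), (nat_lit 1)), ((nat_lit 278), (nat_lit 3)), ((nat_lit 283), (nat_lit 3)), ((nat_lit 284), (nat_lit 3)), ((nat_lit 300), (nat_lit 2)), ((nat_lit 301), (nat_lit 3)), ((nat_lit 302), (nat_lit 3)), ((nat_lit 319), (nat_lit 3)), ((nat_lit 321), (nat_lit 3))]⟩,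
  ⟨true, (nat_lit 2), [nat_lit 8, nat_lit 9], [nat_lit 9, nat_lit 8], [((nat_lit 158), (nat_lit 3)), ((nat_lit 175), (nat_lit 3)), ((nat_lit 193), (nat_lit 1)), ((nat_lit 194), (nat_lit 1)), ((nat_lit 243), (nat_lit 3)), ((nat_lit 246), (nat_lit 3)), ((nat_lit 260), (nat_lit 3)), ((nat_lit 262), (nat_lit 3)), ((nat_lit 263), (nat_lit 3)), ((nat_lit 267), (nat_lit 3)), ((nat_lit 295), (nat_lit 1)), ((nat_lit 299), (nat_lit 1)), ((nat_lit 300), (nat_lit 3)), ((nat_lit 301), (nat_lit 2)), ((nat_lit 311), (nat_lit 3)), ((nat_lit 312), (nat_lit 1)), ((nat_lit 314), (nat_lit 3)), ((nat_lit 317), (nat_lit 1)), ((nat_lit 320), (nat_lit 3)), ((nat_lit 321), (nat_lit 3))]⟩,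
  ⟨true, (nat_lit 5), [nat_lit 10, nat_lit 11], [nat_lit 11, nat_lit 10, nat_lit 12], [((nat_lit 12), (nat_lit 1)), ((nat_lit 193), (nat_lit 3)), ((nat_lit 210), (nat_lit 3)), ((nat_lit 212), (nat_lit 1)), ((nat_lit 229), (nat_lit 1)), ((nat_lit 230), (nat_lit 1)), ((nat_lit 261), (nat_lit 3)), ((nat_lit 263), (nat_lit 1)), ((nat_lit 265), (nat_lit 3)), ((nat_lit 276), (nat_lit 1)), ((nat_lit 278), (nat_lit 3)), ((nat_lit 281), (nat_lit 3)), ((nat_lit 282), (nat_lit 3)), ((nat_lit 284), (nat_lit 3)), ((nat_lit 297), (nat_lit 1)), ((nat_lit 298), (nat_lit 1)), ((nat_lit 301), (nat_lit 1)), ((nat_lit 302), (nat_lit 1)), ((nat_lit 314), (nat_lit 1)), ((nat_lit 316), (nat_lit 2)), ((nat_lit 318), (nat_lit 3)), ((nat_lit 319), (nat_lit 2)), ((nat_lit 320), (nat_lit 1)), ((nat_lit 321), (nat_lit 1))]⟩,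
  ⟨true, (nat_lit 4), [nat_lit 13, nat_lit 1], [nat_lit 1, nat_lit 13, nat_lit 14, nat_lit 2], [((nat_lit 14), (nat_lit 1)), ((nat_lit 2), (nat_lit 1)), ((nat_lit 120), (nat_lit 3)), ((nat_lit 208), (nat_lit 1)), ((nat_lit 211), (nat_lit 1)), ((nat_lit 225), (nat_lit 1)), ((nat_lit 242), (nat_lit 1)), ((nat_lit 247), (nat_lit 3)), ((nat_lit 248), (nat_lit 3)), ((nat_lit 256), (nat_lit 3)), ((nat_lit 264), (nat_lit 3)), ((nat_lit 265), (nat_lit 3)), ((nat_lit 273), (nat_lit 3)), ((nat_lit 283), (nat_lit 1)), ((nat_lit 284), (nat_lit 3)), ((nat_lit 290), (nat_lit 3)), ((nat_lit 298), (nat_lit 3)), ((nat_lit 299), (nat_lit 3)), ((nat_lit 301), (nat_lit 1)), ((nat_lit 302), (nat_lit 1)), ((nat_lit 303), (nat_lit 1)), ((nat_lit 307), (nat_lit 3)), ((nat_lit 320), (nat_lit 1))]⟩,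
  ⟨true, (nat_lit 4), [nat_lit 13, nat_lit 15], [nat_lit 15, nat_lit 13, nat_lit 0, nat_lit 16, nat_lit 2], [((nat_lit 0), (nat_lit 1)), ((nat_lit 16), (nat_lit 1)), ((nat_lit 2), (nat_lit 1)), ((nat_lit 118), (nat_lit 3)), ((nat_lit 191), (nat_lit 3)), ((nat_lit 203), (nat_lit 1)), ((nat_lit 207), (nat_lit 1)), ((nat_lit 208), (nat_lit 3)), ((nat_lit 241), (nat_lit 1)), ((nat_lit 254), (nat_lit 3)), ((nat_lit 271), (nat_lit 3)), ((nat_lit 276), (nat_lit 1)), ((nat_lit 283), (nat_lit 1)), ((nat_lit 288), (nat_lit 3)), ((nat_lit 297), (nat_lit 1)), ((nat_lit 298), (nat_lit 1)), ((nat_lit 300), (nat_lit 1)), ((nat_lit 301), (nat_lit 3)), ((nat_lit 303), (nat_lit 1)), ((nat_lit 305), (nat_lit 3)), ((nat_lit 309), (nat_lit 1)), ((nat_lit 314), (nat_lit 1)), ((nat_lit 317), (nat_lit 1)), ((nat_lit 318), (nat_lit 3)), ((nat_lit 320), (nat_lit 1)), ((nat_lit 321), (nat_lit 1))]⟩,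
  ⟨true, (nat_lit 4), [nat_lit 17, nat_lit 15], [nat_lit 15, nat_lit 17, nat_lit 16, nat_lit 14], [((nat_lit 16), (nat_lit 1)), ((nat_lit 14), (nat_lit 1)), ((nat_lit 118), (nat_lit 3)), ((nat_lit 190), (nat_lit 1)), ((nat_lit 203), (nat_lit 3)), ((nat_lit 242), (nat_lit 3)), ((nat_lit 259), (nat_lit 1)), ((nat_lit 263), (nat_lit 2)), ((nat_lit 264), (nat_lit 2)), ((nat_lit 266), (nat_lit 1)), ((nat_lit 271), (nat_lit 3)), ((nat_lit 275), (nat_lit 1)), ((nat_lit 281), (nat_lit 1)), ((nat_lit 283), (nat_lit 1)), ((nat_lit 284), (nat_lit 3)), ((nat_lit 293), (nat_lit 1)), ((nat_lit 297), (nat_lit 1)), ((nat_lit 298), (nat_lit 1)), ((nat_lit 300), (nat_lit 3)), ((nat_lit 302), (nat_lit 1)), ((nat_lit 317), (nat_lit 1)), ((nat_lit 318), (nat_lit 1)), ((nat_lit 319), (nat_lit 1)), ((nat_lit 321), (nat_lit 1))]⟩,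
  ⟨true, (nat_lit 4), [nat_lit 1, nat_lit 18], [nat_lit 18, nat_lit 1, nat_lit 19, nat_lit 2], [((nat_lit 19), (nat_lit 1)), ((nat_lit 2), (nat_lit 1)), ((nat_lit 120), (nat_lit 1)), ((nat_lit 137), (nat_lit 1)), ((nat_lit 154), (nat_lit 1)), ((nat_lit 171), (nat_lit 1)), ((nat_lit 175), (nat_lit 1)), ((nat_lit 193), (nat_lit 1)), ((nat_lit 194), (nat_lit 1)), ((nat_lit 195), (nat_lit 1)), ((nat_lit 208), (nat_lit 3)), ((nat_lit 209), (nat_lit 3)), ((nat_lit 212), (nat_lit 1)), ((nat_lit 213), (nat_lit 1)), ((nat_lit 222), (nat_lit 1)), ((nat_lit 225), (nat_lit 3)), ((nat_lit 226), (nat_lit 3)), ((nat_lit 227), (nat_lit 3)), ((nat_lit 228), (nat_lit 3)), ((nat_lit 230), (nat_lit 1)), ((nat_lit 239), (nat_lit 1)), ((nat_lit 242), (nat_lit 3)), ((nat_lit 246), (nat_lit 2)), ((nat_lit 247), (nat_lit 3)), ((nat_lit 249), (nat_lit 1)), ((nat_lit 256), (nat_lit 1)), ((nat_lit 262), (nat_lit 1)),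 ((nat_lit 263), (nat_lit 1)), ((nat_lit 264), (nat_lit 1)), ((nat_lit 266), (nat_lit 2)), ((nat_lit 267), (nat_lit 2)), ((nat_lit 273), (nat_lit 1)), ((nat_lit 277), (nat_lit 1)), ((nat_lit 278), (nat_lit 1)), ((nat_lit 279), (nat_lit 1)), ((nat_lit 280), (nat_lit 2)), ((nat_lit 281), (nat_lit 3)), ((nat_lit 282), (nat_lit 1)), ((nat_lit 283), (nat_lit 2)), ((nat_lit 294), (nat_lit 3)), ((nat_lit 297), (nat_lit 1)), ((nat_lit 298), (nat_lit 3)), ((nat_lit 300), (nat_lit 1)), ((nat_lit 302), (nat_lit 1)), ((nat_lit 307), (nat_lit 1)), ((nat_lit 312), (nat_lit 3)), ((nat_lit 313), (nat_lit 3)), ((nat_lit 314), (nat_lit 1)), ((nat_lit 315), (nat_lit 3)), ((nat_lit 316), (nat_lit 3)), ((nat_lit 317), (nat_lit 3)), ((nat_lit 319), (nat_lit 1)), ((nat_lit 320), (nat_lit 2)), ((nat_lit 321), (nat_lit 3))]⟩,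
  ⟨true, (nat_lit 0), [nat_lit 20, nat_lit 21], [nat_lit 21, nat_lit 20], [((nat_lit 101), (nat_lit 1)), ((nat_lit 103), (nat_lit 1)), ((nat_lit 118), (nat_lit 1)), ((nat_lit 120), (nat_lit 1)), ((nat_lit 139), (nat_lit 3)), ((nat_lit 140), (nat_lit 3)), ((nat_lit 154), (nat_lit 1)), ((nat_lit 156), (nat_lit 3)), ((nat_lit 157), (nat_lit 1)), ((nat_lit 159), (nat_lit 1)), ((nat_lit 186), (nat_lit 1)), ((nat_lit 192), (nat_lit 1)), ((nat_lit 205), (nat_lit 1)), ((nat_lit 209), (nat_lit 1)), ((nat_lit 212), (nat_lit 3)), ((nat_lit 224), (nat_lit 3)), ((nat_lit 225), (nat_lit 1)), ((nat_lit 226), (nat_lit 1)), ((nat_lit 227), (nat_lit 1)), ((nat_lit 230), (nat_lit 1)), ((nat_lit 241), (nat_lit 3)), ((nat_lit 242), (nat_lit 3)), ((nat_lit 243), (nat_lit 1)), ((nat_lit 244), (nat_lit 1)), ((nat_lit 246), (nat_lit 3)), ((nat_lit 247), (nat_lit 1)), ((nat_lit 248), (nat_lit 1)), ((nat_lit 254), (nat_lit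 1)), ((nat_lit 256), (nat_lit 1)), ((nat_lit 258), (nat_lit 3)), ((nat_lit 260), (nat_lit 1)), ((nat_lit 261), (nat_lit 2)), ((nat_lit 263), (nat_lit 3)), ((nat_lit 265), (nat_lit 1)), ((nat_lit 266), (nat_lit 2)), ((nat_lit 267), (nat_lit 1)), ((nat_lit 275), (nat_lit 3)), ((nat_lit 276), (nat_lit 1)), ((nat_lit 280), (nat_lit 1)), ((nat_lit 281), (nat_lit 1)), ((nat_lit 282), (nat_lit 1)), ((nat_lit 283), (nat_lit 2)), ((nat_lit 284), (nat_lit 1)), ((nat_lit 285), (nat_lit 2)), ((nat_lit 293), (nat_lit 1)), ((nat_lit 297), (nat_lit 2)), ((nat_lit 298), (nat_lit 2)), ((nat_lit 299), (nat_lit 2)), ((nat_lit 301), (nat_lit 1)), ((nat_lit 302), (nat_lit 2)), ((nat_lit 307), (nat_lit 1)), ((nat_lit 309), (nat_lit 3)), ((nat_lit 310), (nat_lit 1)), ((nat_lit 311), (nat_lit 1)), ((nat_lit 314), (nat_lit 3)), ((nat_lit 315), (nat_lit 3)), ((nat_lit 316), (nat_lit 2)), ((nat_lit 317), (nat_lit 2)),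 ((nat_lit 318), (nat_lit 2)), ((nat_lit 319), (nat_lit 2)), ((nat_lit 320), (nat_lit 1)), ((nat_lit 321), (nat_lit 1))]⟩,
  ⟨true, (nat_lit 3), [nat_lit 22, nat_lit 23], [nat_lit 23, nat_lit 22], [((nat_lit 136), (nat_lit 1)), ((nat_lit 138), (nat_lit 1)), ((nat_lit 139), (nat_lit 1)), ((nat_lit 140), (nat_lit 1)), ((nat_lit 155), (nat_lit 1)), ((nat_lit 159), (nat_lit 1)), ((nat_lit 172), (nat_lit 1)), ((nat_lit 176), (nat_lit 1)), ((nat_lit 177), (nat_lit 1)), ((nat_lit 189), (nat_lit 1)), ((nat_lit 191), (nat_lit 1)), ((nat_lit 193), (nat_lit 1)), ((nat_lit 195), (nat_lit 3)), ((nat_lit 206), (nat_lit 1)), ((nat_lit 207), (nat_lit 1)), ((nat_lit 208), (nat_lit 1)), ((nat_lit 209), (nat_lit 3)), ((nat_lit 210), (nat_lit 1)), ((nat_lit 211), (nat_lit 1)), ((nat_lit 212), (nat_lit 3)), ((nat_lit 213), (nat_lit 2)), ((nat_lit 221), (nat_lit 1)), ((nat_lit 223), (nat_lit 1)), ((nat_lit 225),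 (nat_lit 1)), ((nat_lit 226), (nat_lit 3)), ((nat_lit 229), (nat_lit 1)), ((nat_lit 230), (nat_lit 3)), ((nat_lit 231), (nat_lit 1)), ((nat_lit 241), (nat_lit 1)), ((nat_lit 242), (nat_lit 1)), ((nat_lit 244), (nat_lit 1)), ((nat_lit 245), (nat_lit 1)), ((nat_lit 247), (nat_lit 3)), ((nat_lit 248), (nat_lit 2)), ((nat_lit 249), (nat_lit 2)), ((nat_lit 257), (nat_lit 1)), ((nat_lit 261), (nat_lit 2)), ((nat_lit 262), (nat_lit 1)), ((nat_lit 263), (nat_lit 3)), ((nat_lit 264), (nat_lit 2)), ((nat_lit 265), (nat_lit 2)), ((nat_lit 266), (nat_lit 1)), ((nat_lit 267), (nat_lit 2)), ((nat_lit 274), (nat_lit 1)), ((nat_lit 278), (nat_lit 1)), ((nat_lit 280), (nat_lit 2)), ((nat_lit 283), (nat_lit 2)), ((nat_lit 284), (nat_lit 3)), ((nat_lit 285), (nat_lit 3)), ((nat_lit 292), (nat_lit 1)), ((nat_lit 295), (nat_lit 1)), ((nat_lit 297), (nat_lit 3)), ((nat_lit 299), (nat_lit 2)), ((nat_lit 300), (nat_lit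 2)), ((nat_lit 301), (nat_lit 2)), ((nat_lit 302), (nat_lit 3)), ((nat_lit 303), (nat_lit 3)), ((nat_lit 306), (nat_lit 1)), ((nat_lit 308), (nat_lit 1)), ((nat_lit 311), (nat_lit 3)), ((nat_lit 313), (nat_lit 2)), ((nat_lit 314), (nat_lit 2)), ((nat_lit 315), (nat_lit 2)), ((nat_lit 316), (nat_lit 3)), ((nat_lit 317), (nat_lit 1)), ((nat_lit 318), (nat_lit 2)), ((nat_lit 319), (nat_lit 1)), ((nat_lit 321), (nat_lit 1))]⟩,
  ⟨true, (nat_lit 4), [nat_lit 24, nat_lit 1], [nat_lit 1, nat_lit 24, nat_lit 14], [((nat_lit 14), (nat_lit 1)), ((nat_lit 68), (nat_lit 1)), ((nat_lit 86), (nat_lit 3)), ((nat_lit 103), (nat_lit 3)), ((nat_lit 121), (nat_lit 1)), ((nat_lit 155), (nat_lit 1)), ((nat_lit 156), (nat_lit 3)), ((nat_lit 189), (nat_lit 1)), ((nat_lit 190), (nat_lit 1)), ((nat_lit 193), (nat_lit 3)), ((nat_lit 195), (nat_lit 1)), ((nat_lit 204), (nat_lit 1)), ((nat_lit 205), (nat_lit 3)), ((nat_lit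 207), (nat_lit 1)), ((nat_lit 210), (nat_lit 1)), ((nat_lit 212), (nat_lit 2)), ((nat_lit 213), (nat_lit 1)), ((nat_lit 221), (nat_lit 1)), ((nat_lit 222), (nat_lit 3)), ((nat_lit 223), (nat_lit 1)), ((nat_lit 227), (nat_lit 1)), ((nat_lit 228), (nat_lit 1)), ((nat_lit 229), (nat_lit 2)), ((nat_lit 230), (nat_lit 3)), ((nat_lit 238), (nat_lit 1)), ((nat_lit 240), (nat_lit 1)), ((nat_lit 244), (nat_lit 2)), ((nat_lit 248), (nat_lit 2)), ((nat_lit 249), (nat_lit 1)), ((nat_lit 261), (nat_lit 1)), ((nat_lit 263), (nat_lit 2)), ((nat_lit 264), (nat_lit 3)), ((nat_lit 265), (nat_lit 1)), ((nat_lit 266), (nat_lit 1)), ((nat_lit 267), (nat_lit 1)), ((nat_lit 273), (nat_lit 3)), ((nat_lit 274), (nat_lit 1)), ((nat_lit 275), (nat_lit 1)), ((nat_lit 278), (nat_lit 3)), ((nat_lit 280), (nat_lit 3)), ((nat_lit 281), (nat_lit 1)), ((nat_lit 283), (nat_lit 2)), ((nat_lit 284), (nat_lit 1)), ((nat_lit 285),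 (nat_lit 2)), ((nat_lit 290), (nat_lit 3)), ((nat_lit 291), (nat_lit 1)), ((nat_lit 295), (nat_lit 3)), ((nat_lit 297), (nat_lit 2)), ((nat_lit 298), (nat_lit 1)), ((nat_lit 299), (nat_lit 3)), ((nat_lit 300), (nat_lit 3)), ((nat_lit 302), (nat_lit 2)), ((nat_lit 303), (nat_lit 2)), ((nat_lit 307), (nat_lit 3)), ((nat_lit 308), (nat_lit 1)), ((nat_lit 309), (nat_lit 1)), ((nat_lit 312), (nat_lit 3)), ((nat_lit 314), (nat_lit 2)), ((nat_lit 315), (nat_lit 2)), ((nat_lit 317), (nat_lit 1)), ((nat_lit 319), (nat_lit 1)), ((nat_lit 320), (nat_lit 1)), ((nat_lit 321), (nat_lit 1))]⟩,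
  ⟨true, (nat_lit 4), [nat_lit 24, nat_lit 15], [nat_lit 15, nat_lit 24, nat_lit 0, nat_lit 19, nat_lit 14], [((nat_lit 0), (nat_lit 1)), ((nat_lit 19), (nat_lit 1)), ((nat_lit 14), (nat_lit 1)), ((nat_lit 50), (nat_lit 3)), ((nat_lit 84), (nat_lit 3)), ((nat_lit 101), (nat_lit 3)), ((nat_lit 104), (nat_lit 3)), ((nat_lit 105), (nat_lit 3)), ((nat_lit 119), (nat_lit 1)), ((nat_lit 121), (nat_lit 1)), ((nat_lit 122), (nat_lit 1)), ((nat_lit 155), (nat_lit 1)), ((nat_lit 156), (nat_lit 2)), ((nat_lit 189), (nat_lit 1)), ((nat_lit 190), (nat_lit 1)), ((nat_lit 195), (nat_lit 1)), ((nat_lit 203), (nat_lit 3)), ((nat_lit 206), (nat_lit 1)), ((nat_lit 208), (nat_lit 3)), ((nat_lit 210), (nat_lit 1)), ((nat_lit 212), (nat_lit 2)), ((nat_lit 213), (nat_lit 1)), ((nat_lit 223), (nat_lit 1)), ((nat_lit 224), (nat_lit 1)), ((nat_lit 225), (nat_lit 3)), ((nat_lit 227), (nat_lit 1)), ((nat_lit 229), (nat_lit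 2)), ((nat_lit 230), (nat_lit 1)), ((nat_lit 231), (nat_lit 1)), ((nat_lit 240), (nat_lit 1)), ((nat_lit 241), (nat_lit 1)), ((nat_lit 242), (nat_lit 3)), ((nat_lit 244), (nat_lit 2)), ((nat_lit 247), (nat_lit 3)), ((nat_lit 248), (nat_lit 1)), ((nat_lit 249), (nat_lit 1)), ((nat_lit 255), (nat_lit 1)), ((nat_lit 258), (nat_lit 1)), ((nat_lit 259), (nat_lit 3)), ((nat_lit 261), (nat_lit 1)), ((nat_lit 263), (nat_lit 1)), ((nat_lit 264), (nat_lit 2)), ((nat_lit 265), (nat_lit 1)), ((nat_lit 266), (nat_lit 2)), ((nat_lit 267), (nat_lit 1)), ((nat_lit 271), (nat_lit 3)), ((nat_lit 272), (nat_lit 1)), ((nat_lit 274), (nat_lit 1)), ((nat_lit 275), (nat_lit 1)), ((nat_lit 280), (nat_lit 3)), ((nat_lit 281), (nat_lit 1)), ((nat_lit 282), (nat_lit 1)), ((nat_lit 283), (nat_lit 1)), ((nat_lit 284), (nat_lit 3)), ((nat_lit 285), (nat_lit 1)), ((nat_lit 288), (nat_lit 3)), ((nat_lit 289), (nat_lit 1)),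 ((nat_lit 292), (nat_lit 1)), ((nat_lit 293), (nat_lit 3)), ((nat_lit 295), (nat_lit 1)), ((nat_lit 297), (nat_lit 3)), ((nat_lit 299), (nat_lit 1)), ((nat_lit 302), (nat_lit 1)), ((nat_lit 303), (nat_lit 3)), ((nat_lit 305), (nat_lit 3)), ((nat_lit 306), (nat_lit 1)), ((nat_lit 309), (nat_lit 3)), ((nat_lit 315), (nat_lit 1)), ((nat_lit 316), (nat_lit 2)), ((nat_lit 317), (nat_lit 2)), ((nat_lit 318), (nat_lit 2)), ((nat_lit 319), (nat_lit 2)), ((nat_lit 320), (nat_lit 2)), ((nat_lit 321), (nat_lit 2))]⟩,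
  ⟨true, (nat_lit 5), [nat_lit 25, nat_lit 26], [nat_lit 26, nat_lit 25, nat_lit 27, nat_lit 10], [((nat_lit 27), (nat_lit 1)), ((nat_lit 10), (nat_lit 1)), ((nat_lit 120), (nat_lit 1)), ((nat_lit 137), (nat_lit 1)), ((nat_lit 154), (nat_lit 3)), ((nat_lit 157), (nat_lit 3)), ((nat_lit 158), (nat_lit 3)), ((nat_lit 174), (nat_lit 3)), ((nat_lit 175), (nat_lit 3)), ((nat_lit 176), (nat_lit 1)), ((nat_lit 188), (nat_lit 1)), ((nat_lit 191), (nat_lit 1)), ((nat_lit 192), (nat_lit 1)), ((nat_lit 193), (nat_lit 3)), ((nat_lit 194), (nat_lit 3)), ((nat_lit 195), (nat_lit 1)), ((nat_lit 203), (nat_lit 1)), ((nat_lit 205), (nat_lit 1)), ((nat_lit 206), (nat_lit 1)), ((nat_lit 208), (nat_lit 1)), ((nat_lit 209), (nat_lit 1)), ((nat_lit 210), (nat_lit 3)), ((nat_lit 212), (nat_lit 1)), ((nat_lit 213), (nat_lit 1)), ((nat_lit 222), (nat_lit 3)), ((nat_lit 225), (nat_lit 3)), ((nat_lit 226), (nat_lit 3)),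 ((nat_lit 228), (nat_lit 3)), ((nat_lit 239), (nat_lit 3)), ((nat_lit 240), (nat_lit 1)), ((nat_lit 249), (nat_lit 1)), ((nat_lit 256), (nat_lit 3)), ((nat_lit 261), (nat_lit 3)), ((nat_lit 263), (nat_lit 1)), ((nat_lit 264), (nat_lit 1)), ((nat_lit 265), (nat_lit 3)), ((nat_lit 266), (nat_lit 3)), ((nat_lit 267), (nat_lit 3)), ((nat_lit 273), (nat_lit 1)), ((nat_lit 276), (nat_lit 1)), ((nat_lit 277), (nat_lit 3)), ((nat_lit 280), (nat_lit 3)), ((nat_lit 282), (nat_lit 2)), ((nat_lit 283), (nat_lit 2)), ((nat_lit 284), (nat_lit 1)), ((nat_lit 285), (nat_lit 1)), ((nat_lit 295), (nat_lit 3)), ((nat_lit 296), (nat_lit 3)), ((nat_lit 300), (nat_lit 1)), ((nat_lit 301), (nat_lit 3)), ((nat_lit 308), (nat_lit 1)), ((nat_lit 310), (nat_lit 1)), ((nat_lit 313), (nat_lit 3)), ((nat_lit 320), (nat_lit 2)), ((nat_lit 321), (nat_lit 1))]⟩,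
  ⟨true, (nat_lit 5), [nat_lit 11, nat_lit 28], [nat_lit 28, nat_lit 11, nat_lit 29, nat_lit 30, nat_lit 31, nat_lit 12], [((nat_lit 29), (nat_lit 1)), ((nat_lit 30), (nat_lit 1)), ((nat_lit 31), (nat_lit 1)), ((nat_lit 12), (nat_lit 1)), ((nat_lit 69), (nat_lit 1)), ((nat_lit 86), (nat_lit 2)), ((nat_lit 103), (nat_lit 2)), ((nat_lit 120), (nat_lit 2)), ((nat_lit 122), (nat_lit 3)), ((nat_lit 123), (nat_lit 2)), ((nat_lit 153), (nat_lit 3)), ((nat_lit 154), (nat_lit 3)), ((nat_lit 155), (nat_lit 3)), ((nat_lit 156), (nat_lit 1)), ((nat_lit 157), (nat_lit 3)), ((nat_lit 159), (nat_lit 2)), ((nat_lit 171), (nat_lit 1)), ((nat_lit 174), (nat_lit 1)), ((nat_lit 176), (nat_lit 1)), ((nat_lit 177), (nat_lit 1)), ((nat_lit 188), (nat_lit 2)), ((nat_lit 189), (nat_lit 1)), ((nat_lit 191), (nat_lit 3)), ((nat_lit 194), (nat_lit 2)), ((nat_lit 195), (nat_lit 3)), ((nat_lit 204), (nat_lit 3)), ((nat_lit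 205), (nat_lit 2)), ((nat_lit 206), (nat_lit 1)), ((nat_lit 207), (nat_lit 1)), ((nat_lit 210), (nat_lit 2)), ((nat_lit 211), (nat_lit 3)), ((nat_lit 212), (nat_lit 3)), ((nat_lit 213), (nat_lit 1)), ((nat_lit 221), (nat_lit 3)), ((nat_lit 223), (nat_lit 3)), ((nat_lit 224), (nat_lit 3)), ((nat_lit 225), (nat_lit 2)), ((nat_lit 227), (nat_lit 3)), ((nat_lit 228), (nat_lit 1)), ((nat_lit 229), (nat_lit 3)), ((nat_lit 231), (nat_lit 1)), ((nat_lit 239), (nat_lit 1)), ((nat_lit 240), (nat_lit 1)), ((nat_lit 241), (nat_lit 3)), ((nat_lit 242), (nat_lit 1)), ((nat_lit 246), (nat_lit 1)), ((nat_lit 247), (nat_lit 1)), ((nat_lit 249), (nat_lit 1)), ((nat_lit 255), (nat_lit 3)), ((nat_lit 256), (nat_lit 3)), ((nat_lit 261), (nat_lit 1)), ((nat_lit 262), (nat_lit 3)), ((nat_lit 263), (nat_lit 3)), ((nat_lit 265), (nat_lit 3)), ((nat_lit 267), (nat_lit 1)), ((nat_lit 273), (nat_lit 1)), ((nat_lit 274),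 (nat_lit 1)), ((nat_lit 275), (nat_lit 3)), ((nat_lit 281), (nat_lit 1)), ((nat_lit 282), (nat_lit 1)), ((nat_lit 283), (nat_lit 3)), ((nat_lit 284), (nat_lit 2)), ((nat_lit 285), (nat_lit 1)), ((nat_lit 289), (nat_lit 3)), ((nat_lit 290), (nat_lit 3)), ((nat_lit 292), (nat_lit 2)), ((nat_lit 293), (nat_lit 1)), ((nat_lit 296), (nat_lit 1)), ((nat_lit 297), (nat_lit 3)), ((nat_lit 298), (nat_lit 2)), ((nat_lit 299), (nat_lit 1)), ((nat_lit 301), (nat_lit 3)), ((nat_lit 302), (nat_lit 3)), ((nat_lit 306), (nat_lit 3)), ((nat_lit 308), (nat_lit 1)), ((nat_lit 310), (nat_lit 3)), ((nat_lit 313), (nat_lit 1)), ((nat_lit 315), (nat_lit 1)), ((nat_lit 316), (nat_lit 1)), ((nat_lit 317), (nat_lit 3)), ((nat_lit 318), (nat_lit 2)), ((nat_lit 319), (nat_lit 1)), ((nat_lit 320), (nat_lit 2)), ((nat_lit 321), (nat_lit 3))]⟩,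
  ⟨true, (nat_lit 5), [nat_lit 32, nat_lit 26], [nat_lit 26, nat_lit 32, nat_lit 29, nat_lit 30, nat_lit 27, nat_lit 10, nat_lit 31], [((nat_lit 29), (nat_lit 1)), ((nat_lit 30), (nat_lit 1)), ((nat_lit 27), (nat_lit 1)), ((nat_lit 10), (nat_lit 1)), ((nat_lit 31), (nat_lit 1)), ((nat_lit 67), (nat_lit 1)), ((nat_lit 69), (nat_lit 1)), ((nat_lit 86), (nat_lit 3)), ((nat_lit 120), (nat_lit 1)), ((nat_lit 121), (nat_lit 1)), ((nat_lit 123), (nat_lit 1)), ((nat_lit 137), (nat_lit 3)), ((nat_lit 140), (nat_lit 3)), ((nat_lit 169), (nat_lit 1)), ((nat_lit 172), (nat_lit 1)), ((nat_lit 174), (nat_lit 1)), ((nat_lit 175), (nat_lit 3)), ((nat_lit 177), (nat_lit 1)), ((nat_lit 188), (nat_lit 3)), ((nat_lit 191), (nat_lit 1)), ((nat_lit 192), (nat_lit 2)), ((nat_lit 195), (nat_lit 1)), ((nat_lit 206), (nat_lit 1)), ((nat_lit 208), (nat_lit 2)), ((nat_lit 209), (nat_lit 1)), ((nat_lit 211), (nat_lit 2)),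 ((nat_lit 213), (nat_lit 2)), ((nat_lit 228), (nat_lit 1)), ((nat_lit 229), (nat_lit 1)), ((nat_lit 230), (nat_lit 1)), ((nat_lit 231), (nat_lit 1)), ((nat_lit 239), (nat_lit 2)), ((nat_lit 240), (nat_lit 1)), ((nat_lit 242), (nat_lit 2)), ((nat_lit 245), (nat_lit 2)), ((nat_lit 246), (nat_lit 3)), ((nat_lit 247), (nat_lit 3)), ((nat_lit 249), (nat_lit 1)), ((nat_lit 259), (nat_lit 1)), ((nat_lit 260), (nat_lit 1)), ((nat_lit 262), (nat_lit 2)), ((nat_lit 264), (nat_lit 1)), ((nat_lit 265), (nat_lit 1)), ((nat_lit 266), (nat_lit 3)), ((nat_lit 267), (nat_lit 2)), ((nat_lit 273), (nat_lit 2)), ((nat_lit 274), (nat_lit 1)), ((nat_lit 276), (nat_lit 3)), ((nat_lit 277), (nat_lit 3)), ((nat_lit 279), (nat_lit 3)), ((nat_lit 284), (nat_lit 3)), ((nat_lit 285), (nat_lit 2)), ((nat_lit 290), (nat_lit 1)), ((nat_lit 293), (nat_lit 1)), ((nat_lit 294), (nat_lit 2)), ((nat_lit 297), (nat_lit 2)), ((nat_lit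 298), (nat_lit 1)), ((nat_lit 300), (nat_lit 2)), ((nat_lit 301), (nat_lit 1)), ((nat_lit 302), (nat_lit 2)), ((nat_lit 303), (nat_lit 3)), ((nat_lit 308), (nat_lit 1)), ((nat_lit 310), (nat_lit 3)), ((nat_lit 311), (nat_lit 2)), ((nat_lit 314), (nat_lit 2)), ((nat_lit 315), (nat_lit 2)), ((nat_lit 317), (nat_lit 2)), ((nat_lit 318), (nat_lit 2)), ((nat_lit 320), (nat_lit 3)), ((nat_lit 321), (nat_lit 3))]⟩]
noncomputable def I2_0 : List Pc.Idn := [⟨false, (nat_lit 0), [nat_lit 15], [nat_lit 15, nat_lit 1], [((nat_lit 289), (nat_lit 2))]⟩,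
  ⟨false, (nat_lit 0), [nat_lit 12], [nat_lit 12, nat_lit 2], [((nat_lit 239), (nat_lit 2))]⟩,
  ⟨false, (nat_lit 0), [nat_lit 15], [nat_lit 15, nat_lit 3], [((nat_lit 291), (nat_lit 2))]⟩,
  ⟨false, (nat_lit 0), [nat_lit 13], [nat_lit 13, nat_lit 4], [((nat_lit 258), (nat_lit 2))]⟩,
  ⟨false, (nat_lit 0), [nat_lit 15], [nat_lit 15, nat_lit 4], [((nat_lit 292), (nat_lit 2))]⟩,
  ⟨false, (nat_lit 0), [nat_lit 16], [nat_lit 16, nat_lit 4], [((nat_lit 309), (nat_lit 2))]⟩,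
  ⟨false, (nat_lit 0), [nat_lit 10], [nat_lit 5, nat_lit 5], [((nat_lit 208), (nat_lit 2))]⟩,
  ⟨false, (nat_lit 0), [nat_lit 13], [nat_lit 13, nat_lit 5], [((nat_lit 259), (nat_lit 2))]⟩,
  ⟨false, (nat_lit 0), [nat_lit 12], [nat_lit 12, nat_lit 6], [((nat_lit 243), (nat_lit 2))]⟩,
  ⟨false, (nat_lit 0), [nat_lit 13], [nat_lit 13, nat_lit 6], [((nat_lit 260), (nat_lit 2))]⟩,
  ⟨false, (nat_lit 0), [nat_lit 15], [nat_lit 15, nat_lit 6], [((nat_lit 294), (nat_lit 2))]⟩,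
  ⟨false, (nat_lit 0), [nat_lit 7], [nat_lit 7, nat_lit 7], [((nat_lit 312), (nat_lit 1))]⟩,
  ⟨false, (nat_lit 0), [nat_lit 9], [nat_lit 9, nat_lit 7], [((nat_lit 193), (nat_lit 2))]⟩,
  ⟨false, (nat_lit 0), [nat_lit 13], [nat_lit 13, nat_lit 7], [((nat_lit 261), (nat_lit 2))]⟩,
  ⟨false, (nat_lit 0), [nat_lit 14], [nat_lit 14, nat_lit 7], [((nat_lit 278), (nat_lit 2))]⟩,
  ⟨false, (nat_lit 0), [nat_lit 15], [nat_lit 15, nat_lit 7], [((nat_lit 295), (nat_lit 2))]⟩,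
  ⟨false, (nat_lit 0), [nat_lit 13], [nat_lit 13, nat_lit 8], [((nat_lit 262), (nat_lit 2))]⟩,
  ⟨false, (nat_lit 0), [nat_lit 16], [nat_lit 16, nat_lit 8], [((nat_lit 313), (nat_lit 2))]⟩,
  ⟨false, (nat_lit 0), [nat_lit 14], [nat_lit 14, nat_lit 9], [((nat_lit 280), (nat_lit 2))]⟩,
  ⟨false, (nat_lit 0), [nat_lit 15], [nat_lit 15, nat_lit 9], [((nat_lit 297), (nat_lit 2))]⟩,
  ⟨false, (nat_lit 0), [nat_lit 16], [nat_lit 16, nat_lit 9], [((nat_lit 314), (nat_lit 2))]⟩,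
  ⟨false, (nat_lit 0), [nat_lit 10], [nat_lit 10, nat_lit 10], [((nat_lit 315), (nat_lit 1))]⟩,
  ⟨false, (nat_lit 0), [nat_lit 12], [nat_lit 12, nat_lit 10], [((nat_lit 247), (nat_lit 2))]⟩,
  ⟨false, (nat_lit 0), [nat_lit 13], [nat_lit 13, nat_lit 10], [((nat_lit 264), (nat_lit 2))]⟩,
  ⟨false, (nat_lit 0), [nat_lit 14], [nat_lit 14, nat_lit 10], [((nat_lit 281), (nat_lit 2))]⟩,
  ⟨false, (nat_lit 0), [nat_lit 15], [nat_lit 15, nat_lit 10], [((nat_lit 298), (nat_lit 2))]⟩,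
  ⟨false, (nat_lit 0), [nat_lit 11], [nat_lit 11, nat_lit 11], [((nat_lit 316), (nat_lit 1))]⟩,
  ⟨false, (nat_lit 0), [nat_lit 12], [nat_lit 12, nat_lit 11], [((nat_lit 248), (nat_lit 2))]⟩,
  ⟨false, (nat_lit 0), [nat_lit 13], [nat_lit 13, nat_lit 11], [((nat_lit 265), (nat_lit 2))]⟩,
  ⟨false, (nat_lit 0), [nat_lit 14], [nat_lit 14, nat_lit 11], [((nat_lit 282), (nat_lit 2))]⟩,
  ⟨false, (nat_lit 0), [nat_lit 15], [nat_lit 15, nat_lit 11], [((nat_lit 299), (nat_lit 2))]⟩,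
  ⟨false, (nat_lit 0), [nat_lit 13], [nat_lit 13, nat_lit 12], [((nat_lit 266), (nat_lit 2))]⟩,
  ⟨false, (nat_lit 0), [nat_lit 14], [nat_lit 14, nat_lit 12], [((nat_lit 283), (nat_lit 2))]⟩,
  ⟨false, (nat_lit 0), [nat_lit 15], [nat_lit 15, nat_lit 12], [((nat_lit 300), (nat_lit 2))]⟩,
  ⟨false, (nat_lit 0), [nat_lit 16], [nat_lit 16, nat_lit 12], [((nat_lit 317), (nat_lit 2))]⟩,
  ⟨false, (nat_lit 0), [nat_lit 16], [nat_lit 16, nat_lit 13], [((nat_lit 318), (nat_lit 2))]⟩,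
  ⟨false, (nat_lit 0), [nat_lit 15], [nat_lit 15, nat_lit 14], [((nat_lit 302), (nat_lit 2))]⟩,
  ⟨false, (nat_lit 0), [nat_lit 16], [nat_lit 16, nat_lit 14], [((nat_lit 319), (nat_lit 2))]⟩,
  ⟨false, (nat_lit 0), [nat_lit 16], [nat_lit 16, nat_lit 15], [((nat_lit 320), (nat_lit 2))]⟩,
  ⟨false, (nat_lit 0), [nat_lit 9], [nat_lit 9, nat_lit 0], [((nat_lit 186), (nat_lit 2)), ((nat_lit 280), (nat_lit 3)), ((nat_lit 285), (nat_lit 3))]⟩,
  ⟨false, (nat_lit 0), [nat_lit 12], [nat_lit 12, nat_lit 0], [((nat_lit 237), (nat_lit 2)), ((nat_lit 300), (nat_lit 3)), ((nat_lit 303), (nat_lit 3))]⟩,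
  ⟨false, (nat_lit 0), [nat_lit 13], [nat_lit 13, nat_lit 0], [((nat_lit 254), (nat_lit 2)), ((nat_lit 318), (nat_lit 3)), ((nat_lit 321), (nat_lit 3))]⟩,
  ⟨false, (nat_lit 0), [nat_lit 14], [nat_lit 14, nat_lit 0], [((nat_lit 271), (nat_lit 2)), ((nat_lit 302), (nat_lit 3)), ((nat_lit 303), (nat_lit 3))]⟩,
  ⟨false, (nat_lit 0), [nat_lit 15], [nat_lit 15, nat_lit 0], [((nat_lit 288), (nat_lit 2)), ((nat_lit 320), (nat_lit 3)), ((nat_lit 321), (nat_lit 3))]⟩,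
  ⟨false, (nat_lit 0), [nat_lit 9], [nat_lit 9, nat_lit 1], [((nat_lit 187), (nat_lit 2)), ((nat_lit 246), (nat_lit 3)), ((nat_lit 249), (nat_lit 3))]⟩,
  ⟨false, (nat_lit 0), [nat_lit 12], [nat_lit 12, nat_lit 1], [((nat_lit 238), (nat_lit 2)), ((nat_lit 283), (nat_lit 3)), ((nat_lit 285), (nat_lit 3))]⟩,
  ⟨false, (nat_lit 0), [nat_lit 14], [nat_lit 14, nat_lit 2], [((nat_lit 273), (nat_lit 2)), ((nat_lit 319), (nat_lit 3)), ((nat_lit 321), (nat_lit 3))]⟩,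
  ⟨false, (nat_lit 0), [nat_lit 15], [nat_lit 15, nat_lit 2], [((nat_lit 290), (nat_lit 2)), ((nat_lit 320), (nat_lit 3)), ((nat_lit 321), (nat_lit 3))]⟩,
  ⟨false, (nat_lit 0), [nat_lit 13], [nat_lit 13, nat_lit 3], [((nat_lit 257), (nat_lit 2)), ((nat_lit 318), (nat_lit 3)), ((nat_lit 321), (nat_lit 3))]⟩,
  ⟨false, (nat_lit 0), [nat_lit 14], [nat_lit 14, nat_lit 4], [((nat_lit 275), (nat_lit 2)), ((nat_lit 319), (nat_lit 3)), ((nat_lit 321), (nat_lit 3))]⟩,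
  ⟨false, (nat_lit 0), [nat_lit 9], [nat_lit 9, nat_lit 5], [((nat_lit 191), (nat_lit 2)), ((nat_lit 314), (nat_lit 3)), ((nat_lit 321), (nat_lit 3))]⟩,
  ⟨false, (nat_lit 0), [nat_lit 9], [nat_lit 5, nat_lit 5], [((nat_lit 191), (nat_lit 2)), ((nat_lit 310), (nat_lit 1)), ((nat_lit 321), (nat_lit 1))]⟩,
  ⟨false, (nat_lit 0), [nat_lit 10], [nat_lit 10, nat_lit 5], [((nat_lit 208), (nat_lit 2)), ((nat_lit 310), (nat_lit 1))]⟩,
  ⟨false, (nat_lit 0), [nat_lit 11], [nat_lit 5, nat_lit 5], [((nat_lit 225), (nat_lit 2)), ((nat_lit 293), (nat_lit 1)), ((nat_lit 303), (nat_lit 1))]⟩,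
  ⟨false, (nat_lit 0), [nat_lit 12], [nat_lit 12, nat_lit 5], [((nat_lit 242), (nat_lit 2)), ((nat_lit 317), (nat_lit 3)), ((nat_lit 321), (nat_lit 3))]⟩,
  ⟨false, (nat_lit 0), [nat_lit 12], [nat_lit 5, nat_lit 5], [((nat_lit 242), (nat_lit 2)), ((nat_lit 310), (nat_lit 1)), ((nat_lit 321), (nat_lit 1))]⟩,
  ⟨false, (nat_lit 0), [nat_lit 14], [nat_lit 14, nat_lit 5], [((nat_lit 276), (nat_lit 2)), ((nat_lit 319), (nat_lit 3)), ((nat_lit 321), (nat_lit 3))]⟩,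
  ⟨false, (nat_lit 0), [nat_lit 14], [nat_lit 5, nat_lit 5], [((nat_lit 276), (nat_lit 2)), ((nat_lit 310), (nat_lit 1)), ((nat_lit 321), (nat_lit 1))]⟩,
  ⟨false, (nat_lit 0), [nat_lit 6], [nat_lit 6, nat_lit 6], [((nat_lit 277), (nat_lit 1)), ((nat_lit 311), (nat_lit 1))]⟩,
  ⟨false, (nat_lit 0), [nat_lit 11], [nat_lit 11, nat_lit 7], [((nat_lit 227), (nat_lit 2)), ((nat_lit 312), (nat_lit 1))]⟩,
  ⟨false, (nat_lit 0), [nat_lit 12], [nat_lit 12, nat_lit 7], [((nat_lit 244), (nat_lit 2)), ((nat_lit 317), (nat_lit 3)), ((nat_lit 321), (nat_lit 3))]⟩,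
  ⟨false, (nat_lit 0), [nat_lit 13], [nat_lit 7, nat_lit 7], [((nat_lit 261), (nat_lit 2)), ((nat_lit 318), (nat_lit 1))]⟩,
  ⟨false, (nat_lit 0), [nat_lit 15], [nat_lit 7, nat_lit 7], [((nat_lit 295), (nat_lit 2)), ((nat_lit 320), (nat_lit 1))]⟩,
  ⟨false, (nat_lit 0), [nat_lit 8], [nat_lit 8, nat_lit 8], [((nat_lit 279), (nat_lit 1)), ((nat_lit 296), (nat_lit 1))]⟩,
  ⟨false, (nat_lit 0), [nat_lit 9], [nat_lit 9, nat_lit 8], [((nat_lit 194), (nat_lit 2)), ((nat_lit 297), (nat_lit 3)), ((nat_lit 303), (nat_lit 3))]⟩,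
  ⟨false, (nat_lit 0), [nat_lit 12], [nat_lit 12, nat_lit 8], [((nat_lit 245), (nat_lit 2)), ((nat_lit 317), (nat_lit 3)), ((nat_lit 321), (nat_lit 3))]⟩,
  ⟨false, (nat_lit 0), [nat_lit 10], [nat_lit 9, nat_lit 9], [((nat_lit 212), (nat_lit 2)), ((nat_lit 314), (nat_lit 1)), ((nat_lit 321), (nat_lit 1))]⟩,
  ⟨false, (nat_lit 0), [nat_lit 11], [nat_lit 11, nat_lit 10], [((nat_lit 230), (nat_lit 2)), ((nat_lit 315), (nat_lit 1))]⟩,
  ⟨false, (nat_lit 0), [nat_lit 14], [nat_lit 8, nat_lit 8], [((nat_lit 279), (nat_lit 2)), ((nat_lit 302), (nat_lit 1))]⟩,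
  ⟨false, (nat_lit 0), [nat_lit 12], [nat_lit 6, nat_lit 6], [((nat_lit 243), (nat_lit 2)), ((nat_lit 283), (nat_lit 1)), ((nat_lit 317), (nat_lit 1))]⟩,
  ⟨false, (nat_lit 0), [nat_lit 13], [nat_lit 6, nat_lit 6], [((nat_lit 260), (nat_lit 2)), ((nat_lit 284), (nat_lit 1)), ((nat_lit 318), (nat_lit 1))]⟩,
  ⟨false, (nat_lit 0), [nat_lit 13], [nat_lit 8, nat_lit 8], [((nat_lit 262), (nat_lit 2)), ((nat_lit 284), (nat_lit 1)), ((nat_lit 301), (nat_lit 1))]⟩,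
  ⟨false, (nat_lit 0), [nat_lit 14], [nat_lit 14, nat_lit 1], [((nat_lit 272), (nat_lit 2)), ((nat_lit 302), (nat_lit 3)), ((nat_lit 303), (nat_lit 3)), ((nat_lit 319), (nat_lit 3)), ((nat_lit 320), (nat_lit 3)), ((nat_lit 321), (nat_lit 3))]⟩,
  ⟨false, (nat_lit 0), [nat_lit 9], [nat_lit 9, nat_lit 2], [((nat_lit 188), (nat_lit 2)), ((nat_lit 297), (nat_lit 3)), ((nat_lit 303), (nat_lit 3)), ((nat_lit 314), (nat_lit 3)), ((nat_lit 320), (nat_lit 3)), ((nat_lit 321), (nat_lit 3))]⟩,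
  ⟨false, (nat_lit 0), [nat_lit 9], [nat_lit 9, nat_lit 3], [((nat_lit 189), (nat_lit 2)), ((nat_lit 297), (nat_lit 3)), ((nat_lit 303), (nat_lit 3)), ((nat_lit 314), (nat_lit 3)), ((nat_lit 320), (nat_lit 3)), ((nat_lit 321), (nat_lit 3))]⟩,
  ⟨false, (nat_lit 0), [nat_lit 12], [nat_lit 12, nat_lit 3], [((nat_lit 240), (nat_lit 2)), ((nat_lit 283), (nat_lit 3)), ((nat_lit 285), (nat_lit 3)), ((nat_lit 317), (nat_lit 3)), ((nat_lit 319), (nat_lit 3)), ((nat_lit 321), (nat_lit 3))]⟩,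
  ⟨false, (nat_lit 0), [nat_lit 14], [nat_lit 14, nat_lit 3], [((nat_lit 274), (nat_lit 2)), ((nat_lit 302), (nat_lit 3)), ((nat_lit 303), (nat_lit 3)), ((nat_lit 319), (nat_lit 3)), ((nat_lit 320), (nat_lit 3)), ((nat_lit 321), (nat_lit 3))]⟩,
  ⟨false, (nat_lit 0), [nat_lit 9], [nat_lit 9, nat_lit 4], [((nat_lit 190), (nat_lit 2)), ((nat_lit 297), (nat_lit 3)), ((nat_lit 303), (nat_lit 3)), ((nat_lit 314), (nat_lit 3)), ((nat_lit 320), (nat_lit 3)), ((nat_lit 321), (nat_lit 3))]⟩,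
  ⟨false, (nat_lit 0), [nat_lit 7], [nat_lit 5, nat_lit 5], [((nat_lit 157), (nat_lit 2)), ((nat_lit 293), (nat_lit 1)), ((nat_lit 303), (nat_lit 1)), ((nat_lit 310), (nat_lit 1)), ((nat_lit 320), (nat_lit 1)), ((nat_lit 321), (nat_lit 1))]⟩,
  ⟨false, (nat_lit 0), [nat_lit 9], [nat_lit 9, nat_lit 6], [((nat_lit 192), (nat_lit 2)), ((nat_lit 280), (nat_lit 3)), ((nat_lit 285), (nat_lit 3)), ((nat_lit 314), (nat_lit 3)), ((nat_lit 319), (nat_lit 3)), ((nat_lit 321), (nat_lit 3))]⟩,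
  ⟨false, (nat_lit 0), [nat_lit 16], [nat_lit 1, nat_lit 0], [((nat_lit 309), (nat_lit 3))]⟩,
  ⟨false, (nat_lit 0), [nat_lit 7], [nat_lit 7, nat_lit 0], [((nat_lit 152), (nat_lit 2)), ((nat_lit 193), (nat_lit 3)), ((nat_lit 195), (nat_lit 3)), ((nat_lit 305), (nat_lit 1)), ((nat_lit 314), (nat_lit 2))]⟩,
  ⟨false, (nat_lit 0), [nat_lit 15], [nat_lit 3, nat_lit 1], [((nat_lit 294), (nat_lit 3))]⟩,
  ⟨false, (nat_lit 0), [nat_lit 16], [nat_lit 3, nat_lit 1], [((nat_lit 311), (nat_lit 3))]⟩,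
  ⟨false, (nat_lit 0), [nat_lit 15], [nat_lit 4, nat_lit 1], [((nat_lit 296), (nat_lit 3))]⟩,
  ⟨false, (nat_lit 0), [nat_lit 16], [nat_lit 4, nat_lit 1], [((nat_lit 313), (nat_lit 3))]⟩,
  ⟨false, (nat_lit 0), [nat_lit 7], [nat_lit 7, nat_lit 1], [((nat_lit 153), (nat_lit 2)), ((nat_lit 210), (nat_lit 3)), ((nat_lit 213), (nat_lit 3)), ((nat_lit 306), (nat_lit 1)), ((nat_lit 315), (nat_lit 3)), ((nat_lit 321), (nat_lit 3))]⟩,
  ⟨false, (nat_lit 0), [nat_lit 15], [nat_lit 7, nat_lit 1], [((nat_lit 298), (nat_lit 3))]⟩,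
  ⟨false, (nat_lit 0), [nat_lit 15], [nat_lit 8, nat_lit 1], [((nat_lit 299), (nat_lit 3))]⟩,
  ⟨false, (nat_lit 0), [nat_lit 15], [nat_lit 9, nat_lit 1], [((nat_lit 300), (nat_lit 3))]⟩,
  ⟨false, (nat_lit 0), [nat_lit 10], [nat_lit 10, nat_lit 1], [((nat_lit 204), (nat_lit 2)), ((nat_lit 264), (nat_lit 3)), ((nat_lit 267), (nat_lit 3)), ((nat_lit 306), (nat_lit 1)), ((nat_lit 318), (nat_lit 2))]⟩,
  ⟨false, (nat_lit 0), [nat_lit 7], [nat_lit 7, nat_lit 2], [((nat_lit 154), (nat_lit 2)), ((nat_lit 261), (nat_lit 3)), ((nat_lit 267), (nat_lit 3)), ((nat_lit 307), (nat_lit 1)), ((nat_lit 318), (nat_lit 2))]⟩,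
  ⟨false, (nat_lit 0), [nat_lit 7], [nat_lit 7, nat_lit 3], [((nat_lit 155), (nat_lit 2)), ((nat_lit 193), (nat_lit 3)), ((nat_lit 195), (nat_lit 3)), ((nat_lit 308), (nat_lit 1)), ((nat_lit 314), (nat_lit 2))]⟩,
  ⟨false, (nat_lit 0), [nat_lit 15], [nat_lit 7, nat_lit 3], [((nat_lit 297), (nat_lit 3))]⟩,
  ⟨false, (nat_lit 0), [nat_lit 13], [nat_lit 4, nat_lit 4], [((nat_lit 258), (nat_lit 2)), ((nat_lit 263), (nat_lit 3)), ((nat_lit 266), (nat_lit 3)), ((nat_lit 318), (nat_lit 1))]⟩,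
  ⟨false, (nat_lit 0), [nat_lit 11], [nat_lit 11, nat_lit 5], [((nat_lit 225), (nat_lit 2)), ((nat_lit 299), (nat_lit 3)), ((nat_lit 303), (nat_lit 3)), ((nat_lit 310), (nat_lit 1)), ((nat_lit 320), (nat_lit 2))]⟩,
  ⟨false, (nat_lit 0), [nat_lit 10], [nat_lit 10, nat_lit 6], [((nat_lit 209), (nat_lit 2)), ((nat_lit 281), (nat_lit 3)), ((nat_lit 285), (nat_lit 3)), ((nat_lit 311), (nat_lit 1)), ((nat_lit 319), (nat_lit 2))]⟩,
  ⟨false, (nat_lit 0), [nat_lit 11], [nat_lit 11, nat_lit 6], [((nat_lit 226), (nat_lit 2)), ((nat_lit 282), (nat_lit 3)), ((nat_lit 285), (nat_lit 3)), ((nat_lit 311), (nat_lit 1)), ((nat_lit 319), (nat_lit 2))]⟩,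
  ⟨false, (nat_lit 0), [nat_lit 9], [nat_lit 8, nat_lit 8], [((nat_lit 194), (nat_lit 2)), ((nat_lit 280), (nat_lit 1)), ((nat_lit 296), (nat_lit 1)), ((nat_lit 297), (nat_lit 1)), ((nat_lit 303), (nat_lit 1))]⟩,
  ⟨false, (nat_lit 0), [nat_lit 11], [nat_lit 11, nat_lit 8], [((nat_lit 228), (nat_lit 2)), ((nat_lit 299), (nat_lit 3)), ((nat_lit 303), (nat_lit 3)), ((nat_lit 313), (nat_lit 1)), ((nat_lit 320), (nat_lit 2))]⟩,
  ⟨false, (nat_lit 0), [nat_lit 11], [nat_lit 8, nat_lit 8], [((nat_lit 228), (nat_lit 2)), ((nat_lit 282), (nat_lit 1)), ((nat_lit 296), (nat_lit 1)), ((nat_lit 299), (nat_lit 1)), ((nat_lit 303), (nat_lit 1))]⟩,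
  ⟨false, (nat_lit 0), [nat_lit 10], [nat_lit 10, nat_lit 0], [((nat_lit 203), (nat_lit 2)), ((nat_lit 247), (nat_lit 3)), ((nat_lit 249), (nat_lit 3)), ((nat_lit 305), (nat_lit 1)), ((nat_lit 315), (nat_lit 3)), ((nat_lit 317), (nat_lit 3)), ((nat_lit 321), (nat_lit 3))]⟩,
  ⟨false, (nat_lit 0), [nat_lit 10], [nat_lit 10, nat_lit 2], [((nat_lit 205), (nat_lit 2)), ((nat_lit 298), (nat_lit 3)), ((nat_lit 303), (nat_lit 3)), ((nat_lit 307), (nat_lit 1)), ((nat_lit 315), (nat_lit 3)), ((nat_lit 320), (nat_lit 3)), ((nat_lit 321), (nat_lit 3))]⟩,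
  ⟨false, (nat_lit 0), [nat_lit 7], [nat_lit 7, nat_lit 5], [((nat_lit 157), (nat_lit 2)), ((nat_lit 295), (nat_lit 3)), ((nat_lit 303), (nat_lit 3)), ((nat_lit 310), (nat_lit 1)), ((nat_lit 312), (nat_lit 3)), ((nat_lit 320), (nat_lit 3)), ((nat_lit 321), (nat_lit 3))]⟩,
  ⟨false, (nat_lit 0), [nat_lit 10], [nat_lit 10, nat_lit 8], [((nat_lit 211), (nat_lit 2)), ((nat_lit 298), (nat_lit 3)), ((nat_lit 303), (nat_lit 3)), ((nat_lit 313), (nat_lit 1)), ((nat_lit 315), (nat_lit 3)), ((nat_lit 320), (nat_lit 3)), ((nat_lit 321), (nat_lit 3))]⟩,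
  ⟨false, (nat_lit 0), [nat_lit 9], [nat_lit 7, nat_lit 0], [((nat_lit 278), (nat_lit 3)), ((nat_lit 280), (nat_lit 3))]⟩,
  ⟨false, (nat_lit 0), [nat_lit 12], [nat_lit 11, nat_lit 2], [((nat_lit 266), (nat_lit 1)), ((nat_lit 283), (nat_lit 1))]⟩,
  ⟨false, (nat_lit 0), [nat_lit 11], [nat_lit 10, nat_lit 6], [((nat_lit 281), (nat_lit 3)), ((nat_lit 282), (nat_lit 1))]⟩,
  ⟨false, (nat_lit 0), [nat_lit 15], [nat_lit 1, nat_lit 0], [((nat_lit 292), (nat_lit 3)), ((nat_lit 306), (nat_lit 3)), ((nat_lit 309), (nat_lit 3))]⟩,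
  ⟨false, (nat_lit 0), [nat_lit 13], [nat_lit 2, nat_lit 0], [((nat_lit 259), (nat_lit 3)), ((nat_lit 307), (nat_lit 3)), ((nat_lit 310), (nat_lit 3))]⟩,
  ⟨false, (nat_lit 0), [nat_lit 13], [nat_lit 4, nat_lit 0], [((nat_lit 261), (nat_lit 3)), ((nat_lit 309), (nat_lit 3)), ((nat_lit 312), (nat_lit 3))]⟩,
  ⟨false, (nat_lit 0), [nat_lit 13], [nat_lit 4, nat_lit 1], [((nat_lit 262), (nat_lit 3)), ((nat_lit 309), (nat_lit 3)), ((nat_lit 313), (nat_lit 3))]⟩,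
  ⟨false, (nat_lit 0), [nat_lit 13], [nat_lit 7, nat_lit 1], [((nat_lit 264), (nat_lit 3)), ((nat_lit 312), (nat_lit 3)), ((nat_lit 315), (nat_lit 3))]⟩,
  ⟨false, (nat_lit 0), [nat_lit 13], [nat_lit 8, nat_lit 1], [((nat_lit 265), (nat_lit 3)), ((nat_lit 313), (nat_lit 3)), ((nat_lit 316), (nat_lit 3))]⟩,
  ⟨false, (nat_lit 0), [nat_lit 12], [nat_lit 7, nat_lit 2], [((nat_lit 266), (nat_lit 1)), ((nat_lit 307), (nat_lit 1)), ((nat_lit 318), (nat_lit 3))]⟩,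
  ⟨false, (nat_lit 0), [nat_lit 4], [nat_lit 4, nat_lit 4], [((nat_lit 190), (nat_lit 1)), ((nat_lit 241), (nat_lit 1)), ((nat_lit 300), (nat_lit 1)), ((nat_lit 303), (nat_lit 1)), ((nat_lit 309), (nat_lit 1)), ((nat_lit 317), (nat_lit 1)), ((nat_lit 320), (nat_lit 1)), ((nat_lit 321), (nat_lit 1))]⟩,
  ⟨false, (nat_lit 0), [nat_lit 8], [nat_lit 5, nat_lit 5], [((nat_lit 174), (nat_lit 2)), ((nat_lit 242), (nat_lit 1)), ((nat_lit 249), (nat_lit 1)), ((nat_lit 276), (nat_lit 1)), ((nat_lit 283), (nat_lit 1)), ((nat_lit 285), (nat_lit 1)), ((nat_lit 310), (nat_lit 1)), ((nat_lit 317), (nat_lit 1)), ((nat_lit 321), (nat_lit 2))]⟩,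
  ⟨false, (nat_lit 0), [nat_lit 13], [nat_lit 1, nat_lit 0], [((nat_lit 258), (nat_lit 3)), ((nat_lit 305), (nat_lit 1)), ((nat_lit 306), (nat_lit 3))]⟩,
  ⟨false, (nat_lit 0), [nat_lit 15], [nat_lit 2, nat_lit 0], [((nat_lit 293), (nat_lit 3)), ((nat_lit 305), (nat_lit 1)), ((nat_lit 307), (nat_lit 3))]⟩,
  ⟨false, (nat_lit 0), [nat_lit 13], [nat_lit 3, nat_lit 1], [((nat_lit 260), (nat_lit 3)), ((nat_lit 306), (nat_lit 1)), ((nat_lit 308), (nat_lit 3))]⟩,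
  ⟨false, (nat_lit 0), [nat_lit 9], [nat_lit 4, nat_lit 4], [((nat_lit 190), (nat_lit 2)), ((nat_lit 246), (nat_lit 1)), ((nat_lit 292), (nat_lit 1)), ((nat_lit 303), (nat_lit 1)), ((nat_lit 309), (nat_lit 1)), ((nat_lit 314), (nat_lit 1)), ((nat_lit 320), (nat_lit 1)), ((nat_lit 321), (nat_lit 1))]⟩,
  ⟨false, (nat_lit 0), [nat_lit 5], [nat_lit 5, nat_lit 2], [((nat_lit 120), (nat_lit 2)), ((nat_lit 242), (nat_lit 3)), ((nat_lit 249), (nat_lit 3)), ((nat_lit 276), (nat_lit 3)), ((nat_lit 283), (nat_lit 3)), ((nat_lit 285), (nat_lit 3)), ((nat_lit 310), (nat_lit 3)), ((nat_lit 317), (nat_lit 3)), ((nat_lit 319), (nat_lit 2)), ((nat_lit 321), (nat_lit 2))]⟩,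
  ⟨false, (nat_lit 0), [nat_lit 7], [nat_lit 7, nat_lit 4], [((nat_lit 156), (nat_lit 2)), ((nat_lit 278), (nat_lit 3)), ((nat_lit 285), (nat_lit 3)), ((nat_lit 295), (nat_lit 3)), ((nat_lit 302), (nat_lit 3)), ((nat_lit 303), (nat_lit 3)), ((nat_lit 309), (nat_lit 1)), ((nat_lit 312), (nat_lit 3)), ((nat_lit 319), (nat_lit 3)), ((nat_lit 320), (nat_lit 3)), ((nat_lit 321), (nat_lit 3))]⟩,
  ⟨false, (nat_lit 0), [nat_lit 10], [nat_lit 10, nat_lit 4], [((nat_lit 207), (nat_lit 2)), ((nat_lit 281), (nat_lit 3)), ((nat_lit 285), (nat_lit 3)), ((nat_lit 298), (nat_lit 3)), ((nat_lit 302), (nat_lit 3)), ((nat_lit 303), (nat_lit 3)), ((nat_lit 309), (nat_lit 1)), ((nat_lit 315), (nat_lit 3)), ((nat_lit 319), (nat_lit 3)), ((nat_lit 320), (nat_lit 3)), ((nat_lit 321), (nat_lit 3))]⟩,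
  ⟨false, (nat_lit 0), [nat_lit 11], [nat_lit 11, nat_lit 4], [((nat_lit 224), (nat_lit 2)), ((nat_lit 282), (nat_lit 3)), ((nat_lit 285), (nat_lit 3)), ((nat_lit 299), (nat_lit 3)), ((nat_lit 302), (nat_lit 3)), ((nat_lit 303), (nat_lit 3)), ((nat_lit 309), (nat_lit 1)), ((nat_lit 316), (nat_lit 3)), ((nat_lit 319), (nat_lit 3)), ((nat_lit 320), (nat_lit 3)), ((nat_lit 321), (nat_lit 3))]⟩,
  ⟨false, (nat_lit 0), [nat_lit 7], [nat_lit 7, nat_lit 6], [((nat_lit 158), (nat_lit 2)), ((nat_lit 261), (nat_lit 3)), ((nat_lit 267), (nat_lit 3)), ((nat_lit 295), (nat_lit 3)), ((nat_lit 301), (nat_lit 3)), ((nat_lit 303), (nat_lit 3)), ((nat_lit 311), (nat_lit 1)), ((nat_lit 312), (nat_lit 3)), ((nat_lit 318), (nat_lit 3)), ((nat_lit 320), (nat_lit 3)), ((nat_lit 321), (nat_lit 3))]⟩,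
  ⟨false, (nat_lit 0), [nat_lit 8], [nat_lit 6, nat_lit 6], [((nat_lit 175), (nat_lit 2)), ((nat_lit 260), (nat_lit 1)), ((nat_lit 267), (nat_lit 1)), ((nat_lit 279), (nat_lit 1)), ((nat_lit 284), (nat_lit 2)), ((nat_lit 311), (nat_lit 1)), ((nat_lit 313), (nat_lit 1)), ((nat_lit 318), (nat_lit 1)), ((nat_lit 321), (nat_lit 1))]⟩,
  ⟨false, (nat_lit 0), [nat_lit 8], [nat_lit 7, nat_lit 7], [((nat_lit 176), (nat_lit 2)), ((nat_lit 278), (nat_lit 1)), ((nat_lit 285), (nat_lit 1)), ((nat_lit 295), (nat_lit 1)), ((nat_lit 302), (nat_lit 1)), ((nat_lit 303), (nat_lit 1)), ((nat_lit 312), (nat_lit 1)), ((nat_lit 313), (nat_lit 1)), ((nat_lit 319), (nat_lit 1)), ((nat_lit 320), (nat_lit 1)), ((nat_lit 321), (nat_lit 1))]⟩,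
  ⟨false, (nat_lit 0), [nat_lit 12], [nat_lit 2, nat_lit 0], [((nat_lit 242), (nat_lit 3)), ((nat_lit 290), (nat_lit 3)), ((nat_lit 293), (nat_lit 3)), ((nat_lit 310), (nat_lit 3)), ((nat_lit 320), (nat_lit 3)), ((nat_lit 321), (nat_lit 3))]⟩,
  ⟨false, (nat_lit 0), [nat_lit 9], [nat_lit 7, nat_lit 1], [((nat_lit 212), (nat_lit 1)), ((nat_lit 244), (nat_lit 3)), ((nat_lit 247), (nat_lit 3)), ((nat_lit 315), (nat_lit 3)), ((nat_lit 317), (nat_lit 1))]⟩,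
  ⟨false, (nat_lit 0), [nat_lit 12], [nat_lit 6, nat_lit 2], [((nat_lit 246), (nat_lit 3)), ((nat_lit 247), (nat_lit 3)), ((nat_lit 300), (nat_lit 1)), ((nat_lit 317), (nat_lit 1))]⟩,
  ⟨false, (nat_lit 0), [nat_lit 14], [nat_lit 4, nat_lit 0], [((nat_lit 278), (nat_lit 3)), ((nat_lit 292), (nat_lit 3)), ((nat_lit 295), (nat_lit 3)), ((nat_lit 305), (nat_lit 1)), ((nat_lit 312), (nat_lit 3)), ((nat_lit 320), (nat_lit 3))]⟩,
  ⟨false, (nat_lit 0), [nat_lit 8], [nat_lit 8, nat_lit 1], [((nat_lit 170), (nat_lit 2)), ((nat_lit 228), (nat_lit 3)), ((nat_lit 231), (nat_lit 3)), ((nat_lit 272), (nat_lit 1)), ((nat_lit 282), (nat_lit 2)), ((nat_lit 289), (nat_lit 1)), ((nat_lit 299), (nat_lit 3)), ((nat_lit 319), (nat_lit 3)), ((nat_lit 320), (nat_lit 1))]⟩,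
  ⟨false, (nat_lit 0), [nat_lit 12], [nat_lit 8, nat_lit 1], [((nat_lit 248), (nat_lit 3)), ((nat_lit 279), (nat_lit 3)), ((nat_lit 282), (nat_lit 3)), ((nat_lit 306), (nat_lit 1)), ((nat_lit 316), (nat_lit 3)), ((nat_lit 319), (nat_lit 3))]⟩,
  ⟨false, (nat_lit 0), [nat_lit 8], [nat_lit 8, nat_lit 6], [((nat_lit 175), (nat_lit 2)), ((nat_lit 262), (nat_lit 3)), ((nat_lit 267), (nat_lit 3)), ((nat_lit 277), (nat_lit 1)), ((nat_lit 284), (nat_lit 2)), ((nat_lit 294), (nat_lit 1)), ((nat_lit 301), (nat_lit 2)), ((nat_lit 313), (nat_lit 3)), ((nat_lit 318), (nat_lit 3)), ((nat_lit 321), (nat_lit 3))]⟩,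
  ⟨false, (nat_lit 0), [nat_lit 14], [nat_lit 2, nat_lit 0], [((nat_lit 276), (nat_lit 3)), ((nat_lit 290), (nat_lit 3)), ((nat_lit 293), (nat_lit 3)), ((nat_lit 305), (nat_lit 1)), ((nat_lit 320), (nat_lit 2)), ((nat_lit 321), (nat_lit 3))]⟩,
  ⟨false, (nat_lit 0), [nat_lit 14], [nat_lit 1, nat_lit 0], [((nat_lit 275), (nat_lit 3)), ((nat_lit 288), (nat_lit 1)), ((nat_lit 289), (nat_lit 3)), ((nat_lit 305), (nat_lit 1)), ((nat_lit 309), (nat_lit 3)), ((nat_lit 320), (nat_lit 3))]⟩,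
  ⟨false, (nat_lit 0), [nat_lit 12], [nat_lit 4, nat_lit 0], [((nat_lit 244), (nat_lit 3)), ((nat_lit 288), (nat_lit 1)), ((nat_lit 292), (nat_lit 3)), ((nat_lit 305), (nat_lit 1)), ((nat_lit 312), (nat_lit 3)), ((nat_lit 320), (nat_lit 3))]⟩,
  ⟨false, (nat_lit 0), [nat_lit 11], [nat_lit 7, nat_lit 1], [((nat_lit 230), (nat_lit 3)), ((nat_lit 261), (nat_lit 3)), ((nat_lit 264), (nat_lit 3)), ((nat_lit 278), (nat_lit 3)), ((nat_lit 281), (nat_lit 3)), ((nat_lit 312), (nat_lit 3)), ((nat_lit 315), (nat_lit 3))]⟩,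
  ⟨false, (nat_lit 0), [nat_lit 7], [nat_lit 4, nat_lit 4], [((nat_lit 156), (nat_lit 2)), ((nat_lit 193), (nat_lit 1)), ((nat_lit 244), (nat_lit 1)), ((nat_lit 275), (nat_lit 1)), ((nat_lit 285), (nat_lit 1)), ((nat_lit 292), (nat_lit 1)), ((nat_lit 302), (nat_lit 1)), ((nat_lit 303), (nat_lit 1)), ((nat_lit 309), (nat_lit 1)), ((nat_lit 312), (nat_lit 1)), ((nat_lit 319), (nat_lit 1)), ((nat_lit 321), (nat_lit 2))]⟩,
  ⟨false, (nat_lit 0), [nat_lit 14], [nat_lit 3, nat_lit 1], [((nat_lit 277), (nat_lit 3)), ((nat_lit 289), (nat_lit 1)), ((nat_lit 291), (nat_lit 3)), ((nat_lit 306), (nat_lit 1)), ((nat_lit 308), (nat_lit 3))]⟩,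
  ⟨false, (nat_lit 0), [nat_lit 10], [nat_lit 10, nat_lit 3], [((nat_lit 206), (nat_lit 2)), ((nat_lit 247), (nat_lit 3)), ((nat_lit 249), (nat_lit 3)), ((nat_lit 264), (nat_lit 3)), ((nat_lit 266), (nat_lit 3)), ((nat_lit 267), (nat_lit 3)), ((nat_lit 298), (nat_lit 3)), ((nat_lit 300), (nat_lit 3)), ((nat_lit 301), (nat_lit 3)), ((nat_lit 303), (nat_lit 3)), ((nat_lit 308), (nat_lit 1)), ((nat_lit 315), (nat_lit 3)), ((nat_lit 317), (nat_lit 3)), ((nat_lit 318), (nat_lit 3)), ((nat_lit 320), (nat_lit 3)), ((nat_lit 321), (nat_lit 3))]⟩,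
  ⟨false, (nat_lit 0), [nat_lit 5], [nat_lit 5, nat_lit 4], [((nat_lit 122), (nat_lit 2)), ((nat_lit 191), (nat_lit 3)), ((nat_lit 195), (nat_lit 3)), ((nat_lit 242), (nat_lit 3)), ((nat_lit 246), (nat_lit 3)), ((nat_lit 249), (nat_lit 3)), ((nat_lit 293), (nat_lit 3)), ((nat_lit 297), (nat_lit 3)), ((nat_lit 300), (nat_lit 3)), ((nat_lit 303), (nat_lit 3)), ((nat_lit 310), (nat_lit 3)), ((nat_lit 314), (nat_lit 3)), ((nat_lit 317), (nat_lit 2)), ((nat_lit 320), (nat_lit 3)), ((nat_lit 321), (nat_lit 2))]⟩,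
  ⟨false, (nat_lit 0), [nat_lit 8], [nat_lit 8, nat_lit 4], [((nat_lit 173), (nat_lit 2)), ((nat_lit 245), (nat_lit 3)), ((nat_lit 249), (nat_lit 3)), ((nat_lit 275), (nat_lit 1)), ((nat_lit 283), (nat_lit 2)), ((nat_lit 292), (nat_lit 1)), ((nat_lit 296), (nat_lit 3)), ((nat_lit 300), (nat_lit 3)), ((nat_lit 303), (nat_lit 3)), ((nat_lit 313), (nat_lit 3)), ((nat_lit 321), (nat_lit 3))]⟩,
  ⟨false, (nat_lit 0), [nat_lit 12], [nat_lit 1, nat_lit 0], [((nat_lit 241), (nat_lit 3)), ((nat_lit 271), (nat_lit 1)), ((nat_lit 275), (nat_lit 3)), ((nat_lit 289), (nat_lit 3)), ((nat_lit 292), (nat_lit 3)), ((nat_lit 319), (nat_lit 3)), ((nat_lit 321), (nat_lit 3))]⟩,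
  ⟨false, (nat_lit 0), [nat_lit 12], [nat_lit 3, nat_lit 1], [((nat_lit 243), (nat_lit 3)), ((nat_lit 272), (nat_lit 1)), ((nat_lit 274), (nat_lit 3)), ((nat_lit 294), (nat_lit 3)), ((nat_lit 306), (nat_lit 1)), ((nat_lit 319), (nat_lit 3)), ((nat_lit 320), (nat_lit 3))]⟩,
  ⟨false, (nat_lit 0), [nat_lit 9], [nat_lit 8, nat_lit 1], [((nat_lit 229), (nat_lit 1)), ((nat_lit 245), (nat_lit 3)), ((nat_lit 248), (nat_lit 3)), ((nat_lit 289), (nat_lit 1)), ((nat_lit 299), (nat_lit 3)), ((nat_lit 300), (nat_lit 3)), ((nat_lit 316), (nat_lit 3)), ((nat_lit 317), (nat_lit 1)), ((nat_lit 320), (nat_lit 1))]⟩,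
  ⟨false, (nat_lit 0), [nat_lit 10], [nat_lit 8, nat_lit 1], [((nat_lit 230), (nat_lit 1)), ((nat_lit 262), (nat_lit 3)), ((nat_lit 265), (nat_lit 3)), ((nat_lit 289), (nat_lit 1)), ((nat_lit 299), (nat_lit 3)), ((nat_lit 301), (nat_lit 3)), ((nat_lit 306), (nat_lit 1)), ((nat_lit 316), (nat_lit 3)), ((nat_lit 318), (nat_lit 3))]⟩,
  ⟨false, (nat_lit 0), [nat_lit 8], [nat_lit 4, nat_lit 4], [((nat_lit 173), (nat_lit 2)), ((nat_lit 194), (nat_lit 1)), ((nat_lit 241), (nat_lit 1)), ((nat_lit 245), (nat_lit 1)), ((nat_lit 249), (nat_lit 1)), ((nat_lit 292), (nat_lit 1)), ((nat_lit 300), (nat_lit 2)), ((nat_lit 303), (nat_lit 2)), ((nat_lit 309), (nat_lit 1)), ((nat_lit 313), (nat_lit 1)), ((nat_lit 317), (nat_lit 1)), ((nat_lit 320), (nat_lit 1)), ((nat_lit 321), (nat_lit 2))]⟩,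
  ⟨false, (nat_lit 0), [nat_lit 11], [nat_lit 4, nat_lit 4], [((nat_lit 224), (nat_lit 2)), ((nat_lit 229), (nat_lit 3)), ((nat_lit 248), (nat_lit 1)), ((nat_lit 275), (nat_lit 1)), ((nat_lit 285), (nat_lit 1)), ((nat_lit 292), (nat_lit 1)), ((nat_lit 302), (nat_lit 1)), ((nat_lit 303), (nat_lit 1)), ((nat_lit 309), (nat_lit 1)), ((nat_lit 316), (nat_lit 1)), ((nat_lit 317), (nat_lit 3)), ((nat_lit 319), (nat_lit 1)), ((nat_lit 320), (nat_lit 2)), ((nat_lit 321), (nat_lit 1))]⟩,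
  ⟨false, (nat_lit 0), [nat_lit 8], [nat_lit 8, nat_lit 5], [((nat_lit 174), (nat_lit 2)), ((nat_lit 245), (nat_lit 3)), ((nat_lit 249), (nat_lit 3)), ((nat_lit 276), (nat_lit 1)), ((nat_lit 279), (nat_lit 3)), ((nat_lit 283), (nat_lit 3)), ((nat_lit 285), (nat_lit 3)), ((nat_lit 293), (nat_lit 1)), ((nat_lit 300), (nat_lit 2)), ((nat_lit 302), (nat_lit 2)), ((nat_lit 313), (nat_lit 3)), ((nat_lit 319), (nat_lit 3)), ((nat_lit 320), (nat_lit 1)), ((nat_lit 321), (nat_lit 3))]⟩,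
  ⟨false, (nat_lit 0), [nat_lit 9], [nat_lit 2, nat_lit 0], [((nat_lit 191), (nat_lit 3)), ((nat_lit 273), (nat_lit 3)), ((nat_lit 276), (nat_lit 3)), ((nat_lit 288), (nat_lit 1)), ((nat_lit 293), (nat_lit 3)), ((nat_lit 302), (nat_lit 3)), ((nat_lit 305), (nat_lit 1)), ((nat_lit 319), (nat_lit 2)), ((nat_lit 321), (nat_lit 3))]⟩,
  ⟨false, (nat_lit 0), [nat_lit 2], [nat_lit 2, nat_lit 2], [((nat_lit 188), (nat_lit 1)), ((nat_lit 205), (nat_lit 1)), ((nat_lit 239), (nat_lit 1)), ((nat_lit 256), (nat_lit 1)), ((nat_lit 273), (nat_lit 1)), ((nat_lit 290), (nat_lit 1)), ((nat_lit 298), (nat_lit 1)), ((nat_lit 303), (nat_lit 1)), ((nat_lit 307), (nat_lit 1)), ((nat_lit 315), (nat_lit 1)), ((nat_lit 320), (nat_lit 2)), ((nat_lit 321), (nat_lit 2))]⟩,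
  ⟨false, (nat_lit 0), [nat_lit 7], [nat_lit 2, nat_lit 0], [((nat_lit 157), (nat_lit 3)), ((nat_lit 188), (nat_lit 3)), ((nat_lit 191), (nat_lit 3)), ((nat_lit 254), (nat_lit 1)), ((nat_lit 259), (nat_lit 3)), ((nat_lit 263), (nat_lit 3)), ((nat_lit 293), (nat_lit 3)), ((nat_lit 297), (nat_lit 3)), ((nat_lit 301), (nat_lit 3)), ((nat_lit 303), (nat_lit 3)), ((nat_lit 310), (nat_lit 3)), ((nat_lit 314), (nat_lit 3)), ((nat_lit 321), (nat_lit 3))]⟩,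
  ⟨false, (nat_lit 0), [nat_lit 10], [nat_lit 2, nat_lit 0], [((nat_lit 208), (nat_lit 3)), ((nat_lit 239), (nat_lit 3)), ((nat_lit 242), (nat_lit 3)), ((nat_lit 288), (nat_lit 1)), ((nat_lit 293), (nat_lit 3)), ((nat_lit 300), (nat_lit 3)), ((nat_lit 305), (nat_lit 1)), ((nat_lit 307), (nat_lit 3)), ((nat_lit 317), (nat_lit 3))]⟩,
  ⟨false, (nat_lit 0), [nat_lit 8], [nat_lit 8, nat_lit 0], [((nat_lit 169), (nat_lit 2)), ((nat_lit 211), (nat_lit 3)), ((nat_lit 213), (nat_lit 3)), ((nat_lit 245), (nat_lit 3)), ((nat_lit 247), (nat_lit 3)), ((nat_lit 249), (nat_lit 3)), ((nat_lit 271), (nat_lit 1)), ((nat_lit 279), (nat_lit 3)), ((nat_lit 281), (nat_lit 3)), ((nat_lit 283), (nat_lit 3)), ((nat_lit 285), (nat_lit 3)), ((nat_lit 288), (nat_lit 1)), ((nat_lit 298), (nat_lit 3)), ((nat_lit 313), (nat_lit 3)), ((nat_lit 315), (nat_lit 3)), ((nat_lit 317), (nat_lit 2)), ((nat_lit 321), (nat_lit 2))]⟩,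
  ⟨false, (nat_lit 0), [nat_lit 4], [nat_lit 4, nat_lit 1], [((nat_lit 102), (nat_lit 2)), ((nat_lit 173), (nat_lit 3)), ((nat_lit 177), (nat_lit 3)), ((nat_lit 187), (nat_lit 1)), ((nat_lit 194), (nat_lit 2)), ((nat_lit 238), (nat_lit 1)), ((nat_lit 245), (nat_lit 3)), ((nat_lit 280), (nat_lit 3)), ((nat_lit 297), (nat_lit 3)), ((nat_lit 300), (nat_lit 2)), ((nat_lit 303), (nat_lit 2)), ((nat_lit 306), (nat_lit 1)), ((nat_lit 313), (nat_lit 2)), ((nat_lit 321), (nat_lit 3))]⟩,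
  ⟨false, (nat_lit 0), [nat_lit 11], [nat_lit 11, nat_lit 3], [((nat_lit 223), (nat_lit 2)), ((nat_lit 248), (nat_lit 3)), ((nat_lit 249), (nat_lit 3)), ((nat_lit 265), (nat_lit 3)), ((nat_lit 266), (nat_lit 3)), ((nat_lit 267), (nat_lit 3)), ((nat_lit 282), (nat_lit 3)), ((nat_lit 283), (nat_lit 3)), ((nat_lit 284), (nat_lit 3)), ((nat_lit 285), (nat_lit 3)), ((nat_lit 299), (nat_lit 3)), ((nat_lit 300), (nat_lit 3)), ((nat_lit 301), (nat_lit 3)), ((nat_lit 302), (nat_lit 3)), ((nat_lit 303), (nat_lit 3)), ((nat_lit 308), (nat_lit 1)), ((nat_lit 316), (nat_lit 3)), ((nat_lit 317), (nat_lit 3)), ((nat_lit 318), (nat_lit 3)), ((nat_lit 319), (nat_lit 3)), ((nat_lit 320), (nat_lit 3)), ((nat_lit 321), (nat_lit 3))]⟩,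
  ⟨false, (nat_lit 0), [nat_lit 9], [nat_lit 1, nat_lit 0], [((nat_lit 190), (nat_lit 3)), ((nat_lit 237), (nat_lit 1)), ((nat_lit 241), (nat_lit 3)), ((nat_lit 272), (nat_lit 3)), ((nat_lit 275), (nat_lit 3)), ((nat_lit 283), (nat_lit 1)), ((nat_lit 292), (nat_lit 3)), ((nat_lit 300), (nat_lit 3)), ((nat_lit 303), (nat_lit 3)), ((nat_lit 309), (nat_lit 3)), ((nat_lit 317), (nat_lit 3)), ((nat_lit 320), (nat_lit 2)), ((nat_lit 321), (nat_lit 2))]⟩,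
  ⟨false, (nat_lit 0), [nat_lit 4], [nat_lit 4, nat_lit 0], [((nat_lit 101), (nat_lit 2)), ((nat_lit 156), (nat_lit 3)), ((nat_lit 159), (nat_lit 3)), ((nat_lit 186), (nat_lit 1)), ((nat_lit 193), (nat_lit 2)), ((nat_lit 237), (nat_lit 1)), ((nat_lit 244), (nat_lit 2)), ((nat_lit 278), (nat_lit 3)), ((nat_lit 283), (nat_lit 1)), ((nat_lit 295), (nat_lit 3)), ((nat_lit 305), (nat_lit 1)), ((nat_lit 312), (nat_lit 2)), ((nat_lit 314), (nat_lit 3)), ((nat_lit 317), (nat_lit 3)), ((nat_lit 321), (nat_lit 2))]⟩,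
  ⟨false, (nat_lit 0), [nat_lit 5], [nat_lit 5, nat_lit 0], [((nat_lit 118), (nat_lit 2)), ((nat_lit 191), (nat_lit 3)), ((nat_lit 195), (nat_lit 3)), ((nat_lit 208), (nat_lit 3)), ((nat_lit 212), (nat_lit 3)), ((nat_lit 213), (nat_lit 3)), ((nat_lit 276), (nat_lit 3)), ((nat_lit 280), (nat_lit 3)), ((nat_lit 281), (nat_lit 3)), ((nat_lit 285), (nat_lit 3)), ((nat_lit 293), (nat_lit 3)), ((nat_lit 297), (nat_lit 3)), ((nat_lit 298), (nat_lit 3)), ((nat_lit 302), (nat_lit 3)), ((nat_lit 303), (nat_lit 3)), ((nat_lit 315), (nat_lit 2)), ((nat_lit 319), (nat_lit 1)), ((nat_lit 320), (nat_lit 2)), ((nat_lit 321), (nat_lit 2))]⟩,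
  ⟨false, (nat_lit 0), [nat_lit 9], [nat_lit 3, nat_lit 2], [((nat_lit 191), (nat_lit 3)), ((nat_lit 193), (nat_lit 3)), ((nat_lit 290), (nat_lit 1)), ((nat_lit 291), (nat_lit 3)), ((nat_lit 297), (nat_lit 1)), ((nat_lit 307), (nat_lit 1)), ((nat_lit 308), (nat_lit 3)), ((nat_lit 312), (nat_lit 3)), ((nat_lit 320), (nat_lit 3))]⟩,
  ⟨false, (nat_lit 0), [nat_lit 7], [nat_lit 2, nat_lit 2], [((nat_lit 154), (nat_lit 2)), ((nat_lit 193), (nat_lit 1)), ((nat_lit 210), (nat_lit 1)), ((nat_lit 244), (nat_lit 1)), ((nat_lit 256), (nat_lit 1)), ((nat_lit 261), (nat_lit 1)), ((nat_lit 267), (nat_lit 1)), ((nat_lit 278), (nat_lit 1)), ((nat_lit 284), (nat_lit 2)), ((nat_lit 295), (nat_lit 1)), ((nat_lit 301), (nat_lit 2)), ((nat_lit 312), (nat_lit 1)), ((nat_lit 317), (nat_lit 1)), ((nat_lit 318), (nat_lit 2)), ((nat_lit 321), (nat_lit 1))]⟩,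
  ⟨false, (nat_lit 0), [nat_lit 9], [nat_lit 3, nat_lit 1], [((nat_lit 192), (nat_lit 3)), ((nat_lit 240), (nat_lit 3)), ((nat_lit 243), (nat_lit 3)), ((nat_lit 277), (nat_lit 3)), ((nat_lit 283), (nat_lit 3)), ((nat_lit 285), (nat_lit 3)), ((nat_lit 289), (nat_lit 1)), ((nat_lit 294), (nat_lit 3)), ((nat_lit 300), (nat_lit 3)), ((nat_lit 302), (nat_lit 3)), ((nat_lit 306), (nat_lit 1)), ((nat_lit 317), (nat_lit 2)), ((nat_lit 319), (nat_lit 2)), ((nat_lit 320), (nat_lit 3)), ((nat_lit 321), (nat_lit 3))]⟩,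
  ⟨false, (nat_lit 0), [nat_lit 6], [nat_lit 6, nat_lit 4], [((nat_lit 139), (nat_lit 2)), ((nat_lit 192), (nat_lit 3)), ((nat_lit 195), (nat_lit 3)), ((nat_lit 226), (nat_lit 3)), ((nat_lit 229), (nat_lit 3)), ((nat_lit 231), (nat_lit 3)), ((nat_lit 275), (nat_lit 1)), ((nat_lit 277), (nat_lit 3)), ((nat_lit 280), (nat_lit 3)), ((nat_lit 285), (nat_lit 2)), ((nat_lit 294), (nat_lit 3)), ((nat_lit 297), (nat_lit 3)), ((nat_lit 299), (nat_lit 3)), ((nat_lit 302), (nat_lit 3)), ((nat_lit 303), (nat_lit 3)), ((nat_lit 309), (nat_lit 1)), ((nat_lit 314), (nat_lit 3)), ((nat_lit 316), (nat_lit 3)), ((nat_lit 319), (nat_lit 3)), ((nat_lit 320), (nat_lit 2)), ((nat_lit 321), (nat_lit 3))]⟩,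
  ⟨false, (nat_lit 0), [nat_lit 6], [nat_lit 5, nat_lit 5], [((nat_lit 140), (nat_lit 2)), ((nat_lit 191), (nat_lit 1)), ((nat_lit 195), (nat_lit 1)), ((nat_lit 208), (nat_lit 1)), ((nat_lit 212), (nat_lit 1)), ((nat_lit 213), (nat_lit 1)), ((nat_lit 242), (nat_lit 1)), ((nat_lit 246), (nat_lit 1)), ((nat_lit 247), (nat_lit 1)), ((nat_lit 249), (nat_lit 1)), ((nat_lit 293), (nat_lit 1)), ((nat_lit 297), (nat_lit 1)), ((nat_lit 298), (nat_lit 1)), ((nat_lit 300), (nat_lit 1)), ((nat_lit 303), (nat_lit 1)), ((nat_lit 310), (nat_lit 1)), ((nat_lit 314), (nat_lit 1)), ((nat_lit 315), (nat_lit 1)), ((nat_lit 317), (nat_lit 2)), ((nat_lit 320), (nat_lit 3)), ((nat_lit 321), (nat_lit 3))]⟩,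
  ⟨false, (nat_lit 0), [nat_lit 10], [nat_lit 3, nat_lit 1], [((nat_lit 209), (nat_lit 3)), ((nat_lit 238), (nat_lit 1)), ((nat_lit 243), (nat_lit 3)), ((nat_lit 255), (nat_lit 1)), ((nat_lit 257), (nat_lit 3)), ((nat_lit 266), (nat_lit 1)), ((nat_lit 283), (nat_lit 3)), ((nat_lit 284), (nat_lit 1)), ((nat_lit 289), (nat_lit 1)), ((nat_lit 294), (nat_lit 3)), ((nat_lit 301), (nat_lit 3)), ((nat_lit 306), (nat_lit 1)), ((nat_lit 318), (nat_lit 3)), ((nat_lit 320), (nat_lit 1))]⟩,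
  ⟨false, (nat_lit 0), [nat_lit 10], [nat_lit 1, nat_lit 0], [((nat_lit 207), (nat_lit 3)), ((nat_lit 238), (nat_lit 3)), ((nat_lit 241), (nat_lit 3)), ((nat_lit 254), (nat_lit 1)), ((nat_lit 258), (nat_lit 3)), ((nat_lit 266), (nat_lit 3)), ((nat_lit 275), (nat_lit 3)), ((nat_lit 283), (nat_lit 3)), ((nat_lit 284), (nat_lit 3)), ((nat_lit 285), (nat_lit 3)), ((nat_lit 300), (nat_lit 3)), ((nat_lit 303), (nat_lit 3)), ((nat_lit 306), (nat_lit 3)), ((nat_lit 309), (nat_lit 3)), ((nat_lit 317), (nat_lit 3)), ((nat_lit 318), (nat_lit 1)), ((nat_lit 320), (nat_lit 3)), ((nat_lit 321), (nat_lit 3))]⟩,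
  ⟨false, (nat_lit 0), [nat_lit 8], [nat_lit 7, nat_lit 1], [((nat_lit 211), (nat_lit 1)), ((nat_lit 227), (nat_lit 3)), ((nat_lit 230), (nat_lit 3)), ((nat_lit 272), (nat_lit 1)), ((nat_lit 281), (nat_lit 3)), ((nat_lit 282), (nat_lit 3)), ((nat_lit 289), (nat_lit 1)), ((nat_lit 298), (nat_lit 3)), ((nat_lit 302), (nat_lit 1)), ((nat_lit 303), (nat_lit 1)), ((nat_lit 306), (nat_lit 1)), ((nat_lit 315), (nat_lit 3)), ((nat_lit 319), (nat_lit 1)), ((nat_lit 320), (nat_lit 1)), ((nat_lit 321), (nat_lit 1))]⟩,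
  ⟨false, (nat_lit 0), [nat_lit 7], [nat_lit 3, nat_lit 0], [((nat_lit 156), (nat_lit 3)), ((nat_lit 186), (nat_lit 1)), ((nat_lit 189), (nat_lit 3)), ((nat_lit 193), (nat_lit 1)), ((nat_lit 261), (nat_lit 1)), ((nat_lit 263), (nat_lit 2)), ((nat_lit 280), (nat_lit 3)), ((nat_lit 284), (nat_lit 3)), ((nat_lit 292), (nat_lit 3)), ((nat_lit 303), (nat_lit 3)), ((nat_lit 309), (nat_lit 3)), ((nat_lit 312), (nat_lit 1)), ((nat_lit 314), (nat_lit 2)), ((nat_lit 319), (nat_lit 1)), ((nat_lit 320), (nat_lit 3)), ((nat_lit 321), (nat_lit 3))]⟩,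
  ⟨false, (nat_lit 0), [nat_lit 10], [nat_lit 4, nat_lit 1], [((nat_lit 211), (nat_lit 3)), ((nat_lit 258), (nat_lit 3)), ((nat_lit 262), (nat_lit 3)), ((nat_lit 272), (nat_lit 1)), ((nat_lit 279), (nat_lit 3)), ((nat_lit 284), (nat_lit 3)), ((nat_lit 289), (nat_lit 1)), ((nat_lit 296), (nat_lit 3)), ((nat_lit 301), (nat_lit 2)), ((nat_lit 302), (nat_lit 3)), ((nat_lit 306), (nat_lit 1)), ((nat_lit 313), (nat_lit 3)), ((nat_lit 318), (nat_lit 2)), ((nat_lit 319), (nat_lit 3))]⟩,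
  ⟨false, (nat_lit 0), [nat_lit 6], [nat_lit 6, nat_lit 2], [((nat_lit 137), (nat_lit 2)), ((nat_lit 192), (nat_lit 3)), ((nat_lit 195), (nat_lit 3)), ((nat_lit 209), (nat_lit 3)), ((nat_lit 212), (nat_lit 3)), ((nat_lit 213), (nat_lit 3)), ((nat_lit 273), (nat_lit 1)), ((nat_lit 280), (nat_lit 2)), ((nat_lit 281), (nat_lit 3)), ((nat_lit 285), (nat_lit 3)), ((nat_lit 294), (nat_lit 3)), ((nat_lit 297), (nat_lit 3)), ((nat_lit 298), (nat_lit 3)), ((nat_lit 303), (nat_lit 3)), ((nat_lit 307), (nat_lit 1)), ((nat_lit 311), (nat_lit 3)), ((nat_lit 314), (nat_lit 2)), ((nat_lit 319), (nat_lit 1)), ((nat_lit 320), (nat_lit 1)), ((nat_lit 321), (nat_lit 2))]⟩,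
  ⟨false, (nat_lit 0), [nat_lit 10], [nat_lit 4, nat_lit 0], [((nat_lit 210), (nat_lit 3)), ((nat_lit 241), (nat_lit 3)), ((nat_lit 244), (nat_lit 3)), ((nat_lit 271), (nat_lit 1)), ((nat_lit 278), (nat_lit 3)), ((nat_lit 283), (nat_lit 3)), ((nat_lit 288), (nat_lit 1)), ((nat_lit 300), (nat_lit 3)), ((nat_lit 305), (nat_lit 1)), ((nat_lit 309), (nat_lit 3)), ((nat_lit 312), (nat_lit 3)), ((nat_lit 317), (nat_lit 2)), ((nat_lit 319), (nat_lit 1)), ((nat_lit 320), (nat_lit 1)), ((nat_lit 321), (nat_lit 3))]⟩,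
  ⟨false, (nat_lit 0), [nat_lit 7], [nat_lit 1, nat_lit 0], [((nat_lit 156), (nat_lit 3)), ((nat_lit 187), (nat_lit 3)), ((nat_lit 190), (nat_lit 3)), ((nat_lit 203), (nat_lit 1)), ((nat_lit 207), (nat_lit 3)), ((nat_lit 212), (nat_lit 3)), ((nat_lit 241), (nat_lit 3)), ((nat_lit 280), (nat_lit 3)), ((nat_lit 281), (nat_lit 3)), ((nat_lit 285), (nat_lit 3)), ((nat_lit 297), (nat_lit 3)), ((nat_lit 300), (nat_lit 3)), ((nat_lit 303), (nat_lit 2)), ((nat_lit 309), (nat_lit 3)), ((nat_lit 314), (nat_lit 3)), ((nat_lit 317), (nat_lit 2)), ((nat_lit 320), (nat_lit 2)), ((nat_lit 321), (nat_lit 2))]⟩,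
  ⟨false, (nat_lit 0), [nat_lit 11], [nat_lit 4, nat_lit 1], [((nat_lit 228), (nat_lit 3)), ((nat_lit 258), (nat_lit 3)), ((nat_lit 262), (nat_lit 3)), ((nat_lit 272), (nat_lit 1)), ((nat_lit 275), (nat_lit 3)), ((nat_lit 284), (nat_lit 3)), ((nat_lit 289), (nat_lit 1)), ((nat_lit 296), (nat_lit 3)), ((nat_lit 301), (nat_lit 2)), ((nat_lit 302), (nat_lit 3)), ((nat_lit 306), (nat_lit 1)), ((nat_lit 309), (nat_lit 3)), ((nat_lit 313), (nat_lit 3)), ((nat_lit 318), (nat_lit 3)), ((nat_lit 320), (nat_lit 1))]⟩,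
  ⟨false, (nat_lit 0), [nat_lit 9], [nat_lit 3, nat_lit 0], [((nat_lit 190), (nat_lit 3)), ((nat_lit 263), (nat_lit 1)), ((nat_lit 274), (nat_lit 3)), ((nat_lit 275), (nat_lit 3)), ((nat_lit 280), (nat_lit 3)), ((nat_lit 284), (nat_lit 3)), ((nat_lit 288), (nat_lit 1)), ((nat_lit 297), (nat_lit 3)), ((nat_lit 301), (nat_lit 3)), ((nat_lit 302), (nat_lit 2)), ((nat_lit 303), (nat_lit 3)), ((nat_lit 305), (nat_lit 1)), ((nat_lit 314), (nat_lit 1)), ((nat_lit 319), (nat_lit 3)), ((nat_lit 321), (nat_lit 3))]⟩,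
  ⟨false, (nat_lit 0), [nat_lit 7], [nat_lit 4, nat_lit 1], [((nat_lit 176), (nat_lit 1)), ((nat_lit 207), (nat_lit 3)), ((nat_lit 211), (nat_lit 3)), ((nat_lit 272), (nat_lit 1)), ((nat_lit 289), (nat_lit 1)), ((nat_lit 306), (nat_lit 1))]⟩,
  ⟨false, (nat_lit 0), [nat_lit 10], [nat_lit 1, nat_lit 1], [((nat_lit 204), (nat_lit 2)), ((nat_lit 207), (nat_lit 3)), ((nat_lit 208), (nat_lit 3)), ((nat_lit 209), (nat_lit 3)), ((nat_lit 211), (nat_lit 3)), ((nat_lit 230), (nat_lit 1)), ((nat_lit 255), (nat_lit 1)), ((nat_lit 264), (nat_lit 1)), ((nat_lit 267), (nat_lit 1)), ((nat_lit 276), (nat_lit 3)), ((nat_lit 277), (nat_lit 3)), ((nat_lit 285), (nat_lit 3)), ((nat_lit 293), (nat_lit 3)), ((nat_lit 294), (nat_lit 3)), ((nat_lit 296), (nat_lit 3)), ((nat_lit 298), (nat_lit 1)), ((nat_lit 301), (nat_lit 2)), ((nat_lit 303), (nat_lit 3)), ((nat_lit 310), (nat_lit 3)), ((nat_lit 316), (nat_lit 3)),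 ((nat_lit 318), (nat_lit 3)), ((nat_lit 320), (nat_lit 1)), ((nat_lit 321), (nat_lit 3))]⟩,
  ⟨false, (nat_lit 0), [nat_lit 11], [nat_lit 2, nat_lit 0], [((nat_lit 225), (nat_lit 3)), ((nat_lit 239), (nat_lit 3)), ((nat_lit 242), (nat_lit 3)), ((nat_lit 254), (nat_lit 1)), ((nat_lit 256), (nat_lit 3)), ((nat_lit 266), (nat_lit 3)), ((nat_lit 271), (nat_lit 1)), ((nat_lit 273), (nat_lit 3)), ((nat_lit 283), (nat_lit 3)), ((nat_lit 290), (nat_lit 3)), ((nat_lit 293), (nat_lit 3)), ((nat_lit 300), (nat_lit 3)), ((nat_lit 301), (nat_lit 1)), ((nat_lit 302), (nat_lit 1)), ((nat_lit 307), (nat_lit 3)), ((nat_lit 310), (nat_lit 3)), ((nat_lit 318), (nat_lit 1)), ((nat_lit 320), (nat_lit 2)), ((nat_lit 321), (nat_lit 3))]⟩,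
  ⟨false, (nat_lit 0), [nat_lit 7], [nat_lit 3, nat_lit 1], [((nat_lit 158), (nat_lit 3)), ((nat_lit 187), (nat_lit 1)), ((nat_lit 192), (nat_lit 3)), ((nat_lit 206), (nat_lit 3)), ((nat_lit 209), (nat_lit 3)), ((nat_lit 212), (nat_lit 1)), ((nat_lit 243), (nat_lit 3)), ((nat_lit 260), (nat_lit 3)), ((nat_lit 263), (nat_lit 3)), ((nat_lit 264), (nat_lit 3)), ((nat_lit 266), (nat_lit 3)), ((nat_lit 267), (nat_lit 3)), ((nat_lit 281), (nat_lit 3)), ((nat_lit 285), (nat_lit 3)), ((nat_lit 294), (nat_lit 3)), ((nat_lit 297), (nat_lit 3)), ((nat_lit 298), (nat_lit 3)), ((nat_lit 300), (nat_lit 3)), ((nat_lit 301), (nat_lit 3)), ((nat_lit 302), (nat_lit 2)), ((nat_lit 303), (nat_lit 3)), ((nat_lit 311), (nat_lit 3)), ((nat_lit 314), (nat_lit 3)), ((nat_lit 317), (nat_lit 1)), ((nat_lit 319), (nat_lit 3)), ((nat_lit 321), (nat_lit 3))]⟩,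
  ⟨false, (nat_lit 0), [nat_lit 8], [nat_lit 4, nat_lit 1], [((nat_lit 224), (nat_lit 3)), ((nat_lit 228), (nat_lit 3)), ((nat_lit 238), (nat_lit 1)), ((nat_lit 245), (nat_lit 3)), ((nat_lit 248), (nat_lit 3)), ((nat_lit 279), (nat_lit 3)), ((nat_lit 289), (nat_lit 1)), ((nat_lit 299), (nat_lit 3)), ((nat_lit 300), (nat_lit 1)), ((nat_lit 303), (nat_lit 3)), ((nat_lit 306), (nat_lit 1)), ((nat_lit 316), (nat_lit 3)), ((nat_lit 319), (nat_lit 2)), ((nat_lit 320), (nat_lit 3)), ((nat_lit 321), (nat_lit 3))]⟩]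
noncomputable def Ds2 : List (List (ℕ × ℕ)) := I2_0.map Pc.Idn.D ++ (I2_1.map Pc.Idn.D)
noncomputable def S2 : List (List (ℕ × ℕ)) := [[],
  [],
  [],
  [],
  [((nat_lit 50), (nat_lit 1))],
  [((nat_lit 67), (nat_lit 1))],
  [((nat_lit 85), (nat_lit 1))],
  [((nat_lit 101), (nat_lit 1))],
  [((nat_lit 102), (nat_lit 1))],
  [((nat_lit 152), (nat_lit 1))],
  [((nat_lit 153), (nat_lit 1))],
  [((nat_lit 170), (nat_lit 1))],
  [((nat_lit 187), (nat_lit 1))],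
  [((nat_lit 204), (nat_lit 1))],
  [((nat_lit 238), (nat_lit 1))],
  [((nat_lit 271), (nat_lit 1))],
  [((nat_lit 288), (nat_lit 1))]]
noncomputable def Yo2 : List (List (ℕ × ℕ) × ℕ × ℕ) := [([((nat_lit 50), (nat_lit 2)), ((nat_lit 67), (nat_lit 1)), ((nat_lit 68), (nat_lit 1)), ((nat_lit 86), (nat_lit 2)), ((nat_lit 101), (nat_lit 1)), ((nat_lit 103), (nat_lit 3)), ((nat_lit 105), (nat_lit 1)), ((nat_lit 118), (nat_lit 2)), ((nat_lit 119), (nat_lit 1)), ((nat_lit 120), (nat_lit 2))], (nat_lit 2), nat_lit 0x2a00008a0208a804a01824a860073f93a80d4af8041dc3c06b80e7fb253864a91aba00204a26e5659029873a51d4d7b656a3a47226e8f6628fb0be0)]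
noncomputable def La2 : List ℕ := [nat_lit 0,
  nat_lit 0,
  nat_lit 0,
  nat_lit 0,
  nat_lit 0,
  nat_lit 0,
  nat_lit 0,
  nat_lit 0,
  nat_lit 0,
  nat_lit 0,
  nat_lit 0,
  nat_lit 0,
  nat_lit 0,
  nat_lit 0,
  nat_lit 0,
  nat_lit 0,
  nat_lit 0,
  nat_lit 0,
  nat_lit 0,
  nat_lit 0,
  nat_lit 0,
  nat_lit 0,
  nat_lit 0,
  nat_lit 0,
  nat_lit 0,
  nat_lit 0,
  nat_lit 0,
  nat_lit 0,
  nat_lit 0,
  nat_lit 0,
  nat_lit 0,
  nat_lit 0,
  nat_lit 0,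
  nat_lit 0,
  nat_lit 0,
  nat_lit 0x7c4c0ddd00839ec2cb82b2da4a379d4b9fcd3cc02b1039934823797a884b002c4fb6a70af5fc5dbac408a7cad691f479fe7653e5193950b74402de0,
  nat_lit 0,
  nat_lit 0,
  nat_lit 0,
  nat_lit 0,
  nat_lit 0,
  nat_lit 0,
  nat_lit 0,
  nat_lit 0,
  nat_lit 0,
  nat_lit 0,
  nat_lit 0,
  nat_lit 0,
  nat_lit 0,
  nat_lit 0,
  nat_lit 0,
  nat_lit 0x389d05ec4fb4cbf4ec3adf0fd164ad81d12c4dc4ef0e19410937bf9f20c282e3111a946a3d4fae1fc8003bc4a85181777b7ff7717cce08f98e9014,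
  nat_lit 0,
  nat_lit 0x440c69063b71dcb03da9edda66c4de86ed7699b786604868b60cacebd88a6ca248d839486ca8b629bda0d61b62b063d65ce26caa215cbb9bca8f1,
  nat_lit 0,
  nat_lit 0,
  nat_lit 0,
  nat_lit 0,
  nat_lit 0,
  nat_lit 0,
  nat_lit 0,
  nat_lit 0,
  nat_lit 0,
  nat_lit 0,
  nat_lit 0,
  nat_lit 0,
  nat_lit 0,
  nat_lit 0,
  nat_lit 0,
  nat_lit 0,
  nat_lit 0xd44c0fdd88b324f6432886b3870ff1644ff6e1c62a563035866505a4da652ccfe88fd12f0b567bcb371f7d2fde9d4aeb25eac75f331506134a1d7a1,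
  nat_lit 0xd4440fdd04b942ddc38d5ddb1d45c7ab1a4ec591e4b91f8882e71eac0d5786a4ffa97cf18409c4b2789f80f3b5f33e6d5fad41c0986c57a4ef865b9,
  nat_lit 0x84081e88d379b602c2af8c872d52f314f219b412ce213f87a30f9058f9c0b58efad8bab98ce181f37075385dcfb12a65cad5a814ab407aa1f6b8c,
  nat_lit 0,
  nat_lit 0,
  nat_lit 0,
  nat_lit 0,
  nat_lit 0,
  nat_lit 0,
  nat_lit 0,
  nat_lit 0,
  nat_lit 0,
  nat_lit 0,
  nat_lit 0,
  nat_lit 0,
  nat_lit 0x7c400d698832effecb629f540d2c4db70457978c3b5c9ae4f1089ae6f80870d9cb7c7ed5ce072361820a0279b77687de30950eb2005339f4f0bb465,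
  nat_lit 0xa8840a360041e99088a0236cc089c83064d6457001df8d304d44e42ab6b6dcdac929a63ced15786ec26b911e183253c146f0d2d2072ec7fe39ab6cc,
  nat_lit 0x8001c8288282a302b28c2108b8faf9eef021e8cc28ce80dedf29825a8c3bba12daee6ba91f67b08a4928391cd0f6d71a537fa7f5f236c1e9b818,
  nat_lit 0xa80c02b40c01410a08c0b98f4a971873ec83cd8c2c1c10b7a19ebe0e04da10907f8f7672de512ddf23468586ab71b7036ae8934e2fd56bf6d7c9e94,
  nat_lit 0x80040880830244a803072f7ae4c9459facb34550e6058d6ec84e65b9e489b07cad10ad50ed8ab2dceb35e1b5afa9fe3191a63082a7ad5bb5a270,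
  nat_lit 0xa800023482089a24b8c988aaf735d49f5c1bdc222f4631d3d75926fef5da7bd474b8afae0951028ec0b3b7d9880821968373289d77a297f2734ee54,
  nat_lit 0,
  nat_lit 0,
  nat_lit 0,
  nat_lit 0,
  nat_lit 0,
  nat_lit 0,
  nat_lit 0,
  nat_lit 0,
  nat_lit 0,
  nat_lit 0,
  nat_lit 0,
  nat_lit 0x7c440db50c35f8f9e3456b11a7ef3d125f42ac5f335414a594e2de7c05040ea1de4bdd1af079a89925b1be7ab5ce70311eec56efa9257fa9c832485,
  nat_lit 0x7ccc05b7817b3e4a4a2a6bf85a935d656a7de62639033113413946ba19822d7a0d7f0dd6bc48d612f8fd87a5b03c77659e4f74fff8576c4f4ce02e5,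
  nat_lit 0x7c400d29c6f26ffefa723cd4a025f21f1de871ac69b60f9d3fbc364ae615c9d99bad008bdfcea0266c8c9f45936359b9a76ac1e4c49df2d433b4b2d,
  nat_lit 0xa8940a1e83c2ecb0079d7e414a81933e5383839d3443d6b7560e6bffc1eef4abf54ca77bebcb8379954cf51d6dedde15e28b17e520d1c19ee29f6f8,
  nat_lit 0x800842080a6aba23c2ba8990027c7f61151b4070dcd8f9a1792fa8ffcc1752b67aa2f94a2019b51d2c8d97443a97eec931baa2726be0cbc8ee888,
  nat_lit 0x7cc005eb00b346644f21037a6df057c21a6f5fc8a80c75cb38b1ed85e3bf105ccba174df426d6179e818240bfb5e606cb135261c324e83c6618b525,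
  nat_lit 0xb808eab18badb8075d170c5aa6ee561bc24df5ef4d0d8a0880d013018588252698a6076b240c2ed5bae8ca1350780ff545c0720e225898243c318,
  nat_lit 0,
  nat_lit 0,
  nat_lit 0,
  nat_lit 0,
  nat_lit 0,
  nat_lit 0,
  nat_lit 0,
  nat_lit 0,
  nat_lit 0,
  nat_lit 0,
  nat_lit 0,
  nat_lit 0,
  nat_lit 0x8808028002ba962a60a84b4d84bc26500fdfbc83c58851b01f68ea46a45a25160cac7bfd7af23332ca8fa501d41c5a9c0e7cac91d0eab91274088,
  nat_lit 0xd4c0070388ba5d48405a02bd5a2c4a5b2eae6a46d00561443e355c40ad12d07622c8097a709f8b1ceac950c72f61f27c93bd332b33e25d7aab2c209,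
  nat_lit 0x8808020000809000ca388100aa9c6e21b793d6127d8bcba6c15f445c6cbc0aa4f47ba252082b405fbcf4d46345caf17ff47fc134b010001a6f880,
  nat_lit 0x7c400d01883a4fd6e8e0be567d3225acad67af24c3ffd9264a184f0e63f25c57530ead8776be451acf46aa707eb442c9941eecfb099b3ac4fdd0ecd,
  nat_lit 0xa8880a2a088298b4a8820e612d808f3542b157f419f43630f1e7f7da98f42199e5d90e6bb3d7f1d8aa6081f9634f5f16573fc5a6d3eed1dc4171460,
  nat_lit 0xa8880aaa088298b4a80036614da02dfde0d9f7ec91f094c27fa5dc7238b89e0fc1f70b792eab81aa00a518301692adb6d64fc2a9bef78d1ef1964cc,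
  nat_lit 0,
  nat_lit 0,
  nat_lit 0,
  nat_lit 0,
  nat_lit 0,
  nat_lit 0,
  nat_lit 0,
  nat_lit 0,
  nat_lit 0,
  nat_lit 0x7cc8056b88324f46c988ae5527ae737029f28e56a9098bc5f9a14ba696f2cfff49bea956f84a18035d752c90574c8f26255bf4bf74d82e5e1910e61,
  nat_lit 0,
  nat_lit 0x7cc805eb88b3d74045023934806abf88ae5d2db010f78c991377373ff207695737e0aa50f5b5c7873bc9cf667e87dd400810bd0addc0ffd60cde101,
  nat_lit 0x8008aa808a669aa160b82b3a6a7f917ff3b8a8d26a734dcfd9bfc45a3adccac4f2def25e4272c244099c5a582c051e3b75a48e34493e32416d640,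
  nat_lit 0x7c400d418832cfd6e860b65627264556ae6f15a83b7d8e945db8a6a6a34d5f078055ae57e562229a8b4e1352b41f4f618730f5fe46fe3a3230d6be9,
  nat_lit 0x800a808028a020029aa0ac0b6ea01818a149e29e93a921498ed8806830d382fbda51449b974bcaf4bfb95e436a8a08ef06e3bc91ea7457c8a128,
  nat_lit 0xa8880aea088298b4aaa22e612d888f252c115fd4235eed58ed87d9fa32e3920f1f87dc89f4e054ccf0e053b5c9fb3311f454c9e49ab460358e9914c,
  nat_lit 0xd4c0078388ba7d4040ca2a3dd02c609920b6c246d2a7792698bd567411a27df485d40f4c9cb5b824d3016a6da6b7a8fbaeea5d59f1f2bf4e6ac8a8d,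
  nat_lit 0x7cc005eb8030c564e82024dd0712339204f894e86122b18dff5119469df64a95ffb9d45c822a668ce1b51c45d1e69dbe2b398e90b6ecfec54dfa64d,
  nat_lit 0,
  nat_lit 0,
  nat_lit 0,
  nat_lit 0,
  nat_lit 0,
  nat_lit 0,
  nat_lit 0,
  nat_lit 0,
  nat_lit 0xa8800a82008012b6aaaab46b6d3e6d5d25fbefee23d80272f00d32d2d85281217c9ba6b3e976af48bd0f09ad90108c92502c308ef1a52682173be44,
  nat_lit 0,
  nat_lit 0xa80002280882382c286a0e40072a99b92b76ee0aa003157f69ac061ad66dd86e7fbcaad5b01112d4c48ae529b415a7c0cb109f320b538bb6e269fc0,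
  nat_lit 0xa8880aaa0882b8bcaa0016e147a82dfdafd957f0895a3e124d2dd072ba5508dfe5210d1a99b451c5942fdb971e9207b6604b22ab3d0c24df43d57e0,
  nat_lit 0x80082a08022a9a00e0b20baa34fe6c801d0b48b8d587e9acc197cc366daee0266ea201be239d9062a51ee645fb145d4861b9c2ba19dd9a160e3a0,
  nat_lit 0x80082a08020a928060baaba01cd4460815a1e0ba5b251fbf2935ecbca1d22eea600ca0099b76b4c30497d3cf5189d56e5b63c8bb8311a8beea7a4,
  nat_lit 0x8008aa0802aa9a02e0b20b8a043e56081dabe81ad72a2197e3f544746318628ee6d9ad9e0290f5b37f3e79cc393177570fcb5314b9768992e19a8,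
  nat_lit 0x800000000000a008000020a202a20820a0202ab2829d60a00400140b70bb8072a8da6ab3468836583d08300b808810902e42810a57438b88c,
  nat_lit 0x800000200800a028800a28a2828808a02828a270faa4888084003c8b145384dc016df0318420b439bb09e0d8a0328420044933e0e4418aca0,
  nat_lit 0x8008aa08022a9a00c0920b2a34fecc089d03c892559501b3c19f603e5b9dfe77e0782272fb255cc0194c196f77a573581c8d44f9028d46ffa7d84,
  nat_lit 0,
  nat_lit 0,
  nat_lit 0,
  nat_lit 0,
  nat_lit 0,
  nat_lit 0,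
  nat_lit 0,
  nat_lit 0xd4480f0188bafdf040a03abc5086f61e052b7b10e8d0fa459f5c2cb46511dd62278c7c9d1eceda94bd1b5cf10747b9aa42521d94cc9256857b6e3ad,
  nat_lit 0,
  nat_lit 0xa8800a82008012b62a8a964b0d3ee55701ebc10ab60cb27e4f2d1a36624642e04c49dcfc8017a6488ca4994091e8f58765ebf850bb6d71807c8bef8,
  nat_lit 0xa8080200880092260ae09cca07b6c3e17eae7e3c1939a86c79a6e2ba2cb0685784d706e94b2e91c2184e22e7aeb4eb667b77bca222749ae191998e0,
  nat_lit 0xd4400fa980b877f240aab0b6f018143f2621430e6ad8d68fbcb4419027cee3a4eb98affc20d4a7a2b822141fc8116c2e7ff5639543618884fc426a5,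
  nat_lit 0x8008aa08022a9a82c2902b2a347644e83d0188b8fd856d0661906096f5dc6e0d4aa8cacf06dc42c00e7e350413a67ee819b1a038688abe35eb320,
  nat_lit 0x8008aa80828a92a2e2b2ab8a261cfe723781c0984fa8cf95835ae85cd3fa8a7de807af700cdf8f397d74248f4333d9f576c1d19ca34c1c9766da8,
  nat_lit 0x8008aa08020a9200c0b28b2034fe6e68bdabe0b05d85418fe9b3681ef59cc4676ba20865b246a0e0255c95642db174a4ebc72a39276e162d0af80,
  nat_lit 0x2008028008800a28a2a260a8a0a038803a7a8fa8a420aa68257c964c76e820f4329aa03ed9dd20183183aee87866c9515858728a8a0,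
  nat_lit 0x80082a08020a9200e0928b203cfeee221d8b48905da5a98f29b644362b9004eae9a02ba1191d7eea041eed8775d97daac98fe0332fd33aa643580,
  nat_lit 0x8008aa08020a9200409a8ba0145ccc4a3583c89adf056b2f491bc01675b6226fefaa01f3a66ee2c887d651442db9d4aeeb670aba1476a50521f20,
  nat_lit 0,
  nat_lit 0,
  nat_lit 0,
  nat_lit 0,
  nat_lit 0,
  nat_lit 0,
  nat_lit 0xa8800a420088b2bea8aab4fb7d22ef29285b7d46e952dd6a4bc4f0daf2e28cb7ceaa744a5127126ee3c82a6638212d918c2063e00ee9b15ae25f6e4,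
  nat_lit 0xd4400fa980b0d7fa402bc83640047c344d697d2a311956b5814ccb3cab133dc417677403b42520a89fe10d4b7817a78913be1dc0ce35bf04e30a185,
  nat_lit 0xd4c8072b00ba4d4068c81a7d37acc4a1d6fca252f3ddc2ac24ea6036139bd5d66567a7054dadc3de8976b27c1686404645a3ceb9ee353bfd03a5d05,
  nat_lit 0x7c480de908b065dc4a6dfcfc47928d6f3b6f0b95220219786c61082e2f5dc9e15eaddb8b221b48eef734917334239c4872460121f39df1a8cbf9fc9,
  nat_lit 0x2008022000802a08402446802020b8a28048018b8c2c4abc862c854cd1e9dbb43b1c38e2c056237aef08652ada2b9550b8bf190c824,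
  nat_lit 0xd4c0078388ba5d48424a20bdda04c6db2c0e462efe1bf17c30d5ff9c8bac3bec8a6ba1fe074bf31ae17681e64f47046c81812d1f7065199b428c811,
  nat_lit 0x80082a08022a9a00c0920b8a243e58009dc360105d16b182409f68feb2b5e43be2a685d3312e3d83c78dd961f7da7119fcbdf2c188d786d50c284,
  nat_lit 0x8028000000228aa6e8a8a02a8a020a8622a0a0a80d2e92278c090096829aec882ff839181c72a09f3c440ba01246e508e93a0,
  nat_lit 0x800000000002a00800000022ae4e0808283aa800da8bc0040c0252808e214ca46bf214cbfa38422bb1036c91830d7074600bd2e80e1b612ac,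
  nat_lit 0x800000200800002080aa2880082200002088a886982aeb208880e484642c0e07029d71506c882be3d7000cc62e6679c48d111817b022c7028,
  nat_lit 0x2008008008808a20a202aa888808222a002a8e0880200802a2c603a2026822a0b0ca08a09a022aa28a8a0a92a2aa8ac9002710a9288,
  nat_lit 0x800000000000a008000028a226a8082008002ab0228e60620400b58b68332878a2f82a59a430d91a1189e2da8a3216228042a1cea56902384,
  nat_lit 0,
  nat_lit 0,
  nat_lit 0,
  nat_lit 0,
  nat_lit 0,
  nat_lit 0x80082a08022a9a02e0b20baa1c7eec661d236ca257b7f1a1e139cc3420a50eb68a74cb3f7d8dae4a3d0d24cf55df5c6f294f2cf168cf3b462e888,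
  nat_lit 0,
  nat_lit 0x800000200882820aa02a00aa0aea288268a426385e0c280fa020c08d3254a4d4681de718320bbc9bbf4b6cd8abd41ee464c2f3e17368a8c38,
  nat_lit 0x80082a0802aa9a00c0920b8a043e46e4bdbb602afda1999cc3d9e0deb60eba45ae7f48d0042983e1a0df01e9f5bc5c51ed3f2194db406f8966ea4,
  nat_lit 0x80082a08022a9a00e0b20baa34fe6c081d0b4098dda7e184c19fcc36673c6806e60283be8b3f7860853e4245ef04576a8bb54a38bb3da8b60f1a8,
  nat_lit 0x80082a08020a9200409a8b0034d44e021583601a531d930ac995c0b6b9df767de2d4a9d97344dccb91e763cf4c2edd9e2d54ec798abd6efdadf28,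
  nat_lit 0x2000000800800b06e2008a01aa29b980da02e00a2493d4ed8e67cc6aadc14705a2293ad837ad70d9abd9af4c37be832fc2f720,
  nat_lit 0x80082a08022a9a00e0b20baa34fe6c081d0b4098dd87218f019fc4364f3ec824e6a2831e0b1d30602f9e6045c7a55568abadc2b8b9b522240c1a0,
  nat_lit 0xa00800a020a282a2082080800a929a8460a20400708550950ada0371e1dbe28a76fbd280247485523f0cc6c22b5bcec94d88c,
  nat_lit 0x8028008020a2a2aa8828a00a82a002a8a0a2a8084aa86e6806a00bb79828ea2880a8c0a0207ca28860a0a8033a5083a8a9ea0,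
  nat_lit 0x2008000020808a080082aa0080880888222820a82088004ca644c40f0a28371800ee882b02070012a4226ae8a2a28b178430a0cd428,
  nat_lit 0x802800800022aaaa88a8a80a8aa002a8a3a2a88800004ea006010bb618f060080b287ea9eec0a3a808a663173a3411a0a38a8,
  nat_lit 0x8028008020a2a2aa8828a00a82a002a8a0a2a808caa8e6e80ea0099db8286a2880a840a020d4a248e0a0a8011af081a8ab6a0,
  nat_lit 0,
  nat_lit 0,
  nat_lit 0,
  nat_lit 0,
  nat_lit 0xd4400f2980b857fa400a9836fa103ebd2619cbae6a52ce45303c4b9cb7f7ee908ab6a17f4e173c4ca8f38c27482e94a7ef1b665383fbc5c91583929,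
  nat_lit 0xd4c00783003add4862c828bd501e0b61761c4aae60b1deec2e1f3858f9717d04bbbea098eb499eebaadf921c02b6ba7d23093eecd09a4727c541b0d,
  nat_lit 0x80082a08022a9a00609a0baa145ccc42952760925f3763312139643ecd3bd209d10eca9ad1cde2689946e5e4292bf100b02be6734d9fed74a530c,
  nat_lit 0xd4c0078388ba5d48c2ea289dfa2ceb43489a40067881721a3c957b58393c2372c1560b737dd27da683631b016b42d8b58c5352c57ffac67d556a421,
  nat_lit 0x80082a08022a9a00e0b20baa34fe6c881d0bc098f587898c8195cc3664b6486ee6aa0394211f5862ad1c68c767545b7a26bd42ba3bff0a360fca8,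
  nat_lit 0x2008008008800a0022228aa8808828aa0a22aa8802a0a8080a01a086082a299080088a22aa24a82ab2aa00e20aa88339483320388a8,
  nat_lit 0x2008002020808a2080802020a0a828880a000aa8a2a0a8be8cc40c86a82274908b66a28ba00b8abeaa2a028206880338842009cf228,
  nat_lit 0x40000000000000040000000000000000000000000000000031003000,
  nat_lit 0x100000000000010040000000000000000000000000000003c00003000,
  nat_lit 0x80082a08020a9200e0928b20147ecc203dab6890758f8984a93f4496e1922c6cc002ad2a9b1d9e6225bc694f577471dbac9ddabb837da0164af80,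
  nat_lit 0x88000008200080000280080800aa28e80a880083a3280228000a80e80288a20a0242288002a398aa1288200,
  nat_lit 0x1000000000000010000000000000000000000000000c40003000000000,
  nat_lit 0x2008000080200002a020000200008aa8a8048808082a028a88a02b02828006d802a0880ea00022e6802882208,
  nat_lit 0x8028008020a2a2aa8828a00a8a000a8220a2a008aa0286820e0008393888ea2aaa0804a2a0f2a2aac880a0811948393a21aa8,
  nat_lit 0,
  nat_lit 0,
  nat_lit 0,
  nat_lit 0,
  nat_lit 0x800000000002a008000020a2a2460828a81aa0285a818086048251aa1e8bcca669d2b603b828cccbb98ab8638a255ad8aa81d2a2e6b3e2ba4,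
  nat_lit 0x2008802200a0aa20088a2020a208a21a322495e8882ca2de413c59ac7209edd010aea2b472370026cb01941cdee6c313005e430ae84,
  nat_lit 0x800000000000202000000800b00aa008a02a8830480c8002a42838bd16d9a4da264c5a930a18c6d05ca9ea642f03612a7ec331bafd41e4424,
  nat_lit 0x8008aa08022a9a00c0920b2a1c7eec8a9d236092759f8980411568bef9bdfe7dc0daa872d3841c4ada4c9fe751fc7eea9993a6f382695cfdacf84,
  nat_lit 0x80082a08020a9200c2b28b003cf6eeaa9d83e8125b9d99a849bd68b6713db09fce768acce9469eeb91ef29e74848747647d826fa980f67fd06b80,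
  nat_lit 0x1000000000000400000000000000000000000000000,
  nat_lit 0x2008008008808a00220202888888020a08028808082888a88aa2292a0028a888aa200a29280a2a847881a0b80ce8802a4c8c2a20080,
  nat_lit 0x4000000000100000000000000000000000000000000,
  nat_lit 0x2008008008808a00220202888888020a08028808082888a88aa2282a0028a888aa200a29280a2a847881a0b80ce8802a4c802a20080,
  nat_lit 0x208000a8000080202008280200880880aa28a02a8802408a281aaa028b8208002e5209aa2aa6c20ae2c4a82a8a208,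
  nat_lit 0x2080080800808020002080288202088028a228a28801008802b88a22ab20a28806d009222a0ec3a020e688aa0a800,
  nat_lit 0x2008000080200002a020000200008aa8a8008808082a028a88a0290282800e7802a08806a000226e802882208,
  nat_lit 0x80082a08020a9200e0928b20147eec283dabe8b0758d29a4a93d4496493a8468480aa980999516c202beebcf510c737924936abba11b203cc8f88,
  nat_lit 0x2008000080200002a020000200008aa8a8008808082a028a88a0290282800e7801a08806e000226e802882208,
  nat_lit 0,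
  nat_lit 0,
  nat_lit 0,
  nat_lit 0x800000000000a0080000082222a00800882002b8aaae202004801e23f03ba0d8a2526811ee0075da3302962a87221b2e4c4a838c654381284,
  nat_lit 0xa008002020a2a22a282008a20eb0b28ce0aa4420f8e7da9d88d602714053c20997998a803418b6600b1c8e4023e4ee41e5888,
  nat_lit 0x8000002008008028808a28a2a28028a020088a92aaec8882ac2890ad141526d08026788a88a256da188c2880a720bb284cc9b908cfcb4e064,
  nat_lit 0x8028008020a2a2228828a82a8a800a80a0aaa808002a6ec886008b9c108a022aa088eca028f0a8aa0aa82083b8509308a84a8,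
  nat_lit 0x80082a08020a9200e0928b201476eca83da3e8b855ada98ea935c496e9b02c6a6a02292219b7b6c20e5e41cdda5651540cdae23b29fba8becafa0,
  nat_lit 0x400000000000000000000000000000000000c00000,
  nat_lit 0x80082a08022a9a00609a0b2a145cce2a9523e8b277a78326a135643eeb9286c2700a0b0abb37364a26f443e75936f3ce807b6ab901791a8ee0508,
  nat_lit 0xc000000000000000000000000000000000000000000,
  nat_lit 0xa0a00800000800280228a208a8028aa0a208002862420280a0002c0840088222b0888200800,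
  nat_lit 0x100000000000000000000000000000030000000000000,
  nat_lit 0x40000000000000000000000000000c000000000000000,
  nat_lit 0x88000008200020a00a80080000822a00a880a8802a88a0200022e2aa0008020a2eca688880822822a088a00,
  nat_lit 0x80082a08020a9200e0928b20147eec283dabe8b0758d29a4a93d4496493aa468480aa9809b9596c21abeebcf51ac737b24936abba199a03ccaf88,
  nat_lit 0x8000000040200000000000000000000000000000000,
  nat_lit 0x800000004020000000000c004000000000000000000,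
  nat_lit 0,
  nat_lit 0x80082a08022a9a00609a0b2a145cceaa952368b27f07830c213f643e6f942eee60aa8a08119592480f9406676704f3d02c1d623b8307993e2e500,
  nat_lit 0x8028008020a2a2228828a82a8a800a80a0aaa808002a6e8886008b9c108ac22aa088eca028f0a8aa0aa82083b8509308a98a8,
  nat_lit 0x2008008008800a0022220aa8800828aa0aaaaa0808a8a82082882a8608a8a3ba02208a222a8c2aaad2a020c80a2881bbea1a02080a8,
  nat_lit 0x200800a008800a00222202a8880002028a0a8a080808a0aea6228408a8a9c0a00124882b28e72a965a82a888aea882a0d4b30264a80,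
  nat_lit 0x40000000000000000000000000000000000003000,
  nat_lit 0x800000800000008800800a08002888808a0000828a2a82a8000080a88280e00a202a00800282a2280202800,
  nat_lit 0x3000000000000000000000000000000000000000000,
  nat_lit 0x1000000,
  nat_lit 0x10000000000000000000000000000000003000000000,
  nat_lit 0x800000800000008800800a08002888808a0000828a2a82a8000080a88280740a202a0080028262280202800,
  nat_lit 0x100000000000,
  nat_lit 0x40000000000000,
  nat_lit 0x80000080000020802a000a0000088220a000a0802aaaa228002a208882aed20a808226888280eaa08088808,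
  nat_lit 0x80082a08020a9200e0928b20147eec283dabe8b0758d29a4a93d449661320c60400aa928b9979ec20cbee9cf79ac737b249b6ab98193203e42f88,
  nat_lit 0x80000080002820a808000a0000008aa82808a882028a20a0022822a28288f00420ab080880a062808002000,
  nat_lit 0x80000080000800a022800a0800a808808a000880882a00a80200828882807202188ca080028262280202808,
  nat_lit 0x80000080000800a022800a0800a808808a000880882a00a802008288828072020880a080028262280202808]
noncomputable def Wsx2 : List (List ℕ) := [[nat_lit 13],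
  [nat_lit 1, nat_lit 3, nat_lit 4, nat_lit 5, nat_lit 6, nat_lit 7, nat_lit 8, nat_lit 9, nat_lit 10, nat_lit 11, nat_lit 16],
  [nat_lit 6, nat_lit 11, nat_lit 15],
  [nat_lit 7, nat_lit 8, nat_lit 9, nat_lit 11],
  [nat_lit 10, nat_lit 11, nat_lit 12, nat_lit 14, nat_lit 16],
  [nat_lit 12],
  [nat_lit 14],
  [nat_lit 15],
  [nat_lit 16],
  [nat_lit 7, nat_lit 8],
  [nat_lit 6],
  [nat_lit 7],
  [nat_lit 1, nat_lit 3],
  [nat_lit 0, nat_lit 2, nat_lit 3, nat_lit 5],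
  [nat_lit 2],
  [nat_lit 4],
  [nat_lit 0]]
noncomputable def LDx2_6d : ℕ := nat_lit 0
noncomputable def LDx2_6 (u : ℕ) : ℕ := Nat.land (Nat.shiftRight LDx2_6d (Nat.mul u (nat_lit 1))) (nat_lit 1)
noncomputable def Ptx2_6d : ℕ := nat_lit 0xa503
noncomputable def Ptx2_6 (u : ℕ) : ℕ := Nat.land (Nat.shiftRight Ptx2_6d (Nat.mul u (nat_lit 8))) (nat_lit 255)
noncomputable def Qx2_6d : ℕ := nat_lit 0x200000000000000000000000000000000000000000
noncomputable def Qx2_6 (u : ℕ) : ℕ := Nat.land (Nat.shiftRight Qx2_6d (Nat.mul u (nat_lit 1))) (nat_lit 1)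
noncomputable def lx2_6 : Lev := ⟨2, 1, LDx2_6, Ptx2_6, Qx2_6⟩
noncomputable def LDx2_5d : ℕ := nat_lit 2
noncomputable def LDx2_5 (u : ℕ) : ℕ := Nat.land (Nat.shiftRight LDx2_5d (Nat.mul u (nat_lit 1))) (nat_lit 1)
noncomputable def Ptx2_5d : ℕ := nat_lit 0x34805
noncomputable def Ptx2_5 (u : ℕ) : ℕ := Nat.land (Nat.shiftRight Ptx2_5d (Nat.mul u (nat_lit 9))) (nat_lit 511)
noncomputable def Qx2_5d : ℕ := nat_lit 0x1000000000000000000000000000000000000000000000000000000000000000000000000000000000000000000000000000000000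
noncomputable def Qx2_5 (u : ℕ) : ℕ := Nat.land (Nat.shiftRight Qx2_5d (Nat.mul u (nat_lit 1))) (nat_lit 1)
noncomputable def lx2_5 : Lev := ⟨2, 2, LDx2_5, Ptx2_5, Qx2_5⟩
noncomputable def LDx2_4d : ℕ := nat_lit 0xc392820c40
noncomputable def LDx2_4 (u : ℕ) : ℕ := Nat.land (Nat.shiftRight LDx2_4d (Nat.mul u (nat_lit 5))) (nat_lit 31)
noncomputable def Ptx2_4d : ℕ := nat_lit 0xb2402457c61d46016f8f6001
noncomputable def Ptx2_4 (u : ℕ) : ℕ := Nat.land (Nat.shiftRight Ptx2_4d (Nat.mul u (nat_lit 12))) (nat_lit 4095)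
noncomputable def Qx2_4d : ℕ := nat_lit 0x70000000000000000000000000000000000000000000000000000000000000000000000000000000000000000000000000000000000000000000000000000000000000000000000000000000000000000000000000000000000000000000000000000000000000000000000000000000000000000000000000000000000000000000000000000000000000000000000000000000000000000000000000000000000000000000000000000000000000000000000000000000000000000000000000000000000000000000000000000000000400000000000000000000000000000000000000000000000000000000000000000000000000000000000000000000000000000000000000000000000000000000000000000000000000000000000000000000000000000000000000000000000000000000000000000000000000000000000000000000000000000000000000000000000000000000000000000000000000000000000000000000000000000000000000000000000000000000000000000000000000000000000000000000000000000000000000000000000000000000000000000000000000000000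00000000000000000000000000000000000000000000000000000000000000000000000000000000000000000000000000000000020000000000000000000000000000000000000000000000000000000000000000000000000000000000000000000000000000000000000000000000005000000000000000000000000000000000000000000000000000000000000000000000000000000000000000000000000000000000000000000000000000000000000000000000000000000000000000000000000000000000000000000000000000000000000000000003000000000000000000000000000000000000000000000000000000000000000000000000000000000000000000000000000000000000000000000000000000000000000000000000000000000000000000000000000000000000000000000000000000000000000000000000000000000000000000000000000000000000000000000000000000000000000000000000000000000000000000000000000000000000000000000000000000000000000000000000000000000000000000000000000000000000000000000000000000000000000000000000000000000000000000000000000000000000000000000000000000000000000000000000000000000000000000000000000000000000000000000000000000000000400000000000000000000000000000000000000000000000000000000000000000000000000000000000000000000000000000000000000000000000000000000000000000000000000000000000000000000000000000000000000000000000000000000000000000000000000000000000000000000000000000006000000000000000000000000000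
noncomputable def Qx2_4 (u : ℕ) : ℕ := Nat.land (Nat.shiftRight Qx2_4d (Nat.mul u (nat_lit 3))) (nat_lit 7)
noncomputable def lx2_4 : Lev := ⟨8, 5, LDx2_4, Ptx2_4, Qx2_4⟩
noncomputable def LDx2_3d : ℕ := nat_lit 0x86b958eb354aa11677369b0b24f2711488431889c4c1d0e06c2612088401208038180a00
noncomputable def LDx2_3 (u : ℕ) : ℕ := Nat.land (Nat.shiftRight LDx2_3d (Nat.mul u (nat_lit 9))) (nat_lit 511)
noncomputable def Ptx2_3d : ℕ := nat_lit 0x2404104496b27d374e5b70188b68140b7c65c422e43aa1b12ced165de1359f5d9512410a2f81e5a2412078f1154e8000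
noncomputable def Ptx2_3 (u : ℕ) : ℕ := Nat.land (Nat.shiftRight Ptx2_3d (Nat.mul u (nat_lit 12))) (nat_lit 4095)
noncomputable def Qx2_3d : BT := (.node (.node (.node (.leaf (nat_lit 0xc0000000000000000000000000000000000000000000000000000000000000002000000000000000000000000000000000000000000000000000000000000000000000000000000000000000000000000000000000000000000000000000000000000000000000000000000000018000000000000000000009000040000000000000400000000000020000000000000000000000000000000000000000000000000000000000000000000000000000000000000000000000000000000a8000000000000000000000000000000000000000000000000000000000000000000000000000000000000000000000000000000000000000000000000000000000000000000000000000000000000000000000000000000000000000000000000000018000000000000000000000000000000)) (.leaf (nat_lit 0x1600000000000000000000000000000000000000000000000000000000000000000000000000000000000000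000000000000000000000000000000000000000000000000000000000000000000000000000000000000000000000000000000000000000000000000000000000000000000000000000000000000000000000000000000000000000000000000000000000000000000000000000000000000000000000000000000000000000000000000000000000000000000000000000000000000000000000005c00000000000000000000000000000000000000000000000000000000000000000000000000000000000000000000000000000000000000000000000000000000000000000000000000000000000000000000000000000000000000000000000000000000160000000000000000000000000))) (.node (.leaf (nat_lit 0x3400000000000000000000000000000000000000000000000c8000000000000000000000000000000000000000000000000000000000000000000000000000000000000000000000000000000000000000000000000000000000000000000000000000000000000000000000000000000000000000000000000000000000000000000000000000000000000000000000000000000000000000001000000000000000000000000000000000000000000000000000000000000000000000000000000000000000000000000000000000000000000000000000000000000000000000000000000000000000000000000000000000000000000000000000003a0000000000000000000000000000000000000000000000000000000000000000000001e00000000000000000000))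 (.leaf (nat_lit 0x14000000000000000000000000000000000000000000000000000000000000000000000000000000000000000000000000000000000000000000000000000000000000000000000000000000000000038000000000000000000000000000000000000000000000000000000000000000000000000000000000000000000000000000000000000000000000000000000000000000000000000000000000000000000000000000000000000000000000000000000000000000000000000000280000000000000000000000000000000000000000004c0000000000000000000000000000000000000000000000000000000000000000000000000000000000)))) (.node (.node (.leaf (nat_lit 0x440000000000000000000000000000000000000000000000000000000000000000000000000000000000000000000000000000000000000000000000000000000000000000000000000000000000000000000000000000000000000000000000000000000000000000000000000000070000000000000000000000012000000000000000000000000003c00000000000000000000000000000000000000000000000000000000000000000000000000000000000000000000000000000000000000000000000000000000000000000000000000000000000000000000000000000001f00000000000000000000000000000000000000000000000000000000000000000000000000000000))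 (.leaf (nat_lit 0x5000000000000000000000000000000000000000000000))) (.leaf (nat_lit 0xd80000000000000000000000000000000000000000000000000000000000000000000000000000000000018000000000000000000000000000000000000000000000000000000000000000000000000000000068000000000000000000000000000000000000000000000000000000000000000000000000000000000000000000000000000000000000000000000000000000000000000000000000000000000000000000000000000000000000000000000000070000000000000000000000000000000000000000000000000000000000000000000000000000000000000000000000000000000000000000000000000000000000000000000000000000000000000000000000000000000000000000000000000000000000000000000000000000000))))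
noncomputable def Qx2_3 (u : ℕ) : ℕ := force (Nat.shiftRight u (nat_lit 9)) fun j => Nat.land (Nat.shiftRight (Qx2_3d.get j) (Nat.mul (Nat.land u (nat_lit 511)) (nat_lit 5))) (nat_lit 31)
noncomputable def lx2_3 : Lev := ⟨32, 10, LDx2_3, Ptx2_3, Qx2_3⟩
noncomputable def LDx2_2d : ℕ := nat_lit 0xa77d6153523729281b1a190d0c0b0a00
noncomputable def LDx2_2 (u : ℕ) : ℕ := Nat.land (Nat.shiftRight LDx2_2d (Nat.mul u (nat_lit 8))) (nat_lit 255)
noncomputable def Ptx2_2d : ℕ := nat_lit 0x3290435fd37ed7f9ad0ce8c52729111fd13745f4e0bbc01c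
noncomputable def Ptx2_2 (u : ℕ) : ℕ := Nat.land (Nat.shiftRight Ptx2_2d (Nat.mul u (nat_lit 12))) (nat_lit 4095)
noncomputable def Qx2_2d : BT := (.node (.node (.leaf (nat_lit 0xc000000000000000000000000000000000000000000000000000000000000000000000000000000000000f000000000000000000000000000000000000000000000000000000000000000000000000000000000000000000000000000000000000000000000000000000000000000000000000000000000000000000000000000000000000007000000000000000000000000000000000000000000000000000000000000000000000000000000000000000000000000000000000000000000005000000000000000000000000000000000000000000000000000000000000000000000000000000000000000000000000000000000000000000000000000000000000000000000000000000000000000000000000000000000000000000000000000004000000000000000000000000000000000000000000000000000000000000000000000000000000000000000000000000000000009000000000000000000000000000000000000000000000000000000000000000000000000000000000000000000000000000000000000000000000000000000000000000000e0000000000000000000000000000000000000000000000000000000000000000000))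 (.leaf (nat_lit 0x10000000000000000000000000000000000000000000000000000000000000000000000000000000000000000000000000000000000000000000000000000000000000000000000000000000000000000000000000000000000000000000000000000000000000000000000000000000000000000000000000000000000000000000000000000000000000000000000000000000000000000000000000000000000000000000000000000000000000000000000000000000000000000000000000000000000000000000000000000000000000000000000000000000000000000000000000000000000000000000000000000000000000000000000000000000000000000000000a000000000000000000000000000000000000000000000000000000000000000000000000000000000000000000000000000000000000000000000000000000000000000000000000000000000006000000000000000000000000000000000000000000000000000000000000000000000000000800000000000000000000000000000000000000000000000000000000000000000000000000000000000000000000000000000000000000000000000000000000000000000000000000000000000000000000000000000000000000000000000000000)))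 (.node (.leaf (nat_lit 0xd00000000000000000000000000000000000000000000000000000000000000000000000000000000000000000000000000000000000000000000000000000000000000000000000000000000000000000000000000000000000000000000000000000000000000000000000000000000000000000000000000000000000000000000000000000000000000000000200000000000000000000000000000000000000000000000000000000000000000000000000000000000000000000000000000000000000000000000000000000300000000000000000000000000000000000000000000000000000000000000000000000000000000000000000000000)) (.leaf (nat_lit 0xb00000000000000000000000000000000000000000000000000000000000000000000000000000000000000000000000000000000000000000000000000000000000000000000000000000000000000000000000000000000000000000000000000000000000000000000000000000000000000000000000000000000000000000000000000000000000000000000000000000000000000000000000000000000000000000000000000000000000000000000000000000000000000000000000))))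
noncomputable def Qx2_2 (u : ℕ) : ℕ := force (Nat.shiftRight u (nat_lit 10)) fun j => Nat.land (Nat.shiftRight (Qx2_2d.get j) (Nat.mul (Nat.land u (nat_lit 1023)) (nat_lit 4))) (nat_lit 15)
noncomputable def lx2_2 : Lev := ⟨16, 14, LDx2_2, Ptx2_2, Qx2_2⟩
noncomputable def LDx2_1d : ℕ := nat_lit 0xfbdc0
noncomputable def LDx2_1 (u : ℕ) : ℕ := Nat.land (Nat.shiftRight LDx2_1d (Nat.mul u (nat_lit 5))) (nat_lit 31)
noncomputable def Ptx2_1d : ℕ := nat_lit 0xaf6876d5c30c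
noncomputable def Ptx2_1 (u : ℕ) : ℕ := Nat.land (Nat.shiftRight Ptx2_1d (Nat.mul u (nat_lit 12))) (nat_lit 4095)
noncomputable def Qx2_1d : ℕ := nat_lit 0x10000000000000000000000000000000000000000000000000000000000000000000000000000000000000000000000000000000000000000000000000000000000000000000000000000000000000000000000000000000000000000000000000000000000000000000000000000000000000000000000000000000000000000000000000000000000000000000000000000000000000000003000000000000000000000000000000000000000000000000000000000000000000000000000000000000000000000000000000000000000000000000000000000000000000000000000000000000000000000000000000000000000000000000000000000000000000000000000000000000000000000000000000000000000000000000000000000000000000000000000000000000000000000000000000020000000000000000000000000000000000000000000000000000000000000000000000000000000000000000000000000000000000000000000000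00000000000000000000000000000000000000000000000000000000000000000000000000000000000000000000000000000000000000000000000000000000000000000000000000000000000000000000000000000000000000000000000000000000000000000000000000000000000000000000000000000000000000000000000000000000000000000000000000000000000000000000000000000000000000000000000000000000000000000000000000000000000000000000000000000000000000000000000000000000000000000000000000000000000000000000000000000000000000000000000000000000000000000000000000000000000000000000000000000000000000000000000000000000000000000000000000000000000000000000000000000000000000000000000000000000000000000000000000000000000000000000000000000000000000000000000000000000000000000000000000000000000000000000000000000000000000000000000000000000000000000000000000000000000000000000000000000000000000000000000000000000000000000000000000000000000000000000000000000000000000000000000000000000000000000000000000000000000000000000000000000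
noncomputable def Qx2_1 (u : ℕ) : ℕ := Nat.land (Nat.shiftRight Qx2_1d (Nat.mul u (nat_lit 2))) (nat_lit 3)
noncomputable def lx2_1 : Lev := ⟨4, 16, LDx2_1, Ptx2_1, Qx2_1⟩
noncomputable def LDx2_0d : ℕ := nat_lit 0x200
noncomputable def LDx2_0 (u : ℕ) : ℕ := Nat.land (Nat.shiftRight LDx2_0d (Nat.mul u (nat_lit 5))) (nat_lit 31)
noncomputable def Ptx2_0d : ℕ := nat_lit 0x290ed
noncomputable def Ptx2_0 (u : ℕ) : ℕ := Nat.land (Nat.shiftRight Ptx2_0d (Nat.mul u (nat_lit 9))) (nat_lit 511)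
noncomputable def Qx2_0d : ℕ := nat_lit 0x10000000000000000000000000000000000000000000000000000000000000000000000000000000000
noncomputable def Qx2_0 (u : ℕ) : ℕ := Nat.land (Nat.shiftRight Qx2_0d (Nat.mul u (nat_lit 1))) (nat_lit 1)
noncomputable def lx2_0 : Lev := ⟨2, 17, LDx2_0, Ptx2_0, Qx2_0⟩
noncomputable def Lx2 : List Lev := [lx2_0, lx2_1, lx2_2, lx2_3, lx2_4, lx2_5, lx2_6]
noncomputable def Bx2 : List ℕ := [nat_lit 237, nat_lit 780, nat_lit 28, nat_lit 0, nat_lit 1, nat_lit 5, nat_lit 3]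

theorem id5_0 : c5.idnChk (nat_lit 9) I5_0 = true := by decide +kernel
theorem rw5_0 : c5.rowChk S5 (Yo5.map (·.1) ++ Ds5) La5 (nat_lit 0) (nat_lit 4) = true := by decide +kernel
theorem ord5 : c5.ordChk Yo5 Ds5 = true := by decide +kernel
theorem rule5_0 : allZ (c5.ruleEnt (wdsP H16.PFi22.P Us5) H16.PFi22.B) (nat_lit 0) (nat_lit 4) = true := by decide +kernel
theorem fus5_0 : allZ (c5.fusEnt (wdsP H16.PFi22.P Us5) (wdsP H16.PFi22.P Fs5) H16.PFi22.B) (nat_lit 0) (nat_lit 2) = true := by decide +kernel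
theorem lvx5_1e_0 : allZ (lx5_1.ent (wdsP (wdsP H16.PFi22.P Us5) Wsx5)) (nat_lit 0) (nat_lit 4) = true := by decide +kernel
theorem lvx5_1b : 0 < lx5_1.n ∧ 0 < lx5_1.K ∧ lx5_1.Pt 0 < 3510 ∧ lx5_1.Q (lx5_1.Pt 0) = 0 ∧ 0 ≤ lx5_1.K ∧ fixLetters (wdsP (wdsP H16.PFi22.P Us5) Wsx5) (nat_lit 0) (lx5_1.Pt 0) = true := by decide +kernel
theorem lvx5_0e_0 : allZ (lx5_0.ent (wdsP (wdsP H16.PFi22.P Us5) Wsx5)) (nat_lit 0) (nat_lit 4) = true := by decide +kernel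
theorem lvx5_0b : 0 < lx5_0.n ∧ 0 < lx5_0.K ∧ lx5_0.Pt 0 < 3510 ∧ lx5_0.Q (lx5_0.Pt 0) = 0 ∧ 1 ≤ lx5_0.K ∧ fixLetters (wdsP (wdsP H16.PFi22.P Us5) Wsx5) (nat_lit 1) (lx5_0.Pt 0) = true := by decide +kernel
theorem basex5 : chainBase Lx5 = Bx5 ∧ ltAll (nat_lit 3510) Bx5 = 0 ∧ topK Lx5 = 2 := by decide +kernel
theorem h0_5 : allL (ltAll 9) Us5 = true ∧ allL (ltAll 9) Fs5 = true ∧ Us5.length ≤ c5.n ∧ 0 < 64561751654400 := by decide +kernel
theorem h1_5 : allL (ltAll c5.n) Wsx5 = true ∧ chainCard Lx5 = (c5.p1 + 1) ^ c5.n ∧ c5.n * c5.n = 4 := by decide +kernel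
theorem h2_5 : c5.Fmt ∧ c5.p1 + 1 = 5 ∧ c5.N1 + 1 = 5 ^ (0 + 1) ∧ 64561751654400 = 5 ^ c5.n * (64561751654400 / 5 ^ c5.n) ∧
    Nat.Coprime (64561751654400 / 5 ^ c5.n) (c5.N1 + 1) ∧ (Yo5.map (·.2.1)).prod ≤ 5 ^ 0 ∧ c5.n * c5.n = 4 := by decide +kernel
theorem h3_5 : c5.C = 2 := by decide +kernel
theorem id3_0 : c3.idnChk (nat_lit 321) I3_0 = true := by decide +kernel
theorem rw3_0 : c3.rowChk S3 (Yo3.map (·.1) ++ Ds3) La3 (nat_lit 0) (nat_lit 81) = true := by decide +kernel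
theorem ord3 : c3.ordChk Yo3 Ds3 = true := by decide +kernel
theorem rule3_0 : allZ (c3.ruleEnt (wdsP H16.PFi22.P Us3) H16.PFi22.B) (nat_lit 0) (nat_lit 11) = true := by decide +kernel
theorem rule3_1 : allZ (c3.ruleEnt (wdsP H16.PFi22.P Us3) H16.PFi22.B) (nat_lit 11) (nat_lit 11) = true := by decide +kernel
theorem rule3_2 : allZ (c3.ruleEnt (wdsP H16.PFi22.P Us3) H16.PFi22.B) (nat_lit 22) (nat_lit 11) = true := by decide +kernel
theorem rule3_3 : allZ (c3.ruleEnt (wdsP H16.PFi22.P Us3) H16.PFi22.B) (nat_lit 33) (nat_lit 11) = true := by decide +kernel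
theorem rule3_4 : allZ (c3.ruleEnt (wdsP H16.PFi22.P Us3) H16.PFi22.B) (nat_lit 44) (nat_lit 11) = true := by decide +kernel
theorem rule3_5 : allZ (c3.ruleEnt (wdsP H16.PFi22.P Us3) H16.PFi22.B) (nat_lit 55) (nat_lit 11) = true := by decide +kernel
theorem rule3_6 : allZ (c3.ruleEnt (wdsP H16.PFi22.P Us3) H16.PFi22.B) (nat_lit 66) (nat_lit 11) = true := by decide +kernel
theorem rule3_7 : allZ (c3.ruleEnt (wdsP H16.PFi22.P Us3) H16.PFi22.B) (nat_lit 77) (nat_lit 4) = true := by decide +kernel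
theorem fus3_0 : allZ (c3.fusEnt (wdsP H16.PFi22.P Us3) (wdsP H16.PFi22.P Fs3) H16.PFi22.B) (nat_lit 0) (nat_lit 4) = true := by decide +kernel
theorem fus3_1 : allZ (c3.fusEnt (wdsP H16.PFi22.P Us3) (wdsP H16.PFi22.P Fs3) H16.PFi22.B) (nat_lit 4) (nat_lit 4) = true := by decide +kernel
theorem fus3_2 : allZ (c3.fusEnt (wdsP H16.PFi22.P Us3) (wdsP H16.PFi22.P Fs3) H16.PFi22.B) (nat_lit 8) (nat_lit 4) = true := by decide +kernel
theorem fus3_3 : allZ (c3.fusEnt (wdsP H16.PFi22.P Us3) (wdsP H16.PFi22.P Fs3) H16.PFi22.B) (nat_lit 12) (nat_lit 1) = true := by decide +kernel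
theorem lvx3_4e_0 : allZ (lx3_4.ent (wdsP (wdsP H16.PFi22.P Us3) Wsx3)) (nat_lit 0) (nat_lit 2) = true := by decide +kernel
theorem lvx3_4b : 0 < lx3_4.n ∧ 0 < lx3_4.K ∧ lx3_4.Pt 0 < 3510 ∧ lx3_4.Q (lx3_4.Pt 0) = 0 ∧ 0 ≤ lx3_4.K ∧ fixLetters (wdsP (wdsP H16.PFi22.P Us3) Wsx3) (nat_lit 0) (lx3_4.Pt 0) = true := by decide +kernel
theorem lvx3_3e_0 : allZ (lx3_3.ent (wdsP (wdsP H16.PFi22.P Us3) Wsx3)) (nat_lit 0) (nat_lit 8) = true := by decide +kernel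
theorem lvx3_3b : 0 < lx3_3.n ∧ 0 < lx3_3.K ∧ lx3_3.Pt 0 < 3510 ∧ lx3_3.Q (lx3_3.Pt 0) = 0 ∧ 1 ≤ lx3_3.K ∧ fixLetters (wdsP (wdsP H16.PFi22.P Us3) Wsx3) (nat_lit 1) (lx3_3.Pt 0) = true := by decide +kernel
theorem lvx3_2e_0 : allZ (lx3_2.ent (wdsP (wdsP H16.PFi22.P Us3) Wsx3)) (nat_lit 0) (nat_lit 8) = true := by decide +kernel
theorem lvx3_2b : 0 < lx3_2.n ∧ 0 < lx3_2.K ∧ lx3_2.Pt 0 < 3510 ∧ lx3_2.Q (lx3_2.Pt 0) = 0 ∧ 3 ≤ lx3_2.K ∧ fixLetters (wdsP (wdsP H16.PFi22.P Us3) Wsx3) (nat_lit 3) (lx3_2.Pt 0) = true := by decide +kernel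
theorem lvx3_1e_0 : allZ (lx3_1.ent (wdsP (wdsP H16.PFi22.P Us3) Wsx3)) (nat_lit 0) (nat_lit 2) = true := by decide +kernel
theorem lvx3_1b : 0 < lx3_1.n ∧ 0 < lx3_1.K ∧ lx3_1.Pt 0 < 3510 ∧ lx3_1.Q (lx3_1.Pt 0) = 0 ∧ 5 ≤ lx3_1.K ∧ fixLetters (wdsP (wdsP H16.PFi22.P Us3) Wsx3) (nat_lit 5) (lx3_1.Pt 0) = true := by decide +kernel
theorem lvx3_0e_0 : allZ (lx3_0.ent (wdsP (wdsP H16.PFi22.P Us3) Wsx3)) (nat_lit 0) (nat_lit 26) = true := by decide +kernel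
theorem lvx3_0b : 0 < lx3_0.n ∧ 0 < lx3_0.K ∧ lx3_0.Pt 0 < 3510 ∧ lx3_0.Q (lx3_0.Pt 0) = 0 ∧ 6 ≤ lx3_0.K ∧ fixLetters (wdsP (wdsP H16.PFi22.P Us3) Wsx3) (nat_lit 6) (lx3_0.Pt 0) = true := by decide +kernel
theorem basex3 : chainBase Lx3 = Bx3 ∧ ltAll (nat_lit 3510) Bx3 = 0 ∧ topK Lx3 = 7 := by decide +kernel
theorem h0_3 : allL (ltAll 9) Us3 = true ∧ allL (ltAll 9) Fs3 = true ∧ Us3.length ≤ c3.n ∧ 0 < 64561751654400 := by decide +kernel
theorem h1_3 : allL (ltAll c3.n) Wsx3 = true ∧ chainCard Lx3 = (c3.p1 + 1) ^ c3.n ∧ c3.n * c3.n = 81 := by decide +kernel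
theorem h2_3 : c3.Fmt ∧ c3.p1 + 1 = 3 ∧ c3.N1 + 1 = 3 ^ (1 + 1) ∧ 64561751654400 = 3 ^ c3.n * (64561751654400 / 3 ^ c3.n) ∧
    Nat.Coprime (64561751654400 / 3 ^ c3.n) (c3.N1 + 1) ∧ (Yo3.map (·.2.1)).prod ≤ 3 ^ 1 ∧ c3.n * c3.n = 81 := by decide +kernel
theorem h3_3 : c3.C = 13 := by decide +kernel
theorem id2_1 : c2.idnChk (nat_lit 734) I2_1 = true := by decide +kernel
theorem id2_0 : c2.idnChk (nat_lit 734) I2_0 = true := by decide +kernel
theorem rw2_0 : c2.rowChk S2 (Yo2.map (·.1) ++ Ds2) La2 (nat_lit 0) (nat_lit 263) = true := by decide +kernel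
theorem rw2_263 : c2.rowChk S2 (Yo2.map (·.1) ++ Ds2) La2 (nat_lit 263) (nat_lit 26) = true := by decide +kernel
theorem ord2 : c2.ordChk Yo2 Ds2 = true := by decide +kernel
theorem rule2_0 : allZ (c2.ruleEnt (wdsP H16.PFi22.P Us2) H16.PFi22.B) (nat_lit 0) (nat_lit 16) = true := by decide +kernel
theorem rule2_1 : allZ (c2.ruleEnt (wdsP H16.PFi22.P Us2) H16.PFi22.B) (nat_lit 16) (nat_lit 16) = true := by decide +kernel
theorem rule2_2 : allZ (c2.ruleEnt (wdsP H16.PFi22.P Us2) H16.PFi22.B) (nat_lit 32) (nat_lit 16) = true := by decide +kernel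
theorem rule2_3 : allZ (c2.ruleEnt (wdsP H16.PFi22.P Us2) H16.PFi22.B) (nat_lit 48) (nat_lit 16) = true := by decide +kernel
theorem rule2_4 : allZ (c2.ruleEnt (wdsP H16.PFi22.P Us2) H16.PFi22.B) (nat_lit 64) (nat_lit 16) = true := by decide +kernel
theorem rule2_5 : allZ (c2.ruleEnt (wdsP H16.PFi22.P Us2) H16.PFi22.B) (nat_lit 80) (nat_lit 16) = true := by decide +kernel
theorem rule2_6 : allZ (c2.ruleEnt (wdsP H16.PFi22.P Us2) H16.PFi22.B) (nat_lit 96) (nat_lit 16) = true := by decide +kernel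
theorem rule2_7 : allZ (c2.ruleEnt (wdsP H16.PFi22.P Us2) H16.PFi22.B) (nat_lit 112) (nat_lit 16) = true := by decide +kernel
theorem rule2_8 : allZ (c2.ruleEnt (wdsP H16.PFi22.P Us2) H16.PFi22.B) (nat_lit 128) (nat_lit 16) = true := by decide +kernel
theorem rule2_9 : allZ (c2.ruleEnt (wdsP H16.PFi22.P Us2) H16.PFi22.B) (nat_lit 144) (nat_lit 16) = true := by decide +kernel
theorem rule2_10 : allZ (c2.ruleEnt (wdsP H16.PFi22.P Us2) H16.PFi22.B) (nat_lit 160) (nat_lit 16) = true := by decide +kernel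
theorem rule2_11 : allZ (c2.ruleEnt (wdsP H16.PFi22.P Us2) H16.PFi22.B) (nat_lit 176) (nat_lit 16) = true := by decide +kernel
theorem rule2_12 : allZ (c2.ruleEnt (wdsP H16.PFi22.P Us2) H16.PFi22.B) (nat_lit 192) (nat_lit 16) = true := by decide +kernel
theorem rule2_13 : allZ (c2.ruleEnt (wdsP H16.PFi22.P Us2) H16.PFi22.B) (nat_lit 208) (nat_lit 16) = true := by decide +kernel
theorem rule2_14 : allZ (c2.ruleEnt (wdsP H16.PFi22.P Us2) H16.PFi22.B) (nat_lit 224) (nat_lit 16) = true := by decide +kernel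
theorem rule2_15 : allZ (c2.ruleEnt (wdsP H16.PFi22.P Us2) H16.PFi22.B) (nat_lit 240) (nat_lit 16) = true := by decide +kernel
theorem rule2_16 : allZ (c2.ruleEnt (wdsP H16.PFi22.P Us2) H16.PFi22.B) (nat_lit 256) (nat_lit 16) = true := by decide +kernel
theorem rule2_17 : allZ (c2.ruleEnt (wdsP H16.PFi22.P Us2) H16.PFi22.B) (nat_lit 272) (nat_lit 16) = true := by decide +kernel
theorem rule2_18 : allZ (c2.ruleEnt (wdsP H16.PFi22.P Us2) H16.PFi22.B) (nat_lit 288) (nat_lit 1) = true := by decide +kernel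
theorem fus2_0 : allZ (c2.fusEnt (wdsP H16.PFi22.P Us2) (wdsP H16.PFi22.P Fs2) H16.PFi22.B) (nat_lit 0) (nat_lit 5) = true := by decide +kernel
theorem fus2_1 : allZ (c2.fusEnt (wdsP H16.PFi22.P Us2) (wdsP H16.PFi22.P Fs2) H16.PFi22.B) (nat_lit 5) (nat_lit 5) = true := by decide +kernel
theorem fus2_2 : allZ (c2.fusEnt (wdsP H16.PFi22.P Us2) (wdsP H16.PFi22.P Fs2) H16.PFi22.B) (nat_lit 10) (nat_lit 5) = true := by decide +kernel
theorem fus2_3 : allZ (c2.fusEnt (wdsP H16.PFi22.P Us2) (wdsP H16.PFi22.P Fs2) H16.PFi22.B) (nat_lit 15) (nat_lit 5) = true := by decide +kernel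
theorem fus2_4 : allZ (c2.fusEnt (wdsP H16.PFi22.P Us2) (wdsP H16.PFi22.P Fs2) H16.PFi22.B) (nat_lit 20) (nat_lit 5) = true := by decide +kernel
theorem fus2_5 : allZ (c2.fusEnt (wdsP H16.PFi22.P Us2) (wdsP H16.PFi22.P Fs2) H16.PFi22.B) (nat_lit 25) (nat_lit 5) = true := by decide +kernel
theorem fus2_6 : allZ (c2.fusEnt (wdsP H16.PFi22.P Us2) (wdsP H16.PFi22.P Fs2) H16.PFi22.B) (nat_lit 30) (nat_lit 3) = true := by decide +kernel
theorem lvx2_6e_0 : allZ (lx2_6.ent (wdsP (wdsP H16.PFi22.P Us2) Wsx2)) (nat_lit 0) (nat_lit 1) = true := by decide +kernel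
theorem lvx2_6b : 0 < lx2_6.n ∧ 0 < lx2_6.K ∧ lx2_6.Pt 0 < 3510 ∧ lx2_6.Q (lx2_6.Pt 0) = 0 ∧ 0 ≤ lx2_6.K ∧ fixLetters (wdsP (wdsP H16.PFi22.P Us2) Wsx2) (nat_lit 0) (lx2_6.Pt 0) = true := by decide +kernel
theorem lvx2_5e_0 : allZ (lx2_5.ent (wdsP (wdsP H16.PFi22.P Us2) Wsx2)) (nat_lit 0) (nat_lit 1) = true := by decide +kernel
theorem lvx2_5b : 0 < lx2_5.n ∧ 0 < lx2_5.K ∧ lx2_5.Pt 0 < 3510 ∧ lx2_5.Q (lx2_5.Pt 0) = 0 ∧ 1 ≤ lx2_5.K ∧ fixLetters (wdsP (wdsP H16.PFi22.P Us2) Wsx2) (nat_lit 1) (lx2_5.Pt 0) = true := by decide +kernel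
theorem lvx2_4e_0 : allZ (lx2_4.ent (wdsP (wdsP H16.PFi22.P Us2) Wsx2)) (nat_lit 0) (nat_lit 7) = true := by decide +kernel
theorem lvx2_4b : 0 < lx2_4.n ∧ 0 < lx2_4.K ∧ lx2_4.Pt 0 < 3510 ∧ lx2_4.Q (lx2_4.Pt 0) = 0 ∧ 2 ≤ lx2_4.K ∧ fixLetters (wdsP (wdsP H16.PFi22.P Us2) Wsx2) (nat_lit 2) (lx2_4.Pt 0) = true := by decide +kernel
theorem lvx2_3e_0 : allZ (lx2_3.ent (wdsP (wdsP H16.PFi22.P Us2) Wsx2)) (nat_lit 0) (nat_lit 31) = true := by decide +kernel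
theorem lvx2_3b : 0 < lx2_3.n ∧ 0 < lx2_3.K ∧ lx2_3.Pt 0 < 3510 ∧ lx2_3.Q (lx2_3.Pt 0) = 0 ∧ 5 ≤ lx2_3.K ∧ fixLetters (wdsP (wdsP H16.PFi22.P Us2) Wsx2) (nat_lit 5) (lx2_3.Pt 0) = true := by decide +kernel
theorem lvx2_2e_0 : allZ (lx2_2.ent (wdsP (wdsP H16.PFi22.P Us2) Wsx2)) (nat_lit 0) (nat_lit 15) = true := by decide +kernel
theorem lvx2_2b : 0 < lx2_2.n ∧ 0 < lx2_2.K ∧ lx2_2.Pt 0 < 3510 ∧ lx2_2.Q (lx2_2.Pt 0) = 0 ∧ 10 ≤ lx2_2.K ∧ fixLetters (wdsP (wdsP H16.PFi22.P Us2) Wsx2) (nat_lit 10) (lx2_2.Pt 0) = true := by decide +kernel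
theorem lvx2_1e_0 : allZ (lx2_1.ent (wdsP (wdsP H16.PFi22.P Us2) Wsx2)) (nat_lit 0) (nat_lit 3) = true := by decide +kernel
theorem lvx2_1b : 0 < lx2_1.n ∧ 0 < lx2_1.K ∧ lx2_1.Pt 0 < 3510 ∧ lx2_1.Q (lx2_1.Pt 0) = 0 ∧ 14 ≤ lx2_1.K ∧ fixLetters (wdsP (wdsP H16.PFi22.P Us2) Wsx2) (nat_lit 14) (lx2_1.Pt 0) = true := by decide +kernel
theorem lvx2_0e_0 : allZ (lx2_0.ent (wdsP (wdsP H16.PFi22.P Us2) Wsx2)) (nat_lit 0) (nat_lit 1) = true := by decide +kernel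
theorem lvx2_0b : 0 < lx2_0.n ∧ 0 < lx2_0.K ∧ lx2_0.Pt 0 < 3510 ∧ lx2_0.Q (lx2_0.Pt 0) = 0 ∧ 16 ≤ lx2_0.K ∧ fixLetters (wdsP (wdsP H16.PFi22.P Us2) Wsx2) (nat_lit 16) (lx2_0.Pt 0) = true := by decide +kernel
theorem basex2 : chainBase Lx2 = Bx2 ∧ ltAll (nat_lit 3510) Bx2 = 0 ∧ topK Lx2 = 17 := by decide +kernel
theorem h0_2 : allL (ltAll 9) Us2 = true ∧ allL (ltAll 9) Fs2 = true ∧ Us2.length ≤ c2.n ∧ 0 < 64561751654400 := by decide +kernel
theorem h1_2 : allL (ltAll c2.n) Wsx2 = true ∧ chainCard Lx2 = (c2.p1 + 1) ^ c2.n ∧ c2.n * c2.n = 289 := by decide +kernel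
theorem h2_2 : c2.Fmt ∧ c2.p1 + 1 = 2 ∧ c2.N1 + 1 = 2 ^ (1 + 1) ∧ 64561751654400 = 2 ^ c2.n * (64561751654400 / 2 ^ c2.n) ∧
    Nat.Coprime (64561751654400 / 2 ^ c2.n) (c2.N1 + 1) ∧ (Yo2.map (·.2.1)).prod ≤ 2 ^ 1 ∧ c2.n * c2.n = 289 := by decide +kernel
theorem h3_2 : c2.C = 33 := by decide +kernel

instance fin : Finite (gen H16.PFi22.g 9) := Nat.finite_of_card_ne_zero (by rw [H16.PFi22.card]; decide)
theorem zero5 : ∀ D ∈ Ds5, c5.Zero D := (Pc.zero_of_chk id5_0)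
theorem rows5 : ∀ r < 4, c5.Row S5 (Yo5.map (·.1)) r :=
  (Pc.rows_glue zero5 Pc.rows_zero rw5_0)
theorem rule5 : ∀ i < 4, (c5.ruleEnt (wdsP H16.PFi22.P Us5) H16.PFi22.B) i = 0 := allZ_sound0 rule5_0
theorem fus5 : ∀ i < 2, (c5.fusEnt (wdsP H16.PFi22.P Us5) (wdsP H16.PFi22.P Fs5) H16.PFi22.B) i = 0 := allZ_sound0 fus5_0
theorem lvx5_1e : ∀ i < 4, (lx5_1.ent (wdsP (wdsP H16.PFi22.P Us5) Wsx5)) i = 0 := allZ_sound0 lvx5_1e_0
theorem lvx5_0e : ∀ i < 4, (lx5_0.ent (wdsP (wdsP H16.PFi22.P Us5) Wsx5)) i = 0 := allZ_sound0 lvx5_0e_0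
theorem lowx5 : LowChain (wdsP (wdsP H16.PFi22.P Us5) Wsx5) 3510 Lx5 :=
  ⟨⟨lvx5_0b.1, lvx5_0b.2.1, lvx5_0b.2.2.1, lvx5_0b.2.2.2.1, lvx5_0e⟩, lvx5_0b.2.2.2.2.1, lvx5_0b.2.2.2.2.2, ⟨⟨lvx5_1b.1, lvx5_1b.2.1, lvx5_1b.2.2.1, lvx5_1b.2.2.2.1, lvx5_1e⟩, lvx5_1b.2.2.2.2.1, lvx5_1b.2.2.2.2.2, trivial⟩⟩
open scoped Pointwise in
theorem pb5 : PB (gen H16.PFi22.g 9) (5 ^ (0 + 1)) :=
  (Pc.gok_wds H16.PFi22.act H16.PFi22.card (ptF_inj 3510) H16.PFi22.Blt H16.PFi22.isBase h0_5 h1_5 rule5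
    (fun r h => fus5 r (h.trans_eq h3_5)) lowx5).pb (by norm_num) H16.PFi22.card zero5 rows5 ord5 h2_5
theorem zero3 : ∀ D ∈ Ds3, c3.Zero D := (Pc.zero_of_chk id3_0)
theorem rows3 : ∀ r < 81, c3.Row S3 (Yo3.map (·.1)) r :=
  (Pc.rows_glue zero3 Pc.rows_zero rw3_0)
theorem rule3_g0 : ∀ i < 11, (c3.ruleEnt (wdsP H16.PFi22.P Us3) H16.PFi22.B) i = 0 := allZ_sound0 rule3_0
theorem rule3_g1 : ∀ i < 22, (c3.ruleEnt (wdsP H16.PFi22.P Us3) H16.PFi22.B) i = 0 := range_glue rule3_g0 rule3_1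
theorem rule3_g2 : ∀ i < 33, (c3.ruleEnt (wdsP H16.PFi22.P Us3) H16.PFi22.B) i = 0 := range_glue rule3_g1 rule3_2
theorem rule3_g3 : ∀ i < 44, (c3.ruleEnt (wdsP H16.PFi22.P Us3) H16.PFi22.B) i = 0 := range_glue rule3_g2 rule3_3
theorem rule3_g4 : ∀ i < 55, (c3.ruleEnt (wdsP H16.PFi22.P Us3) H16.PFi22.B) i = 0 := range_glue rule3_g3 rule3_4
theorem rule3_g5 : ∀ i < 66, (c3.ruleEnt (wdsP H16.PFi22.P Us3) H16.PFi22.B) i = 0 := range_glue rule3_g4 rule3_5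
theorem rule3_g6 : ∀ i < 77, (c3.ruleEnt (wdsP H16.PFi22.P Us3) H16.PFi22.B) i = 0 := range_glue rule3_g5 rule3_6
theorem rule3 : ∀ i < 81, (c3.ruleEnt (wdsP H16.PFi22.P Us3) H16.PFi22.B) i = 0 := range_glue rule3_g6 rule3_7
theorem fus3_g0 : ∀ i < 4, (c3.fusEnt (wdsP H16.PFi22.P Us3) (wdsP H16.PFi22.P Fs3) H16.PFi22.B) i = 0 := allZ_sound0 fus3_0
theorem fus3_g1 : ∀ i < 8, (c3.fusEnt (wdsP H16.PFi22.P Us3) (wdsP H16.PFi22.P Fs3) H16.PFi22.B) i = 0 := range_glue fus3_g0 fus3_1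
theorem fus3_g2 : ∀ i < 12, (c3.fusEnt (wdsP H16.PFi22.P Us3) (wdsP H16.PFi22.P Fs3) H16.PFi22.B) i = 0 := range_glue fus3_g1 fus3_2
theorem fus3 : ∀ i < 13, (c3.fusEnt (wdsP H16.PFi22.P Us3) (wdsP H16.PFi22.P Fs3) H16.PFi22.B) i = 0 := range_glue fus3_g2 fus3_3
theorem lvx3_4e : ∀ i < 2, (lx3_4.ent (wdsP (wdsP H16.PFi22.P Us3) Wsx3)) i = 0 := allZ_sound0 lvx3_4e_0
theorem lvx3_3e : ∀ i < 8, (lx3_3.ent (wdsP (wdsP H16.PFi22.P Us3) Wsx3)) i = 0 := allZ_sound0 lvx3_3e_0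
theorem lvx3_2e : ∀ i < 8, (lx3_2.ent (wdsP (wdsP H16.PFi22.P Us3) Wsx3)) i = 0 := allZ_sound0 lvx3_2e_0
theorem lvx3_1e : ∀ i < 2, (lx3_1.ent (wdsP (wdsP H16.PFi22.P Us3) Wsx3)) i = 0 := allZ_sound0 lvx3_1e_0
theorem lvx3_0e : ∀ i < 26, (lx3_0.ent (wdsP (wdsP H16.PFi22.P Us3) Wsx3)) i = 0 := allZ_sound0 lvx3_0e_0
theorem lowx3 : LowChain (wdsP (wdsP H16.PFi22.P Us3) Wsx3) 3510 Lx3 :=
  ⟨⟨lvx3_0b.1, lvx3_0b.2.1, lvx3_0b.2.2.1, lvx3_0b.2.2.2.1, lvx3_0e⟩, lvx3_0b.2.2.2.2.1, lvx3_0b.2.2.2.2.2, ⟨⟨lvx3_1b.1, lvx3_1b.2.1, lvx3_1b.2.2.1, lvx3_1b.2.2.2.1, lvx3_1e⟩, lvx3_1b.2.2.2.2.1, lvx3_1b.2.2.2.2.2, ⟨⟨lvx3_2b.1, lvx3_2b.2.1, lvx3_2b.2.2.1, lvx3_2b.2.2.2.1, lvx3_2e⟩, lvx3_2b.2.2.2.2.1, lvx3_2b.2.2.2.2.2, ⟨⟨lvx3_3b.1, lvx3_3b.2.1, lvx3_3b.2.2.1, lvx3_3b.2.2.2.1, lvx3_3e⟩, lvx3_3b.2.2.2.2.1, lvx3_3b.2.2.2.2.2, ⟨⟨lvx3_4b.1, lvx3_4b.2.1, lvx3_4b.2.2.1, lvx3_4b.2.2.2.1, lvx3_4e⟩, lvx3_4b.2.2.2.2.1, lvx3_4b.2.2.2.2.2,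 trivial⟩⟩⟩⟩⟩
open scoped Pointwise in
theorem pb3 : PB (gen H16.PFi22.g 9) (3 ^ (1 + 1)) :=
  (Pc.gok_wds H16.PFi22.act H16.PFi22.card (ptF_inj 3510) H16.PFi22.Blt H16.PFi22.isBase h0_3 h1_3 rule3
    (fun r h => fus3 r (h.trans_eq h3_3)) lowx3).pb (by norm_num) H16.PFi22.card zero3 rows3 ord3 h2_3
theorem zero2 : ∀ D ∈ Ds2, c2.Zero D := (Pc.zero_app (Pc.zero_of_chk id2_0) (Pc.zero_of_chk id2_1))
theorem rows2 : ∀ r < 289, c2.Row S2 (Yo2.map (·.1)) r :=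
  (Pc.rows_glue zero2 (Pc.rows_glue zero2 Pc.rows_zero rw2_0) rw2_263)
theorem rule2_g0 : ∀ i < 16, (c2.ruleEnt (wdsP H16.PFi22.P Us2) H16.PFi22.B) i = 0 := allZ_sound0 rule2_0
theorem rule2_g1 : ∀ i < 32, (c2.ruleEnt (wdsP H16.PFi22.P Us2) H16.PFi22.B) i = 0 := range_glue rule2_g0 rule2_1
theorem rule2_g2 : ∀ i < 48, (c2.ruleEnt (wdsP H16.PFi22.P Us2) H16.PFi22.B) i = 0 := range_glue rule2_g1 rule2_2
theorem rule2_g3 : ∀ i < 64, (c2.ruleEnt (wdsP H16.PFi22.P Us2) H16.PFi22.B) i = 0 := range_glue rule2_g2 rule2_3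
theorem rule2_g4 : ∀ i < 80, (c2.ruleEnt (wdsP H16.PFi22.P Us2) H16.PFi22.B) i = 0 := range_glue rule2_g3 rule2_4
theorem rule2_g5 : ∀ i < 96, (c2.ruleEnt (wdsP H16.PFi22.P Us2) H16.PFi22.B) i = 0 := range_glue rule2_g4 rule2_5
theorem rule2_g6 : ∀ i < 112, (c2.ruleEnt (wdsP H16.PFi22.P Us2) H16.PFi22.B) i = 0 := range_glue rule2_g5 rule2_6
theorem rule2_g7 : ∀ i < 128, (c2.ruleEnt (wdsP H16.PFi22.P Us2) H16.PFi22.B) i = 0 := range_glue rule2_g6 rule2_7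
theorem rule2_g8 : ∀ i < 144, (c2.ruleEnt (wdsP H16.PFi22.P Us2) H16.PFi22.B) i = 0 := range_glue rule2_g7 rule2_8
theorem rule2_g9 : ∀ i < 160, (c2.ruleEnt (wdsP H16.PFi22.P Us2) H16.PFi22.B) i = 0 := range_glue rule2_g8 rule2_9
theorem rule2_g10 : ∀ i < 176, (c2.ruleEnt (wdsP H16.PFi22.P Us2) H16.PFi22.B) i = 0 := range_glue rule2_g9 rule2_10
theorem rule2_g11 : ∀ i < 192, (c2.ruleEnt (wdsP H16.PFi22.P Us2) H16.PFi22.B) i = 0 := range_glue rule2_g10 rule2_11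
theorem rule2_g12 : ∀ i < 208, (c2.ruleEnt (wdsP H16.PFi22.P Us2) H16.PFi22.B) i = 0 := range_glue rule2_g11 rule2_12
theorem rule2_g13 : ∀ i < 224, (c2.ruleEnt (wdsP H16.PFi22.P Us2) H16.PFi22.B) i = 0 := range_glue rule2_g12 rule2_13
theorem rule2_g14 : ∀ i < 240, (c2.ruleEnt (wdsP H16.PFi22.P Us2) H16.PFi22.B) i = 0 := range_glue rule2_g13 rule2_14
theorem rule2_g15 : ∀ i < 256, (c2.ruleEnt (wdsP H16.PFi22.P Us2) H16.PFi22.B) i = 0 := range_glue rule2_g14 rule2_15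
theorem rule2_g16 : ∀ i < 272, (c2.ruleEnt (wdsP H16.PFi22.P Us2) H16.PFi22.B) i = 0 := range_glue rule2_g15 rule2_16
theorem rule2_g17 : ∀ i < 288, (c2.ruleEnt (wdsP H16.PFi22.P Us2) H16.PFi22.B) i = 0 := range_glue rule2_g16 rule2_17
theorem rule2 : ∀ i < 289, (c2.ruleEnt (wdsP H16.PFi22.P Us2) H16.PFi22.B) i = 0 := range_glue rule2_g17 rule2_18
theorem fus2_g0 : ∀ i < 5, (c2.fusEnt (wdsP H16.PFi22.P Us2) (wdsP H16.PFi22.P Fs2) H16.PFi22.B) i = 0 := allZ_sound0 fus2_0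
theorem fus2_g1 : ∀ i < 10, (c2.fusEnt (wdsP H16.PFi22.P Us2) (wdsP H16.PFi22.P Fs2) H16.PFi22.B) i = 0 := range_glue fus2_g0 fus2_1
theorem fus2_g2 : ∀ i < 15, (c2.fusEnt (wdsP H16.PFi22.P Us2) (wdsP H16.PFi22.P Fs2) H16.PFi22.B) i = 0 := range_glue fus2_g1 fus2_2
theorem fus2_g3 : ∀ i < 20, (c2.fusEnt (wdsP H16.PFi22.P Us2) (wdsP H16.PFi22.P Fs2) H16.PFi22.B) i = 0 := range_glue fus2_g2 fus2_3
theorem fus2_g4 : ∀ i < 25, (c2.fusEnt (wdsP H16.PFi22.P Us2) (wdsP H16.PFi22.P Fs2) H16.PFi22.B) i = 0 := range_glue fus2_g3 fus2_4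
theorem fus2_g5 : ∀ i < 30, (c2.fusEnt (wdsP H16.PFi22.P Us2) (wdsP H16.PFi22.P Fs2) H16.PFi22.B) i = 0 := range_glue fus2_g4 fus2_5
theorem fus2 : ∀ i < 33, (c2.fusEnt (wdsP H16.PFi22.P Us2) (wdsP H16.PFi22.P Fs2) H16.PFi22.B) i = 0 := range_glue fus2_g5 fus2_6
theorem lvx2_6e : ∀ i < 1, (lx2_6.ent (wdsP (wdsP H16.PFi22.P Us2) Wsx2)) i = 0 := allZ_sound0 lvx2_6e_0
theorem lvx2_5e : ∀ i < 1, (lx2_5.ent (wdsP (wdsP H16.PFi22.P Us2) Wsx2)) i = 0 := allZ_sound0 lvx2_5e_0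
theorem lvx2_4e : ∀ i < 7, (lx2_4.ent (wdsP (wdsP H16.PFi22.P Us2) Wsx2)) i = 0 := allZ_sound0 lvx2_4e_0
theorem lvx2_3e : ∀ i < 31, (lx2_3.ent (wdsP (wdsP H16.PFi22.P Us2) Wsx2)) i = 0 := allZ_sound0 lvx2_3e_0
theorem lvx2_2e : ∀ i < 15, (lx2_2.ent (wdsP (wdsP H16.PFi22.P Us2) Wsx2)) i = 0 := allZ_sound0 lvx2_2e_0
theorem lvx2_1e : ∀ i < 3, (lx2_1.ent (wdsP (wdsP H16.PFi22.P Us2) Wsx2)) i = 0 := allZ_sound0 lvx2_1e_0
theorem lvx2_0e : ∀ i < 1, (lx2_0.ent (wdsP (wdsP H16.PFi22.P Us2) Wsx2)) i = 0 := allZ_sound0 lvx2_0e_0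
theorem lowx2 : LowChain (wdsP (wdsP H16.PFi22.P Us2) Wsx2) 3510 Lx2 :=
  ⟨⟨lvx2_0b.1, lvx2_0b.2.1, lvx2_0b.2.2.1, lvx2_0b.2.2.2.1, lvx2_0e⟩, lvx2_0b.2.2.2.2.1, lvx2_0b.2.2.2.2.2, ⟨⟨lvx2_1b.1, lvx2_1b.2.1, lvx2_1b.2.2.1, lvx2_1b.2.2.2.1, lvx2_1e⟩, lvx2_1b.2.2.2.2.1, lvx2_1b.2.2.2.2.2, ⟨⟨lvx2_2b.1, lvx2_2b.2.1, lvx2_2b.2.2.1, lvx2_2b.2.2.2.1, lvx2_2e⟩, lvx2_2b.2.2.2.2.1, lvx2_2b.2.2.2.2.2, ⟨⟨lvx2_3b.1, lvx2_3b.2.1, lvx2_3b.2.2.1, lvx2_3b.2.2.2.1, lvx2_3e⟩, lvx2_3b.2.2.2.2.1, lvx2_3b.2.2.2.2.2, ⟨⟨lvx2_4b.1, lvx2_4b.2.1, lvx2_4b.2.2.1, lvx2_4b.2.2.2.1, lvx2_4e⟩, lvx2_4b.2.2.2.2.1, lvx2_4b.2.2.2.2.2, ⟨⟨lvx2_5b.1, lvx2_5b.2.1, lvx2_5b.2.2.1, lvx2_5b.2.2.2.1, lvx2_5e⟩, lvx2_5b.2.2.2.2.1, lvx2_5b.2.2.2.2.2, ⟨⟨lvx2_6b.1, lvx2_6b.2.1, lvx2_6b.2.2.1, lvx2_6b.2.2.2.1, lvx2_6e⟩, lvx2_6b.2.2.2.2.1, lvx2_6b.2.2.2.2.2, trivial⟩⟩⟩⟩⟩⟩⟩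
open scoped Pointwise in
theorem pb2 : PB (gen H16.PFi22.g 9) (2 ^ (1 + 1)) :=
  (Pc.gok_wds H16.PFi22.act H16.PFi22.card (ptF_inj 3510) H16.PFi22.Blt H16.PFi22.isBase h0_2 h1_2 rule2
    (fun r h => fus2 r (h.trans_eq h3_2)) lowx2).pb (by norm_num) H16.PFi22.card zero2 rows2 ord2 h2_2
theorem ker_le (Δ : Type) [Group Δ] [Finite Δ] (τ : Δ →* (gen H16.PFi22.g 9)) (h : Cfsg.IsStemExtension τ) :
    Nat.card τ.ker ≤ 6 :=
  card_ker_le (L := [(2, 17, 1), (3, 9, 1), (5, 2, 0), (7, 1, 0), (11, 1, 0), (13, 1, 0)]) ⟨H16.PFi22.card.trans (by decide +kernel), by decide +kernel⟩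
    (all_cons ⟨by norm_num, pb2⟩
    (all_cons ⟨by norm_num, pb3⟩
    (all_cons ⟨by norm_num, pb5⟩
    (all_cons ⟨by norm_num, PB.of_not_sq (by norm_num) (by rw [H16.PFi22.card]; decide)⟩
    (all_cons ⟨by norm_num, PB.of_not_sq (by norm_num) (by rw [H16.PFi22.card]; decide)⟩
    (all_cons ⟨by norm_num, PB.of_not_sq (by norm_num) (by rw [H16.PFi22.card]; decide)⟩
    all_nil)))))) Δ τ h

end H16.ScFi22
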