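import Cfsg.Agent.H16.Sch3
import Cfsg.Agent.H16.M.S62

/-! Generated by tools/h16 (computation kit). -/

set_option maxRecDepth 100000
set_option maxHeartbeats 0

namespace H16.ScS62

noncomputable def Us3 : List (List ℕ) := [[nat_lit 4, nat_lit 3, nat_lit 5, nat_lit 0, nat_lit 1, nat_lit 0, nat_lit 2, nat_lit 1, nat_lit 2, nat_lit 5],
  [nat_lit 0, nat_lit 2, nat_lit 3, nat_lit 1, nat_lit 2, nat_lit 4, nat_lit 3, nat_lit 1, nat_lit 4, nat_lit 5, nat_lit 4, nat_lit 3, nat_lit 1, nat_lit 0, nat_lit 3, nat_lit 1, nat_lit 2, nat_lit 3],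
  [nat_lit 5, nat_lit 4, nat_lit 3, nat_lit 1, nat_lit 0, nat_lit 2, nat_lit 1, nat_lit 3, nat_lit 1, nat_lit 2, nat_lit 4, nat_lit 3, nat_lit 4, nat_lit 5, nat_lit 4, nat_lit 5, nat_lit 2, nat_lit 1],
  [nat_lit 4, nat_lit 5, nat_lit 2, nat_lit 1, nat_lit 0, nat_lit 3, nat_lit 1, nat_lit 4, nat_lit 3, nat_lit 5, nat_lit 4, nat_lit 3, nat_lit 1, nat_lit 5, nat_lit 4]]
noncomputable def Fs3 : List (List ℕ) := [[nat_lit 4, nat_lit 5, nat_lit 0, nat_lit 2, nat_lit 1, nat_lit 3, nat_lit 4, nat_lit 3, nat_lit 5, nat_lit 2, nat_lit 5, nat_lit 4, nat_lit 5]]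
noncomputable def c3 : Pc := ⟨(nat_lit 2), (nat_lit 2), (nat_lit 4), (nat_lit 2), (nat_lit 2), (nat_lit 9),
  [[[]],
  [[nat_lit 1, nat_lit 2], [nat_lit 3, nat_lit 3]],
  [[nat_lit 2], [nat_lit 2, nat_lit 3], []],
  [[nat_lit 3], [nat_lit 3], [nat_lit 3], []]],
  [((nat_lit 0), [nat_lit 2], [nat_lit 2, nat_lit 2]),
  ((nat_lit 0), [nat_lit 0], [nat_lit 0, nat_lit 2, nat_lit 2])]⟩
noncomputable def I3_0 : List Pc.Idn := [⟨false, (nat_lit 0), [nat_lit 1], [nat_lit 1, nat_lit 1], [((nat_lit 15), (nat_lit 2))]⟩,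
  ⟨false, (nat_lit 0), [nat_lit 1], [nat_lit 0, nat_lit 0], [((nat_lit 12), (nat_lit 1))]⟩,
  ⟨false, (nat_lit 0), [nat_lit 3], [nat_lit 1, nat_lit 0], [((nat_lit 16), (nat_lit 2))]⟩,
  ⟨false, (nat_lit 0), [nat_lit 2, nat_lit 2], [nat_lit 2, nat_lit 1], [((nat_lit 17), (nat_lit 2))]⟩,
  ⟨false, (nat_lit 0), [nat_lit 2], [nat_lit 1, nat_lit 0], [((nat_lit 14), (nat_lit 1)), ((nat_lit 16), (nat_lit 2))]⟩,
  ⟨true, (nat_lit 0), [nat_lit 0, nat_lit 1], [nat_lit 1, nat_lit 0], [((nat_lit 10), (nat_lit 2))]⟩]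
noncomputable def Ds3 : List (List (ℕ × ℕ)) := I3_0.map Pc.Idn.D
noncomputable def S3 : List (List (ℕ × ℕ)) := [[],
  [],
  [((nat_lit 6), (nat_lit 1))],
  [((nat_lit 11), (nat_lit 1))]]
noncomputable def Yo3 : List (List (ℕ × ℕ) × ℕ × ℕ) := []
noncomputable def La3 : List ℕ := [nat_lit 0,
  nat_lit 0,
  nat_lit 0,
  nat_lit 0,
  nat_lit 0,
  nat_lit 0,
  nat_lit 0,
  nat_lit 0,
  nat_lit 0x1e6,
  nat_lit 0,
  nat_lit 3,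
  nat_lit 0,
  nat_lit 0x63,
  nat_lit 2,
  nat_lit 0x12,
  nat_lit 0x36]
noncomputable def Wsx3 : List (List ℕ) := [[nat_lit 0, nat_lit 2, nat_lit 3],
  [nat_lit 0],
  [nat_lit 1]]
noncomputable def LDx3_2d : ℕ := nat_lit 4
noncomputable def LDx3_2 (u : ℕ) : ℕ := Nat.land (Nat.shiftRight LDx3_2d (Nat.mul u (nat_lit 1))) (nat_lit 1)
noncomputable def Ptx3_2d : ℕ := nat_lit 0x9a3
noncomputable def Ptx3_2 (u : ℕ) : ℕ := Nat.land (Nat.shiftRight Ptx3_2d (Nat.mul u (nat_lit 4))) (nat_lit 15)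
noncomputable def Qx3_2d : ℕ := nat_lit 0x180000
noncomputable def Qx3_2 (u : ℕ) : ℕ := Nat.land (Nat.shiftRight Qx3_2d (Nat.mul u (nat_lit 2))) (nat_lit 3)
noncomputable def lx3_2 : Lev := ⟨3, 1, LDx3_2, Ptx3_2, Qx3_2⟩
noncomputable def LDx3_1d : ℕ := nat_lit 0x34
noncomputable def LDx3_1 (u : ℕ) : ℕ := Nat.land (Nat.shiftRight LDx3_1d (Nat.mul u (nat_lit 2))) (nat_lit 3)
noncomputable def Ptx3_1d : ℕ := nat_lit 0x2dc1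
noncomputable def Ptx3_1 (u : ℕ) : ℕ := Nat.land (Nat.shiftRight Ptx3_1d (Nat.mul u (nat_lit 6))) (nat_lit 63)
noncomputable def Qx3_1d : ℕ := nat_lit 0x4000000000000000000000000020
noncomputable def Qx3_1 (u : ℕ) : ℕ := Nat.land (Nat.shiftRight Qx3_1d (Nat.mul u (nat_lit 2))) (nat_lit 3)
noncomputable def lx3_1 : Lev := ⟨3, 2, LDx3_1, Ptx3_1, Qx3_1⟩
noncomputable def LDx3_0d : ℕ := nat_lit 0x145a50729040
noncomputable def LDx3_0 (u : ℕ) : ℕ := Nat.land (Nat.shiftRight LDx3_0d (Nat.mul u (nat_lit 5))) (nat_lit 31)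
noncomputable def Ptx3_0d : ℕ := nat_lit 0x2ced9c2bb9cc40
noncomputable def Ptx3_0 (u : ℕ) : ℕ := Nat.land (Nat.shiftRight Ptx3_0d (Nat.mul u (nat_lit 6))) (nat_lit 63)
noncomputable def Qx3_0d : ℕ := nat_lit 0x700000000015030840000000000000020060000000000000000000000000
noncomputable def Qx3_0 (u : ℕ) : ℕ := Nat.land (Nat.shiftRight Qx3_0d (Nat.mul u (nat_lit 4))) (nat_lit 15)
noncomputable def lx3_0 : Lev := ⟨9, 3, LDx3_0, Ptx3_0, Qx3_0⟩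
noncomputable def Lx3 : List Lev := [lx3_0, lx3_1, lx3_2]
noncomputable def Bx3 : List ℕ := [nat_lit 0, nat_lit 1, nat_lit 3]
noncomputable def Us2 : List (List ℕ) := [[nat_lit 0, nat_lit 1, nat_lit 2, nat_lit 1, nat_lit 2, nat_lit 3, nat_lit 1, nat_lit 4, nat_lit 3, nat_lit 1, nat_lit 0, nat_lit 3],
  [nat_lit 0, nat_lit 2, nat_lit 3, nat_lit 1, nat_lit 0, nat_lit 3, nat_lit 4, nat_lit 3, nat_lit 5, nat_lit 2, nat_lit 5, nat_lit 4, nat_lit 1, nat_lit 3, nat_lit 0],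
  [nat_lit 3, nat_lit 1, nat_lit 2, nat_lit 1, nat_lit 0, nat_lit 2, nat_lit 1, nat_lit 2, nat_lit 4, nat_lit 3, nat_lit 1, nat_lit 0, nat_lit 3],
  [nat_lit 3, nat_lit 0, nat_lit 1, nat_lit 0, nat_lit 2, nat_lit 1, nat_lit 0, nat_lit 3],
  [nat_lit 4, nat_lit 3, nat_lit 2, nat_lit 1, nat_lit 0, nat_lit 2, nat_lit 1, nat_lit 2, nat_lit 4, nat_lit 3, nat_lit 4],
  [nat_lit 0, nat_lit 1, nat_lit 2, nat_lit 1, nat_lit 0],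
  [nat_lit 4, nat_lit 5, nat_lit 2, nat_lit 0, nat_lit 1, nat_lit 0, nat_lit 5, nat_lit 4, nat_lit 3, nat_lit 4],
  [nat_lit 0, nat_lit 1, nat_lit 2, nat_lit 1, nat_lit 0, nat_lit 4, nat_lit 3, nat_lit 5, nat_lit 2, nat_lit 5, nat_lit 4],
  [nat_lit 3, nat_lit 0, nat_lit 1, nat_lit 2, nat_lit 1, nat_lit 0, nat_lit 3]]
noncomputable def Fs2 : List (List ℕ) := [[nat_lit 5, nat_lit 3, nat_lit 1, nat_lit 0, nat_lit 3, nat_lit 1, nat_lit 3, nat_lit 4, nat_lit 3, nat_lit 1, nat_lit 0, nat_lit 2, nat_lit 4, nat_lit 5, nat_lit 4, nat_lit 3],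
  [nat_lit 2, nat_lit 1, nat_lit 0, nat_lit 2, nat_lit 3, nat_lit 1, nat_lit 0, nat_lit 4, nat_lit 3, nat_lit 1, nat_lit 0, nat_lit 2, nat_lit 3, nat_lit 1],
  [nat_lit 2, nat_lit 1, nat_lit 5, nat_lit 2, nat_lit 5, nat_lit 4, nat_lit 3, nat_lit 1, nat_lit 0, nat_lit 5, nat_lit 4, nat_lit 3, nat_lit 1, nat_lit 0, nat_lit 4, nat_lit 2, nat_lit 1],
  [nat_lit 3, nat_lit 0, nat_lit 1, nat_lit 2, nat_lit 1, nat_lit 0, nat_lit 2, nat_lit 1, nat_lit 3, nat_lit 4, nat_lit 3, nat_lit 1],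
  [nat_lit 5, nat_lit 0, nat_lit 1, nat_lit 2, nat_lit 1, nat_lit 0, nat_lit 4, nat_lit 3, nat_lit 1, nat_lit 0, nat_lit 2, nat_lit 4],
  [nat_lit 3, nat_lit 4, nat_lit 1, nat_lit 3, nat_lit 1, nat_lit 0, nat_lit 4, nat_lit 3, nat_lit 1, nat_lit 2, nat_lit 4]]
noncomputable def c2 : Pc := ⟨(nat_lit 1), (nat_lit 3), (nat_lit 9), (nat_lit 4), (nat_lit 21), (nat_lit 15),
  [[[nat_lit 6, nat_lit 7, nat_lit 8]],
  [[nat_lit 1, nat_lit 4], [nat_lit 4, nat_lit 6, nat_lit 7]],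
  [[nat_lit 2, nat_lit 5], [nat_lit 2, nat_lit 6], [nat_lit 5, nat_lit 6, nat_lit 7]],
  [[nat_lit 3, nat_lit 4, nat_lit 5, nat_lit 6, nat_lit 7, nat_lit 8], [nat_lit 3, nat_lit 4, nat_lit 5, nat_lit 6, nat_lit 7, nat_lit 8], [nat_lit 3], []],
  [[nat_lit 4, nat_lit 7], [nat_lit 4, nat_lit 7], [nat_lit 4], [nat_lit 4], []],
  [[nat_lit 5, nat_lit 7], [nat_lit 5], [nat_lit 5, nat_lit 7], [nat_lit 5], [nat_lit 5, nat_lit 8], []],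
  [[nat_lit 6, nat_lit 8], [nat_lit 6, nat_lit 7, nat_lit 8], [nat_lit 6, nat_lit 7, nat_lit 8], [nat_lit 6], [nat_lit 6, nat_lit 8], [nat_lit 6, nat_lit 8], [nat_lit 8]],
  [[nat_lit 7, nat_lit 8], [nat_lit 7, nat_lit 8], [nat_lit 7, nat_lit 8], [nat_lit 7], [nat_lit 7], [nat_lit 7], [nat_lit 7], []],
  [[nat_lit 8], [nat_lit 8], [nat_lit 8], [nat_lit 8], [nat_lit 8], [nat_lit 8], [nat_lit 8], [nat_lit 8], []]],
  [((nat_lit 3), [nat_lit 5], [nat_lit 8]),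
  ((nat_lit 3), [nat_lit 0, nat_lit 2, nat_lit 6], [nat_lit 5]),
  ((nat_lit 3), [nat_lit 1], [nat_lit 0, nat_lit 1, nat_lit 5, nat_lit 6, nat_lit 7, nat_lit 8]),
  ((nat_lit 0), [nat_lit 4], [nat_lit 3, nat_lit 4, nat_lit 7, nat_lit 8]),
  ((nat_lit 0), [nat_lit 0, nat_lit 1], [nat_lit 2, nat_lit 8]),
  ((nat_lit 0), [nat_lit 8], [nat_lit 8]),
  ((nat_lit 4), [nat_lit 8], [nat_lit 3, nat_lit 4]),
  ((nat_lit 4), [nat_lit 1, nat_lit 7], [nat_lit 2, nat_lit 3, nat_lit 4, nat_lit 5, nat_lit 6]),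
  ((nat_lit 1), [nat_lit 7], [nat_lit 4, nat_lit 6, nat_lit 7]),
  ((nat_lit 1), [nat_lit 1], [nat_lit 0, nat_lit 2, nat_lit 7]),
  ((nat_lit 1), [nat_lit 8], [nat_lit 8]),
  ((nat_lit 1), [nat_lit 5], [nat_lit 4, nat_lit 5, nat_lit 6]),
  ((nat_lit 1), [nat_lit 0, nat_lit 2], [nat_lit 1, nat_lit 7]),
  ((nat_lit 0), [nat_lit 7], [nat_lit 5, nat_lit 6, nat_lit 7, nat_lit 8]),
  ((nat_lit 0), [nat_lit 2], [nat_lit 2, nat_lit 3, nat_lit 5, nat_lit 7]),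
  ((nat_lit 2), [nat_lit 8], [nat_lit 3, nat_lit 4, nat_lit 8]),
  ((nat_lit 2), [nat_lit 4], [nat_lit 0, nat_lit 1, nat_lit 6, nat_lit 7]),
  ((nat_lit 5), [nat_lit 4, nat_lit 6], [nat_lit 4, nat_lit 6, nat_lit 8]),
  ((nat_lit 5), [nat_lit 1, nat_lit 2, nat_lit 3], [nat_lit 0, nat_lit 1, nat_lit 3, nat_lit 4, nat_lit 5]),
  ((nat_lit 5), [nat_lit 7], [nat_lit 7]),
  ((nat_lit 5), [nat_lit 5], [nat_lit 0, nat_lit 2, nat_lit 6])]⟩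
noncomputable def I2_0 : List Pc.Idn := [⟨false, (nat_lit 0), [nat_lit 5], [nat_lit 5, nat_lit 1], [((nat_lit 67), (nat_lit 2))]⟩,
  ⟨false, (nat_lit 0), [nat_lit 4], [nat_lit 4, nat_lit 3], [((nat_lit 60), (nat_lit 2))]⟩,
  ⟨false, (nat_lit 0), [nat_lit 7], [nat_lit 7, nat_lit 4], [((nat_lit 88), (nat_lit 2))]⟩,
  ⟨false, (nat_lit 0), [nat_lit 8], [nat_lit 8, nat_lit 4], [((nat_lit 97), (nat_lit 2))]⟩,
  ⟨false, (nat_lit 0), [nat_lit 7], [nat_lit 7, nat_lit 5], [((nat_lit 89), (nat_lit 2))]⟩,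
  ⟨false, (nat_lit 0), [nat_lit 8], [nat_lit 8, nat_lit 5], [((nat_lit 98), (nat_lit 2))]⟩,
  ⟨false, (nat_lit 0), [nat_lit 6], [nat_lit 6, nat_lit 6], [((nat_lit 99), (nat_lit 1))]⟩,
  ⟨false, (nat_lit 0), [nat_lit 7], [nat_lit 7, nat_lit 6], [((nat_lit 90), (nat_lit 2))]⟩,
  ⟨false, (nat_lit 0), [nat_lit 4], [nat_lit 4, nat_lit 0], [((nat_lit 57), (nat_lit 2)), ((nat_lit 88), (nat_lit 3)), ((nat_lit 91), (nat_lit 3))]⟩,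
  ⟨false, (nat_lit 0), [nat_lit 5], [nat_lit 5, nat_lit 0], [((nat_lit 66), (nat_lit 2)), ((nat_lit 89), (nat_lit 3)), ((nat_lit 91), (nat_lit 3))]⟩,
  ⟨false, (nat_lit 0), [nat_lit 7], [nat_lit 7, nat_lit 0], [((nat_lit 84), (nat_lit 2)), ((nat_lit 100), (nat_lit 3)), ((nat_lit 101), (nat_lit 3))]⟩,
  ⟨false, (nat_lit 0), [nat_lit 4], [nat_lit 4, nat_lit 1], [((nat_lit 58), (nat_lit 2)), ((nat_lit 88), (nat_lit 3)), ((nat_lit 91), (nat_lit 3))]⟩,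
  ⟨false, (nat_lit 0), [nat_lit 7], [nat_lit 7, nat_lit 1], [((nat_lit 85), (nat_lit 2)), ((nat_lit 100), (nat_lit 3)), ((nat_lit 101), (nat_lit 3))]⟩,
  ⟨false, (nat_lit 0), [nat_lit 5], [nat_lit 5, nat_lit 2], [((nat_lit 68), (nat_lit 2)), ((nat_lit 89), (nat_lit 3)), ((nat_lit 91), (nat_lit 3))]⟩,
  ⟨false, (nat_lit 0), [nat_lit 6], [nat_lit 6, nat_lit 3], [((nat_lit 78), (nat_lit 2)), ((nat_lit 96), (nat_lit 1))]⟩,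
  ⟨false, (nat_lit 0), [nat_lit 5], [nat_lit 5, nat_lit 4], [((nat_lit 70), (nat_lit 2)), ((nat_lit 98), (nat_lit 3)), ((nat_lit 101), (nat_lit 3))]⟩,
  ⟨false, (nat_lit 0), [nat_lit 5], [nat_lit 4, nat_lit 4], [((nat_lit 70), (nat_lit 2)), ((nat_lit 97), (nat_lit 1)), ((nat_lit 101), (nat_lit 1))]⟩,
  ⟨false, (nat_lit 0), [nat_lit 7], [nat_lit 6, nat_lit 6], [((nat_lit 90), (nat_lit 2)), ((nat_lit 100), (nat_lit 1))]⟩,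
  ⟨false, (nat_lit 0), [nat_lit 6], [nat_lit 6, nat_lit 0], [((nat_lit 75), (nat_lit 2)), ((nat_lit 93), (nat_lit 1)), ((nat_lit 99), (nat_lit 3)), ((nat_lit 101), (nat_lit 3))]⟩,
  ⟨false, (nat_lit 0), [nat_lit 0], [nat_lit 0, nat_lit 0], [((nat_lit 75), (nat_lit 1)), ((nat_lit 84), (nat_lit 1)), ((nat_lit 93), (nat_lit 1)), ((nat_lit 100), (nat_lit 1)), ((nat_lit 101), (nat_lit 1))]⟩,
  ⟨false, (nat_lit 0), [nat_lit 3], [nat_lit 2, nat_lit 2], [((nat_lit 50), (nat_lit 2)), ((nat_lit 69), (nat_lit 1)), ((nat_lit 78), (nat_lit 1)), ((nat_lit 87), (nat_lit 1))]⟩,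
  ⟨false, (nat_lit 0), [nat_lit 5], [nat_lit 3, nat_lit 2], [((nat_lit 87), (nat_lit 3))]⟩,
  ⟨false, (nat_lit 0), [nat_lit 7], [nat_lit 0, nat_lit 0], [((nat_lit 84), (nat_lit 2)), ((nat_lit 90), (nat_lit 3)), ((nat_lit 93), (nat_lit 1)), ((nat_lit 100), (nat_lit 1)), ((nat_lit 101), (nat_lit 1))]⟩,
  ⟨false, (nat_lit 0), [nat_lit 6], [nat_lit 6, nat_lit 1], [((nat_lit 76), (nat_lit 2)), ((nat_lit 90), (nat_lit 3)), ((nat_lit 91), (nat_lit 3)), ((nat_lit 94), (nat_lit 1)), ((nat_lit 99), (nat_lit 3)), ((nat_lit 100), (nat_lit 3)), ((nat_lit 101), (nat_lit 3))]⟩,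
  ⟨false, (nat_lit 0), [nat_lit 7], [nat_lit 1, nat_lit 1], [((nat_lit 85), (nat_lit 2)), ((nat_lit 88), (nat_lit 3)), ((nat_lit 90), (nat_lit 3)), ((nat_lit 94), (nat_lit 1)), ((nat_lit 101), (nat_lit 1))]⟩,
  ⟨false, (nat_lit 0), [nat_lit 6], [nat_lit 6, nat_lit 2], [((nat_lit 77), (nat_lit 2)), ((nat_lit 90), (nat_lit 3)), ((nat_lit 91), (nat_lit 3)), ((nat_lit 95), (nat_lit 1)), ((nat_lit 99), (nat_lit 3)), ((nat_lit 100), (nat_lit 3)), ((nat_lit 101), (nat_lit 3))]⟩,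
  ⟨false, (nat_lit 0), [nat_lit 1], [nat_lit 1, nat_lit 1], [((nat_lit 58), (nat_lit 1)), ((nat_lit 76), (nat_lit 1)), ((nat_lit 85), (nat_lit 1)), ((nat_lit 90), (nat_lit 1)), ((nat_lit 91), (nat_lit 1)), ((nat_lit 100), (nat_lit 1)), ((nat_lit 101), (nat_lit 1))]⟩,
  ⟨false, (nat_lit 0), [nat_lit 2], [nat_lit 2, nat_lit 2], [((nat_lit 68), (nat_lit 1)), ((nat_lit 77), (nat_lit 1)), ((nat_lit 86), (nat_lit 1)), ((nat_lit 90), (nat_lit 1)), ((nat_lit 91), (nat_lit 1)), ((nat_lit 100), (nat_lit 1)), ((nat_lit 101), (nat_lit 1))]⟩,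
  ⟨false, (nat_lit 0), [nat_lit 4], [nat_lit 2, nat_lit 2], [((nat_lit 59), (nat_lit 2)), ((nat_lit 70), (nat_lit 1)), ((nat_lit 79), (nat_lit 1)), ((nat_lit 88), (nat_lit 1)), ((nat_lit 99), (nat_lit 1)), ((nat_lit 101), (nat_lit 1))]⟩,
  ⟨false, (nat_lit 0), [nat_lit 4], [nat_lit 0, nat_lit 0], [((nat_lit 57), (nat_lit 2)), ((nat_lit 79), (nat_lit 1)), ((nat_lit 84), (nat_lit 1)), ((nat_lit 88), (nat_lit 1)), ((nat_lit 91), (nat_lit 1)), ((nat_lit 97), (nat_lit 1)), ((nat_lit 100), (nat_lit 1)), ((nat_lit 101), (nat_lit 1))]⟩,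
  ⟨false, (nat_lit 0), [nat_lit 5], [nat_lit 0, nat_lit 0], [((nat_lit 66), (nat_lit 2)), ((nat_lit 80), (nat_lit 1)), ((nat_lit 84), (nat_lit 1)), ((nat_lit 89), (nat_lit 1)), ((nat_lit 91), (nat_lit 1)), ((nat_lit 98), (nat_lit 1)), ((nat_lit 100), (nat_lit 1)), ((nat_lit 101), (nat_lit 1))]⟩,
  ⟨false, (nat_lit 0), [nat_lit 4], [nat_lit 1, nat_lit 0], [((nat_lit 84), (nat_lit 1)), ((nat_lit 85), (nat_lit 3)), ((nat_lit 97), (nat_lit 3))]⟩,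
  ⟨false, (nat_lit 0), [nat_lit 5], [nat_lit 2, nat_lit 0], [((nat_lit 84), (nat_lit 1)), ((nat_lit 86), (nat_lit 3)), ((nat_lit 98), (nat_lit 3))]⟩,
  ⟨false, (nat_lit 0), [nat_lit 2], [nat_lit 1, nat_lit 1], [((nat_lit 40), (nat_lit 2)), ((nat_lit 59), (nat_lit 1)), ((nat_lit 76), (nat_lit 1)), ((nat_lit 77), (nat_lit 1)), ((nat_lit 81), (nat_lit 1)), ((nat_lit 86), (nat_lit 1)), ((nat_lit 91), (nat_lit 1)), ((nat_lit 99), (nat_lit 1)), ((nat_lit 100), (nat_lit 2)), ((nat_lit 101), (nat_lit 2))]⟩,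
  ⟨false, (nat_lit 0), [nat_lit 2], [nat_lit 2, nat_lit 1], [((nat_lit 40), (nat_lit 2)), ((nat_lit 67), (nat_lit 1)), ((nat_lit 76), (nat_lit 1)), ((nat_lit 77), (nat_lit 3)), ((nat_lit 81), (nat_lit 3)), ((nat_lit 85), (nat_lit 1)), ((nat_lit 90), (nat_lit 3)), ((nat_lit 100), (nat_lit 3))]⟩,
  ⟨false, (nat_lit 0), [nat_lit 1], [nat_lit 0, nat_lit 0], [((nat_lit 30), (nat_lit 2)), ((nat_lit 57), (nat_lit 1)), ((nat_lit 61), (nat_lit 1)), ((nat_lit 76), (nat_lit 1)), ((nat_lit 79), (nat_lit 2)), ((nat_lit 85), (nat_lit 1)), ((nat_lit 91), (nat_lit 1)), ((nat_lit 94), (nat_lit 1)), ((nat_lit 97), (nat_lit 1)), ((nat_lit 100), (nat_lit 2)), ((nat_lit 101), (nat_lit 2))]⟩,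
  ⟨false, (nat_lit 0), [nat_lit 2], [nat_lit 0, nat_lit 0], [((nat_lit 39), (nat_lit 2)), ((nat_lit 66), (nat_lit 1)), ((nat_lit 71), (nat_lit 1)), ((nat_lit 77), (nat_lit 1)), ((nat_lit 80), (nat_lit 2)), ((nat_lit 86), (nat_lit 1)), ((nat_lit 91), (nat_lit 1)), ((nat_lit 95), (nat_lit 1)), ((nat_lit 98), (nat_lit 1)), ((nat_lit 100), (nat_lit 2)), ((nat_lit 101), (nat_lit 2))]⟩,
  ⟨false, (nat_lit 0), [nat_lit 3], [nat_lit 3, nat_lit 0], [((nat_lit 48), (nat_lit 2)), ((nat_lit 60), (nat_lit 3)), ((nat_lit 61), (nat_lit 3)), ((nat_lit 69), (nat_lit 3)), ((nat_lit 70), (nat_lit 3)), ((nat_lit 71), (nat_lit 3)), ((nat_lit 78), (nat_lit 3)), ((nat_lit 79), (nat_lit 3)), ((nat_lit 80), (nat_lit 3)), ((nat_lit 81), (nat_lit 3)), ((nat_lit 87), (nat_lit 3)), ((nat_lit 88), (nat_lit 3)), ((nat_lit 89), (nat_lit 3)), ((nat_lit 90), (nat_lit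 3)), ((nat_lit 91), (nat_lit 3)), ((nat_lit 96), (nat_lit 3)), ((nat_lit 97), (nat_lit 3)), ((nat_lit 98), (nat_lit 3)), ((nat_lit 99), (nat_lit 3)), ((nat_lit 100), (nat_lit 1)), ((nat_lit 101), (nat_lit 1))]⟩,
  ⟨false, (nat_lit 0), [nat_lit 3], [nat_lit 3, nat_lit 1], [((nat_lit 49), (nat_lit 2)), ((nat_lit 60), (nat_lit 3)), ((nat_lit 61), (nat_lit 3)), ((nat_lit 69), (nat_lit 3)), ((nat_lit 70), (nat_lit 3)), ((nat_lit 71), (nat_lit 3)), ((nat_lit 78), (nat_lit 3)), ((nat_lit 79), (nat_lit 3)), ((nat_lit 80), (nat_lit 3)), ((nat_lit 81), (nat_lit 3)), ((nat_lit 87), (nat_lit 3)), ((nat_lit 88), (nat_lit 3)), ((nat_lit 89), (nat_lit 3)), ((nat_lit 90), (nat_lit 3)), ((nat_lit 91), (nat_lit 3)), ((nat_lit 96), (nat_lit 3)), ((nat_lit 97), (nat_lit 3)), ((nat_lit 98), (nat_lit 3)), ((nat_lit 99), (nat_lit 3)), ((nat_lit 100),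 (nat_lit 1)), ((nat_lit 101), (nat_lit 1))]⟩,
  ⟨false, (nat_lit 0), [nat_lit 3], [nat_lit 2, nat_lit 0], [((nat_lit 59), (nat_lit 3)), ((nat_lit 68), (nat_lit 3)), ((nat_lit 69), (nat_lit 1)), ((nat_lit 70), (nat_lit 1)), ((nat_lit 77), (nat_lit 3)), ((nat_lit 80), (nat_lit 3)), ((nat_lit 86), (nat_lit 3)), ((nat_lit 89), (nat_lit 3)), ((nat_lit 90), (nat_lit 3)), ((nat_lit 91), (nat_lit 3)), ((nat_lit 95), (nat_lit 3)), ((nat_lit 99), (nat_lit 1)), ((nat_lit 100), (nat_lit 3)), ((nat_lit 101), (nat_lit 3))]⟩,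
  ⟨false, (nat_lit 0), [nat_lit 3], [nat_lit 0, nat_lit 0], [((nat_lit 48), (nat_lit 2)), ((nat_lit 57), (nat_lit 1)), ((nat_lit 61), (nat_lit 1)), ((nat_lit 66), (nat_lit 1)), ((nat_lit 70), (nat_lit 1)), ((nat_lit 71), (nat_lit 1)), ((nat_lit 75), (nat_lit 1)), ((nat_lit 78), (nat_lit 1)), ((nat_lit 79), (nat_lit 1)), ((nat_lit 80), (nat_lit 1)), ((nat_lit 81), (nat_lit 1)), ((nat_lit 84), (nat_lit 1)), ((nat_lit 87), (nat_lit 1)), ((nat_lit 88), (nat_lit 1)), ((nat_lit 89), (nat_lit 2)), ((nat_lit 90), (nat_lit 1)), ((nat_lit 91), (nat_lit 2)), ((nat_lit 93), (nat_lit 1)), ((nat_lit 96), (nat_lit 1)), ((nat_lit 97), (nat_lit 2)), ((nat_lit 99), (nat_lit 1))]⟩,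
  ⟨true, (nat_lit 3), [nat_lit 0, nat_lit 1], [nat_lit 1, nat_lit 0], [((nat_lit 66), (nat_lit 1)), ((nat_lit 68), (nat_lit 1)), ((nat_lit 80), (nat_lit 3)), ((nat_lit 86), (nat_lit 1)), ((nat_lit 91), (nat_lit 1)), ((nat_lit 98), (nat_lit 3)), ((nat_lit 99), (nat_lit 1))]⟩,
  ⟨true, (nat_lit 3), [nat_lit 0, nat_lit 2], [nat_lit 2, nat_lit 0], [((nat_lit 67), (nat_lit 1)), ((nat_lit 93), (nat_lit 3)), ((nat_lit 94), (nat_lit 3)), ((nat_lit 98), (nat_lit 3)), ((nat_lit 99), (nat_lit 3)), ((nat_lit 100), (nat_lit 3))]⟩,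
  ⟨true, (nat_lit 0), [nat_lit 3, nat_lit 4], [nat_lit 4, nat_lit 3, nat_lit 5], [((nat_lit 5), (nat_lit 1)), ((nat_lit 50), (nat_lit 3)), ((nat_lit 57), (nat_lit 1)), ((nat_lit 58), (nat_lit 1)), ((nat_lit 59), (nat_lit 3)), ((nat_lit 85), (nat_lit 1)), ((nat_lit 86), (nat_lit 3)), ((nat_lit 91), (nat_lit 1)), ((nat_lit 95), (nat_lit 3)), ((nat_lit 96), (nat_lit 1)), ((nat_lit 97), (nat_lit 1)), ((nat_lit 100), (nat_lit 1))]⟩,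
  ⟨true, (nat_lit 4), [nat_lit 6, nat_lit 7], [nat_lit 7, nat_lit 6], [((nat_lit 50), (nat_lit 3)), ((nat_lit 59), (nat_lit 3)), ((nat_lit 69), (nat_lit 1)), ((nat_lit 70), (nat_lit 1)), ((nat_lit 78), (nat_lit 1)), ((nat_lit 79), (nat_lit 1)), ((nat_lit 94), (nat_lit 1)), ((nat_lit 99), (nat_lit 1)), ((nat_lit 100), (nat_lit 1)), ((nat_lit 101), (nat_lit 1))]⟩,
  ⟨true, (nat_lit 1), [nat_lit 8, nat_lit 9], [nat_lit 9, nat_lit 8, nat_lit 10], [((nat_lit 10), (nat_lit 1)), ((nat_lit 57), (nat_lit 3)), ((nat_lit 59), (nat_lit 3)), ((nat_lit 75), (nat_lit 3)), ((nat_lit 77), (nat_lit 3)), ((nat_lit 84), (nat_lit 3)), ((nat_lit 85), (nat_lit 1)), ((nat_lit 88), (nat_lit 1)), ((nat_lit 91), (nat_lit 3)), ((nat_lit 100), (nat_lit 2)), ((nat_lit 101), (nat_lit 3))]⟩,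
  ⟨true, (nat_lit 1), [nat_lit 11, nat_lit 12], [nat_lit 12, nat_lit 11, nat_lit 10], [((nat_lit 10), (nat_lit 1)), ((nat_lit 58), (nat_lit 3)), ((nat_lit 66), (nat_lit 1)), ((nat_lit 67), (nat_lit 3)), ((nat_lit 68), (nat_lit 1)), ((nat_lit 76), (nat_lit 3)), ((nat_lit 86), (nat_lit 1)), ((nat_lit 88), (nat_lit 1)), ((nat_lit 100), (nat_lit 3))]⟩,
  ⟨true, (nat_lit 0), [nat_lit 13, nat_lit 14], [nat_lit 14, nat_lit 13, nat_lit 5], [((nat_lit 5), (nat_lit 1)), ((nat_lit 68), (nat_lit 3)), ((nat_lit 69), (nat_lit 3)), ((nat_lit 77), (nat_lit 3)), ((nat_lit 78), (nat_lit 3)), ((nat_lit 80), (nat_lit 3)), ((nat_lit 87), (nat_lit 3)), ((nat_lit 91), (nat_lit 3)), ((nat_lit 95), (nat_lit 3)), ((nat_lit 96), (nat_lit 3)), ((nat_lit 98), (nat_lit 3)), ((nat_lit 100), (nat_lit 2)), ((nat_lit 101), (nat_lit 3))]⟩,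
  ⟨true, (nat_lit 2), [nat_lit 15, nat_lit 16], [nat_lit 16, nat_lit 15], [((nat_lit 48), (nat_lit 3)), ((nat_lit 49), (nat_lit 3)), ((nat_lit 57), (nat_lit 3)), ((nat_lit 61), (nat_lit 3)), ((nat_lit 67), (nat_lit 3)), ((nat_lit 70), (nat_lit 3)), ((nat_lit 71), (nat_lit 3)), ((nat_lit 76), (nat_lit 3)), ((nat_lit 78), (nat_lit 1)), ((nat_lit 80), (nat_lit 3)), ((nat_lit 81), (nat_lit 3)), ((nat_lit 87), (nat_lit 1)), ((nat_lit 89), (nat_lit 3)), ((nat_lit 90), (nat_lit 3)), ((nat_lit 91), (nat_lit 2)), ((nat_lit 93), (nat_lit 3)), ((nat_lit 98), (nat_lit 3)), ((nat_lit 99), (nat_lit 3)), ((nat_lit 100), (nat_lit 1)), ((nat_lit 101), (nat_lit 1))]⟩,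
  ⟨true, (nat_lit 5), [nat_lit 17, nat_lit 18], [nat_lit 18, nat_lit 17, nat_lit 19], [((nat_lit 19), (nat_lit 1)), ((nat_lit 57), (nat_lit 3)), ((nat_lit 59), (nat_lit 1)), ((nat_lit 70), (nat_lit 1)), ((nat_lit 75), (nat_lit 3)), ((nat_lit 77), (nat_lit 1)), ((nat_lit 79), (nat_lit 3)), ((nat_lit 80), (nat_lit 3)), ((nat_lit 85), (nat_lit 3)), ((nat_lit 88), (nat_lit 3)), ((nat_lit 89), (nat_lit 3)), ((nat_lit 90), (nat_lit 3)), ((nat_lit 93), (nat_lit 3)), ((nat_lit 95), (nat_lit 1)), ((nat_lit 98), (nat_lit 3)), ((nat_lit 99), (nat_lit 1)), ((nat_lit 100), (nat_lit 1)), ((nat_lit 101), (nat_lit 3))]⟩,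
  ⟨true, (nat_lit 5), [nat_lit 20, nat_lit 18], [nat_lit 18, nat_lit 20, nat_lit 19], [((nat_lit 19), (nat_lit 1)), ((nat_lit 30), (nat_lit 1)), ((nat_lit 39), (nat_lit 3)), ((nat_lit 40), (nat_lit 3)), ((nat_lit 48), (nat_lit 1)), ((nat_lit 50), (nat_lit 1)), ((nat_lit 57), (nat_lit 1)), ((nat_lit 59), (nat_lit 1)), ((nat_lit 60), (nat_lit 1)), ((nat_lit 61), (nat_lit 1)), ((nat_lit 66), (nat_lit 1)), ((nat_lit 68), (nat_lit 1)), ((nat_lit 75), (nat_lit 3)), ((nat_lit 76), (nat_lit 1)), ((nat_lit 77), (nat_lit 3)), ((nat_lit 79), (nat_lit 1)), ((nat_lit 80), (nat_lit 2)), ((nat_lit 85), (nat_lit 1)), ((nat_lit 87), (nat_lit 1)), ((nat_lit 88), (nat_lit 1)), ((nat_lit 90), (nat_lit 1)), ((nat_lit 91), (nat_lit 2)), ((nat_lit 94), (nat_lit 1)), ((nat_lit 96), (nat_lit 3)), ((nat_lit 99), (nat_lit 3))]⟩]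
noncomputable def Ds2 : List (List (ℕ × ℕ)) := I2_0.map Pc.Idn.D
noncomputable def S2 : List (List (ℕ × ℕ)) := [[],
  [],
  [],
  [],
  [((nat_lit 30), (nat_lit 1))],
  [((nat_lit 39), (nat_lit 1))],
  [((nat_lit 40), (nat_lit 1))],
  [((nat_lit 57), (nat_lit 1))],
  [((nat_lit 84), (nat_lit 1))]]
noncomputable def Yo2 : List (List (ℕ × ℕ) × ℕ × ℕ) := [([((nat_lit 48), (nat_lit 3)), ((nat_lit 49), (nat_lit 1))], (nat_lit 2), nat_lit 0x34000000000000000000)]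
noncomputable def La2 : List ℕ := [nat_lit 0,
  nat_lit 0,
  nat_lit 0,
  nat_lit 0,
  nat_lit 0,
  nat_lit 0,
  nat_lit 0,
  nat_lit 0,
  nat_lit 0,
  nat_lit 0,
  nat_lit 0,
  nat_lit 0,
  nat_lit 0,
  nat_lit 0,
  nat_lit 0,
  nat_lit 0,
  nat_lit 0,
  nat_lit 0,
  nat_lit 0,
  nat_lit 0,
  nat_lit 0,
  nat_lit 0,
  nat_lit 0,
  nat_lit 0,
  nat_lit 0,
  nat_lit 0,
  nat_lit 0,
  nat_lit 0xd2761a3663d7c5a91f289b5fa0,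
  nat_lit 0xd2761a3663d7c5a91f289b5fa1,
  nat_lit 0x4c000fd240f7c940088f344,
  nat_lit 0,
  nat_lit 0,
  nat_lit 0,
  nat_lit 0,
  nat_lit 0,
  nat_lit 0,
  nat_lit 0,
  nat_lit 0x67a6e0ad41b8148855ba4786d,
  nat_lit 0x8a0c800ff0a860276a68e71c6,
  nat_lit 0xf0da1105f8a56f096c57cb79b,
  nat_lit 0x1a70a21a1edefb03ea8f85530,
  nat_lit 0,
  nat_lit 0,
  nat_lit 0,
  nat_lit 0,
  nat_lit 0x708000ff034543ad0c0d9288,
  nat_lit 0x5d7242a775ea49886f3fc74b1,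
  nat_lit 0xd077c2a26bde899915da38bbf,
  nat_lit 0x5d7052a2029b1989cfb589ff1,
  nat_lit 0xd776c2a75602f580955bca43f,
  nat_lit 0x3004044130808200f08400,
  nat_lit 0,
  nat_lit 0,
  nat_lit 0,
  nat_lit 0x35800016300,
  nat_lit 0x90782200aef6b72540ef6b77a,
  nat_lit 0xada380055684fa15fae3717a2,
  nat_lit 0xf758f2a8a2399249c59f817db,
  nat_lit 0xaaa8800aa900a2094aa2cbb2a,
  nat_lit 0x680080b108b00500,
  nat_lit 0xca0360a41db0fab63fdb1c683,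
  nat_lit 0,
  nat_lit 0,
  nat_lit 0,
  nat_lit 0x8a08800a90a8f0084ae84f04a,
  nat_lit 0xaaa8800a6800a20bbaa68a92a,
  nat_lit 0x300000000000,
  nat_lit 0xd77ec2add542d58af51b85637,
  nat_lit 0x77d642addfead7aaffbaeda1d,
  nat_lit 0x425800026300,
  nat_lit 0x7dd642a77fc27f8a5f394fe1d,
  nat_lit 0,
  nat_lit 0x825800426300,
  nat_lit 0x5d7642a7776a69a55fbfe77bd,
  nat_lit 0x77d442add7cbd3857fb7c771d,
  nat_lit 0xaaa0a000002220828e2a02aa2,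
  nat_lit 0xaaa8800aa800a20bcaa68992a,
  nat_lit 0xaaa8800aa800a2099aae8ab2a,
  nat_lit 0x4000,
  nat_lit 0x80980080a300,
  nat_lit 0x80b80040a100]
noncomputable def Wsx2 : List (List ℕ) := [[nat_lit 4, nat_lit 5, nat_lit 6, nat_lit 7],
  [nat_lit 3],
  [nat_lit 8],
  [nat_lit 4],
  [nat_lit 7],
  [nat_lit 0, nat_lit 1, nat_lit 6],
  [nat_lit 2],
  [nat_lit 5],
  [nat_lit 0]]
noncomputable def LDx2_4d : ℕ := nat_lit 0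
noncomputable def LDx2_4 (u : ℕ) : ℕ := Nat.land (Nat.shiftRight LDx2_4d (Nat.mul u (nat_lit 1))) (nat_lit 1)
noncomputable def Ptx2_4d : ℕ := nat_lit 0xe04
noncomputable def Ptx2_4 (u : ℕ) : ℕ := Nat.land (Nat.shiftRight Ptx2_4d (Nat.mul u (nat_lit 6))) (nat_lit 63)
noncomputable def Qx2_4d : ℕ := nat_lit 0x100000000000000
noncomputable def Qx2_4 (u : ℕ) : ℕ := Nat.land (Nat.shiftRight Qx2_4d (Nat.mul u (nat_lit 1))) (nat_lit 1)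
noncomputable def lx2_4 : Lev := ⟨2, 1, LDx2_4, Ptx2_4, Qx2_4⟩
noncomputable def LDx2_3d : ℕ := nat_lit 0xa88
noncomputable def LDx2_3 (u : ℕ) : ℕ := Nat.land (Nat.shiftRight LDx2_3d (Nat.mul u (nat_lit 3))) (nat_lit 7)
noncomputable def Ptx2_3d : ℕ := nat_lit 0x5f2c2
noncomputable def Ptx2_3 (u : ℕ) : ℕ := Nat.land (Nat.shiftRight Ptx2_3d (Nat.mul u (nat_lit 5))) (nat_lit 31)
noncomputable def Qx2_3d : ℕ := nat_lit 0x200100000c00000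
noncomputable def Qx2_3 (u : ℕ) : ℕ := Nat.land (Nat.shiftRight Qx2_3d (Nat.mul u (nat_lit 2))) (nat_lit 3)
noncomputable def lx2_3 : Lev := ⟨4, 3, LDx2_3, Ptx2_3, Qx2_3⟩
noncomputable def LDx2_2d : ℕ := nat_lit 0xec56a29060
noncomputable def LDx2_2 (u : ℕ) : ℕ := Nat.land (Nat.shiftRight LDx2_2d (Nat.mul u (nat_lit 5))) (nat_lit 31)
noncomputable def Ptx2_2d : ℕ := nat_lit 0xd347086b941
noncomputable def Ptx2_2 (u : ℕ) : ℕ := Nat.land (Nat.shiftRight Ptx2_2d (Nat.mul u (nat_lit 6))) (nat_lit 63)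
noncomputable def Qx2_2d : ℕ := nat_lit 0x4000400008018000000000c28000000000e00
noncomputable def Qx2_2 (u : ℕ) : ℕ := Nat.land (Nat.shiftRight Qx2_2d (Nat.mul u (nat_lit 3))) (nat_lit 7)
noncomputable def lx2_2 : Lev := ⟨8, 6, LDx2_2, Ptx2_2, Qx2_2⟩
noncomputable def LDx2_1d : ℕ := nat_lit 0xf760
noncomputable def LDx2_1 (u : ℕ) : ℕ := Nat.land (Nat.shiftRight LDx2_1d (Nat.mul u (nat_lit 4))) (nat_lit 15)
noncomputable def Ptx2_1d : ℕ := nat_lit 0xbca8c5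
noncomputable def Ptx2_1 (u : ℕ) : ℕ := Nat.land (Nat.shiftRight Ptx2_1d (Nat.mul u (nat_lit 6))) (nat_lit 63)
noncomputable def Qx2_1d : ℕ := nat_lit 0xc00000400000000000200000
noncomputable def Qx2_1 (u : ℕ) : ℕ := Nat.land (Nat.shiftRight Qx2_1d (Nat.mul u (nat_lit 2))) (nat_lit 3)
noncomputable def lx2_1 : Lev := ⟨4, 8, LDx2_1, Ptx2_1, Qx2_1⟩
noncomputable def LDx2_0d : ℕ := nat_lit 0x80
noncomputable def LDx2_0 (u : ℕ) : ℕ := Nat.land (Nat.shiftRight LDx2_0d (Nat.mul u (nat_lit 4))) (nat_lit 15)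
noncomputable def Ptx2_0d : ℕ := nat_lit 0x894
noncomputable def Ptx2_0 (u : ℕ) : ℕ := Nat.land (Nat.shiftRight Ptx2_0d (Nat.mul u (nat_lit 6))) (nat_lit 63)
noncomputable def Qx2_0d : ℕ := nat_lit 0x400000000
noncomputable def Qx2_0 (u : ℕ) : ℕ := Nat.land (Nat.shiftRight Qx2_0d (Nat.mul u (nat_lit 1))) (nat_lit 1)
noncomputable def lx2_0 : Lev := ⟨2, 9, LDx2_0, Ptx2_0, Qx2_0⟩
noncomputable def Lx2 : List Lev := [lx2_0, lx2_1, lx2_2, lx2_3, lx2_4]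
noncomputable def Bx2 : List ℕ := [nat_lit 20, nat_lit 5, nat_lit 1, nat_lit 2, nat_lit 4]

theorem id3_0 : c3.idnChk (nat_lit 21) I3_0 = true := by decide +kernel
theorem rw3_0 : c3.rowChk S3 (Yo3.map (·.1) ++ Ds3) La3 (nat_lit 0) (nat_lit 16) = true := by decide +kernel
theorem ord3 : c3.ordChk Yo3 Ds3 = true := by decide +kernel
theorem rule3_0 : allZ (c3.ruleEnt (wdsP H16.S62.P Us3) H16.S62.B) (nat_lit 0) (nat_lit 16) = true := by decide +kernel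
theorem fus3_0 : allZ (c3.fusEnt (wdsP H16.S62.P Us3) (wdsP H16.S62.P Fs3) H16.S62.B) (nat_lit 0) (nat_lit 2) = true := by decide +kernel
theorem lvx3_2e_0 : allZ (lx3_2.ent (wdsP (wdsP H16.S62.P Us3) Wsx3)) (nat_lit 0) (nat_lit 2) = true := by decide +kernel
theorem lvx3_2b : 0 < lx3_2.n ∧ 0 < lx3_2.K ∧ lx3_2.Pt 0 < 63 ∧ lx3_2.Q (lx3_2.Pt 0) = 0 ∧ 0 ≤ lx3_2.K ∧ fixLetters (wdsP (wdsP H16.S62.P Us3) Wsx3) (nat_lit 0) (lx3_2.Pt 0) = true := by decide +kernel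
theorem lvx3_1e_0 : allZ (lx3_1.ent (wdsP (wdsP H16.S62.P Us3) Wsx3)) (nat_lit 0) (nat_lit 2) = true := by decide +kernel
theorem lvx3_1b : 0 < lx3_1.n ∧ 0 < lx3_1.K ∧ lx3_1.Pt 0 < 63 ∧ lx3_1.Q (lx3_1.Pt 0) = 0 ∧ 1 ≤ lx3_1.K ∧ fixLetters (wdsP (wdsP H16.S62.P Us3) Wsx3) (nat_lit 1) (lx3_1.Pt 0) = true := by decide +kernel
theorem lvx3_0e_0 : allZ (lx3_0.ent (wdsP (wdsP H16.S62.P Us3) Wsx3)) (nat_lit 0) (nat_lit 8) = true := by decide +kernel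
theorem lvx3_0b : 0 < lx3_0.n ∧ 0 < lx3_0.K ∧ lx3_0.Pt 0 < 63 ∧ lx3_0.Q (lx3_0.Pt 0) = 0 ∧ 2 ≤ lx3_0.K ∧ fixLetters (wdsP (wdsP H16.S62.P Us3) Wsx3) (nat_lit 2) (lx3_0.Pt 0) = true := by decide +kernel
theorem basex3 : chainBase Lx3 = Bx3 ∧ ltAll (nat_lit 63) Bx3 = 0 ∧ topK Lx3 = 3 := by decide +kernel
theorem h0_3 : allL (ltAll 6) Us3 = true ∧ allL (ltAll 6) Fs3 = true ∧ Us3.length ≤ c3.n ∧ 0 < 1451520 := by decide +kernel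
theorem h1_3 : allL (ltAll c3.n) Wsx3 = true ∧ chainCard Lx3 = (c3.p1 + 1) ^ c3.n ∧ c3.n * c3.n = 16 := by decide +kernel
theorem h2_3 : c3.Fmt ∧ c3.p1 + 1 = 3 ∧ c3.N1 + 1 = 3 ^ (0 + 1) ∧ 1451520 = 3 ^ c3.n * (1451520 / 3 ^ c3.n) ∧
    Nat.Coprime (1451520 / 3 ^ c3.n) (c3.N1 + 1) ∧ (Yo3.map (·.2.1)).prod ≤ 3 ^ 0 ∧ c3.n * c3.n = 16 := by decide +kernel
theorem h3_3 : c3.C = 2 := by decide +kernel
theorem id2_0 : c2.idnChk (nat_lit 85) I2_0 = true := by decide +kernel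
theorem rw2_0 : c2.rowChk S2 (Yo2.map (·.1) ++ Ds2) La2 (nat_lit 0) (nat_lit 81) = true := by decide +kernel
theorem ord2 : c2.ordChk Yo2 Ds2 = true := by decide +kernel
theorem rule2_0 : allZ (c2.ruleEnt (wdsP H16.S62.P Us2) H16.S62.B) (nat_lit 0) (nat_lit 81) = true := by decide +kernel
theorem fus2_0 : allZ (c2.fusEnt (wdsP H16.S62.P Us2) (wdsP H16.S62.P Fs2) H16.S62.B) (nat_lit 0) (nat_lit 21) = true := by decide +kernel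
theorem lvx2_4e_0 : allZ (lx2_4.ent (wdsP (wdsP H16.S62.P Us2) Wsx2)) (nat_lit 0) (nat_lit 1) = true := by decide +kernel
theorem lvx2_4b : 0 < lx2_4.n ∧ 0 < lx2_4.K ∧ lx2_4.Pt 0 < 63 ∧ lx2_4.Q (lx2_4.Pt 0) = 0 ∧ 0 ≤ lx2_4.K ∧ fixLetters (wdsP (wdsP H16.S62.P Us2) Wsx2) (nat_lit 0) (lx2_4.Pt 0) = true := by decide +kernel
theorem lvx2_3e_0 : allZ (lx2_3.ent (wdsP (wdsP H16.S62.P Us2) Wsx2)) (nat_lit 0) (nat_lit 3) = true := by decide +kernel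
theorem lvx2_3b : 0 < lx2_3.n ∧ 0 < lx2_3.K ∧ lx2_3.Pt 0 < 63 ∧ lx2_3.Q (lx2_3.Pt 0) = 0 ∧ 1 ≤ lx2_3.K ∧ fixLetters (wdsP (wdsP H16.S62.P Us2) Wsx2) (nat_lit 1) (lx2_3.Pt 0) = true := by decide +kernel
theorem lvx2_2e_0 : allZ (lx2_2.ent (wdsP (wdsP H16.S62.P Us2) Wsx2)) (nat_lit 0) (nat_lit 7) = true := by decide +kernel
theorem lvx2_2b : 0 < lx2_2.n ∧ 0 < lx2_2.K ∧ lx2_2.Pt 0 < 63 ∧ lx2_2.Q (lx2_2.Pt 0) = 0 ∧ 3 ≤ lx2_2.K ∧ fixLetters (wdsP (wdsP H16.S62.P Us2) Wsx2) (nat_lit 3) (lx2_2.Pt 0) = true := by decide +kernel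
theorem lvx2_1e_0 : allZ (lx2_1.ent (wdsP (wdsP H16.S62.P Us2) Wsx2)) (nat_lit 0) (nat_lit 3) = true := by decide +kernel
theorem lvx2_1b : 0 < lx2_1.n ∧ 0 < lx2_1.K ∧ lx2_1.Pt 0 < 63 ∧ lx2_1.Q (lx2_1.Pt 0) = 0 ∧ 6 ≤ lx2_1.K ∧ fixLetters (wdsP (wdsP H16.S62.P Us2) Wsx2) (nat_lit 6) (lx2_1.Pt 0) = true := by decide +kernel
theorem lvx2_0e_0 : allZ (lx2_0.ent (wdsP (wdsP H16.S62.P Us2) Wsx2)) (nat_lit 0) (nat_lit 1) = true := by decide +kernel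
theorem lvx2_0b : 0 < lx2_0.n ∧ 0 < lx2_0.K ∧ lx2_0.Pt 0 < 63 ∧ lx2_0.Q (lx2_0.Pt 0) = 0 ∧ 8 ≤ lx2_0.K ∧ fixLetters (wdsP (wdsP H16.S62.P Us2) Wsx2) (nat_lit 8) (lx2_0.Pt 0) = true := by decide +kernel
theorem basex2 : chainBase Lx2 = Bx2 ∧ ltAll (nat_lit 63) Bx2 = 0 ∧ topK Lx2 = 9 := by decide +kernel
theorem h0_2 : allL (ltAll 6) Us2 = true ∧ allL (ltAll 6) Fs2 = true ∧ Us2.length ≤ c2.n ∧ 0 < 1451520 := by decide +kernel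
theorem h1_2 : allL (ltAll c2.n) Wsx2 = true ∧ chainCard Lx2 = (c2.p1 + 1) ^ c2.n ∧ c2.n * c2.n = 81 := by decide +kernel
theorem h2_2 : c2.Fmt ∧ c2.p1 + 1 = 2 ∧ c2.N1 + 1 = 2 ^ (1 + 1) ∧ 1451520 = 2 ^ c2.n * (1451520 / 2 ^ c2.n) ∧
    Nat.Coprime (1451520 / 2 ^ c2.n) (c2.N1 + 1) ∧ (Yo2.map (·.2.1)).prod ≤ 2 ^ 1 ∧ c2.n * c2.n = 81 := by decide +kernel
theorem h3_2 : c2.C = 21 := by decide +kernel

instance fin : Finite (gen H16.S62.g 6) := Nat.finite_of_card_ne_zero (by rw [H16.S62.card]; decide)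
theorem zero3 : ∀ D ∈ Ds3, c3.Zero D := (Pc.zero_of_chk id3_0)
theorem rows3 : ∀ r < 16, c3.Row S3 (Yo3.map (·.1)) r :=
  (Pc.rows_glue zero3 Pc.rows_zero rw3_0)
theorem rule3 : ∀ i < 16, (c3.ruleEnt (wdsP H16.S62.P Us3) H16.S62.B) i = 0 := allZ_sound0 rule3_0
theorem fus3 : ∀ i < 2, (c3.fusEnt (wdsP H16.S62.P Us3) (wdsP H16.S62.P Fs3) H16.S62.B) i = 0 := allZ_sound0 fus3_0
theorem lvx3_2e : ∀ i < 2, (lx3_2.ent (wdsP (wdsP H16.S62.P Us3) Wsx3)) i = 0 := allZ_sound0 lvx3_2e_0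
theorem lvx3_1e : ∀ i < 2, (lx3_1.ent (wdsP (wdsP H16.S62.P Us3) Wsx3)) i = 0 := allZ_sound0 lvx3_1e_0
theorem lvx3_0e : ∀ i < 8, (lx3_0.ent (wdsP (wdsP H16.S62.P Us3) Wsx3)) i = 0 := allZ_sound0 lvx3_0e_0
theorem lowx3 : LowChain (wdsP (wdsP H16.S62.P Us3) Wsx3) 63 Lx3 :=
  ⟨⟨lvx3_0b.1, lvx3_0b.2.1, lvx3_0b.2.2.1, lvx3_0b.2.2.2.1, lvx3_0e⟩, lvx3_0b.2.2.2.2.1, lvx3_0b.2.2.2.2.2, ⟨⟨lvx3_1b.1, lvx3_1b.2.1, lvx3_1b.2.2.1, lvx3_1b.2.2.2.1, lvx3_1e⟩, lvx3_1b.2.2.2.2.1, lvx3_1b.2.2.2.2.2, ⟨⟨lvx3_2b.1, lvx3_2b.2.1, lvx3_2b.2.2.1, lvx3_2b.2.2.2.1, lvx3_2e⟩, lvx3_2b.2.2.2.2.1, lvx3_2b.2.2.2.2.2, trivial⟩⟩⟩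
open scoped Pointwise in
theorem pb3 : PB (gen H16.S62.g 6) (3 ^ (0 + 1)) :=
  (Pc.gok_wds H16.S62.act H16.S62.card (ptF_inj 63) H16.S62.Blt H16.S62.isBase h0_3 h1_3 rule3
    (fun r h => fus3 r (h.trans_eq h3_3)) lowx3).pb (by norm_num) H16.S62.card zero3 rows3 ord3 h2_3
theorem zero2 : ∀ D ∈ Ds2, c2.Zero D := (Pc.zero_of_chk id2_0)
theorem rows2 : ∀ r < 81, c2.Row S2 (Yo2.map (·.1)) r :=
  (Pc.rows_glue zero2 Pc.rows_zero rw2_0)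
theorem rule2 : ∀ i < 81, (c2.ruleEnt (wdsP H16.S62.P Us2) H16.S62.B) i = 0 := allZ_sound0 rule2_0
theorem fus2 : ∀ i < 21, (c2.fusEnt (wdsP H16.S62.P Us2) (wdsP H16.S62.P Fs2) H16.S62.B) i = 0 := allZ_sound0 fus2_0
theorem lvx2_4e : ∀ i < 1, (lx2_4.ent (wdsP (wdsP H16.S62.P Us2) Wsx2)) i = 0 := allZ_sound0 lvx2_4e_0
theorem lvx2_3e : ∀ i < 3, (lx2_3.ent (wdsP (wdsP H16.S62.P Us2) Wsx2)) i = 0 := allZ_sound0 lvx2_3e_0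
theorem lvx2_2e : ∀ i < 7, (lx2_2.ent (wdsP (wdsP H16.S62.P Us2) Wsx2)) i = 0 := allZ_sound0 lvx2_2e_0
theorem lvx2_1e : ∀ i < 3, (lx2_1.ent (wdsP (wdsP H16.S62.P Us2) Wsx2)) i = 0 := allZ_sound0 lvx2_1e_0
theorem lvx2_0e : ∀ i < 1, (lx2_0.ent (wdsP (wdsP H16.S62.P Us2) Wsx2)) i = 0 := allZ_sound0 lvx2_0e_0
theorem lowx2 : LowChain (wdsP (wdsP H16.S62.P Us2) Wsx2) 63 Lx2 :=
  ⟨⟨lvx2_0b.1, lvx2_0b.2.1, lvx2_0b.2.2.1, lvx2_0b.2.2.2.1, lvx2_0e⟩, lvx2_0b.2.2.2.2.1, lvx2_0b.2.2.2.2.2, ⟨⟨lvx2_1b.1, lvx2_1b.2.1, lvx2_1b.2.2.1, lvx2_1b.2.2.2.1, lvx2_1e⟩, lvx2_1b.2.2.2.2.1, lvx2_1b.2.2.2.2.2, ⟨⟨lvx2_2b.1, lvx2_2b.2.1, lvx2_2b.2.2.1, lvx2_2b.2.2.2.1, lvx2_2e⟩, lvx2_2b.2.2.2.2.1, lvx2_2b.2.2.2.2.2, ⟨⟨lvx2_3b.1, lvx2_3b.2.1, lvx2_3b.2.2.1, lvx2_3b.2.2.2.1, lvx2_3e⟩, lvx2_3b.2.2.2.2.1, lvx2_3b.2.2.2.2.2, ⟨⟨lvx2_4b.1, lvx2_4b.2.1, lvx2_4b.2.2.1,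 lvx2_4b.2.2.2.1, lvx2_4e⟩, lvx2_4b.2.2.2.2.1, lvx2_4b.2.2.2.2.2, trivial⟩⟩⟩⟩⟩
open scoped Pointwise in
theorem pb2 : PB (gen H16.S62.g 6) (2 ^ (1 + 1)) :=
  (Pc.gok_wds H16.S62.act H16.S62.card (ptF_inj 63) H16.S62.Blt H16.S62.isBase h0_2 h1_2 rule2
    (fun r h => fus2 r (h.trans_eq h3_2)) lowx2).pb (by norm_num) H16.S62.card zero2 rows2 ord2 h2_2
theorem ker_le (Δ : Type) [Group Δ] [Finite Δ] (τ : Δ →* (gen H16.S62.g 6)) (h : Cfsg.IsStemExtension τ) :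
    Nat.card τ.ker ≤ 2 :=
  card_ker_le (L := [(2, 9, 1), (3, 4, 0), (5, 1, 0), (7, 1, 0)]) ⟨H16.S62.card.trans (by decide +kernel), by decide +kernel⟩
    (all_cons ⟨by norm_num, pb2⟩
    (all_cons ⟨by norm_num, pb3⟩
    (all_cons ⟨by norm_num, PB.of_not_sq (by norm_num) (by rw [H16.S62.card]; decide)⟩
    (all_cons ⟨by norm_num, PB.of_not_sq (by norm_num) (by rw [H16.S62.card]; decide)⟩
    all_nil)))) Δ τ h

end H16.ScS62
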