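import Cfsg.Agent.H16.Sch2
import Cfsg.Agent.H15.Conway2

/-! Generated by tools/h16 (computation kit). -/

set_option maxRecDepth 100000
set_option maxHeartbeats 0

namespace H16.ScMcL

noncomputable def Us5 : List (List ℕ) := [[nat_lit 5, nat_lit 0, nat_lit 2, nat_lit 3, nat_lit 1, nat_lit 2, nat_lit 3, nat_lit 4, nat_lit 3, nat_lit 2, nat_lit 0, nat_lit 1, nat_lit 0, nat_lit 1, nat_lit 5, nat_lit 2, nat_lit 0, nat_lit 4, nat_lit 5, nat_lit 4],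
  [nat_lit 3, nat_lit 5, nat_lit 2, nat_lit 1, nat_lit 0, nat_lit 2, nat_lit 3, nat_lit 2, nat_lit 0, nat_lit 1, nat_lit 0, nat_lit 2, nat_lit 0, nat_lit 3, nat_lit 4, nat_lit 3, nat_lit 1, nat_lit 2, nat_lit 0, nat_lit 3, nat_lit 4, nat_lit 5],
  [nat_lit 1, nat_lit 2, nat_lit 1, nat_lit 0, nat_lit 2, nat_lit 3, nat_lit 2, nat_lit 1, nat_lit 0, nat_lit 4, nat_lit 3, nat_lit 2, nat_lit 1, nat_lit 0, nat_lit 3, nat_lit 2, nat_lit 4, nat_lit 1, nat_lit 5, nat_lit 0, nat_lit 1, nat_lit 2, nat_lit 0, nat_lit 4, nat_lit 5, nat_lit 0]]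
noncomputable def Fs5 : List (List ℕ) := [[nat_lit 5, nat_lit 0, nat_lit 3, nat_lit 1, nat_lit 2, nat_lit 0, nat_lit 3, nat_lit 2, nat_lit 1, nat_lit 0, nat_lit 1, nat_lit 4, nat_lit 3, nat_lit 2, nat_lit 0, nat_lit 1, nat_lit 2, nat_lit 0, nat_lit 3, nat_lit 5, nat_lit 0, nat_lit 1, nat_lit 4, nat_lit 5],
  [nat_lit 2, nat_lit 1, nat_lit 0, nat_lit 3, nat_lit 2, nat_lit 1, nat_lit 0, nat_lit 3, nat_lit 2, nat_lit 1, nat_lit 4, nat_lit 3, nat_lit 2, nat_lit 1, nat_lit 0, nat_lit 1, nat_lit 5, nat_lit 4, nat_lit 1, nat_lit 5, nat_lit 0, nat_lit 2, nat_lit 4, nat_lit 5, nat_lit 4, nat_lit 0]]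
noncomputable def c5 : Pc := ⟨(nat_lit 4), (nat_lit 4), (nat_lit 3), (nat_lit 2), (nat_lit 4), (nat_lit 10),
  [[[]],
  [[nat_lit 1, nat_lit 2], []],
  [[nat_lit 2], [nat_lit 2], []]],
  [((nat_lit 1), [nat_lit 2], [nat_lit 2]),
  ((nat_lit 1), [nat_lit 0], [nat_lit 1, nat_lit 2]),
  ((nat_lit 0), [nat_lit 2], [nat_lit 2]),
  ((nat_lit 0), [nat_lit 1], [nat_lit 0, nat_lit 1, nat_lit 2, nat_lit 2])]⟩
noncomputable def I5_0 : List Pc.Idn := [⟨false, (nat_lit 0), [nat_lit 1], [nat_lit 0, nat_lit 0], [((nat_lit 12), (nat_lit 1))]⟩,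
  ⟨true, (nat_lit 1), [nat_lit 0, nat_lit 1], [nat_lit 1, nat_lit 0], [((nat_lit 10), (nat_lit 1)), ((nat_lit 11), (nat_lit 4))]⟩,
  ⟨true, (nat_lit 0), [nat_lit 2, nat_lit 3], [nat_lit 3, nat_lit 2], [((nat_lit 10), (nat_lit 4))]⟩]
noncomputable def Ds5 : List (List (ℕ × ℕ)) := I5_0.map Pc.Idn.D
noncomputable def S5 : List (List (ℕ × ℕ)) := [[],
  [],
  [((nat_lit 7), (nat_lit 1))]]
noncomputable def Yo5 : List (List (ℕ × ℕ) × ℕ × ℕ) := []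
noncomputable def La5 : List ℕ := [nat_lit 0,
  nat_lit 0,
  nat_lit 0,
  nat_lit 0,
  nat_lit 0,
  nat_lit 0,
  nat_lit 0x64,
  nat_lit 0x78,
  nat_lit 1]
noncomputable def Wsx5 : List (List ℕ) := [[nat_lit 0, nat_lit 2, nat_lit 2],
  [nat_lit 0],
  [nat_lit 1]]
noncomputable def LDx5_1d : ℕ := nat_lit 0x390
noncomputable def LDx5_1 (u : ℕ) : ℕ := Nat.land (Nat.shiftRight LDx5_1d (Nat.mul u (nat_lit 2))) (nat_lit 3)
noncomputable def Ptx5_1d : ℕ := nat_lit 0x7ad6d1ad00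
noncomputable def Ptx5_1 (u : ℕ) : ℕ := Nat.land (Nat.shiftRight Ptx5_1d (Nat.mul u (nat_lit 8))) (nat_lit 255)
noncomputable def Qx5_1d : ℕ := nat_lit 0xc0010000000000000000000000000008000000000000000000000000000000000000100000000000000000000000000000000000000000000000000000000000000000000000000000000000000000000
noncomputable def Qx5_1 (u : ℕ) : ℕ := Nat.land (Nat.shiftRight Qx5_1d (Nat.mul u (nat_lit 3))) (nat_lit 7)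
noncomputable def lx5_1 : Lev := ⟨5, 1, LDx5_1, Ptx5_1, Qx5_1⟩
noncomputable def LDx5_0d : ℕ := nat_lit 0x3be35caca668e065755444e34a207185102040
noncomputable def LDx5_0 (u : ℕ) : ℕ := Nat.land (Nat.shiftRight LDx5_0d (Nat.mul u (nat_lit 6))) (nat_lit 63)
noncomputable def Ptx5_0d : ℕ := nat_lit 0xc78486d1cc32781c70ce18412245a8523170d95f32024bd613d86c03
noncomputable def Ptx5_0 (u : ℕ) : ℕ := Nat.land (Nat.shiftRight Ptx5_0d (Nat.mul u (nat_lit 9))) (nat_lit 511)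
noncomputable def Qx5_0d : ℕ := nat_lit 0x34000000002ee00000e000000000000000008000000000000000000000000000000000010000000000000400000006c0000a0c0001c8000009000000000000000000000000000000000000000000000000000540a000000000000000000000000000000000000000000000000000000000000030000000000000980000000000000000000000000011004000000f0000000000000000000000000b0000000000140000000000009000000000
noncomputable def Qx5_0 (u : ℕ) : ℕ := Nat.land (Nat.shiftRight Qx5_0d (Nat.mul u (nat_lit 5))) (nat_lit 31)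
noncomputable def lx5_0 : Lev := ⟨25, 3, LDx5_0, Ptx5_0, Qx5_0⟩
noncomputable def Lx5 : List Lev := [lx5_0, lx5_1]
noncomputable def Bx5 : List ℕ := [nat_lit 3, nat_lit 0]
noncomputable def Us3 : List (List ℕ) := [[nat_lit 1, nat_lit 2, nat_lit 3, nat_lit 1, nat_lit 2, nat_lit 0, nat_lit 3, nat_lit 2, nat_lit 1, nat_lit 3, nat_lit 2],
  [nat_lit 1, nat_lit 0, nat_lit 2, nat_lit 1, nat_lit 3, nat_lit 1, nat_lit 2, nat_lit 0, nat_lit 3, nat_lit 2, nat_lit 4, nat_lit 1, nat_lit 4],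
  [nat_lit 0, nat_lit 3, nat_lit 1, nat_lit 0, nat_lit 2, nat_lit 0, nat_lit 1, nat_lit 3, nat_lit 2, nat_lit 1, nat_lit 0, nat_lit 3, nat_lit 2],
  [nat_lit 4, nat_lit 0, nat_lit 2, nat_lit 0, nat_lit 1, nat_lit 2, nat_lit 4, nat_lit 3, nat_lit 2, nat_lit 1, nat_lit 0, nat_lit 2],
  [nat_lit 0, nat_lit 1, nat_lit 2, nat_lit 0, nat_lit 1, nat_lit 0, nat_lit 2, nat_lit 3, nat_lit 2, nat_lit 1, nat_lit 0, nat_lit 2, nat_lit 3],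
  [nat_lit 0, nat_lit 1, nat_lit 0, nat_lit 1, nat_lit 2, nat_lit 1, nat_lit 3, nat_lit 2, nat_lit 0, nat_lit 1, nat_lit 3]]
noncomputable def Fs3 : List (List ℕ) := [[nat_lit 0, nat_lit 5, nat_lit 0, nat_lit 1, nat_lit 0, nat_lit 2, nat_lit 1, nat_lit 0, nat_lit 3, nat_lit 2, nat_lit 0, nat_lit 4, nat_lit 3, nat_lit 1, nat_lit 2, nat_lit 0, nat_lit 1, nat_lit 0, nat_lit 5, nat_lit 0, nat_lit 1, nat_lit 2, nat_lit 3, nat_lit 5, nat_lit 4, nat_lit 5],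
  [nat_lit 0, nat_lit 1, nat_lit 0, nat_lit 2, nat_lit 0, nat_lit 1, nat_lit 2, nat_lit 3, nat_lit 2, nat_lit 1, nat_lit 0, nat_lit 3, nat_lit 2, nat_lit 1],
  [nat_lit 3, nat_lit 0, nat_lit 4, nat_lit 0, nat_lit 1, nat_lit 0, nat_lit 4, nat_lit 3, nat_lit 1, nat_lit 2, nat_lit 0, nat_lit 3, nat_lit 1, nat_lit 2],
  [nat_lit 3, nat_lit 2, nat_lit 0, nat_lit 1, nat_lit 0, nat_lit 2, nat_lit 0, nat_lit 1, nat_lit 0, nat_lit 4, nat_lit 3, nat_lit 2, nat_lit 0, nat_lit 1, nat_lit 2, nat_lit 3, nat_lit 1, nat_lit 5, nat_lit 2, nat_lit 3, nat_lit 1, nat_lit 2, nat_lit 5, nat_lit 0, nat_lit 1, nat_lit 4]]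
noncomputable def c3 : Pc := ⟨(nat_lit 2), (nat_lit 8), (nat_lit 6), (nat_lit 3), (nat_lit 14), (nat_lit 17),
  [[[]],
  [[nat_lit 1, nat_lit 3], [nat_lit 5, nat_lit 5]],
  [[nat_lit 2, nat_lit 3, nat_lit 5], [nat_lit 2, nat_lit 4], [nat_lit 5]],
  [[nat_lit 3, nat_lit 5], [nat_lit 3, nat_lit 5, nat_lit 5], [nat_lit 3, nat_lit 5], []],
  [[nat_lit 4, nat_lit 5], [nat_lit 4], [nat_lit 4, nat_lit 5], [nat_lit 4], []],
  [[nat_lit 5], [nat_lit 5], [nat_lit 5], [nat_lit 5], [nat_lit 5], []]],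
  [((nat_lit 2), [nat_lit 3], [nat_lit 3, nat_lit 3, nat_lit 5]),
  ((nat_lit 2), [nat_lit 0], [nat_lit 0, nat_lit 0, nat_lit 3, nat_lit 5]),
  ((nat_lit 2), [nat_lit 5], [nat_lit 5]),
  ((nat_lit 1), [nat_lit 4], [nat_lit 3, nat_lit 4]),
  ((nat_lit 1), [nat_lit 1], [nat_lit 0, nat_lit 1, nat_lit 2, nat_lit 3, nat_lit 3, nat_lit 4]),
  ((nat_lit 2), [nat_lit 2], [nat_lit 0, nat_lit 2, nat_lit 3, nat_lit 3, nat_lit 5, nat_lit 5]),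
  ((nat_lit 0), [nat_lit 3], [nat_lit 3, nat_lit 4, nat_lit 5]),
  ((nat_lit 0), [nat_lit 2], [nat_lit 1, nat_lit 1, nat_lit 3, nat_lit 3, nat_lit 4, nat_lit 4]),
  ((nat_lit 0), [nat_lit 5], [nat_lit 5]),
  ((nat_lit 3), [nat_lit 3], [nat_lit 1, nat_lit 2, nat_lit 2, nat_lit 5, nat_lit 5]),
  ((nat_lit 3), [nat_lit 1, nat_lit 2, nat_lit 2], [nat_lit 3, nat_lit 3]),
  ((nat_lit 3), [nat_lit 5], [nat_lit 5]),
  ((nat_lit 0), [nat_lit 1], [nat_lit 0, nat_lit 0, nat_lit 2, nat_lit 2, nat_lit 3, nat_lit 4, nat_lit 5]),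
  ((nat_lit 3), [nat_lit 0], [nat_lit 0, nat_lit 3, nat_lit 3, nat_lit 4, nat_lit 5, nat_lit 5])]⟩
noncomputable def I3_0 : List Pc.Idn := [⟨false, (nat_lit 0), [nat_lit 2], [nat_lit 2, nat_lit 2], [((nat_lit 46), (nat_lit 1))]⟩,
  ⟨false, (nat_lit 0), [nat_lit 5], [nat_lit 0, nat_lit 0], [((nat_lit 44), (nat_lit 3))]⟩,
  ⟨false, (nat_lit 0), [nat_lit 4], [nat_lit 3, nat_lit 3], [((nat_lit 41), (nat_lit 3))]⟩,
  ⟨false, (nat_lit 0), [nat_lit 5], [nat_lit 3, nat_lit 3], [((nat_lit 47), (nat_lit 3))]⟩,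
  ⟨false, (nat_lit 0), [nat_lit 4, nat_lit 4], [nat_lit 4, nat_lit 1], [((nat_lit 39), (nat_lit 6))]⟩,
  ⟨false, (nat_lit 0), [nat_lit 1], [nat_lit 1, nat_lit 1], [((nat_lit 45), (nat_lit 2))]⟩,
  ⟨false, (nat_lit 0), [nat_lit 4], [nat_lit 1, nat_lit 1], [((nat_lit 39), (nat_lit 3)), ((nat_lit 48), (nat_lit 2))]⟩,
  ⟨false, (nat_lit 0), [nat_lit 5], [nat_lit 1, nat_lit 0], [((nat_lit 47), (nat_lit 8))]⟩,
  ⟨false, (nat_lit 0), [nat_lit 3], [nat_lit 0, nat_lit 0], [((nat_lit 32), (nat_lit 3)), ((nat_lit 44), (nat_lit 3)), ((nat_lit 49), (nat_lit 1))]⟩,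
  ⟨false, (nat_lit 0), [nat_lit 3, nat_lit 3], [nat_lit 3, nat_lit 2], [((nat_lit 34), (nat_lit 6)), ((nat_lit 47), (nat_lit 6)), ((nat_lit 49), (nat_lit 8))]⟩,
  ⟨false, (nat_lit 0), [nat_lit 4, nat_lit 4], [nat_lit 4, nat_lit 2], [((nat_lit 40), (nat_lit 6)), ((nat_lit 48), (nat_lit 6)), ((nat_lit 49), (nat_lit 8))]⟩,
  ⟨false, (nat_lit 0), [nat_lit 3, nat_lit 3], [nat_lit 3, nat_lit 1], [((nat_lit 33), (nat_lit 6)), ((nat_lit 47), (nat_lit 6)), ((nat_lit 49), (nat_lit 7))]⟩,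
  ⟨false, (nat_lit 0), [nat_lit 4], [nat_lit 1, nat_lit 0], [((nat_lit 41), (nat_lit 8)), ((nat_lit 45), (nat_lit 8)), ((nat_lit 47), (nat_lit 8))]⟩,
  ⟨false, (nat_lit 0), [nat_lit 1], [nat_lit 0, nat_lit 0], [((nat_lit 20), (nat_lit 3)), ((nat_lit 32), (nat_lit 3)), ((nat_lit 35), (nat_lit 1)), ((nat_lit 44), (nat_lit 1)), ((nat_lit 47), (nat_lit 1)), ((nat_lit 49), (nat_lit 1))]⟩,
  ⟨false, (nat_lit 0), [nat_lit 3], [nat_lit 1, nat_lit 0], [((nat_lit 44), (nat_lit 2)), ((nat_lit 45), (nat_lit 8))]⟩,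
  ⟨false, (nat_lit 0), [nat_lit 2], [nat_lit 0, nat_lit 0], [((nat_lit 26), (nat_lit 3)), ((nat_lit 32), (nat_lit 3)), ((nat_lit 35), (nat_lit 1)), ((nat_lit 44), (nat_lit 1)), ((nat_lit 47), (nat_lit 4)), ((nat_lit 49), (nat_lit 2))]⟩,
  ⟨false, (nat_lit 0), [nat_lit 2, nat_lit 2], [nat_lit 2, nat_lit 1], [((nat_lit 27), (nat_lit 6)), ((nat_lit 40), (nat_lit 6)), ((nat_lit 42), (nat_lit 8)), ((nat_lit 45), (nat_lit 1)), ((nat_lit 46), (nat_lit 8)), ((nat_lit 48), (nat_lit 4)), ((nat_lit 49), (nat_lit 8))]⟩,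
  ⟨false, (nat_lit 0), [nat_lit 2], [nat_lit 1, nat_lit 0], [((nat_lit 33), (nat_lit 8)), ((nat_lit 34), (nat_lit 1)), ((nat_lit 38), (nat_lit 1)), ((nat_lit 41), (nat_lit 7)), ((nat_lit 45), (nat_lit 8)), ((nat_lit 47), (nat_lit 1)), ((nat_lit 48), (nat_lit 2))]⟩,
  ⟨true, (nat_lit 2), [nat_lit 0, nat_lit 1], [nat_lit 1, nat_lit 0, nat_lit 2], [((nat_lit 2), (nat_lit 1)), ((nat_lit 32), (nat_lit 6)), ((nat_lit 44), (nat_lit 8)), ((nat_lit 47), (nat_lit 7)), ((nat_lit 49), (nat_lit 8))]⟩,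
  ⟨true, (nat_lit 1), [nat_lit 3, nat_lit 4], [nat_lit 4, nat_lit 3], [((nat_lit 32), (nat_lit 8)), ((nat_lit 33), (nat_lit 8)), ((nat_lit 34), (nat_lit 8)), ((nat_lit 38), (nat_lit 8)), ((nat_lit 40), (nat_lit 8)), ((nat_lit 41), (nat_lit 8)), ((nat_lit 45), (nat_lit 7)), ((nat_lit 46), (nat_lit 8)), ((nat_lit 48), (nat_lit 5)), ((nat_lit 49), (nat_lit 7))]⟩,
  ⟨true, (nat_lit 2), [nat_lit 0, nat_lit 5], [nat_lit 5, nat_lit 0, nat_lit 2], [((nat_lit 2), (nat_lit 1)), ((nat_lit 32), (nat_lit 7)), ((nat_lit 34), (nat_lit 8)), ((nat_lit 44), (nat_lit 8)), ((nat_lit 47), (nat_lit 7)), ((nat_lit 49), (nat_lit 8))]⟩,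
  ⟨true, (nat_lit 0), [nat_lit 6, nat_lit 7], [nat_lit 7, nat_lit 6, nat_lit 8], [((nat_lit 8), (nat_lit 1)), ((nat_lit 33), (nat_lit 7)), ((nat_lit 34), (nat_lit 1)), ((nat_lit 39), (nat_lit 7)), ((nat_lit 45), (nat_lit 8)), ((nat_lit 47), (nat_lit 5)), ((nat_lit 48), (nat_lit 1)), ((nat_lit 49), (nat_lit 8))]⟩,
  ⟨true, (nat_lit 3), [nat_lit 9, nat_lit 10], [nat_lit 10, nat_lit 9, nat_lit 11], [((nat_lit 11), (nat_lit 1)), ((nat_lit 33), (nat_lit 3)), ((nat_lit 34), (nat_lit 6)), ((nat_lit 46), (nat_lit 3)), ((nat_lit 49), (nat_lit 4))]⟩,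
  ⟨true, (nat_lit 0), [nat_lit 6, nat_lit 12], [nat_lit 12, nat_lit 6, nat_lit 8, nat_lit 8], [((nat_lit 8), (nat_lit 2)), ((nat_lit 32), (nat_lit 7)), ((nat_lit 33), (nat_lit 1)), ((nat_lit 34), (nat_lit 7)), ((nat_lit 38), (nat_lit 7)), ((nat_lit 40), (nat_lit 7)), ((nat_lit 44), (nat_lit 8)), ((nat_lit 46), (nat_lit 6)), ((nat_lit 47), (nat_lit 1)), ((nat_lit 48), (nat_lit 6)), ((nat_lit 49), (nat_lit 7))]⟩,
  ⟨true, (nat_lit 3), [nat_lit 10, nat_lit 13], [nat_lit 13, nat_lit 10, nat_lit 11, nat_lit 11], [((nat_lit 11), (nat_lit 2)), ((nat_lit 20), (nat_lit 1)), ((nat_lit 26), (nat_lit 2)), ((nat_lit 32), (nat_lit 7)), ((nat_lit 34), (nat_lit 3)), ((nat_lit 35), (nat_lit 1)), ((nat_lit 41), (nat_lit 2)), ((nat_lit 46), (nat_lit 2)), ((nat_lit 47), (nat_lit 2)), ((nat_lit 48), (nat_lit 7)), ((nat_lit 49), (nat_lit 1))]⟩]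
noncomputable def Ds3 : List (List (ℕ × ℕ)) := I3_0.map Pc.Idn.D
noncomputable def S3 : List (List (ℕ × ℕ)) := [[],
  [],
  [],
  [((nat_lit 20), (nat_lit 1))],
  [((nat_lit 27), (nat_lit 1))],
  [((nat_lit 32), (nat_lit 1))]]
noncomputable def Yo3 : List (List (ℕ × ℕ) × ℕ × ℕ) := [([((nat_lit 20), (nat_lit 2)), ((nat_lit 26), (nat_lit 7)), ((nat_lit 33), (nat_lit 1))], (nat_lit 3), nat_lit 0x334c98a85515eec37090)]
noncomputable def La3 : List ℕ := [nat_lit 0,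
  nat_lit 0,
  nat_lit 0,
  nat_lit 0,
  nat_lit 0,
  nat_lit 0,
  nat_lit 0,
  nat_lit 0,
  nat_lit 0,
  nat_lit 0,
  nat_lit 0,
  nat_lit 0,
  nat_lit 0x4f74c5a495177c48b7288,
  nat_lit 0,
  nat_lit 0,
  nat_lit 0,
  nat_lit 0,
  nat_lit 0,
  nat_lit 0,
  nat_lit 0x49668185b8f8792b22506,
  nat_lit 0x1df374746086301d7a,
  nat_lit 0xd010f2098672,
  nat_lit 0,
  nat_lit 0,
  nat_lit 0x4964acfb51017c9550f77,
  nat_lit 0x17d4db04de749ffae44d7,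
  nat_lit 0xd88cb2c75894d23a8adb,
  nat_lit 0xb8f313ba337,
  nat_lit 0x201142eee202f804e1118,
  nat_lit 0,
  nat_lit 0x5da0e1e7435dd,
  nat_lit 0x288bb5,
  nat_lit 9,
  nat_lit 0xcd5014d,
  nat_lit 0x3cec38a558e9932e21aba,
  nat_lit 0x231c562a7a500]
noncomputable def Wsx3 : List (List ℕ) := [[nat_lit 0, nat_lit 1, nat_lit 2, nat_lit 2, nat_lit 3, nat_lit 4, nat_lit 4, nat_lit 5, nat_lit 5],
  [nat_lit 0, nat_lit 3, nat_lit 4, nat_lit 4, nat_lit 5],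
  [nat_lit 0],
  [nat_lit 3],
  [nat_lit 1]]
noncomputable def LDx3_3d : ℕ := nat_lit 4
noncomputable def LDx3_3 (u : ℕ) : ℕ := Nat.land (Nat.shiftRight LDx3_3d (Nat.mul u (nat_lit 1))) (nat_lit 1)
noncomputable def Ptx3_3d : ℕ := nat_lit 0x3f02
noncomputable def Ptx3_3 (u : ℕ) : ℕ := Nat.land (Nat.shiftRight Ptx3_3d (Nat.mul u (nat_lit 5))) (nat_lit 31)
noncomputable def Qx3_3d : ℕ := nat_lit 0x1000080000000
noncomputable def Qx3_3 (u : ℕ) : ℕ := Nat.land (Nat.shiftRight Qx3_3d (Nat.mul u (nat_lit 2))) (nat_lit 3)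
noncomputable def lx3_3 : Lev := ⟨3, 1, LDx3_3, Ptx3_3, Qx3_3⟩
noncomputable def LDx3_2d : ℕ := nat_lit 0x34
noncomputable def LDx3_2 (u : ℕ) : ℕ := Nat.land (Nat.shiftRight LDx3_2d (Nat.mul u (nat_lit 2))) (nat_lit 3)
noncomputable def Ptx3_2d : ℕ := nat_lit 0xa71f04
noncomputable def Ptx3_2 (u : ℕ) : ℕ := Nat.land (Nat.shiftRight Ptx3_2d (Nat.mul u (nat_lit 8))) (nat_lit 255)
noncomputable def Qx3_2d : ℕ := nat_lit 0x800000000000000000000000000000000000000000000000000000000000000000004000000000000000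
noncomputable def Qx3_2 (u : ℕ) : ℕ := Nat.land (Nat.shiftRight Qx3_2d (Nat.mul u (nat_lit 2))) (nat_lit 3)
noncomputable def lx3_2 : Lev := ⟨3, 2, LDx3_2, Ptx3_2, Qx3_2⟩
noncomputable def LDx3_1d : ℕ := nat_lit 0x3eef7cae9a389f79b5d64d038c2ca2481c6103080
noncomputable def LDx3_1 (u : ℕ) : ℕ := Nat.land (Nat.shiftRight LDx3_1d (Nat.mul u (nat_lit 6))) (nat_lit 63)
noncomputable def Ptx3_1d : ℕ := nat_lit 0x7d4e041f349f69a70441467e6736152e669a895a0a57ae834b088bf91601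
noncomputable def Ptx3_1 (u : ℕ) : ℕ := Nat.land (Nat.shiftRight Ptx3_1d (Nat.mul u (nat_lit 9))) (nat_lit 511)
noncomputable def Qx3_1d : ℕ := nat_lit 0x720000000000000000000000800a8000000000000000000000000300000013000000000e000005d80003c000000000000000000000001800000000000438120001a0c80008a80000000050000000000000000000800000000000000400000000000000000000000000000000000000000000000000000000000000000000000000000005c0000000000000000000000000000000000000d000001400000000000000000020000001800000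
noncomputable def Qx3_1 (u : ℕ) : ℕ := Nat.land (Nat.shiftRight Qx3_1d (Nat.mul u (nat_lit 5))) (nat_lit 31)
noncomputable def lx3_1 : Lev := ⟨27, 4, LDx3_1, Ptx3_1, Qx3_1⟩
noncomputable def LDx3_0d : ℕ := nat_lit 0x940
noncomputable def LDx3_0 (u : ℕ) : ℕ := Nat.land (Nat.shiftRight LDx3_0d (Nat.mul u (nat_lit 4))) (nat_lit 15)
noncomputable def Ptx3_0d : ℕ := nat_lit 0xef9c5d
noncomputable def Ptx3_0 (u : ℕ) : ℕ := Nat.land (Nat.shiftRight Ptx3_0d (Nat.mul u (nat_lit 8))) (nat_lit 255)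
noncomputable def Qx3_0d : ℕ := nat_lit 0x800000000000000000000000000000000000000001000000000000000000000000000000000000000000000000000000000000000000000000000000
noncomputable def Qx3_0 (u : ℕ) : ℕ := Nat.land (Nat.shiftRight Qx3_0d (Nat.mul u (nat_lit 2))) (nat_lit 3)
noncomputable def lx3_0 : Lev := ⟨3, 5, LDx3_0, Ptx3_0, Qx3_0⟩
noncomputable def Lx3 : List Lev := [lx3_0, lx3_1, lx3_2, lx3_3]
noncomputable def Bx3 : List ℕ := [nat_lit 93, nat_lit 1, nat_lit 4, nat_lit 2]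
noncomputable def Us2 : List (List ℕ) := [[nat_lit 3, nat_lit 1, nat_lit 2, nat_lit 3, nat_lit 1, nat_lit 4, nat_lit 3, nat_lit 1, nat_lit 2, nat_lit 0, nat_lit 3, nat_lit 1, nat_lit 0, nat_lit 2, nat_lit 1],
  [nat_lit 1, nat_lit 3, nat_lit 4, nat_lit 0, nat_lit 2, nat_lit 1, nat_lit 3, nat_lit 2, nat_lit 0, nat_lit 1, nat_lit 4, nat_lit 3, nat_lit 2, nat_lit 0, nat_lit 1, nat_lit 2],
  [nat_lit 3, nat_lit 4, nat_lit 1, nat_lit 2, nat_lit 1, nat_lit 0, nat_lit 3, nat_lit 2, nat_lit 1, nat_lit 0, nat_lit 4, nat_lit 3, nat_lit 2, nat_lit 1, nat_lit 3, nat_lit 4],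
  [nat_lit 2, nat_lit 1, nat_lit 0, nat_lit 2, nat_lit 1, nat_lit 0, nat_lit 3, nat_lit 1, nat_lit 2, nat_lit 3, nat_lit 4, nat_lit 3, nat_lit 1, nat_lit 2, nat_lit 0, nat_lit 3, nat_lit 4, nat_lit 1, nat_lit 4, nat_lit 0],
  [nat_lit 3, nat_lit 4, nat_lit 1, nat_lit 0, nat_lit 1, nat_lit 2, nat_lit 0, nat_lit 1, nat_lit 0, nat_lit 3, nat_lit 2, nat_lit 0, nat_lit 1, nat_lit 2, nat_lit 0, nat_lit 4, nat_lit 3, nat_lit 1, nat_lit 2, nat_lit 1],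
  [nat_lit 2, nat_lit 1, nat_lit 0, nat_lit 3, nat_lit 1, nat_lit 2, nat_lit 0, nat_lit 3, nat_lit 4, nat_lit 3, nat_lit 2, nat_lit 1, nat_lit 0, nat_lit 3, nat_lit 1, nat_lit 2],
  [nat_lit 1, nat_lit 0, nat_lit 2, nat_lit 1, nat_lit 0, nat_lit 3, nat_lit 2, nat_lit 1, nat_lit 3, nat_lit 4, nat_lit 3, nat_lit 2, nat_lit 0, nat_lit 1, nat_lit 3, nat_lit 2, nat_lit 1, nat_lit 4, nat_lit 1, nat_lit 4]]
noncomputable def Fs2 : List (List ℕ) := [[nat_lit 1, nat_lit 5, nat_lit 4, nat_lit 1, nat_lit 0, nat_lit 2, nat_lit 1, nat_lit 0, nat_lit 2, nat_lit 3, nat_lit 1, nat_lit 2, nat_lit 1, nat_lit 5, nat_lit 2, nat_lit 1, nat_lit 0, nat_lit 3, nat_lit 4],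
  [nat_lit 1, nat_lit 2, nat_lit 1, nat_lit 0, nat_lit 3, nat_lit 2, nat_lit 1, nat_lit 0, nat_lit 4, nat_lit 3],
  [nat_lit 4, nat_lit 1, nat_lit 2, nat_lit 1, nat_lit 3, nat_lit 2, nat_lit 0, nat_lit 1, nat_lit 4, nat_lit 3, nat_lit 2, nat_lit 0, nat_lit 1, nat_lit 2, nat_lit 0, nat_lit 3, nat_lit 1, nat_lit 4, nat_lit 5, nat_lit 0, nat_lit 1, nat_lit 3]]
noncomputable def c2 : Pc := ⟨(nat_lit 1), (nat_lit 1), (nat_lit 7), (nat_lit 3), (nat_lit 7), (nat_lit 10),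
  [[[nat_lit 3]],
  [[nat_lit 1, nat_lit 3], []],
  [[nat_lit 2, nat_lit 4], [nat_lit 2, nat_lit 3, nat_lit 6], [nat_lit 3, nat_lit 4]],
  [[nat_lit 3], [nat_lit 3], [nat_lit 3, nat_lit 5], []],
  [[nat_lit 4, nat_lit 5, nat_lit 6], [nat_lit 4, nat_lit 5], [nat_lit 4, nat_lit 5], [nat_lit 4, nat_lit 6], [nat_lit 6]],
  [[nat_lit 5, nat_lit 6], [nat_lit 5], [nat_lit 5, nat_lit 6], [nat_lit 5], [nat_lit 5], []],
  [[nat_lit 6], [nat_lit 6], [nat_lit 6], [nat_lit 6], [nat_lit 6], [nat_lit 6], []]],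
  [((nat_lit 1), [nat_lit 5], [nat_lit 3]),
  ((nat_lit 2), [nat_lit 3, nat_lit 4], [nat_lit 6]),
  ((nat_lit 0), [nat_lit 3], [nat_lit 3, nat_lit 6]),
  ((nat_lit 0), [nat_lit 0, nat_lit 2], [nat_lit 0, nat_lit 2, nat_lit 3, nat_lit 6]),
  ((nat_lit 0), [nat_lit 5], [nat_lit 5]),
  ((nat_lit 0), [nat_lit 4], [nat_lit 0, nat_lit 1, nat_lit 2, nat_lit 3, nat_lit 4, nat_lit 5, nat_lit 6]),
  ((nat_lit 0), [nat_lit 1], [nat_lit 1, nat_lit 3, nat_lit 5, nat_lit 6])]⟩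
noncomputable def I2_0 : List Pc.Idn := [⟨false, (nat_lit 0), [nat_lit 0], [nat_lit 0, nat_lit 0], [((nat_lit 28), (nat_lit 1))]⟩,
  ⟨false, (nat_lit 0), [nat_lit 4], [nat_lit 4, nat_lit 4], [((nat_lit 53), (nat_lit 1))]⟩,
  ⟨false, (nat_lit 0), [nat_lit 1], [nat_lit 1, nat_lit 0], [((nat_lit 29), (nat_lit 1)), ((nat_lit 31), (nat_lit 1))]⟩,
  ⟨false, (nat_lit 0), [nat_lit 5], [nat_lit 5, nat_lit 0], [((nat_lit 54), (nat_lit 1)), ((nat_lit 55), (nat_lit 1))]⟩,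
  ⟨false, (nat_lit 0), [nat_lit 6], [nat_lit 0, nat_lit 0], [((nat_lit 52), (nat_lit 1))]⟩,
  ⟨false, (nat_lit 0), [nat_lit 4], [nat_lit 1, nat_lit 1], [((nat_lit 43), (nat_lit 1)), ((nat_lit 47), (nat_lit 1))]⟩,
  ⟨false, (nat_lit 0), [nat_lit 3], [nat_lit 3, nat_lit 2], [((nat_lit 45), (nat_lit 1)), ((nat_lit 47), (nat_lit 1))]⟩,
  ⟨false, (nat_lit 0), [nat_lit 4], [nat_lit 3, nat_lit 3], [((nat_lit 52), (nat_lit 1)), ((nat_lit 55), (nat_lit 1))]⟩,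
  ⟨false, (nat_lit 0), [nat_lit 5], [nat_lit 0, nat_lit 0], [((nat_lit 45), (nat_lit 1)), ((nat_lit 49), (nat_lit 1)), ((nat_lit 55), (nat_lit 1))]⟩,
  ⟨false, (nat_lit 0), [nat_lit 2], [nat_lit 2, nat_lit 2], [((nat_lit 30), (nat_lit 1)), ((nat_lit 37), (nat_lit 1)), ((nat_lit 46), (nat_lit 1)), ((nat_lit 47), (nat_lit 1))]⟩,
  ⟨false, (nat_lit 0), [nat_lit 2], [nat_lit 1, nat_lit 1], [((nat_lit 29), (nat_lit 1)), ((nat_lit 31), (nat_lit 1)), ((nat_lit 50), (nat_lit 1)), ((nat_lit 52), (nat_lit 1)), ((nat_lit 55), (nat_lit 1))]⟩,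
  ⟨false, (nat_lit 0), [nat_lit 4], [nat_lit 4, nat_lit 1], [((nat_lit 46), (nat_lit 1)), ((nat_lit 47), (nat_lit 1)), ((nat_lit 50), (nat_lit 1))]⟩,
  ⟨false, (nat_lit 0), [nat_lit 4], [nat_lit 4, nat_lit 2], [((nat_lit 46), (nat_lit 1)), ((nat_lit 47), (nat_lit 1)), ((nat_lit 51), (nat_lit 1))]⟩,
  ⟨false, (nat_lit 0), [nat_lit 4], [nat_lit 4, nat_lit 0], [((nat_lit 46), (nat_lit 1)), ((nat_lit 47), (nat_lit 1)), ((nat_lit 49), (nat_lit 1)), ((nat_lit 53), (nat_lit 1)), ((nat_lit 54), (nat_lit 1)), ((nat_lit 55), (nat_lit 1))]⟩,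
  ⟨false, (nat_lit 0), [nat_lit 4], [nat_lit 0, nat_lit 0], [((nat_lit 38), (nat_lit 1)), ((nat_lit 42), (nat_lit 1)), ((nat_lit 47), (nat_lit 1)), ((nat_lit 49), (nat_lit 1)), ((nat_lit 54), (nat_lit 1)), ((nat_lit 55), (nat_lit 1))]⟩,
  ⟨false, (nat_lit 0), [nat_lit 3], [nat_lit 2, nat_lit 2], [((nat_lit 38), (nat_lit 1)), ((nat_lit 44), (nat_lit 1)), ((nat_lit 47), (nat_lit 1)), ((nat_lit 55), (nat_lit 1))]⟩,
  ⟨false, (nat_lit 0), [nat_lit 2], [nat_lit 0, nat_lit 0], [((nat_lit 30), (nat_lit 1)), ((nat_lit 35), (nat_lit 1)), ((nat_lit 39), (nat_lit 1)), ((nat_lit 47), (nat_lit 1)), ((nat_lit 55), (nat_lit 1))]⟩,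
  ⟨false, (nat_lit 0), [nat_lit 2], [nat_lit 2, nat_lit 1], [((nat_lit 29), (nat_lit 1)), ((nat_lit 30), (nat_lit 1)), ((nat_lit 31), (nat_lit 1)), ((nat_lit 36), (nat_lit 1)), ((nat_lit 45), (nat_lit 1)), ((nat_lit 51), (nat_lit 1))]⟩,
  ⟨true, (nat_lit 1), [nat_lit 0, nat_lit 0], [], [((nat_lit 31), (nat_lit 1)), ((nat_lit 47), (nat_lit 1))]⟩,
  ⟨true, (nat_lit 2), [nat_lit 1, nat_lit 1], [], [((nat_lit 31), (nat_lit 1)), ((nat_lit 38), (nat_lit 1)), ((nat_lit 39), (nat_lit 1)), ((nat_lit 53), (nat_lit 1))]⟩,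
  ⟨true, (nat_lit 0), [nat_lit 2, nat_lit 3], [nat_lit 3, nat_lit 2, nat_lit 4], [((nat_lit 4), (nat_lit 1)), ((nat_lit 45), (nat_lit 1)), ((nat_lit 49), (nat_lit 1)), ((nat_lit 51), (nat_lit 1))]⟩,
  ⟨true, (nat_lit 0), [nat_lit 5, nat_lit 6], [nat_lit 6, nat_lit 5, nat_lit 4], [((nat_lit 4), (nat_lit 1)), ((nat_lit 14), (nat_lit 1)), ((nat_lit 22), (nat_lit 1)), ((nat_lit 28), (nat_lit 1)), ((nat_lit 29), (nat_lit 1)), ((nat_lit 38), (nat_lit 1)), ((nat_lit 42), (nat_lit 1)), ((nat_lit 44), (nat_lit 1)), ((nat_lit 45), (nat_lit 1)), ((nat_lit 46), (nat_lit 1)), ((nat_lit 49), (nat_lit 1)), ((nat_lit 50), (nat_lit 1))]⟩]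
noncomputable def Ds2 : List (List (ℕ × ℕ)) := I2_0.map Pc.Idn.D
noncomputable def S2 : List (List (ℕ × ℕ)) := [[],
  [],
  [],
  [((nat_lit 14), (nat_lit 1))],
  [((nat_lit 21), (nat_lit 1))],
  [((nat_lit 30), (nat_lit 1))],
  [((nat_lit 42), (nat_lit 1))]]
noncomputable def Yo2 : List (List (ℕ × ℕ) × ℕ × ℕ) := []
noncomputable def La2 : List ℕ := [nat_lit 0,
  nat_lit 0,
  nat_lit 0,
  nat_lit 0,
  nat_lit 0,
  nat_lit 0,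
  nat_lit 0,
  nat_lit 0,
  nat_lit 0,
  nat_lit 0,
  nat_lit 0,
  nat_lit 0,
  nat_lit 0,
  nat_lit 0,
  nat_lit 0,
  nat_lit 0x34b94f,
  nat_lit 0,
  nat_lit 0,
  nat_lit 0,
  nat_lit 0,
  nat_lit 0,
  nat_lit 1,
  nat_lit 0x42d5a,
  nat_lit 0,
  nat_lit 0x42d5e,
  nat_lit 0,
  nat_lit 0,
  nat_lit 0,
  nat_lit 0xd414a,
  nat_lit 0x2319e,
  nat_lit 0xe84,
  nat_lit 0x41d8,
  nat_lit 0xc6c84,
  nat_lit 0,
  nat_lit 0,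
  nat_lit 0,
  nat_lit 0x2d7e,
  nat_lit 0xec16,
  nat_lit 0x2d1e,
  nat_lit 0x21da,
  nat_lit 0x2d5e,
  nat_lit 0,
  nat_lit 0x2c8e,
  nat_lit 0x484,
  nat_lit 0x1c84,
  nat_lit 0x10,
  nat_lit 2,
  nat_lit 0x98,
  nat_lit 0x90]
noncomputable def Wsx2 : List (List ℕ) := [[nat_lit 3, nat_lit 4],
  [nat_lit 6],
  [nat_lit 5],
  [nat_lit 0, nat_lit 1, nat_lit 2, nat_lit 4],
  [nat_lit 1],
  [nat_lit 3],
  [nat_lit 0]]
noncomputable def LDx2_4d : ℕ := nat_lit 0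
noncomputable def LDx2_4 (u : ℕ) : ℕ := Nat.land (Nat.shiftRight LDx2_4d (Nat.mul u (nat_lit 1))) (nat_lit 1)
noncomputable def Ptx2_4d : ℕ := nat_lit 0x3802
noncomputable def Ptx2_4 (u : ℕ) : ℕ := Nat.land (Nat.shiftRight Ptx2_4d (Nat.mul u (nat_lit 7))) (nat_lit 127)
noncomputable def Qx2_4d : ℕ := nat_lit 0x10000000000000000000000000000
noncomputable def Qx2_4 (u : ℕ) : ℕ := Nat.land (Nat.shiftRight Qx2_4d (Nat.mul u (nat_lit 1))) (nat_lit 1)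
noncomputable def lx2_4 : Lev := ⟨2, 1, LDx2_4, Ptx2_4, Qx2_4⟩
noncomputable def LDx2_3d : ℕ := nat_lit 2
noncomputable def LDx2_3 (u : ℕ) : ℕ := Nat.land (Nat.shiftRight LDx2_3d (Nat.mul u (nat_lit 1))) (nat_lit 1)
noncomputable def Ptx2_3d : ℕ := nat_lit 0x3a8b
noncomputable def Ptx2_3 (u : ℕ) : ℕ := Nat.land (Nat.shiftRight Ptx2_3d (Nat.mul u (nat_lit 7))) (nat_lit 127)
noncomputable def Qx2_3d : ℕ := nat_lit 0x200000000000000000000000000000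
noncomputable def Qx2_3 (u : ℕ) : ℕ := Nat.land (Nat.shiftRight Qx2_3d (Nat.mul u (nat_lit 1))) (nat_lit 1)
noncomputable def lx2_3 : Lev := ⟨2, 2, LDx2_3, Ptx2_3, Qx2_3⟩
noncomputable def LDx2_2d : ℕ := nat_lit 0xed0
noncomputable def LDx2_2 (u : ℕ) : ℕ := Nat.land (Nat.shiftRight LDx2_2d (Nat.mul u (nat_lit 3))) (nat_lit 7)
noncomputable def Ptx2_2d : ℕ := nat_lit 0xb1f9d301
noncomputable def Ptx2_2 (u : ℕ) : ℕ := Nat.land (Nat.shiftRight Ptx2_2d (Nat.mul u (nat_lit 8))) (nat_lit 255)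
noncomputable def Qx2_2d : ℕ := nat_lit 0x800000000000000000040000000000000000c0000000000000000000000000000000000000000000000000000000000000000000000000000000000000000
noncomputable def Qx2_2 (u : ℕ) : ℕ := Nat.land (Nat.shiftRight Qx2_2d (Nat.mul u (nat_lit 2))) (nat_lit 3)
noncomputable def lx2_2 : Lev := ⟨4, 4, LDx2_2, Ptx2_2, Qx2_2⟩
noncomputable def LDx2_1d : ℕ := nat_lit 0xb540
noncomputable def LDx2_1 (u : ℕ) : ℕ := Nat.land (Nat.shiftRight LDx2_1d (Nat.mul u (nat_lit 4))) (nat_lit 15)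
noncomputable def Ptx2_1d : ℕ := nat_lit 0xbba28308
noncomputable def Ptx2_1 (u : ℕ) : ℕ := Nat.land (Nat.shiftRight Ptx2_1d (Nat.mul u (nat_lit 8))) (nat_lit 255)
noncomputable def Qx2_1d : ℕ := nat_lit 0xc000000000002000000000000000400000000000000000000000000000000000000000000000000000000000000000
noncomputable def Qx2_1 (u : ℕ) : ℕ := Nat.land (Nat.shiftRight Qx2_1d (Nat.mul u (nat_lit 2))) (nat_lit 3)
noncomputable def lx2_1 : Lev := ⟨4, 6, LDx2_1, Ptx2_1, Qx2_1⟩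
noncomputable def LDx2_0d : ℕ := nat_lit 0x30
noncomputable def LDx2_0 (u : ℕ) : ℕ := Nat.land (Nat.shiftRight LDx2_0d (Nat.mul u (nat_lit 3))) (nat_lit 7)
noncomputable def Ptx2_0d : ℕ := nat_lit 0xf264
noncomputable def Ptx2_0 (u : ℕ) : ℕ := Nat.land (Nat.shiftRight Ptx2_0d (Nat.mul u (nat_lit 8))) (nat_lit 255)
noncomputable def Qx2_0d : ℕ := nat_lit 0x4000000000000000000000000000000000000000000000000000000000000
noncomputable def Qx2_0 (u : ℕ) : ℕ := Nat.land (Nat.shiftRight Qx2_0d (Nat.mul u (nat_lit 1))) (nat_lit 1)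
noncomputable def lx2_0 : Lev := ⟨2, 7, LDx2_0, Ptx2_0, Qx2_0⟩
noncomputable def Lx2 : List Lev := [lx2_0, lx2_1, lx2_2, lx2_3, lx2_4]
noncomputable def Bx2 : List ℕ := [nat_lit 100, nat_lit 8, nat_lit 1, nat_lit 11, nat_lit 2]

theorem id5_0 : c5.idnChk (nat_lit 43) I5_0 = true := by decide +kernel
theorem rw5_0 : c5.rowChk S5 (Yo5.map (·.1) ++ Ds5) La5 (nat_lit 0) (nat_lit 9) = true := by decide +kernel
theorem ord5 : c5.ordChk Yo5 Ds5 = true := by decide +kernel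
theorem rule5_0 : allZ (c5.ruleEnt (wdsP H15.McL.P Us5) H15.McL.B) (nat_lit 0) (nat_lit 9) = true := by decide +kernel
theorem fus5_0 : allZ (c5.fusEnt (wdsP H15.McL.P Us5) (wdsP H15.McL.P Fs5) H15.McL.B) (nat_lit 0) (nat_lit 4) = true := by decide +kernel
theorem lvx5_1e_0 : allZ (lx5_1.ent (wdsP (wdsP H15.McL.P Us5) Wsx5)) (nat_lit 0) (nat_lit 4) = true := by decide +kernel
theorem lvx5_1b : 0 < lx5_1.n ∧ 0 < lx5_1.K ∧ lx5_1.Pt 0 < 275 ∧ lx5_1.Q (lx5_1.Pt 0) = 0 ∧ 0 ≤ lx5_1.K ∧ fixLetters (wdsP (wdsP H15.McL.P Us5) Wsx5) (nat_lit 0) (lx5_1.Pt 0) = true := by decide +kernel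
theorem lvx5_0e_0 : allZ (lx5_0.ent (wdsP (wdsP H15.McL.P Us5) Wsx5)) (nat_lit 0) (nat_lit 24) = true := by decide +kernel
theorem lvx5_0b : 0 < lx5_0.n ∧ 0 < lx5_0.K ∧ lx5_0.Pt 0 < 275 ∧ lx5_0.Q (lx5_0.Pt 0) = 0 ∧ 1 ≤ lx5_0.K ∧ fixLetters (wdsP (wdsP H15.McL.P Us5) Wsx5) (nat_lit 1) (lx5_0.Pt 0) = true := by decide +kernel
theorem basex5 : chainBase Lx5 = Bx5 ∧ ltAll (nat_lit 275) Bx5 = 0 ∧ topK Lx5 = 3 := by decide +kernel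
theorem h0_5 : allL (ltAll 6) Us5 = true ∧ allL (ltAll 6) Fs5 = true ∧ Us5.length ≤ c5.n ∧ 0 < 898128000 := by decide +kernel
theorem h1_5 : allL (ltAll c5.n) Wsx5 = true ∧ chainCard Lx5 = (c5.p1 + 1) ^ c5.n ∧ c5.n * c5.n = 9 := by decide +kernel
theorem h2_5 : c5.Fmt ∧ c5.p1 + 1 = 5 ∧ c5.N1 + 1 = 5 ^ (0 + 1) ∧ 898128000 = 5 ^ c5.n * (898128000 / 5 ^ c5.n) ∧
    Nat.Coprime (898128000 / 5 ^ c5.n) (c5.N1 + 1) ∧ (Yo5.map (·.2.1)).prod ≤ 5 ^ 0 ∧ c5.n * c5.n = 9 := by decide +kernel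
theorem h3_5 : c5.C = 4 := by decide +kernel
theorem id3_0 : c3.idnChk (nat_lit 54) I3_0 = true := by decide +kernel
theorem rw3_0 : c3.rowChk S3 (Yo3.map (·.1) ++ Ds3) La3 (nat_lit 0) (nat_lit 36) = true := by decide +kernel
theorem ord3 : c3.ordChk Yo3 Ds3 = true := by decide +kernel
theorem rule3_0 : allZ (c3.ruleEnt (wdsP H15.McL.P Us3) H15.McL.B) (nat_lit 0) (nat_lit 36) = true := by decide +kernel
theorem fus3_0 : allZ (c3.fusEnt (wdsP H15.McL.P Us3) (wdsP H15.McL.P Fs3) H15.McL.B) (nat_lit 0) (nat_lit 14) = true := by decide +kernel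
theorem lvx3_3e_0 : allZ (lx3_3.ent (wdsP (wdsP H15.McL.P Us3) Wsx3)) (nat_lit 0) (nat_lit 2) = true := by decide +kernel
theorem lvx3_3b : 0 < lx3_3.n ∧ 0 < lx3_3.K ∧ lx3_3.Pt 0 < 275 ∧ lx3_3.Q (lx3_3.Pt 0) = 0 ∧ 0 ≤ lx3_3.K ∧ fixLetters (wdsP (wdsP H15.McL.P Us3) Wsx3) (nat_lit 0) (lx3_3.Pt 0) = true := by decide +kernel
theorem lvx3_2e_0 : allZ (lx3_2.ent (wdsP (wdsP H15.McL.P Us3) Wsx3)) (nat_lit 0) (nat_lit 2) = true := by decide +kernel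
theorem lvx3_2b : 0 < lx3_2.n ∧ 0 < lx3_2.K ∧ lx3_2.Pt 0 < 275 ∧ lx3_2.Q (lx3_2.Pt 0) = 0 ∧ 1 ≤ lx3_2.K ∧ fixLetters (wdsP (wdsP H15.McL.P Us3) Wsx3) (nat_lit 1) (lx3_2.Pt 0) = true := by decide +kernel
theorem lvx3_1e_0 : allZ (lx3_1.ent (wdsP (wdsP H15.McL.P Us3) Wsx3)) (nat_lit 0) (nat_lit 26) = true := by decide +kernel
theorem lvx3_1b : 0 < lx3_1.n ∧ 0 < lx3_1.K ∧ lx3_1.Pt 0 < 275 ∧ lx3_1.Q (lx3_1.Pt 0) = 0 ∧ 2 ≤ lx3_1.K ∧ fixLetters (wdsP (wdsP H15.McL.P Us3) Wsx3) (nat_lit 2) (lx3_1.Pt 0) = true := by decide +kernel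
theorem lvx3_0e_0 : allZ (lx3_0.ent (wdsP (wdsP H15.McL.P Us3) Wsx3)) (nat_lit 0) (nat_lit 2) = true := by decide +kernel
theorem lvx3_0b : 0 < lx3_0.n ∧ 0 < lx3_0.K ∧ lx3_0.Pt 0 < 275 ∧ lx3_0.Q (lx3_0.Pt 0) = 0 ∧ 4 ≤ lx3_0.K ∧ fixLetters (wdsP (wdsP H15.McL.P Us3) Wsx3) (nat_lit 4) (lx3_0.Pt 0) = true := by decide +kernel
theorem basex3 : chainBase Lx3 = Bx3 ∧ ltAll (nat_lit 275) Bx3 = 0 ∧ topK Lx3 = 5 := by decide +kernel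
theorem h0_3 : allL (ltAll 6) Us3 = true ∧ allL (ltAll 6) Fs3 = true ∧ Us3.length ≤ c3.n ∧ 0 < 898128000 := by decide +kernel
theorem h1_3 : allL (ltAll c3.n) Wsx3 = true ∧ chainCard Lx3 = (c3.p1 + 1) ^ c3.n ∧ c3.n * c3.n = 36 := by decide +kernel
theorem h2_3 : c3.Fmt ∧ c3.p1 + 1 = 3 ∧ c3.N1 + 1 = 3 ^ (1 + 1) ∧ 898128000 = 3 ^ c3.n * (898128000 / 3 ^ c3.n) ∧
    Nat.Coprime (898128000 / 3 ^ c3.n) (c3.N1 + 1) ∧ (Yo3.map (·.2.1)).prod ≤ 3 ^ 1 ∧ c3.n * c3.n = 36 := by decide +kernel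
theorem h3_3 : c3.C = 14 := by decide +kernel
theorem id2_0 : c2.idnChk (nat_lit 39) I2_0 = true := by decide +kernel
theorem rw2_0 : c2.rowChk S2 (Yo2.map (·.1) ++ Ds2) La2 (nat_lit 0) (nat_lit 49) = true := by decide +kernel
theorem ord2 : c2.ordChk Yo2 Ds2 = true := by decide +kernel
theorem rule2_0 : allZ (c2.ruleEnt (wdsP H15.McL.P Us2) H15.McL.B) (nat_lit 0) (nat_lit 49) = true := by decide +kernel
theorem fus2_0 : allZ (c2.fusEnt (wdsP H15.McL.P Us2) (wdsP H15.McL.P Fs2) H15.McL.B) (nat_lit 0) (nat_lit 7) = true := by decide +kernel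
theorem lvx2_4e_0 : allZ (lx2_4.ent (wdsP (wdsP H15.McL.P Us2) Wsx2)) (nat_lit 0) (nat_lit 1) = true := by decide +kernel
theorem lvx2_4b : 0 < lx2_4.n ∧ 0 < lx2_4.K ∧ lx2_4.Pt 0 < 275 ∧ lx2_4.Q (lx2_4.Pt 0) = 0 ∧ 0 ≤ lx2_4.K ∧ fixLetters (wdsP (wdsP H15.McL.P Us2) Wsx2) (nat_lit 0) (lx2_4.Pt 0) = true := by decide +kernel
theorem lvx2_3e_0 : allZ (lx2_3.ent (wdsP (wdsP H15.McL.P Us2) Wsx2)) (nat_lit 0) (nat_lit 1) = true := by decide +kernel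
theorem lvx2_3b : 0 < lx2_3.n ∧ 0 < lx2_3.K ∧ lx2_3.Pt 0 < 275 ∧ lx2_3.Q (lx2_3.Pt 0) = 0 ∧ 1 ≤ lx2_3.K ∧ fixLetters (wdsP (wdsP H15.McL.P Us2) Wsx2) (nat_lit 1) (lx2_3.Pt 0) = true := by decide +kernel
theorem lvx2_2e_0 : allZ (lx2_2.ent (wdsP (wdsP H15.McL.P Us2) Wsx2)) (nat_lit 0) (nat_lit 3) = true := by decide +kernel
theorem lvx2_2b : 0 < lx2_2.n ∧ 0 < lx2_2.K ∧ lx2_2.Pt 0 < 275 ∧ lx2_2.Q (lx2_2.Pt 0) = 0 ∧ 2 ≤ lx2_2.K ∧ fixLetters (wdsP (wdsP H15.McL.P Us2) Wsx2) (nat_lit 2) (lx2_2.Pt 0) = true := by decide +kernel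
theorem lvx2_1e_0 : allZ (lx2_1.ent (wdsP (wdsP H15.McL.P Us2) Wsx2)) (nat_lit 0) (nat_lit 3) = true := by decide +kernel
theorem lvx2_1b : 0 < lx2_1.n ∧ 0 < lx2_1.K ∧ lx2_1.Pt 0 < 275 ∧ lx2_1.Q (lx2_1.Pt 0) = 0 ∧ 4 ≤ lx2_1.K ∧ fixLetters (wdsP (wdsP H15.McL.P Us2) Wsx2) (nat_lit 4) (lx2_1.Pt 0) = true := by decide +kernel
theorem lvx2_0e_0 : allZ (lx2_0.ent (wdsP (wdsP H15.McL.P Us2) Wsx2)) (nat_lit 0) (nat_lit 1) = true := by decide +kernel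
theorem lvx2_0b : 0 < lx2_0.n ∧ 0 < lx2_0.K ∧ lx2_0.Pt 0 < 275 ∧ lx2_0.Q (lx2_0.Pt 0) = 0 ∧ 6 ≤ lx2_0.K ∧ fixLetters (wdsP (wdsP H15.McL.P Us2) Wsx2) (nat_lit 6) (lx2_0.Pt 0) = true := by decide +kernel
theorem basex2 : chainBase Lx2 = Bx2 ∧ ltAll (nat_lit 275) Bx2 = 0 ∧ topK Lx2 = 7 := by decide +kernel
theorem h0_2 : allL (ltAll 6) Us2 = true ∧ allL (ltAll 6) Fs2 = true ∧ Us2.length ≤ c2.n ∧ 0 < 898128000 := by decide +kernel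
theorem h1_2 : allL (ltAll c2.n) Wsx2 = true ∧ chainCard Lx2 = (c2.p1 + 1) ^ c2.n ∧ c2.n * c2.n = 49 := by decide +kernel
theorem h2_2 : c2.Fmt ∧ c2.p1 + 1 = 2 ∧ c2.N1 + 1 = 2 ^ (0 + 1) ∧ 898128000 = 2 ^ c2.n * (898128000 / 2 ^ c2.n) ∧
    Nat.Coprime (898128000 / 2 ^ c2.n) (c2.N1 + 1) ∧ (Yo2.map (·.2.1)).prod ≤ 2 ^ 0 ∧ c2.n * c2.n = 49 := by decide +kernel
theorem h3_2 : c2.C = 7 := by decide +kernel

instance fin : Finite (gen H15.McL.g 6) := Nat.finite_of_card_ne_zero (by rw [H15.McL.card]; decide)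
theorem zero5 : ∀ D ∈ Ds5, c5.Zero D := (Pc.zero_of_chk id5_0)
theorem rows5 : ∀ r < 9, c5.Row S5 (Yo5.map (·.1)) r :=
  (Pc.rows_glue zero5 Pc.rows_zero rw5_0)
theorem rule5 : ∀ i < 9, (c5.ruleEnt (wdsP H15.McL.P Us5) H15.McL.B) i = 0 := allZ_sound0 rule5_0
theorem fus5 : ∀ i < 4, (c5.fusEnt (wdsP H15.McL.P Us5) (wdsP H15.McL.P Fs5) H15.McL.B) i = 0 := allZ_sound0 fus5_0
theorem lvx5_1e : ∀ i < 4, (lx5_1.ent (wdsP (wdsP H15.McL.P Us5) Wsx5)) i = 0 := allZ_sound0 lvx5_1e_0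
theorem lvx5_0e : ∀ i < 24, (lx5_0.ent (wdsP (wdsP H15.McL.P Us5) Wsx5)) i = 0 := allZ_sound0 lvx5_0e_0
theorem lowx5 : LowChain (wdsP (wdsP H15.McL.P Us5) Wsx5) 275 Lx5 :=
  ⟨⟨lvx5_0b.1, lvx5_0b.2.1, lvx5_0b.2.2.1, lvx5_0b.2.2.2.1, lvx5_0e⟩, lvx5_0b.2.2.2.2.1, lvx5_0b.2.2.2.2.2, ⟨⟨lvx5_1b.1, lvx5_1b.2.1, lvx5_1b.2.2.1, lvx5_1b.2.2.2.1, lvx5_1e⟩, lvx5_1b.2.2.2.2.1, lvx5_1b.2.2.2.2.2, trivial⟩⟩
theorem pb5 : PB (gen H15.McL.g 6) (5 ^ (0 + 1)) :=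
  (Pc.gok_wds H15.McL.act H15.McL.card H15.McL.inj H15.McL.Blt H15.McL.isBase h0_5 h1_5 rule5
    (fun r h => fus5 r (h.trans_eq h3_5)) lowx5).pb (by norm_num) H15.McL.card zero5 rows5 ord5 h2_5
theorem zero3 : ∀ D ∈ Ds3, c3.Zero D := (Pc.zero_of_chk id3_0)
theorem rows3 : ∀ r < 36, c3.Row S3 (Yo3.map (·.1)) r :=
  (Pc.rows_glue zero3 Pc.rows_zero rw3_0)
theorem rule3 : ∀ i < 36, (c3.ruleEnt (wdsP H15.McL.P Us3) H15.McL.B) i = 0 := allZ_sound0 rule3_0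
theorem fus3 : ∀ i < 14, (c3.fusEnt (wdsP H15.McL.P Us3) (wdsP H15.McL.P Fs3) H15.McL.B) i = 0 := allZ_sound0 fus3_0
theorem lvx3_3e : ∀ i < 2, (lx3_3.ent (wdsP (wdsP H15.McL.P Us3) Wsx3)) i = 0 := allZ_sound0 lvx3_3e_0
theorem lvx3_2e : ∀ i < 2, (lx3_2.ent (wdsP (wdsP H15.McL.P Us3) Wsx3)) i = 0 := allZ_sound0 lvx3_2e_0
theorem lvx3_1e : ∀ i < 26, (lx3_1.ent (wdsP (wdsP H15.McL.P Us3) Wsx3)) i = 0 := allZ_sound0 lvx3_1e_0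
theorem lvx3_0e : ∀ i < 2, (lx3_0.ent (wdsP (wdsP H15.McL.P Us3) Wsx3)) i = 0 := allZ_sound0 lvx3_0e_0
theorem lowx3 : LowChain (wdsP (wdsP H15.McL.P Us3) Wsx3) 275 Lx3 :=
  ⟨⟨lvx3_0b.1, lvx3_0b.2.1, lvx3_0b.2.2.1, lvx3_0b.2.2.2.1, lvx3_0e⟩, lvx3_0b.2.2.2.2.1, lvx3_0b.2.2.2.2.2, ⟨⟨lvx3_1b.1, lvx3_1b.2.1, lvx3_1b.2.2.1, lvx3_1b.2.2.2.1, lvx3_1e⟩, lvx3_1b.2.2.2.2.1, lvx3_1b.2.2.2.2.2, ⟨⟨lvx3_2b.1, lvx3_2b.2.1, lvx3_2b.2.2.1, lvx3_2b.2.2.2.1, lvx3_2e⟩, lvx3_2b.2.2.2.2.1, lvx3_2b.2.2.2.2.2, ⟨⟨lvx3_3b.1, lvx3_3b.2.1, lvx3_3b.2.2.1, lvx3_3b.2.2.2.1, lvx3_3e⟩, lvx3_3b.2.2.2.2.1, lvx3_3b.2.2.2.2.2, trivial⟩⟩⟩⟩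
theorem pb3 : PB (gen H15.McL.g 6) (3 ^ (1 + 1)) :=
  (Pc.gok_wds H15.McL.act H15.McL.card H15.McL.inj H15.McL.Blt H15.McL.isBase h0_3 h1_3 rule3
    (fun r h => fus3 r (h.trans_eq h3_3)) lowx3).pb (by norm_num) H15.McL.card zero3 rows3 ord3 h2_3
theorem zero2 : ∀ D ∈ Ds2, c2.Zero D := (Pc.zero_of_chk id2_0)
theorem rows2 : ∀ r < 49, c2.Row S2 (Yo2.map (·.1)) r :=
  (Pc.rows_glue zero2 Pc.rows_zero rw2_0)
theorem rule2 : ∀ i < 49, (c2.ruleEnt (wdsP H15.McL.P Us2) H15.McL.B) i = 0 := allZ_sound0 rule2_0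
theorem fus2 : ∀ i < 7, (c2.fusEnt (wdsP H15.McL.P Us2) (wdsP H15.McL.P Fs2) H15.McL.B) i = 0 := allZ_sound0 fus2_0
theorem lvx2_4e : ∀ i < 1, (lx2_4.ent (wdsP (wdsP H15.McL.P Us2) Wsx2)) i = 0 := allZ_sound0 lvx2_4e_0
theorem lvx2_3e : ∀ i < 1, (lx2_3.ent (wdsP (wdsP H15.McL.P Us2) Wsx2)) i = 0 := allZ_sound0 lvx2_3e_0
theorem lvx2_2e : ∀ i < 3, (lx2_2.ent (wdsP (wdsP H15.McL.P Us2) Wsx2)) i = 0 := allZ_sound0 lvx2_2e_0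
theorem lvx2_1e : ∀ i < 3, (lx2_1.ent (wdsP (wdsP H15.McL.P Us2) Wsx2)) i = 0 := allZ_sound0 lvx2_1e_0
theorem lvx2_0e : ∀ i < 1, (lx2_0.ent (wdsP (wdsP H15.McL.P Us2) Wsx2)) i = 0 := allZ_sound0 lvx2_0e_0
theorem lowx2 : LowChain (wdsP (wdsP H15.McL.P Us2) Wsx2) 275 Lx2 :=
  ⟨⟨lvx2_0b.1, lvx2_0b.2.1, lvx2_0b.2.2.1, lvx2_0b.2.2.2.1, lvx2_0e⟩, lvx2_0b.2.2.2.2.1, lvx2_0b.2.2.2.2.2, ⟨⟨lvx2_1b.1, lvx2_1b.2.1, lvx2_1b.2.2.1, lvx2_1b.2.2.2.1, lvx2_1e⟩, lvx2_1b.2.2.2.2.1, lvx2_1b.2.2.2.2.2, ⟨⟨lvx2_2b.1, lvx2_2b.2.1, lvx2_2b.2.2.1, lvx2_2b.2.2.2.1, lvx2_2e⟩, lvx2_2b.2.2.2.2.1, lvx2_2b.2.2.2.2.2, ⟨⟨lvx2_3b.1, lvx2_3b.2.1, lvx2_3b.2.2.1, lvx2_3b.2.2.2.1, lvx2_3e⟩, lvx2_3b.2.2.2.2.1, lvx2_3b.2.2.2.2.2, ⟨⟨lvx2_4b.1, lvx2_4b.2.1, lvx2_4b.2.2.1, lvx2_4b.2.2.2.1, lvx2_4e⟩, lvx2_4b.2.2.2.2.1, lvx2_4b.2.2.2.2.2, trivial⟩⟩⟩⟩⟩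
theorem pb2 : PB (gen H15.McL.g 6) (2 ^ (0 + 1)) :=
  (Pc.gok_wds H15.McL.act H15.McL.card H15.McL.inj H15.McL.Blt H15.McL.isBase h0_2 h1_2 rule2
    (fun r h => fus2 r (h.trans_eq h3_2)) lowx2).pb (by norm_num) H15.McL.card zero2 rows2 ord2 h2_2
theorem ker_le (Δ : Type) [Group Δ] [Finite Δ] (τ : Δ →* (gen H15.McL.g 6)) (h : Cfsg.IsStemExtension τ) :
    Nat.card τ.ker ≤ 3 :=
  card_ker_le (L := [(2, 7, 0), (3, 6, 1), (5, 3, 0), (7, 1, 0), (11, 1, 0)]) ⟨H15.McL.card.trans (by decide +kernel), by decide +kernel⟩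
    (all_cons ⟨by norm_num, pb2⟩
    (all_cons ⟨by norm_num, pb3⟩
    (all_cons ⟨by norm_num, pb5⟩
    (all_cons ⟨by norm_num, PB.of_not_sq (by norm_num) (by rw [H15.McL.card]; decide)⟩
    (all_cons ⟨by norm_num, PB.of_not_sq (by norm_num) (by rw [H15.McL.card]; decide)⟩
    all_nil))))) Δ τ h

end H16.ScMcL
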