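import Cfsg.Agent.H16.Sch3
import Cfsg.Agent.H16.M.D42

/-! Generated by tools/h16 (computation kit). -/

set_option maxRecDepth 100000
set_option maxHeartbeats 0

namespace H16.ScD42

noncomputable def Us7 : List (List ℕ) := [[nat_lit 1, nat_lit 3, nat_lit 0, nat_lit 2, nat_lit 1, nat_lit 2, nat_lit 4, nat_lit 1, nat_lit 3, nat_lit 5, nat_lit 4, nat_lit 0, nat_lit 3, nat_lit 5, nat_lit 4, nat_lit 1, nat_lit 5, nat_lit 4, nat_lit 1, nat_lit 3],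
  [nat_lit 3, nat_lit 3, nat_lit 4, nat_lit 0, nat_lit 2, nat_lit 2, nat_lit 4, nat_lit 1, nat_lit 3, nat_lit 1]]
noncomputable def Fs7 : List (List ℕ) := [[nat_lit 5, nat_lit 3, nat_lit 3, nat_lit 3, nat_lit 1, nat_lit 2, nat_lit 1, nat_lit 2, nat_lit 4, nat_lit 0, nat_lit 1, nat_lit 4, nat_lit 1, nat_lit 4, nat_lit 1, nat_lit 5, nat_lit 4, nat_lit 0, nat_lit 3, nat_lit 4, nat_lit 0, nat_lit 1]]
noncomputable def c7 : Pc := ⟨(nat_lit 6), (nat_lit 6), (nat_lit 2), (nat_lit 2), (nat_lit 2), (nat_lit 11),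
  [[[]],
  [[nat_lit 1], []]],
  [((nat_lit 0), [nat_lit 1], [nat_lit 0, nat_lit 1, nat_lit 1, nat_lit 1, nat_lit 1, nat_lit 1]),
  ((nat_lit 0), [nat_lit 0], [nat_lit 1, nat_lit 1, nat_lit 1])]⟩
noncomputable def I7_0 : List Pc.Idn := [⟨true, (nat_lit 0), [nat_lit 0, nat_lit 1], [nat_lit 1, nat_lit 0], [((nat_lit 4), (nat_lit 4))]⟩]
noncomputable def Ds7 : List (List (ℕ × ℕ)) := I7_0.map Pc.Idn.D
noncomputable def S7 : List (List (ℕ × ℕ)) := [[],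
  []]
noncomputable def Yo7 : List (List (ℕ × ℕ) × ℕ × ℕ) := []
noncomputable def La7 : List ℕ := [nat_lit 0,
  nat_lit 0,
  nat_lit 2,
  nat_lit 0]
noncomputable def Wsx7 : List (List ℕ) := [[nat_lit 1],
  [nat_lit 0]]
noncomputable def LDx7_1d : ℕ := nat_lit 0x163440
noncomputable def LDx7_1 (u : ℕ) : ℕ := Nat.land (Nat.shiftRight LDx7_1d (Nat.mul u (nat_lit 3))) (nat_lit 7)
noncomputable def Ptx7_1d : ℕ := nat_lit 0xce961d47decc001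
noncomputable def Ptx7_1 (u : ℕ) : ℕ := Nat.land (Nat.shiftRight Ptx7_1d (Nat.mul u (nat_lit 9))) (nat_lit 511)
noncomputable def Qx7_1d : ℕ := nat_lit 0x400000000000000000000000000000000000a00000000000000000000000000000000000000000000000000000000000000000000000000000000000000000000000000000000000000000000000000000000000000000000600000000000000000000000000000000001000000000000000000000000000000000c00000000000000020000000000000000000000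
noncomputable def Qx7_1 (u : ℕ) : ℕ := Nat.land (Nat.shiftRight Qx7_1d (Nat.mul u (nat_lit 3))) (nat_lit 7)
noncomputable def lx7_1 : Lev := ⟨7, 1, LDx7_1, Ptx7_1, Qx7_1⟩
noncomputable def LDx7_0d : ℕ := nat_lit 0xb975310
noncomputable def LDx7_0 (u : ℕ) : ℕ := Nat.land (Nat.shiftRight LDx7_0d (Nat.mul u (nat_lit 4))) (nat_lit 15)
noncomputable def Ptx7_0d : ℕ := nat_lit 0x19492d5d516213d800
noncomputable def Ptx7_0 (u : ℕ) : ℕ := Nat.land (Nat.shiftRight Ptx7_0d (Nat.mul u (nat_lit 10))) (nat_lit 1023)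
noncomputable def Qx7_0d : ℕ := nat_lit 0xa00000000000000000000000000000010000000000000000000000000000000000000000000000000000000000000000000000000000000000000000000000000000000006000000000000000000000000000000000000000020000000000000000018000000000000000000000000000000000000000000000000000000000040000000000000000000000000000000000000000000000000000000000000000000000000000000000000000000000000000000000000000000000000000000000000000000000000000000000000000000000000000000000000000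
noncomputable def Qx7_0 (u : ℕ) : ℕ := Nat.land (Nat.shiftRight Qx7_0d (Nat.mul u (nat_lit 3))) (nat_lit 7)
noncomputable def lx7_0 : Lev := ⟨7, 2, LDx7_0, Ptx7_0, Qx7_0⟩
noncomputable def Lx7 : List Lev := [lx7_0, lx7_1]
noncomputable def Bx7 : List ℕ := [nat_lit 0, nat_lit 1]
noncomputable def Us3 : List (List ℕ) := [[nat_lit 1, nat_lit 3, nat_lit 0, nat_lit 3, nat_lit 4, nat_lit 1, nat_lit 3, nat_lit 3, nat_lit 5, nat_lit 4, nat_lit 0, nat_lit 4, nat_lit 1, nat_lit 4, nat_lit 0],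
  [nat_lit 3, nat_lit 1, nat_lit 2, nat_lit 2, nat_lit 1, nat_lit 4, nat_lit 0, nat_lit 5, nat_lit 4, nat_lit 0, nat_lit 3, nat_lit 4, nat_lit 0, nat_lit 2, nat_lit 2, nat_lit 5, nat_lit 4, nat_lit 0, nat_lit 5, nat_lit 4, nat_lit 0, nat_lit 2, nat_lit 0, nat_lit 1],
  [nat_lit 5, nat_lit 4, nat_lit 1, nat_lit 2, nat_lit 0, nat_lit 4, nat_lit 0, nat_lit 2, nat_lit 4, nat_lit 1, nat_lit 5, nat_lit 0, nat_lit 4, nat_lit 0, nat_lit 4, nat_lit 5, nat_lit 4, nat_lit 5, nat_lit 2],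
  [nat_lit 1, nat_lit 2, nat_lit 0, nat_lit 3, nat_lit 4, nat_lit 1, nat_lit 3, nat_lit 0, nat_lit 3, nat_lit 5, nat_lit 4, nat_lit 0, nat_lit 3, nat_lit 5, nat_lit 4, nat_lit 1, nat_lit 4, nat_lit 5, nat_lit 4, nat_lit 1, nat_lit 2]]
noncomputable def Fs3 : List (List ℕ) := [[nat_lit 4, nat_lit 5, nat_lit 0, nat_lit 1, nat_lit 3, nat_lit 3, nat_lit 0, nat_lit 3, nat_lit 4, nat_lit 0, nat_lit 4, nat_lit 0, nat_lit 3, nat_lit 4, nat_lit 1, nat_lit 2, nat_lit 5, nat_lit 4, nat_lit 0, nat_lit 3, nat_lit 5, nat_lit 4, nat_lit 1, nat_lit 5, nat_lit 4],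
  [nat_lit 0, nat_lit 3, nat_lit 3, nat_lit 1, nat_lit 3, nat_lit 1, nat_lit 4, nat_lit 0, nat_lit 5, nat_lit 4, nat_lit 0, nat_lit 4, nat_lit 0, nat_lit 3, nat_lit 3, nat_lit 3, nat_lit 0]]
noncomputable def c3 : Pc := ⟨(nat_lit 2), (nat_lit 2), (nat_lit 4), (nat_lit 2), (nat_lit 4), (nat_lit 10),
  [[[]],
  [[nat_lit 1, nat_lit 2], [nat_lit 3, nat_lit 3]],
  [[nat_lit 2, nat_lit 3], [nat_lit 2], []],
  [[nat_lit 3], [nat_lit 3], [nat_lit 3], []]],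
  [((nat_lit 1), [nat_lit 3], [nat_lit 3]),
  ((nat_lit 1), [nat_lit 0, nat_lit 1], [nat_lit 2, nat_lit 3]),
  ((nat_lit 0), [nat_lit 2], [nat_lit 2, nat_lit 3, nat_lit 3]),
  ((nat_lit 0), [nat_lit 1], [nat_lit 1, nat_lit 1, nat_lit 3])]⟩
noncomputable def I3_0 : List Pc.Idn := [⟨false, (nat_lit 0), [nat_lit 1], [nat_lit 1, nat_lit 1], [((nat_lit 17), (nat_lit 2))]⟩,
  ⟨false, (nat_lit 0), [nat_lit 2], [nat_lit 1, nat_lit 1], [((nat_lit 18), (nat_lit 2))]⟩,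
  ⟨false, (nat_lit 0), [nat_lit 2], [nat_lit 0, nat_lit 0], [((nat_lit 19), (nat_lit 1))]⟩,
  ⟨false, (nat_lit 0), [nat_lit 1], [nat_lit 0, nat_lit 0], [((nat_lit 14), (nat_lit 1)), ((nat_lit 16), (nat_lit 1)), ((nat_lit 18), (nat_lit 1)), ((nat_lit 19), (nat_lit 1))]⟩,
  ⟨true, (nat_lit 1), [nat_lit 0, nat_lit 1], [nat_lit 1, nat_lit 0], [((nat_lit 16), (nat_lit 1)), ((nat_lit 17), (nat_lit 1)), ((nat_lit 18), (nat_lit 2))]⟩,
  ⟨true, (nat_lit 0), [nat_lit 2, nat_lit 3], [nat_lit 3, nat_lit 2], [((nat_lit 13), (nat_lit 2)), ((nat_lit 17), (nat_lit 2)), ((nat_lit 18), (nat_lit 1))]⟩]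
noncomputable def Ds3 : List (List (ℕ × ℕ)) := I3_0.map Pc.Idn.D
noncomputable def S3 : List (List (ℕ × ℕ)) := [[],
  [],
  [((nat_lit 8), (nat_lit 1))],
  [((nat_lit 12), (nat_lit 1))]]
noncomputable def Yo3 : List (List (ℕ × ℕ) × ℕ × ℕ) := []
noncomputable def La3 : List ℕ := [nat_lit 0,
  nat_lit 0,
  nat_lit 0,
  nat_lit 0,
  nat_lit 0,
  nat_lit 0,
  nat_lit 0,
  nat_lit 0,
  nat_lit 0,
  nat_lit 0x1ed,
  nat_lit 0xd7,
  nat_lit 0,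
  nat_lit 0x58,
  nat_lit 2,
  nat_lit 6,
  nat_lit 9]
noncomputable def Wsx3 : List (List ℕ) := [[nat_lit 3],
  [nat_lit 1, nat_lit 2, nat_lit 2],
  [nat_lit 0]]
noncomputable def LDx3_2d : ℕ := nat_lit 4
noncomputable def LDx3_2 (u : ℕ) : ℕ := Nat.land (Nat.shiftRight LDx3_2d (Nat.mul u (nat_lit 1))) (nat_lit 1)
noncomputable def Ptx3_2d : ℕ := nat_lit 0x2074a400
noncomputable def Ptx3_2 (u : ℕ) : ℕ := Nat.land (Nat.shiftRight Ptx3_2d (Nat.mul u (nat_lit 10))) (nat_lit 1023)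
noncomputable def Qx3_2d : ℕ := nat_lit 0x80000000000000000000000000000000000000000000000000000000000000000000000000000000000000000000000000000000000000040000000000000000000000000000000000000000000000000000000000000000000000000000000000000000000000000000000000000000000000000000000000000000000000000000
noncomputable def Qx3_2 (u : ℕ) : ℕ := Nat.land (Nat.shiftRight Qx3_2d (Nat.mul u (nat_lit 2))) (nat_lit 3)
noncomputable def lx3_2 : Lev := ⟨3, 1, LDx3_2, Ptx3_2, Qx3_2⟩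
noncomputable def LDx3_1d : ℕ := nat_lit 0x34
noncomputable def LDx3_1 (u : ℕ) : ℕ := Nat.land (Nat.shiftRight LDx3_1d (Nat.mul u (nat_lit 2))) (nat_lit 3)
noncomputable def Ptx3_1d : ℕ := nat_lit 0x189bd866
noncomputable def Ptx3_1 (u : ℕ) : ℕ := Nat.land (Nat.shiftRight Ptx3_1d (Nat.mul u (nat_lit 10))) (nat_lit 1023)
noncomputable def Qx3_1d : ℕ := nat_lit 0x10000000000000000000000000000000000000000000000000000000000000000000000000000000000000000000000000000000000000000000000000000000000000000000000000000000000000000000000000000000000000080000000000000000000000000000000000000000000000000000000000000000000000000000000000000000000000000000000000000000000000000000000000000000000000000000000000000000000000000000000000000000000000000000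
noncomputable def Qx3_1 (u : ℕ) : ℕ := Nat.land (Nat.shiftRight Qx3_1d (Nat.mul u (nat_lit 2))) (nat_lit 3)
noncomputable def lx3_1 : Lev := ⟨3, 2, LDx3_1, Ptx3_1, Qx3_1⟩
noncomputable def LDx3_0d : ℕ := nat_lit 0x148a90729040
noncomputable def LDx3_0 (u : ℕ) : ℕ := Nat.land (Nat.shiftRight LDx3_0d (Nat.mul u (nat_lit 5))) (nat_lit 31)
noncomputable def Ptx3_0d : ℕ := nat_lit 0x1d0790babc189872f619813
noncomputable def Ptx3_0 (u : ℕ) : ℕ := Nat.land (Nat.shiftRight Ptx3_0d (Nat.mul u (nat_lit 10))) (nat_lit 1023)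
noncomputable def Qx3_0d : ℕ := nat_lit 0x200000500000000000000000000000000000000000000000000000000000000000000000000000000000000000000000000000000000000000000000000000000000000000000000000000000000000000000000000000000000000000000000000000000000000000000000003000000000000000000000000000000000000000000000000000000070000000000000000000800000000000000000000000000000000000000000000000000000000000000000000004000000000000000000000000000000000000000000000000000000000000000000000000000000000000000000000000000000000000000000000000000000000000000000000000000000000000000000000000000000000000000000000000000000000000006000000000000000000000000000000000000000000000000000000000000000000000000000000000001000000000000000000000000000000000000000000000000000000000000000000000000000000000000000000000000000000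
noncomputable def Qx3_0 (u : ℕ) : ℕ := Nat.land (Nat.shiftRight Qx3_0d (Nat.mul u (nat_lit 4))) (nat_lit 15)
noncomputable def lx3_0 : Lev := ⟨9, 3, LDx3_0, Ptx3_0, Qx3_0⟩
noncomputable def Lx3 : List Lev := [lx3_0, lx3_1, lx3_2]
noncomputable def Bx3 : List ℕ := [nat_lit 19, nat_lit 102, nat_lit 0]
noncomputable def Us2 : List (List ℕ) := [[nat_lit 0, nat_lit 2, nat_lit 0, nat_lit 3, nat_lit 4, nat_lit 0, nat_lit 4, nat_lit 0, nat_lit 4, nat_lit 1, nat_lit 2, nat_lit 2, nat_lit 4],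
  [nat_lit 4, nat_lit 0, nat_lit 2, nat_lit 2, nat_lit 0, nat_lit 4, nat_lit 1, nat_lit 2, nat_lit 1, nat_lit 4, nat_lit 2, nat_lit 0],
  [nat_lit 2, nat_lit 2, nat_lit 1, nat_lit 2, nat_lit 1, nat_lit 3, nat_lit 0, nat_lit 4, nat_lit 1, nat_lit 3, nat_lit 1, nat_lit 4],
  [nat_lit 0, nat_lit 2, nat_lit 0, nat_lit 1, nat_lit 4, nat_lit 1, nat_lit 0, nat_lit 2, nat_lit 2, nat_lit 1, nat_lit 0, nat_lit 4, nat_lit 1],
  [nat_lit 3, nat_lit 0, nat_lit 4, nat_lit 0, nat_lit 2, nat_lit 4, nat_lit 0, nat_lit 3, nat_lit 4, nat_lit 1],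
  [nat_lit 2, nat_lit 1, nat_lit 3, nat_lit 4, nat_lit 0, nat_lit 2, nat_lit 4, nat_lit 0, nat_lit 4, nat_lit 0],
  [nat_lit 1, nat_lit 3, nat_lit 4, nat_lit 0, nat_lit 1, nat_lit 4, nat_lit 1, nat_lit 2, nat_lit 0, nat_lit 4],
  [nat_lit 2, nat_lit 1, nat_lit 3, nat_lit 3, nat_lit 1, nat_lit 4, nat_lit 0, nat_lit 2, nat_lit 4, nat_lit 0, nat_lit 3, nat_lit 4],
  [nat_lit 3, nat_lit 0, nat_lit 3, nat_lit 4, nat_lit 0, nat_lit 1, nat_lit 3, nat_lit 1, nat_lit 4, nat_lit 0, nat_lit 2],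
  [nat_lit 1, nat_lit 3, nat_lit 1, nat_lit 2, nat_lit 2, nat_lit 1, nat_lit 3, nat_lit 4, nat_lit 0, nat_lit 2, nat_lit 4, nat_lit 0, nat_lit 4],
  [nat_lit 0, nat_lit 2, nat_lit 2, nat_lit 2, nat_lit 1, nat_lit 4, nat_lit 1, nat_lit 3, nat_lit 0, nat_lit 4, nat_lit 0, nat_lit 3, nat_lit 4, nat_lit 2],
  [nat_lit 2, nat_lit 1, nat_lit 2, nat_lit 1, nat_lit 4, nat_lit 1, nat_lit 3, nat_lit 1, nat_lit 3, nat_lit 4, nat_lit 0, nat_lit 4, nat_lit 0, nat_lit 4]]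
noncomputable def Fs2 : List (List ℕ) := [[nat_lit 1, nat_lit 3, nat_lit 3, nat_lit 0, nat_lit 4, nat_lit 0, nat_lit 4, nat_lit 0, nat_lit 3, nat_lit 4, nat_lit 1, nat_lit 2, nat_lit 1],
  [nat_lit 4, nat_lit 0, nat_lit 2, nat_lit 2, nat_lit 2, nat_lit 0, nat_lit 1, nat_lit 4, nat_lit 0, nat_lit 1, nat_lit 3],
  [nat_lit 1, nat_lit 4, nat_lit 0, nat_lit 1, nat_lit 4, nat_lit 0, nat_lit 3, nat_lit 1, nat_lit 2, nat_lit 1, nat_lit 4],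
  [nat_lit 1, nat_lit 3, nat_lit 3, nat_lit 0, nat_lit 4, nat_lit 0, nat_lit 4, nat_lit 1, nat_lit 3, nat_lit 3, nat_lit 1],
  [nat_lit 1, nat_lit 2, nat_lit 2, nat_lit 0, nat_lit 2, nat_lit 4, nat_lit 0, nat_lit 4, nat_lit 0, nat_lit 4, nat_lit 1],
  [nat_lit 0, nat_lit 2, nat_lit 1, nat_lit 4, nat_lit 0, nat_lit 2, nat_lit 4, nat_lit 5, nat_lit 4, nat_lit 0, nat_lit 4, nat_lit 5, nat_lit 4, nat_lit 0, nat_lit 4, nat_lit 5, nat_lit 4, nat_lit 0, nat_lit 4, nat_lit 5, nat_lit 0, nat_lit 4, nat_lit 5],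
  [nat_lit 4, nat_lit 0, nat_lit 3, nat_lit 3, nat_lit 0, nat_lit 3, nat_lit 0, nat_lit 4, nat_lit 0, nat_lit 2]]
noncomputable def c2 : Pc := ⟨(nat_lit 1), (nat_lit 1), (nat_lit 12), (nat_lit 4), (nat_lit 21), (nat_lit 12),
  [[[nat_lit 7, nat_lit 8, nat_lit 10, nat_lit 11]],
  [[nat_lit 1, nat_lit 7, nat_lit 8, nat_lit 9, nat_lit 10, nat_lit 11], [nat_lit 9]],
  [[nat_lit 2, nat_lit 8, nat_lit 9], [nat_lit 2, nat_lit 7, nat_lit 11], [nat_lit 8]],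
  [[nat_lit 3, nat_lit 4], [nat_lit 3, nat_lit 5], [nat_lit 3, nat_lit 6], [nat_lit 4, nat_lit 5, nat_lit 7, nat_lit 10, nat_lit 11]],
  [[nat_lit 4, nat_lit 10, nat_lit 11], [nat_lit 4, nat_lit 7], [nat_lit 4, nat_lit 8], [nat_lit 4, nat_lit 7, nat_lit 10], []],
  [[nat_lit 5, nat_lit 7], [nat_lit 5, nat_lit 10], [nat_lit 5, nat_lit 9], [nat_lit 5, nat_lit 7, nat_lit 10, nat_lit 11], [nat_lit 5, nat_lit 11], []],
  [[nat_lit 6, nat_lit 8], [nat_lit 6, nat_lit 9], [nat_lit 6, nat_lit 10], [nat_lit 6, nat_lit 8, nat_lit 9, nat_lit 10, nat_lit 11], [nat_lit 6, nat_lit 11], [nat_lit 6, nat_lit 11], []],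
  [[nat_lit 7, nat_lit 11], [nat_lit 7, nat_lit 11], [nat_lit 7, nat_lit 10], [nat_lit 7], [nat_lit 7], [nat_lit 7], [nat_lit 7, nat_lit 11], []],
  [[nat_lit 8, nat_lit 11], [nat_lit 8, nat_lit 10], [nat_lit 8], [nat_lit 8, nat_lit 10], [nat_lit 8], [nat_lit 8, nat_lit 11], [nat_lit 8], [nat_lit 8], []],
  [[nat_lit 9, nat_lit 10, nat_lit 11], [nat_lit 9], [nat_lit 9, nat_lit 11], [nat_lit 9, nat_lit 10], [nat_lit 9, nat_lit 11], [nat_lit 9], [nat_lit 9], [nat_lit 9], [nat_lit 9], []],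
  [[nat_lit 10], [nat_lit 10], [nat_lit 10], [nat_lit 10, nat_lit 11], [nat_lit 10], [nat_lit 10], [nat_lit 10], [nat_lit 10], [nat_lit 10], [nat_lit 10], []],
  [[nat_lit 11], [nat_lit 11], [nat_lit 11], [nat_lit 11], [nat_lit 11], [nat_lit 11], [nat_lit 11], [nat_lit 11], [nat_lit 11], [nat_lit 11], [nat_lit 11], []]],
  [((nat_lit 2), [nat_lit 5], [nat_lit 6]),
  ((nat_lit 1), [nat_lit 4], [nat_lit 6, nat_lit 10]),
  ((nat_lit 6), [nat_lit 7], [nat_lit 6, nat_lit 8, nat_lit 9]),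
  ((nat_lit 3), [nat_lit 4], [nat_lit 4, nat_lit 5, nat_lit 9]),
  ((nat_lit 5), [nat_lit 6], [nat_lit 2, nat_lit 4, nat_lit 9]),
  ((nat_lit 0), [nat_lit 10], [nat_lit 10]),
  ((nat_lit 0), [nat_lit 3], [nat_lit 1, nat_lit 2, nat_lit 3]),
  ((nat_lit 0), [nat_lit 11], [nat_lit 11]),
  ((nat_lit 2), [nat_lit 4], [nat_lit 4, nat_lit 6, nat_lit 8, nat_lit 9]),
  ((nat_lit 0), [nat_lit 9], [nat_lit 7]),
  ((nat_lit 4), [nat_lit 4], [nat_lit 4, nat_lit 5, nat_lit 6, nat_lit 9]),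
  ((nat_lit 5), [nat_lit 8], [nat_lit 8, nat_lit 10, nat_lit 11]),
  ((nat_lit 5), [nat_lit 5], [nat_lit 1, nat_lit 6, nat_lit 9]),
  ((nat_lit 5), [nat_lit 11], [nat_lit 10]),
  ((nat_lit 5), [nat_lit 7], [nat_lit 7, nat_lit 11]),
  ((nat_lit 5), [nat_lit 2], [nat_lit 0, nat_lit 4, nat_lit 5, nat_lit 8, nat_lit 9, nat_lit 10, nat_lit 11]),
  ((nat_lit 5), [nat_lit 10], [nat_lit 11]),
  ((nat_lit 0), [nat_lit 2], [nat_lit 0, nat_lit 4, nat_lit 7, nat_lit 8, nat_lit 9, nat_lit 10]),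
  ((nat_lit 0), [nat_lit 8], [nat_lit 7, nat_lit 8, nat_lit 10]),
  ((nat_lit 0), [nat_lit 6], [nat_lit 4, nat_lit 7, nat_lit 8, nat_lit 10, nat_lit 11]),
  ((nat_lit 0), [nat_lit 1], [nat_lit 0, nat_lit 1, nat_lit 5])]⟩
noncomputable def I2_0 : List Pc.Idn := [⟨false, (nat_lit 0), [nat_lit 1], [nat_lit 1, nat_lit 1], [((nat_lit 130), (nat_lit 1))]⟩,
  ⟨false, (nat_lit 0), [nat_lit 2], [nat_lit 2, nat_lit 2], [((nat_lit 119), (nat_lit 1))]⟩,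
  ⟨false, (nat_lit 0), [nat_lit 5], [nat_lit 5, nat_lit 0], [((nat_lit 110), (nat_lit 1)), ((nat_lit 112), (nat_lit 1))]⟩,
  ⟨false, (nat_lit 0), [nat_lit 6], [nat_lit 6, nat_lit 0], [((nat_lit 123), (nat_lit 1)), ((nat_lit 125), (nat_lit 1))]⟩,
  ⟨false, (nat_lit 0), [nat_lit 7], [nat_lit 7, nat_lit 0], [((nat_lit 160), (nat_lit 1)), ((nat_lit 164), (nat_lit 1))]⟩,
  ⟨false, (nat_lit 0), [nat_lit 8], [nat_lit 8, nat_lit 0], [((nat_lit 161), (nat_lit 1)), ((nat_lit 164), (nat_lit 1))]⟩,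
  ⟨false, (nat_lit 0), [nat_lit 4], [nat_lit 4, nat_lit 1], [((nat_lit 109), (nat_lit 1)), ((nat_lit 112), (nat_lit 1))]⟩,
  ⟨false, (nat_lit 0), [nat_lit 5], [nat_lit 5, nat_lit 1], [((nat_lit 146), (nat_lit 1)), ((nat_lit 151), (nat_lit 1))]⟩,
  ⟨false, (nat_lit 0), [nat_lit 6], [nat_lit 6, nat_lit 1], [((nat_lit 135), (nat_lit 1)), ((nat_lit 138), (nat_lit 1))]⟩,
  ⟨false, (nat_lit 0), [nat_lit 8], [nat_lit 8, nat_lit 1], [((nat_lit 149), (nat_lit 1)), ((nat_lit 151), (nat_lit 1))]⟩,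
  ⟨false, (nat_lit 0), [nat_lit 10], [nat_lit 1, nat_lit 1], [((nat_lit 150), (nat_lit 1))]⟩,
  ⟨false, (nat_lit 0), [nat_lit 11], [nat_lit 1, nat_lit 1], [((nat_lit 162), (nat_lit 1))]⟩,
  ⟨false, (nat_lit 0), [nat_lit 4], [nat_lit 4, nat_lit 2], [((nat_lit 121), (nat_lit 1)), ((nat_lit 125), (nat_lit 1))]⟩,
  ⟨false, (nat_lit 0), [nat_lit 5], [nat_lit 5, nat_lit 2], [((nat_lit 134), (nat_lit 1)), ((nat_lit 138), (nat_lit 1))]⟩,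
  ⟨false, (nat_lit 0), [nat_lit 6], [nat_lit 6, nat_lit 2], [((nat_lit 147), (nat_lit 1)), ((nat_lit 151), (nat_lit 1))]⟩,
  ⟨false, (nat_lit 0), [nat_lit 7], [nat_lit 7, nat_lit 2], [((nat_lit 148), (nat_lit 1)), ((nat_lit 151), (nat_lit 1))]⟩,
  ⟨false, (nat_lit 0), [nat_lit 9], [nat_lit 9, nat_lit 2], [((nat_lit 162), (nat_lit 1)), ((nat_lit 164), (nat_lit 1))]⟩,
  ⟨false, (nat_lit 0), [nat_lit 10], [nat_lit 2, nat_lit 2], [((nat_lit 149), (nat_lit 1))]⟩,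
  ⟨false, (nat_lit 0), [nat_lit 10], [nat_lit 10, nat_lit 3], [((nat_lit 163), (nat_lit 1)), ((nat_lit 164), (nat_lit 1))]⟩,
  ⟨false, (nat_lit 0), [nat_lit 5], [nat_lit 5, nat_lit 4], [((nat_lit 158), (nat_lit 1)), ((nat_lit 164), (nat_lit 1))]⟩,
  ⟨false, (nat_lit 0), [nat_lit 5], [nat_lit 4, nat_lit 4], [((nat_lit 157), (nat_lit 1)), ((nat_lit 164), (nat_lit 1))]⟩,
  ⟨false, (nat_lit 0), [nat_lit 6], [nat_lit 6, nat_lit 4], [((nat_lit 159), (nat_lit 1)), ((nat_lit 164), (nat_lit 1))]⟩,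
  ⟨false, (nat_lit 0), [nat_lit 5], [nat_lit 1, nat_lit 1], [((nat_lit 134), (nat_lit 1)), ((nat_lit 142), (nat_lit 1)), ((nat_lit 151), (nat_lit 1))]⟩,
  ⟨false, (nat_lit 0), [nat_lit 7], [nat_lit 1, nat_lit 1], [((nat_lit 136), (nat_lit 1)), ((nat_lit 154), (nat_lit 1)), ((nat_lit 164), (nat_lit 1))]⟩,
  ⟨false, (nat_lit 0), [nat_lit 8], [nat_lit 1, nat_lit 1], [((nat_lit 137), (nat_lit 1)), ((nat_lit 142), (nat_lit 1)), ((nat_lit 151), (nat_lit 1))]⟩,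
  ⟨false, (nat_lit 0), [nat_lit 6], [nat_lit 2, nat_lit 2], [((nat_lit 123), (nat_lit 1)), ((nat_lit 143), (nat_lit 1)), ((nat_lit 151), (nat_lit 1))]⟩,
  ⟨false, (nat_lit 0), [nat_lit 7], [nat_lit 2, nat_lit 2], [((nat_lit 124), (nat_lit 1)), ((nat_lit 143), (nat_lit 1)), ((nat_lit 151), (nat_lit 1))]⟩,
  ⟨false, (nat_lit 0), [nat_lit 9], [nat_lit 2, nat_lit 2], [((nat_lit 137), (nat_lit 1)), ((nat_lit 155), (nat_lit 1)), ((nat_lit 164), (nat_lit 1))]⟩,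
  ⟨false, (nat_lit 0), [nat_lit 4], [nat_lit 4, nat_lit 0], [((nat_lit 145), (nat_lit 1)), ((nat_lit 151), (nat_lit 1)), ((nat_lit 157), (nat_lit 1)), ((nat_lit 163), (nat_lit 1)), ((nat_lit 164), (nat_lit 1))]⟩,
  ⟨false, (nat_lit 0), [nat_lit 5], [nat_lit 2, nat_lit 2], [((nat_lit 122), (nat_lit 1)), ((nat_lit 131), (nat_lit 1)), ((nat_lit 138), (nat_lit 1)), ((nat_lit 164), (nat_lit 1))]⟩,
  ⟨false, (nat_lit 0), [nat_lit 0], [nat_lit 0, nat_lit 0], [((nat_lit 105), (nat_lit 1)), ((nat_lit 117), (nat_lit 1)), ((nat_lit 141), (nat_lit 1)), ((nat_lit 153), (nat_lit 1)), ((nat_lit 161), (nat_lit 1)), ((nat_lit 164), (nat_lit 1))]⟩,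
  ⟨false, (nat_lit 0), [nat_lit 7], [nat_lit 3, nat_lit 0], [((nat_lit 109), (nat_lit 1)), ((nat_lit 156), (nat_lit 1)), ((nat_lit 157), (nat_lit 1))]⟩,
  ⟨false, (nat_lit 0), [nat_lit 10], [nat_lit 3, nat_lit 0], [((nat_lit 145), (nat_lit 1)), ((nat_lit 153), (nat_lit 1)), ((nat_lit 157), (nat_lit 1))]⟩,
  ⟨false, (nat_lit 0), [nat_lit 7], [nat_lit 0, nat_lit 0], [((nat_lit 124), (nat_lit 1)), ((nat_lit 148), (nat_lit 1)), ((nat_lit 153), (nat_lit 1)), ((nat_lit 160), (nat_lit 1)), ((nat_lit 164), (nat_lit 1))]⟩,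
  ⟨false, (nat_lit 0), [nat_lit 3], [nat_lit 1, nat_lit 1], [((nat_lit 82), (nat_lit 1)), ((nat_lit 86), (nat_lit 1)), ((nat_lit 132), (nat_lit 1)), ((nat_lit 151), (nat_lit 1))]⟩,
  ⟨false, (nat_lit 0), [nat_lit 10], [nat_lit 3, nat_lit 1], [((nat_lit 146), (nat_lit 1)), ((nat_lit 154), (nat_lit 1)), ((nat_lit 158), (nat_lit 1))]⟩,
  ⟨false, (nat_lit 0), [nat_lit 4], [nat_lit 1, nat_lit 1], [((nat_lit 106), (nat_lit 1)), ((nat_lit 112), (nat_lit 1)), ((nat_lit 133), (nat_lit 1)), ((nat_lit 164), (nat_lit 1))]⟩,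
  ⟨false, (nat_lit 0), [nat_lit 8], [nat_lit 6, nat_lit 1], [((nat_lit 137), (nat_lit 1)), ((nat_lit 147), (nat_lit 1)), ((nat_lit 150), (nat_lit 1))]⟩,
  ⟨false, (nat_lit 0), [nat_lit 3], [nat_lit 2, nat_lit 2], [((nat_lit 95), (nat_lit 1)), ((nat_lit 99), (nat_lit 1)), ((nat_lit 120), (nat_lit 1)), ((nat_lit 151), (nat_lit 1))]⟩,
  ⟨false, (nat_lit 0), [nat_lit 2], [nat_lit 2, nat_lit 0], [((nat_lit 117), (nat_lit 1)), ((nat_lit 119), (nat_lit 1)), ((nat_lit 125), (nat_lit 1)), ((nat_lit 131), (nat_lit 1)), ((nat_lit 137), (nat_lit 1)), ((nat_lit 138), (nat_lit 1)), ((nat_lit 161), (nat_lit 1)), ((nat_lit 162), (nat_lit 1))]⟩,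
  ⟨false, (nat_lit 0), [nat_lit 2], [nat_lit 1, nat_lit 1], [((nat_lit 106), (nat_lit 1)), ((nat_lit 112), (nat_lit 1)), ((nat_lit 131), (nat_lit 1)), ((nat_lit 154), (nat_lit 1)), ((nat_lit 160), (nat_lit 1))]⟩,
  ⟨false, (nat_lit 0), [nat_lit 2], [nat_lit 2, nat_lit 1], [((nat_lit 107), (nat_lit 1)), ((nat_lit 112), (nat_lit 1)), ((nat_lit 118), (nat_lit 1)), ((nat_lit 148), (nat_lit 1)), ((nat_lit 155), (nat_lit 1)), ((nat_lit 160), (nat_lit 1)), ((nat_lit 164), (nat_lit 1))]⟩,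
  ⟨false, (nat_lit 0), [nat_lit 10], [nat_lit 3, nat_lit 3], [((nat_lit 145), (nat_lit 1)), ((nat_lit 146), (nat_lit 1)), ((nat_lit 148), (nat_lit 1)), ((nat_lit 156), (nat_lit 1)), ((nat_lit 163), (nat_lit 1)), ((nat_lit 164), (nat_lit 1))]⟩,
  ⟨false, (nat_lit 0), [nat_lit 8], [nat_lit 3, nat_lit 1], [((nat_lit 122), (nat_lit 1)), ((nat_lit 142), (nat_lit 1)), ((nat_lit 144), (nat_lit 1)), ((nat_lit 158), (nat_lit 1)), ((nat_lit 164), (nat_lit 1))]⟩,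
  ⟨false, (nat_lit 0), [nat_lit 7], [nat_lit 3, nat_lit 2], [((nat_lit 111), (nat_lit 1)), ((nat_lit 144), (nat_lit 1)), ((nat_lit 147), (nat_lit 1)), ((nat_lit 159), (nat_lit 1)), ((nat_lit 163), (nat_lit 1)), ((nat_lit 164), (nat_lit 1))]⟩,
  ⟨false, (nat_lit 0), [nat_lit 8], [nat_lit 3, nat_lit 0], [((nat_lit 121), (nat_lit 1)), ((nat_lit 141), (nat_lit 1)), ((nat_lit 145), (nat_lit 1)), ((nat_lit 156), (nat_lit 1)), ((nat_lit 157), (nat_lit 1)), ((nat_lit 163), (nat_lit 1))]⟩,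
  ⟨false, (nat_lit 0), [nat_lit 3], [nat_lit 0, nat_lit 0], [((nat_lit 69), (nat_lit 1)), ((nat_lit 73), (nat_lit 1)), ((nat_lit 108), (nat_lit 1)), ((nat_lit 120), (nat_lit 1)), ((nat_lit 144), (nat_lit 1)), ((nat_lit 151), (nat_lit 1)), ((nat_lit 156), (nat_lit 1)), ((nat_lit 164), (nat_lit 1))]⟩,
  ⟨false, (nat_lit 0), [nat_lit 3], [nat_lit 3, nat_lit 3], [((nat_lit 72), (nat_lit 1)), ((nat_lit 84), (nat_lit 1)), ((nat_lit 108), (nat_lit 1)), ((nat_lit 110), (nat_lit 1)), ((nat_lit 112), (nat_lit 1)), ((nat_lit 144), (nat_lit 1)), ((nat_lit 146), (nat_lit 1)), ((nat_lit 148), (nat_lit 1)), ((nat_lit 151), (nat_lit 1)), ((nat_lit 156), (nat_lit 1)), ((nat_lit 160), (nat_lit 1)), ((nat_lit 163), (nat_lit 1)), ((nat_lit 164), (nat_lit 1))]⟩,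
  ⟨false, (nat_lit 0), [nat_lit 4], [nat_lit 3, nat_lit 1], [((nat_lit 85), (nat_lit 1)), ((nat_lit 106), (nat_lit 1)), ((nat_lit 108), (nat_lit 1)), ((nat_lit 142), (nat_lit 1)), ((nat_lit 146), (nat_lit 1)), ((nat_lit 148), (nat_lit 1)), ((nat_lit 164), (nat_lit 1))]⟩,
  ⟨false, (nat_lit 0), [nat_lit 2], [nat_lit 0, nat_lit 0], [((nat_lit 107), (nat_lit 1)), ((nat_lit 117), (nat_lit 1)), ((nat_lit 119), (nat_lit 1)), ((nat_lit 125), (nat_lit 1)), ((nat_lit 129), (nat_lit 1)), ((nat_lit 137), (nat_lit 1)), ((nat_lit 138), (nat_lit 1)), ((nat_lit 143), (nat_lit 1)), ((nat_lit 149), (nat_lit 1)), ((nat_lit 151), (nat_lit 1)), ((nat_lit 155), (nat_lit 1)), ((nat_lit 162), (nat_lit 1)), ((nat_lit 164), (nat_lit 1))]⟩,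
  ⟨false, (nat_lit 0), [nat_lit 3], [nat_lit 2, nat_lit 1], [((nat_lit 83), (nat_lit 1)), ((nat_lit 94), (nat_lit 1)), ((nat_lit 98), (nat_lit 1)), ((nat_lit 108), (nat_lit 1)), ((nat_lit 110), (nat_lit 1)), ((nat_lit 111), (nat_lit 1)), ((nat_lit 136), (nat_lit 1)), ((nat_lit 156), (nat_lit 1)), ((nat_lit 158), (nat_lit 1)), ((nat_lit 159), (nat_lit 1)), ((nat_lit 160), (nat_lit 1)), ((nat_lit 162), (nat_lit 1))]⟩,
  ⟨false, (nat_lit 0), [nat_lit 4], [nat_lit 3, nat_lit 2], [((nat_lit 97), (nat_lit 1)), ((nat_lit 107), (nat_lit 1)), ((nat_lit 111), (nat_lit 1)), ((nat_lit 120), (nat_lit 1)), ((nat_lit 123), (nat_lit 1)), ((nat_lit 124), (nat_lit 1)), ((nat_lit 143), (nat_lit 1)), ((nat_lit 149), (nat_lit 1)), ((nat_lit 160), (nat_lit 1))]⟩,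
  ⟨false, (nat_lit 0), [nat_lit 3], [nat_lit 3, nat_lit 1], [((nat_lit 70), (nat_lit 1)), ((nat_lit 82), (nat_lit 1)), ((nat_lit 84), (nat_lit 1)), ((nat_lit 86), (nat_lit 1)), ((nat_lit 106), (nat_lit 1)), ((nat_lit 142), (nat_lit 1)), ((nat_lit 146), (nat_lit 1)), ((nat_lit 154), (nat_lit 1)), ((nat_lit 158), (nat_lit 1)), ((nat_lit 160), (nat_lit 1))]⟩,
  ⟨false, (nat_lit 0), [nat_lit 6], [nat_lit 3, nat_lit 1], [((nat_lit 98), (nat_lit 1)), ((nat_lit 118), (nat_lit 1)), ((nat_lit 122), (nat_lit 1)), ((nat_lit 130), (nat_lit 1)), ((nat_lit 132), (nat_lit 1)), ((nat_lit 137), (nat_lit 1)), ((nat_lit 142), (nat_lit 1)), ((nat_lit 154), (nat_lit 1)), ((nat_lit 158), (nat_lit 1)), ((nat_lit 161), (nat_lit 1)), ((nat_lit 162), (nat_lit 1)), ((nat_lit 163), (nat_lit 1)), ((nat_lit 164), (nat_lit 1))]⟩,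
  ⟨false, (nat_lit 0), [nat_lit 3], [nat_lit 2, nat_lit 0], [((nat_lit 71), (nat_lit 1)), ((nat_lit 93), (nat_lit 1)), ((nat_lit 97), (nat_lit 1)), ((nat_lit 120), (nat_lit 1)), ((nat_lit 121), (nat_lit 1)), ((nat_lit 123), (nat_lit 1)), ((nat_lit 132), (nat_lit 1)), ((nat_lit 133), (nat_lit 1)), ((nat_lit 135), (nat_lit 1)), ((nat_lit 137), (nat_lit 1)), ((nat_lit 150), (nat_lit 1)), ((nat_lit 151), (nat_lit 1)), ((nat_lit 159), (nat_lit 1)), ((nat_lit 161), (nat_lit 1)), ((nat_lit 162), (nat_lit 1))]⟩,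
  ⟨false, (nat_lit 0), [nat_lit 3], [nat_lit 3, nat_lit 0], [((nat_lit 69), (nat_lit 1)), ((nat_lit 72), (nat_lit 1)), ((nat_lit 73), (nat_lit 1)), ((nat_lit 81), (nat_lit 1)), ((nat_lit 105), (nat_lit 1)), ((nat_lit 109), (nat_lit 1)), ((nat_lit 141), (nat_lit 1)), ((nat_lit 145), (nat_lit 1)), ((nat_lit 146), (nat_lit 1)), ((nat_lit 148), (nat_lit 1)), ((nat_lit 153), (nat_lit 1)), ((nat_lit 157), (nat_lit 1)), ((nat_lit 158), (nat_lit 1)), ((nat_lit 160), (nat_lit 1)), ((nat_lit 163), (nat_lit 1))]⟩,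
  ⟨false, (nat_lit 0), [nat_lit 3], [nat_lit 3, nat_lit 2], [((nat_lit 71), (nat_lit 1)), ((nat_lit 83), (nat_lit 1)), ((nat_lit 96), (nat_lit 1)), ((nat_lit 99), (nat_lit 1)), ((nat_lit 107), (nat_lit 1)), ((nat_lit 122), (nat_lit 1)), ((nat_lit 123), (nat_lit 1)), ((nat_lit 124), (nat_lit 1)), ((nat_lit 135), (nat_lit 1)), ((nat_lit 136), (nat_lit 1)), ((nat_lit 143), (nat_lit 1)), ((nat_lit 147), (nat_lit 1)), ((nat_lit 149), (nat_lit 1)), ((nat_lit 150), (nat_lit 1)), ((nat_lit 155), (nat_lit 1)), ((nat_lit 160), (nat_lit 1)), ((nat_lit 161), (nat_lit 1)), ((nat_lit 163), (nat_lit 1)), ((nat_lit 164), (nat_lit 1))]⟩,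
  ⟨true, (nat_lit 2), [nat_lit 0, nat_lit 0], [], [((nat_lit 86), (nat_lit 1)), ((nat_lit 99), (nat_lit 1))]⟩,
  ⟨true, (nat_lit 1), [nat_lit 1, nat_lit 1], [], [((nat_lit 73), (nat_lit 1)), ((nat_lit 99), (nat_lit 1)), ((nat_lit 147), (nat_lit 1)), ((nat_lit 151), (nat_lit 1))]⟩,
  ⟨true, (nat_lit 6), [nat_lit 2, nat_lit 2], [], [((nat_lit 99), (nat_lit 1)), ((nat_lit 112), (nat_lit 1)), ((nat_lit 123), (nat_lit 1)), ((nat_lit 125), (nat_lit 1)), ((nat_lit 135), (nat_lit 1)), ((nat_lit 137), (nat_lit 1)), ((nat_lit 138), (nat_lit 1))]⟩,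
  ⟨true, (nat_lit 3), [nat_lit 3, nat_lit 3], [], [((nat_lit 85), (nat_lit 1)), ((nat_lit 86), (nat_lit 1)), ((nat_lit 133), (nat_lit 1)), ((nat_lit 134), (nat_lit 1)), ((nat_lit 138), (nat_lit 1)), ((nat_lit 162), (nat_lit 1)), ((nat_lit 164), (nat_lit 1))]⟩,
  ⟨true, (nat_lit 5), [nat_lit 4, nat_lit 4], [], [((nat_lit 47), (nat_lit 1)), ((nat_lit 71), (nat_lit 1)), ((nat_lit 73), (nat_lit 1)), ((nat_lit 99), (nat_lit 1)), ((nat_lit 121), (nat_lit 1)), ((nat_lit 125), (nat_lit 1)), ((nat_lit 131), (nat_lit 1)), ((nat_lit 133), (nat_lit 1)), ((nat_lit 138), (nat_lit 1)), ((nat_lit 157), (nat_lit 1)), ((nat_lit 164), (nat_lit 1))]⟩,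
  ⟨true, (nat_lit 0), [nat_lit 5, nat_lit 6], [nat_lit 6, nat_lit 5, nat_lit 7], [((nat_lit 7), (nat_lit 1)), ((nat_lit 142), (nat_lit 1)), ((nat_lit 143), (nat_lit 1))]⟩,
  ⟨true, (nat_lit 2), [nat_lit 8, nat_lit 8], [], [((nat_lit 97), (nat_lit 1)), ((nat_lit 99), (nat_lit 1)), ((nat_lit 121), (nat_lit 1)), ((nat_lit 123), (nat_lit 1)), ((nat_lit 125), (nat_lit 1)), ((nat_lit 133), (nat_lit 1)), ((nat_lit 135), (nat_lit 1)), ((nat_lit 137), (nat_lit 1)), ((nat_lit 138), (nat_lit 1)), ((nat_lit 161), (nat_lit 1)), ((nat_lit 162), (nat_lit 1)), ((nat_lit 164), (nat_lit 1))]⟩,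
  ⟨true, (nat_lit 0), [nat_lit 9, nat_lit 6], [nat_lit 6, nat_lit 9, nat_lit 5], [((nat_lit 5), (nat_lit 1)), ((nat_lit 106), (nat_lit 1)), ((nat_lit 107), (nat_lit 1)), ((nat_lit 108), (nat_lit 1)), ((nat_lit 132), (nat_lit 1)), ((nat_lit 144), (nat_lit 1)), ((nat_lit 155), (nat_lit 1)), ((nat_lit 156), (nat_lit 1)), ((nat_lit 164), (nat_lit 1))]⟩,
  ⟨true, (nat_lit 4), [nat_lit 10, nat_lit 10], [], [((nat_lit 85), (nat_lit 1)), ((nat_lit 86), (nat_lit 1)), ((nat_lit 97), (nat_lit 1)), ((nat_lit 98), (nat_lit 1)), ((nat_lit 99), (nat_lit 1)), ((nat_lit 133), (nat_lit 1)), ((nat_lit 134), (nat_lit 1)), ((nat_lit 135), (nat_lit 1)), ((nat_lit 138), (nat_lit 1)), ((nat_lit 158), (nat_lit 1)), ((nat_lit 159), (nat_lit 1)), ((nat_lit 162), (nat_lit 1))]⟩,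
  ⟨true, (nat_lit 5), [nat_lit 11, nat_lit 12], [nat_lit 12, nat_lit 11, nat_lit 13], [((nat_lit 13), (nat_lit 1)), ((nat_lit 118), (nat_lit 1)), ((nat_lit 122), (nat_lit 1)), ((nat_lit 123), (nat_lit 1)), ((nat_lit 137), (nat_lit 1)), ((nat_lit 142), (nat_lit 1)), ((nat_lit 154), (nat_lit 1)), ((nat_lit 159), (nat_lit 1)), ((nat_lit 162), (nat_lit 1)), ((nat_lit 163), (nat_lit 1))]⟩,
  ⟨true, (nat_lit 5), [nat_lit 14, nat_lit 15], [nat_lit 15, nat_lit 14, nat_lit 16], [((nat_lit 16), (nat_lit 1)), ((nat_lit 105), (nat_lit 1)), ((nat_lit 107), (nat_lit 1)), ((nat_lit 109), (nat_lit 1)), ((nat_lit 110), (nat_lit 1)), ((nat_lit 124), (nat_lit 1)), ((nat_lit 136), (nat_lit 1)), ((nat_lit 148), (nat_lit 1)), ((nat_lit 153), (nat_lit 1)), ((nat_lit 160), (nat_lit 1))]⟩,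
  ⟨true, (nat_lit 0), [nat_lit 17, nat_lit 17], [nat_lit 18], [((nat_lit 18), (nat_lit 1)), ((nat_lit 21), (nat_lit 1)), ((nat_lit 47), (nat_lit 1)), ((nat_lit 69), (nat_lit 1)), ((nat_lit 73), (nat_lit 1)), ((nat_lit 105), (nat_lit 1)), ((nat_lit 109), (nat_lit 1)), ((nat_lit 112), (nat_lit 1)), ((nat_lit 117), (nat_lit 1)), ((nat_lit 121), (nat_lit 1)), ((nat_lit 124), (nat_lit 1)), ((nat_lit 125), (nat_lit 1)), ((nat_lit 129), (nat_lit 1)), ((nat_lit 133), (nat_lit 1)), ((nat_lit 136), (nat_lit 1)), ((nat_lit 137), (nat_lit 1)), ((nat_lit 138), (nat_lit 1)), ((nat_lit 141), (nat_lit 1)), ((nat_lit 145), (nat_lit 1)), ((nat_lit 161), (nat_lit 1)), ((nat_lit 164), (nat_lit 1))]⟩,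
  ⟨true, (nat_lit 5), [nat_lit 4, nat_lit 12], [nat_lit 12, nat_lit 4, nat_lit 13], [((nat_lit 13), (nat_lit 1)), ((nat_lit 46), (nat_lit 1)), ((nat_lit 70), (nat_lit 1)), ((nat_lit 95), (nat_lit 1)), ((nat_lit 97), (nat_lit 1)), ((nat_lit 98), (nat_lit 1)), ((nat_lit 109), (nat_lit 1)), ((nat_lit 112), (nat_lit 1)), ((nat_lit 130), (nat_lit 1)), ((nat_lit 131), (nat_lit 1)), ((nat_lit 133), (nat_lit 1)), ((nat_lit 135), (nat_lit 1)), ((nat_lit 145), (nat_lit 1)), ((nat_lit 151), (nat_lit 1)), ((nat_lit 159), (nat_lit 1)), ((nat_lit 160), (nat_lit 1)), ((nat_lit 163), (nat_lit 1)), ((nat_lit 164), (nat_lit 1))]⟩,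
  ⟨true, (nat_lit 0), [nat_lit 19, nat_lit 6], [nat_lit 6, nat_lit 19, nat_lit 18, nat_lit 9, nat_lit 5, nat_lit 7], [((nat_lit 18), (nat_lit 1)), ((nat_lit 9), (nat_lit 1)), ((nat_lit 5), (nat_lit 1)), ((nat_lit 7), (nat_lit 1)), ((nat_lit 70), (nat_lit 1)), ((nat_lit 71), (nat_lit 1)), ((nat_lit 72), (nat_lit 1)), ((nat_lit 96), (nat_lit 1)), ((nat_lit 106), (nat_lit 1)), ((nat_lit 118), (nat_lit 1)), ((nat_lit 119), (nat_lit 1)), ((nat_lit 124), (nat_lit 1)), ((nat_lit 142), (nat_lit 1)), ((nat_lit 148), (nat_lit 1)), ((nat_lit 149), (nat_lit 1)), ((nat_lit 154), (nat_lit 1))]⟩,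
  ⟨true, (nat_lit 0), [nat_lit 20, nat_lit 20], [nat_lit 9], [((nat_lit 9), (nat_lit 1)), ((nat_lit 21), (nat_lit 1)), ((nat_lit 33), (nat_lit 1)), ((nat_lit 81), (nat_lit 1)), ((nat_lit 82), (nat_lit 1)), ((nat_lit 86), (nat_lit 1)), ((nat_lit 110), (nat_lit 1)), ((nat_lit 112), (nat_lit 1)), ((nat_lit 118), (nat_lit 1)), ((nat_lit 124), (nat_lit 1)), ((nat_lit 125), (nat_lit 1)), ((nat_lit 130), (nat_lit 1)), ((nat_lit 138), (nat_lit 1)), ((nat_lit 146), (nat_lit 1)), ((nat_lit 150), (nat_lit 1)), ((nat_lit 158), (nat_lit 1)), ((nat_lit 160), (nat_lit 1)), ((nat_lit 161), (nat_lit 1)), ((nat_lit 162), (nat_lit 1)), ((nat_lit 163), (nat_lit 1))]⟩,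
  ⟨true, (nat_lit 5), [nat_lit 4, nat_lit 15], [nat_lit 15, nat_lit 4, nat_lit 16], [((nat_lit 16), (nat_lit 1)), ((nat_lit 45), (nat_lit 1)), ((nat_lit 69), (nat_lit 1)), ((nat_lit 71), (nat_lit 1)), ((nat_lit 83), (nat_lit 1)), ((nat_lit 85), (nat_lit 1)), ((nat_lit 95), (nat_lit 1)), ((nat_lit 119), (nat_lit 1)), ((nat_lit 129), (nat_lit 1)), ((nat_lit 131), (nat_lit 1)), ((nat_lit 133), (nat_lit 1)), ((nat_lit 137), (nat_lit 1)), ((nat_lit 143), (nat_lit 1)), ((nat_lit 145), (nat_lit 1)), ((nat_lit 151), (nat_lit 1)), ((nat_lit 155), (nat_lit 1)), ((nat_lit 158), (nat_lit 1)), ((nat_lit 161), (nat_lit 1))]⟩]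
noncomputable def Ds2 : List (List (ℕ × ℕ)) := I2_0.map Pc.Idn.D
noncomputable def S2 : List (List (ℕ × ℕ)) := [[],
  [],
  [],
  [],
  [((nat_lit 57), (nat_lit 1))],
  [((nat_lit 58), (nat_lit 1))],
  [((nat_lit 59), (nat_lit 1))],
  [((nat_lit 70), (nat_lit 1))],
  [((nat_lit 71), (nat_lit 1))],
  [((nat_lit 83), (nat_lit 1))],
  [((nat_lit 107), (nat_lit 1))],
  [((nat_lit 144), (nat_lit 1))]]
noncomputable def Yo2 : List (List (ℕ × ℕ) × ℕ × ℕ) := []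
noncomputable def La2 : List ℕ := [nat_lit 0,
  nat_lit 0,
  nat_lit 0,
  nat_lit 0,
  nat_lit 0,
  nat_lit 0,
  nat_lit 0,
  nat_lit 0,
  nat_lit 0,
  nat_lit 0,
  nat_lit 0,
  nat_lit 0,
  nat_lit 0xd17783041d2b1b21b5,
  nat_lit 0,
  nat_lit 0,
  nat_lit 0,
  nat_lit 0,
  nat_lit 0,
  nat_lit 0,
  nat_lit 0,
  nat_lit 0,
  nat_lit 0,
  nat_lit 0,
  nat_lit 0,
  nat_lit 0x10804036c5be0985a84,
  nat_lit 0x269808124b2a5778e9,
  nat_lit 0,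
  nat_lit 0,
  nat_lit 0,
  nat_lit 0,
  nat_lit 0,
  nat_lit 0,
  nat_lit 0,
  nat_lit 0,
  nat_lit 0,
  nat_lit 0,
  nat_lit 0,
  nat_lit 0,
  nat_lit 0,
  nat_lit 0,
  nat_lit 0,
  nat_lit 0,
  nat_lit 0,
  nat_lit 0,
  nat_lit 0,
  nat_lit 0,
  nat_lit 0,
  nat_lit 0,
  nat_lit 0x9e095d2835775ca8,
  nat_lit 0,
  nat_lit 0,
  nat_lit 0x28a318e270f74dd0d,
  nat_lit 0xc000420900085c8,
  nat_lit 0,
  nat_lit 0,
  nat_lit 0,
  nat_lit 0,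
  nat_lit 0,
  nat_lit 0,
  nat_lit 0,
  nat_lit 0x218b8dbac5d048667,
  nat_lit 0x29a2003373f215d19,
  nat_lit 0,
  nat_lit 0x290300a371e637e91,
  nat_lit 0x1a000d38b041c558,
  nat_lit 0xa0004209000c5c8,
  nat_lit 0,
  nat_lit 0,
  nat_lit 0,
  nat_lit 0,
  nat_lit 0,
  nat_lit 0,
  nat_lit 0x290681e089c234569,
  nat_lit 0x28a051903b6bb73fc,
  nat_lit 0x8008197824663da0,
  nat_lit 0x9000c0b8ac16e68,
  nat_lit 0x88000d1ba6463a68,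
  nat_lit 0x29000091b372d90a0,
  nat_lit 0x80004209000c5c8,
  nat_lit 0,
  nat_lit 0,
  nat_lit 0,
  nat_lit 0,
  nat_lit 0,
  nat_lit 0x2c81711c9882,
  nat_lit 0xd08b043aa50,
  nat_lit 0,
  nat_lit 0x1a0100100103a388,
  nat_lit 0x40090028280,
  nat_lit 0x400900282c4,
  nat_lit 0x100000274a00,
  nat_lit 0x400900282c0,
  nat_lit 0,
  nat_lit 0,
  nat_lit 0,
  nat_lit 0,
  nat_lit 0x883370e8a3a,
  nat_lit 0x62098034ed0,
  nat_lit 2,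
  nat_lit 0x88081d18b464fa68,
  nat_lit 0x316049018,
  nat_lit 0x82001084400,
  nat_lit 0x316048010,
  nat_lit 0x310048010,
  nat_lit 0x316048018,
  nat_lit 0,
  nat_lit 0,
  nat_lit 0,
  nat_lit 0x208a33c4ee430,
  nat_lit 1,
  nat_lit 0x800204b2a00,
  nat_lit 0x290200713af239ad1,
  nat_lit 0x91820402090,
  nat_lit 0x2001424600,
  nat_lit 0x2001426700,
  nat_lit 0x8008a0280,
  nat_lit 0x2000024600,
  nat_lit 0x2001426600,
  nat_lit 0,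
  nat_lit 0,
  nat_lit 0x240316141098,
  nat_lit 0x2001004400,
  nat_lit 0x314068210,
  nat_lit 0,
  nat_lit 0x10170a00,
  nat_lit 0x20280,
  nat_lit 0x24200,
  nat_lit 0x28200,
  nat_lit 0x20000,
  nat_lit 0x400,
  nat_lit 0x20200,
  nat_lit 0,
  nat_lit 0x110060200,
  nat_lit 0x8000b0a80,
  nat_lit 0x2008034e00,
  nat_lit 0x40010138a80,
  nat_lit 0x110800,
  nat_lit 0x90800,
  nat_lit 0x210800,
  nat_lit 0x10810,
  nat_lit 0x10820,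
  nat_lit 0x800,
  nat_lit 0x50800,
  nat_lit 0x10800]
noncomputable def Wsx2 : List (List ℕ) := [[nat_lit 10],
  [nat_lit 2, nat_lit 4, nat_lit 7],
  [nat_lit 0, nat_lit 1, nat_lit 4, nat_lit 5, nat_lit 7, nat_lit 8, nat_lit 9],
  [nat_lit 8, nat_lit 9, nat_lit 11],
  [nat_lit 1, nat_lit 6],
  [nat_lit 7, nat_lit 11],
  [nat_lit 8],
  [nat_lit 0],
  [nat_lit 1],
  [nat_lit 2],
  [nat_lit 3]]
noncomputable def LDx2_8d : ℕ := nat_lit 0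
noncomputable def LDx2_8 (u : ℕ) : ℕ := Nat.land (Nat.shiftRight LDx2_8d (Nat.mul u (nat_lit 1))) (nat_lit 1)
noncomputable def Ptx2_8d : ℕ := nat_lit 0xb101
noncomputable def Ptx2_8 (u : ℕ) : ℕ := Nat.land (Nat.shiftRight Ptx2_8d (Nat.mul u (nat_lit 8))) (nat_lit 255)
noncomputable def Qx2_8d : ℕ := nat_lit 0x200000000000000000000000000000000000000000000
noncomputable def Qx2_8 (u : ℕ) : ℕ := Nat.land (Nat.shiftRight Qx2_8d (Nat.mul u (nat_lit 1))) (nat_lit 1)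
noncomputable def lx2_8 : Lev := ⟨2, 1, LDx2_8, Ptx2_8, Qx2_8⟩
noncomputable def LDx2_7d : ℕ := nat_lit 2
noncomputable def LDx2_7 (u : ℕ) : ℕ := Nat.land (Nat.shiftRight LDx2_7d (Nat.mul u (nat_lit 1))) (nat_lit 1)
noncomputable def Ptx2_7d : ℕ := nat_lit 0xa03f
noncomputable def Ptx2_7 (u : ℕ) : ℕ := Nat.land (Nat.shiftRight Ptx2_7d (Nat.mul u (nat_lit 8))) (nat_lit 255)
noncomputable def Qx2_7d : ℕ := nat_lit 0x10000000000000000000000000000000000000000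
noncomputable def Qx2_7 (u : ℕ) : ℕ := Nat.land (Nat.shiftRight Qx2_7d (Nat.mul u (nat_lit 1))) (nat_lit 1)
noncomputable def lx2_7 : Lev := ⟨2, 2, LDx2_7, Ptx2_7, Qx2_7⟩
noncomputable def LDx2_6d : ℕ := nat_lit 8
noncomputable def LDx2_6 (u : ℕ) : ℕ := Nat.land (Nat.shiftRight LDx2_6d (Nat.mul u (nat_lit 2))) (nat_lit 3)
noncomputable def Ptx2_6d : ℕ := nat_lit 0x2643c
noncomputable def Ptx2_6 (u : ℕ) : ℕ := Nat.land (Nat.shiftRight Ptx2_6d (Nat.mul u (nat_lit 9))) (nat_lit 511)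
noncomputable def Qx2_6d : ℕ := nat_lit 0x40000000000000000000000000000000000000000000000000000000000000000000000000000
noncomputable def Qx2_6 (u : ℕ) : ℕ := Nat.land (Nat.shiftRight Qx2_6d (Nat.mul u (nat_lit 1))) (nat_lit 1)
noncomputable def lx2_6 : Lev := ⟨2, 3, LDx2_6, Ptx2_6, Qx2_6⟩
noncomputable def LDx2_5d : ℕ := nat_lit 0xc
noncomputable def LDx2_5 (u : ℕ) : ℕ := Nat.land (Nat.shiftRight LDx2_5d (Nat.mul u (nat_lit 2))) (nat_lit 3)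
noncomputable def Ptx2_5d : ℕ := nat_lit 0xad35
noncomputable def Ptx2_5 (u : ℕ) : ℕ := Nat.land (Nat.shiftRight Ptx2_5d (Nat.mul u (nat_lit 8))) (nat_lit 255)
noncomputable def Qx2_5d : ℕ := nat_lit 0x20000000000000000000000000000000000000000000
noncomputable def Qx2_5 (u : ℕ) : ℕ := Nat.land (Nat.shiftRight Qx2_5d (Nat.mul u (nat_lit 1))) (nat_lit 1)
noncomputable def lx2_5 : Lev := ⟨2, 4, LDx2_5, Ptx2_5, Qx2_5⟩
noncomputable def LDx2_4d : ℕ := nat_lit 0x20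
noncomputable def LDx2_4 (u : ℕ) : ℕ := Nat.land (Nat.shiftRight LDx2_4d (Nat.mul u (nat_lit 3))) (nat_lit 7)
noncomputable def Ptx2_4d : ℕ := nat_lit 0x30a2b
noncomputable def Ptx2_4 (u : ℕ) : ℕ := Nat.land (Nat.shiftRight Ptx2_4d (Nat.mul u (nat_lit 9))) (nat_lit 511)
noncomputable def Qx2_4d : ℕ := nat_lit 0x20000000000000000000000000000000000000000000000000000000000000000000000000000000000000000000000000
noncomputable def Qx2_4 (u : ℕ) : ℕ := Nat.land (Nat.shiftRight Qx2_4d (Nat.mul u (nat_lit 1))) (nat_lit 1)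
noncomputable def lx2_4 : Lev := ⟨2, 5, LDx2_4, Ptx2_4, Qx2_4⟩
noncomputable def LDx2_3d : ℕ := nat_lit 0x28
noncomputable def LDx2_3 (u : ℕ) : ℕ := Nat.land (Nat.shiftRight LDx2_3d (Nat.mul u (nat_lit 3))) (nat_lit 7)
noncomputable def Ptx2_3d : ℕ := nat_lit 0xc72a
noncomputable def Ptx2_3 (u : ℕ) : ℕ := Nat.land (Nat.shiftRight Ptx2_3d (Nat.mul u (nat_lit 8))) (nat_lit 255)
noncomputable def Qx2_3d : ℕ := nat_lit 0x80000000000000000000000000000000000000000000000000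
noncomputable def Qx2_3 (u : ℕ) : ℕ := Nat.land (Nat.shiftRight Qx2_3d (Nat.mul u (nat_lit 1))) (nat_lit 1)
noncomputable def lx2_3 : Lev := ⟨2, 6, LDx2_3, Ptx2_3, Qx2_3⟩
noncomputable def LDx2_2d : ℕ := nat_lit 0x30
noncomputable def LDx2_2 (u : ℕ) : ℕ := Nat.land (Nat.shiftRight LDx2_2d (Nat.mul u (nat_lit 3))) (nat_lit 7)
noncomputable def Ptx2_2d : ℕ := nat_lit 0xdb08
noncomputable def Ptx2_2 (u : ℕ) : ℕ := Nat.land (Nat.shiftRight Ptx2_2d (Nat.mul u (nat_lit 8))) (nat_lit 255)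
noncomputable def Qx2_2d : ℕ := nat_lit 0x8000000000000000000000000000000000000000000000000000000
noncomputable def Qx2_2 (u : ℕ) : ℕ := Nat.land (Nat.shiftRight Qx2_2d (Nat.mul u (nat_lit 1))) (nat_lit 1)
noncomputable def lx2_2 : Lev := ⟨2, 7, LDx2_2, Ptx2_2, Qx2_2⟩
noncomputable def LDx2_1d : ℕ := nat_lit 0xb2ed8a64274e1b304c90f1220380
noncomputable def LDx2_1 (u : ℕ) : ℕ := Nat.land (Nat.shiftRight LDx2_1d (Nat.mul u (nat_lit 7))) (nat_lit 127)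
noncomputable def Ptx2_1d : ℕ := nat_lit 0x500fe663c1accb44dbc293c102a568ad8e06
noncomputable def Ptx2_1 (u : ℕ) : ℕ := Nat.land (Nat.shiftRight Ptx2_1d (Nat.mul u (nat_lit 9))) (nat_lit 511)
noncomputable def Qx2_1d : ℕ := nat_lit 0x900000000000000000000000000007000000000000000000000000000000000000000000000000000000000000000000000000000000000da0000000000000000000000000000000000000000000000000000000000000000000000000000000000000080000000000000000000100000000000000000000000003000000000000f000000000000000000000000000000000000000000000000000000000000000000000000000000006000000000000000e00c000000b00000000024000000000000000000000000000000000500000000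
noncomputable def Qx2_1 (u : ℕ) : ℕ := Nat.land (Nat.shiftRight Qx2_1d (Nat.mul u (nat_lit 4))) (nat_lit 15)
noncomputable def lx2_1 : Lev := ⟨16, 10, LDx2_1, Ptx2_1, Qx2_1⟩
noncomputable def LDx2_0d : ℕ := nat_lit 0xa0
noncomputable def LDx2_0 (u : ℕ) : ℕ := Nat.land (Nat.shiftRight LDx2_0d (Nat.mul u (nat_lit 4))) (nat_lit 15)
noncomputable def Ptx2_0d : ℕ := nat_lit 0xcaef2
noncomputable def Ptx2_0 (u : ℕ) : ℕ := Nat.land (Nat.shiftRight Ptx2_0d (Nat.mul u (nat_lit 10))) (nat_lit 1023)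
noncomputable def Qx2_0d : ℕ := nat_lit 0x80000000000000000000000000000000000000000000000000000000000000000000000000000000000000000000000000000000000000000000000000000000000000000000000000000000000000000000000000000000000000000000000000000000000
noncomputable def Qx2_0 (u : ℕ) : ℕ := Nat.land (Nat.shiftRight Qx2_0d (Nat.mul u (nat_lit 1))) (nat_lit 1)
noncomputable def lx2_0 : Lev := ⟨2, 11, LDx2_0, Ptx2_0, Qx2_0⟩
noncomputable def Lx2 : List Lev := [lx2_0, lx2_1, lx2_2, lx2_3, lx2_4, lx2_5, lx2_6, lx2_7, lx2_8]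
noncomputable def Bx2 : List ℕ := [nat_lit 754, nat_lit 6, nat_lit 8, nat_lit 42, nat_lit 43, nat_lit 53, nat_lit 60, nat_lit 63, nat_lit 1]

theorem id7_0 : c7.idnChk (nat_lit 17) I7_0 = true := by decide +kernel
theorem rw7_0 : c7.rowChk S7 (Yo7.map (·.1) ++ Ds7) La7 (nat_lit 0) (nat_lit 4) = true := by decide +kernel
theorem ord7 : c7.ordChk Yo7 Ds7 = true := by decide +kernel
theorem rule7_0 : allZ (c7.ruleEnt (wdsP H16.D42.P Us7) H16.D42.B) (nat_lit 0) (nat_lit 4) = true := by decide +kernel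
theorem fus7_0 : allZ (c7.fusEnt (wdsP H16.D42.P Us7) (wdsP H16.D42.P Fs7) H16.D42.B) (nat_lit 0) (nat_lit 2) = true := by decide +kernel
theorem lvx7_1e_0 : allZ (lx7_1.ent (wdsP (wdsP H16.D42.P Us7) Wsx7)) (nat_lit 0) (nat_lit 6) = true := by decide +kernel
theorem lvx7_1b : 0 < lx7_1.n ∧ 0 < lx7_1.K ∧ lx7_1.Pt 0 < 819 ∧ lx7_1.Q (lx7_1.Pt 0) = 0 ∧ 0 ≤ lx7_1.K ∧ fixLetters (wdsP (wdsP H16.D42.P Us7) Wsx7) (nat_lit 0) (lx7_1.Pt 0) = true := by decide +kernel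
theorem lvx7_0e_0 : allZ (lx7_0.ent (wdsP (wdsP H16.D42.P Us7) Wsx7)) (nat_lit 0) (nat_lit 6) = true := by decide +kernel
theorem lvx7_0b : 0 < lx7_0.n ∧ 0 < lx7_0.K ∧ lx7_0.Pt 0 < 819 ∧ lx7_0.Q (lx7_0.Pt 0) = 0 ∧ 1 ≤ lx7_0.K ∧ fixLetters (wdsP (wdsP H16.D42.P Us7) Wsx7) (nat_lit 1) (lx7_0.Pt 0) = true := by decide +kernel
theorem basex7 : chainBase Lx7 = Bx7 ∧ ltAll (nat_lit 819) Bx7 = 0 ∧ topK Lx7 = 2 := by decide +kernel
theorem h0_7 : allL (ltAll 6) Us7 = true ∧ allL (ltAll 6) Fs7 = true ∧ Us7.length ≤ c7.n ∧ 0 < 211341312 := by decide +kernel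
theorem h1_7 : allL (ltAll c7.n) Wsx7 = true ∧ chainCard Lx7 = (c7.p1 + 1) ^ c7.n ∧ c7.n * c7.n = 4 := by decide +kernel
theorem h2_7 : c7.Fmt ∧ c7.p1 + 1 = 7 ∧ c7.N1 + 1 = 7 ^ (0 + 1) ∧ 211341312 = 7 ^ c7.n * (211341312 / 7 ^ c7.n) ∧
    Nat.Coprime (211341312 / 7 ^ c7.n) (c7.N1 + 1) ∧ (Yo7.map (·.2.1)).prod ≤ 7 ^ 0 ∧ c7.n * c7.n = 4 := by decide +kernel
theorem h3_7 : c7.C = 2 := by decide +kernel
theorem id3_0 : c3.idnChk (nat_lit 28) I3_0 = true := by decide +kernel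
theorem rw3_0 : c3.rowChk S3 (Yo3.map (·.1) ++ Ds3) La3 (nat_lit 0) (nat_lit 16) = true := by decide +kernel
theorem ord3 : c3.ordChk Yo3 Ds3 = true := by decide +kernel
theorem rule3_0 : allZ (c3.ruleEnt (wdsP H16.D42.P Us3) H16.D42.B) (nat_lit 0) (nat_lit 16) = true := by decide +kernel
theorem fus3_0 : allZ (c3.fusEnt (wdsP H16.D42.P Us3) (wdsP H16.D42.P Fs3) H16.D42.B) (nat_lit 0) (nat_lit 4) = true := by decide +kernel
theorem lvx3_2e_0 : allZ (lx3_2.ent (wdsP (wdsP H16.D42.P Us3) Wsx3)) (nat_lit 0) (nat_lit 2) = true := by decide +kernel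
theorem lvx3_2b : 0 < lx3_2.n ∧ 0 < lx3_2.K ∧ lx3_2.Pt 0 < 819 ∧ lx3_2.Q (lx3_2.Pt 0) = 0 ∧ 0 ≤ lx3_2.K ∧ fixLetters (wdsP (wdsP H16.D42.P Us3) Wsx3) (nat_lit 0) (lx3_2.Pt 0) = true := by decide +kernel
theorem lvx3_1e_0 : allZ (lx3_1.ent (wdsP (wdsP H16.D42.P Us3) Wsx3)) (nat_lit 0) (nat_lit 2) = true := by decide +kernel
theorem lvx3_1b : 0 < lx3_1.n ∧ 0 < lx3_1.K ∧ lx3_1.Pt 0 < 819 ∧ lx3_1.Q (lx3_1.Pt 0) = 0 ∧ 1 ≤ lx3_1.K ∧ fixLetters (wdsP (wdsP H16.D42.P Us3) Wsx3) (nat_lit 1) (lx3_1.Pt 0) = true := by decide +kernel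
theorem lvx3_0e_0 : allZ (lx3_0.ent (wdsP (wdsP H16.D42.P Us3) Wsx3)) (nat_lit 0) (nat_lit 8) = true := by decide +kernel
theorem lvx3_0b : 0 < lx3_0.n ∧ 0 < lx3_0.K ∧ lx3_0.Pt 0 < 819 ∧ lx3_0.Q (lx3_0.Pt 0) = 0 ∧ 2 ≤ lx3_0.K ∧ fixLetters (wdsP (wdsP H16.D42.P Us3) Wsx3) (nat_lit 2) (lx3_0.Pt 0) = true := by decide +kernel
theorem basex3 : chainBase Lx3 = Bx3 ∧ ltAll (nat_lit 819) Bx3 = 0 ∧ topK Lx3 = 3 := by decide +kernel
theorem h0_3 : allL (ltAll 6) Us3 = true ∧ allL (ltAll 6) Fs3 = true ∧ Us3.length ≤ c3.n ∧ 0 < 211341312 := by decide +kernel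
theorem h1_3 : allL (ltAll c3.n) Wsx3 = true ∧ chainCard Lx3 = (c3.p1 + 1) ^ c3.n ∧ c3.n * c3.n = 16 := by decide +kernel
theorem h2_3 : c3.Fmt ∧ c3.p1 + 1 = 3 ∧ c3.N1 + 1 = 3 ^ (0 + 1) ∧ 211341312 = 3 ^ c3.n * (211341312 / 3 ^ c3.n) ∧
    Nat.Coprime (211341312 / 3 ^ c3.n) (c3.N1 + 1) ∧ (Yo3.map (·.2.1)).prod ≤ 3 ^ 0 ∧ c3.n * c3.n = 16 := by decide +kernel
theorem h3_3 : c3.C = 4 := by decide +kernel
theorem id2_0 : c2.idnChk (nat_lit 79) I2_0 = true := by decide +kernel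
theorem rw2_0 : c2.rowChk S2 (Yo2.map (·.1) ++ Ds2) La2 (nat_lit 0) (nat_lit 144) = true := by decide +kernel
theorem ord2 : c2.ordChk Yo2 Ds2 = true := by decide +kernel
theorem rule2_0 : allZ (c2.ruleEnt (wdsP H16.D42.P Us2) H16.D42.B) (nat_lit 0) (nat_lit 144) = true := by decide +kernel
theorem fus2_0 : allZ (c2.fusEnt (wdsP H16.D42.P Us2) (wdsP H16.D42.P Fs2) H16.D42.B) (nat_lit 0) (nat_lit 21) = true := by decide +kernel
theorem lvx2_8e_0 : allZ (lx2_8.ent (wdsP (wdsP H16.D42.P Us2) Wsx2)) (nat_lit 0) (nat_lit 1) = true := by decide +kernel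
theorem lvx2_8b : 0 < lx2_8.n ∧ 0 < lx2_8.K ∧ lx2_8.Pt 0 < 819 ∧ lx2_8.Q (lx2_8.Pt 0) = 0 ∧ 0 ≤ lx2_8.K ∧ fixLetters (wdsP (wdsP H16.D42.P Us2) Wsx2) (nat_lit 0) (lx2_8.Pt 0) = true := by decide +kernel
theorem lvx2_7e_0 : allZ (lx2_7.ent (wdsP (wdsP H16.D42.P Us2) Wsx2)) (nat_lit 0) (nat_lit 1) = true := by decide +kernel
theorem lvx2_7b : 0 < lx2_7.n ∧ 0 < lx2_7.K ∧ lx2_7.Pt 0 < 819 ∧ lx2_7.Q (lx2_7.Pt 0) = 0 ∧ 1 ≤ lx2_7.K ∧ fixLetters (wdsP (wdsP H16.D42.P Us2) Wsx2) (nat_lit 1) (lx2_7.Pt 0) = true := by decide +kernel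
theorem lvx2_6e_0 : allZ (lx2_6.ent (wdsP (wdsP H16.D42.P Us2) Wsx2)) (nat_lit 0) (nat_lit 1) = true := by decide +kernel
theorem lvx2_6b : 0 < lx2_6.n ∧ 0 < lx2_6.K ∧ lx2_6.Pt 0 < 819 ∧ lx2_6.Q (lx2_6.Pt 0) = 0 ∧ 2 ≤ lx2_6.K ∧ fixLetters (wdsP (wdsP H16.D42.P Us2) Wsx2) (nat_lit 2) (lx2_6.Pt 0) = true := by decide +kernel
theorem lvx2_5e_0 : allZ (lx2_5.ent (wdsP (wdsP H16.D42.P Us2) Wsx2)) (nat_lit 0) (nat_lit 1) = true := by decide +kernel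
theorem lvx2_5b : 0 < lx2_5.n ∧ 0 < lx2_5.K ∧ lx2_5.Pt 0 < 819 ∧ lx2_5.Q (lx2_5.Pt 0) = 0 ∧ 3 ≤ lx2_5.K ∧ fixLetters (wdsP (wdsP H16.D42.P Us2) Wsx2) (nat_lit 3) (lx2_5.Pt 0) = true := by decide +kernel
theorem lvx2_4e_0 : allZ (lx2_4.ent (wdsP (wdsP H16.D42.P Us2) Wsx2)) (nat_lit 0) (nat_lit 1) = true := by decide +kernel
theorem lvx2_4b : 0 < lx2_4.n ∧ 0 < lx2_4.K ∧ lx2_4.Pt 0 < 819 ∧ lx2_4.Q (lx2_4.Pt 0) = 0 ∧ 4 ≤ lx2_4.K ∧ fixLetters (wdsP (wdsP H16.D42.P Us2) Wsx2) (nat_lit 4) (lx2_4.Pt 0) = true := by decide +kernel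
theorem lvx2_3e_0 : allZ (lx2_3.ent (wdsP (wdsP H16.D42.P Us2) Wsx2)) (nat_lit 0) (nat_lit 1) = true := by decide +kernel
theorem lvx2_3b : 0 < lx2_3.n ∧ 0 < lx2_3.K ∧ lx2_3.Pt 0 < 819 ∧ lx2_3.Q (lx2_3.Pt 0) = 0 ∧ 5 ≤ lx2_3.K ∧ fixLetters (wdsP (wdsP H16.D42.P Us2) Wsx2) (nat_lit 5) (lx2_3.Pt 0) = true := by decide +kernel
theorem lvx2_2e_0 : allZ (lx2_2.ent (wdsP (wdsP H16.D42.P Us2) Wsx2)) (nat_lit 0) (nat_lit 1) = true := by decide +kernel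
theorem lvx2_2b : 0 < lx2_2.n ∧ 0 < lx2_2.K ∧ lx2_2.Pt 0 < 819 ∧ lx2_2.Q (lx2_2.Pt 0) = 0 ∧ 6 ≤ lx2_2.K ∧ fixLetters (wdsP (wdsP H16.D42.P Us2) Wsx2) (nat_lit 6) (lx2_2.Pt 0) = true := by decide +kernel
theorem lvx2_1e_0 : allZ (lx2_1.ent (wdsP (wdsP H16.D42.P Us2) Wsx2)) (nat_lit 0) (nat_lit 15) = true := by decide +kernel
theorem lvx2_1b : 0 < lx2_1.n ∧ 0 < lx2_1.K ∧ lx2_1.Pt 0 < 819 ∧ lx2_1.Q (lx2_1.Pt 0) = 0 ∧ 7 ≤ lx2_1.K ∧ fixLetters (wdsP (wdsP H16.D42.P Us2) Wsx2) (nat_lit 7) (lx2_1.Pt 0) = true := by decide +kernel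
theorem lvx2_0e_0 : allZ (lx2_0.ent (wdsP (wdsP H16.D42.P Us2) Wsx2)) (nat_lit 0) (nat_lit 1) = true := by decide +kernel
theorem lvx2_0b : 0 < lx2_0.n ∧ 0 < lx2_0.K ∧ lx2_0.Pt 0 < 819 ∧ lx2_0.Q (lx2_0.Pt 0) = 0 ∧ 10 ≤ lx2_0.K ∧ fixLetters (wdsP (wdsP H16.D42.P Us2) Wsx2) (nat_lit 10) (lx2_0.Pt 0) = true := by decide +kernel
theorem basex2 : chainBase Lx2 = Bx2 ∧ ltAll (nat_lit 819) Bx2 = 0 ∧ topK Lx2 = 11 := by decide +kernel
theorem h0_2 : allL (ltAll 6) Us2 = true ∧ allL (ltAll 6) Fs2 = true ∧ Us2.length ≤ c2.n ∧ 0 < 211341312 := by decide +kernel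
theorem h1_2 : allL (ltAll c2.n) Wsx2 = true ∧ chainCard Lx2 = (c2.p1 + 1) ^ c2.n ∧ c2.n * c2.n = 144 := by decide +kernel
theorem h2_2 : c2.Fmt ∧ c2.p1 + 1 = 2 ∧ c2.N1 + 1 = 2 ^ (0 + 1) ∧ 211341312 = 2 ^ c2.n * (211341312 / 2 ^ c2.n) ∧
    Nat.Coprime (211341312 / 2 ^ c2.n) (c2.N1 + 1) ∧ (Yo2.map (·.2.1)).prod ≤ 2 ^ 0 ∧ c2.n * c2.n = 144 := by decide +kernel
theorem h3_2 : c2.C = 21 := by decide +kernel

instance fin : Finite (gen H16.D42.g 6) := Nat.finite_of_card_ne_zero (by rw [H16.D42.card]; decide)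
theorem zero7 : ∀ D ∈ Ds7, c7.Zero D := (Pc.zero_of_chk id7_0)
theorem rows7 : ∀ r < 4, c7.Row S7 (Yo7.map (·.1)) r :=
  (Pc.rows_glue zero7 Pc.rows_zero rw7_0)
theorem rule7 : ∀ i < 4, (c7.ruleEnt (wdsP H16.D42.P Us7) H16.D42.B) i = 0 := allZ_sound0 rule7_0
theorem fus7 : ∀ i < 2, (c7.fusEnt (wdsP H16.D42.P Us7) (wdsP H16.D42.P Fs7) H16.D42.B) i = 0 := allZ_sound0 fus7_0
theorem lvx7_1e : ∀ i < 6, (lx7_1.ent (wdsP (wdsP H16.D42.P Us7) Wsx7)) i = 0 := allZ_sound0 lvx7_1e_0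
theorem lvx7_0e : ∀ i < 6, (lx7_0.ent (wdsP (wdsP H16.D42.P Us7) Wsx7)) i = 0 := allZ_sound0 lvx7_0e_0
theorem lowx7 : LowChain (wdsP (wdsP H16.D42.P Us7) Wsx7) 819 Lx7 :=
  ⟨⟨lvx7_0b.1, lvx7_0b.2.1, lvx7_0b.2.2.1, lvx7_0b.2.2.2.1, lvx7_0e⟩, lvx7_0b.2.2.2.2.1, lvx7_0b.2.2.2.2.2, ⟨⟨lvx7_1b.1, lvx7_1b.2.1, lvx7_1b.2.2.1, lvx7_1b.2.2.2.1, lvx7_1e⟩, lvx7_1b.2.2.2.2.1, lvx7_1b.2.2.2.2.2, trivial⟩⟩
open scoped Pointwise in
theorem pb7 : PB (gen H16.D42.g 6) (7 ^ (0 + 1)) :=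
  (Pc.gok_wds H16.D42.act H16.D42.card (ptF_inj 819) H16.D42.Blt H16.D42.isBase h0_7 h1_7 rule7
    (fun r h => fus7 r (h.trans_eq h3_7)) lowx7).pb (by norm_num) H16.D42.card zero7 rows7 ord7 h2_7
theorem zero3 : ∀ D ∈ Ds3, c3.Zero D := (Pc.zero_of_chk id3_0)
theorem rows3 : ∀ r < 16, c3.Row S3 (Yo3.map (·.1)) r :=
  (Pc.rows_glue zero3 Pc.rows_zero rw3_0)
theorem rule3 : ∀ i < 16, (c3.ruleEnt (wdsP H16.D42.P Us3) H16.D42.B) i = 0 := allZ_sound0 rule3_0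
theorem fus3 : ∀ i < 4, (c3.fusEnt (wdsP H16.D42.P Us3) (wdsP H16.D42.P Fs3) H16.D42.B) i = 0 := allZ_sound0 fus3_0
theorem lvx3_2e : ∀ i < 2, (lx3_2.ent (wdsP (wdsP H16.D42.P Us3) Wsx3)) i = 0 := allZ_sound0 lvx3_2e_0
theorem lvx3_1e : ∀ i < 2, (lx3_1.ent (wdsP (wdsP H16.D42.P Us3) Wsx3)) i = 0 := allZ_sound0 lvx3_1e_0
theorem lvx3_0e : ∀ i < 8, (lx3_0.ent (wdsP (wdsP H16.D42.P Us3) Wsx3)) i = 0 := allZ_sound0 lvx3_0e_0
theorem lowx3 : LowChain (wdsP (wdsP H16.D42.P Us3) Wsx3) 819 Lx3 :=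
  ⟨⟨lvx3_0b.1, lvx3_0b.2.1, lvx3_0b.2.2.1, lvx3_0b.2.2.2.1, lvx3_0e⟩, lvx3_0b.2.2.2.2.1, lvx3_0b.2.2.2.2.2, ⟨⟨lvx3_1b.1, lvx3_1b.2.1, lvx3_1b.2.2.1, lvx3_1b.2.2.2.1, lvx3_1e⟩, lvx3_1b.2.2.2.2.1, lvx3_1b.2.2.2.2.2, ⟨⟨lvx3_2b.1, lvx3_2b.2.1, lvx3_2b.2.2.1, lvx3_2b.2.2.2.1, lvx3_2e⟩, lvx3_2b.2.2.2.2.1, lvx3_2b.2.2.2.2.2, trivial⟩⟩⟩
open scoped Pointwise in
theorem pb3 : PB (gen H16.D42.g 6) (3 ^ (0 + 1)) :=
  (Pc.gok_wds H16.D42.act H16.D42.card (ptF_inj 819) H16.D42.Blt H16.D42.isBase h0_3 h1_3 rule3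
    (fun r h => fus3 r (h.trans_eq h3_3)) lowx3).pb (by norm_num) H16.D42.card zero3 rows3 ord3 h2_3
theorem zero2 : ∀ D ∈ Ds2, c2.Zero D := (Pc.zero_of_chk id2_0)
theorem rows2 : ∀ r < 144, c2.Row S2 (Yo2.map (·.1)) r :=
  (Pc.rows_glue zero2 Pc.rows_zero rw2_0)
theorem rule2 : ∀ i < 144, (c2.ruleEnt (wdsP H16.D42.P Us2) H16.D42.B) i = 0 := allZ_sound0 rule2_0
theorem fus2 : ∀ i < 21, (c2.fusEnt (wdsP H16.D42.P Us2) (wdsP H16.D42.P Fs2) H16.D42.B) i = 0 := allZ_sound0 fus2_0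
theorem lvx2_8e : ∀ i < 1, (lx2_8.ent (wdsP (wdsP H16.D42.P Us2) Wsx2)) i = 0 := allZ_sound0 lvx2_8e_0
theorem lvx2_7e : ∀ i < 1, (lx2_7.ent (wdsP (wdsP H16.D42.P Us2) Wsx2)) i = 0 := allZ_sound0 lvx2_7e_0
theorem lvx2_6e : ∀ i < 1, (lx2_6.ent (wdsP (wdsP H16.D42.P Us2) Wsx2)) i = 0 := allZ_sound0 lvx2_6e_0
theorem lvx2_5e : ∀ i < 1, (lx2_5.ent (wdsP (wdsP H16.D42.P Us2) Wsx2)) i = 0 := allZ_sound0 lvx2_5e_0
theorem lvx2_4e : ∀ i < 1, (lx2_4.ent (wdsP (wdsP H16.D42.P Us2) Wsx2)) i = 0 := allZ_sound0 lvx2_4e_0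
theorem lvx2_3e : ∀ i < 1, (lx2_3.ent (wdsP (wdsP H16.D42.P Us2) Wsx2)) i = 0 := allZ_sound0 lvx2_3e_0
theorem lvx2_2e : ∀ i < 1, (lx2_2.ent (wdsP (wdsP H16.D42.P Us2) Wsx2)) i = 0 := allZ_sound0 lvx2_2e_0
theorem lvx2_1e : ∀ i < 15, (lx2_1.ent (wdsP (wdsP H16.D42.P Us2) Wsx2)) i = 0 := allZ_sound0 lvx2_1e_0
theorem lvx2_0e : ∀ i < 1, (lx2_0.ent (wdsP (wdsP H16.D42.P Us2) Wsx2)) i = 0 := allZ_sound0 lvx2_0e_0
theorem lowx2 : LowChain (wdsP (wdsP H16.D42.P Us2) Wsx2) 819 Lx2 :=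
  ⟨⟨lvx2_0b.1, lvx2_0b.2.1, lvx2_0b.2.2.1, lvx2_0b.2.2.2.1, lvx2_0e⟩, lvx2_0b.2.2.2.2.1, lvx2_0b.2.2.2.2.2, ⟨⟨lvx2_1b.1, lvx2_1b.2.1, lvx2_1b.2.2.1, lvx2_1b.2.2.2.1, lvx2_1e⟩, lvx2_1b.2.2.2.2.1, lvx2_1b.2.2.2.2.2, ⟨⟨lvx2_2b.1, lvx2_2b.2.1, lvx2_2b.2.2.1, lvx2_2b.2.2.2.1, lvx2_2e⟩, lvx2_2b.2.2.2.2.1, lvx2_2b.2.2.2.2.2, ⟨⟨lvx2_3b.1, lvx2_3b.2.1, lvx2_3b.2.2.1, lvx2_3b.2.2.2.1, lvx2_3e⟩, lvx2_3b.2.2.2.2.1, lvx2_3b.2.2.2.2.2, ⟨⟨lvx2_4b.1, lvx2_4b.2.1, lvx2_4b.2.2.1, lvx2_4b.2.2.2.1, lvx2_4e⟩, lvx2_4b.2.2.2.2.1, lvx2_4b.2.2.2.2.2, ⟨⟨lvx2_5b.1, lvx2_5b.2.1, lvx2_5b.2.2.1, lvx2_5b.2.2.2.1, lvx2_5e⟩, lvx2_5b.2.2.2.2.1, lvx2_5b.2.2.2.2.2, ⟨⟨lvx2_6b.1, lvx2_6b.2.1, lvx2_6b.2.2.1, lvx2_6b.2.2.2.1, lvx2_6e⟩, lvx2_6b.2.2.2.2.1, lvx2_6b.2.2.2.2.2, ⟨⟨lvx2_7b.1, lvx2_7b.2.1, lvx2_7b.2.2.1, lvx2_7b.2.2.2.1, lvx2_7e⟩, lvx2_7b.2.2.2.2.1, lvx2_7b.2.2.2.2.2, ⟨⟨lvx2_8b.1, lvx2_8b.2.1,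 lvx2_8b.2.2.1, lvx2_8b.2.2.2.1, lvx2_8e⟩, lvx2_8b.2.2.2.2.1, lvx2_8b.2.2.2.2.2, trivial⟩⟩⟩⟩⟩⟩⟩⟩⟩
open scoped Pointwise in
theorem pb2 : PB (gen H16.D42.g 6) (2 ^ (0 + 1)) :=
  (Pc.gok_wds H16.D42.act H16.D42.card (ptF_inj 819) H16.D42.Blt H16.D42.isBase h0_2 h1_2 rule2
    (fun r h => fus2 r (h.trans_eq h3_2)) lowx2).pb (by norm_num) H16.D42.card zero2 rows2 ord2 h2_2
theorem ker_le (Δ : Type) [Group Δ] [Finite Δ] (τ : Δ →* (gen H16.D42.g 6)) (h : Cfsg.IsStemExtension τ) :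
    Nat.card τ.ker ≤ 1 :=
  card_ker_le (L := [(2, 12, 0), (3, 4, 0), (7, 2, 0), (13, 1, 0)]) ⟨H16.D42.card.trans (by decide +kernel), by decide +kernel⟩
    (all_cons ⟨by norm_num, pb2⟩
    (all_cons ⟨by norm_num, pb3⟩
    (all_cons ⟨by norm_num, pb7⟩
    (all_cons ⟨by norm_num, PB.of_not_sq (by norm_num) (by rw [H16.D42.card]; decide)⟩
    all_nil)))) Δ τ h

end H16.ScD42
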