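import Cfsg.Agent.H16.Sch3
import Cfsg.Agent.H16.M.CoA

/-! Generated by tools/h16 (computation kit). -/

set_option maxRecDepth 100000
set_option maxHeartbeats 0

namespace H16.ScCoA

noncomputable def Us3 : List (List ℕ) := [[nat_lit 0, nat_lit 3, nat_lit 4, nat_lit 6, nat_lit 8, nat_lit 7, nat_lit 8, nat_lit 9, nat_lit 7, nat_lit 10, nat_lit 7, nat_lit 11, nat_lit 7, nat_lit 8, nat_lit 12, nat_lit 0, nat_lit 7, nat_lit 11, nat_lit 7, nat_lit 12, nat_lit 7, nat_lit 8, nat_lit 11, nat_lit 7, nat_lit 9, nat_lit 6],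
  [nat_lit 10, nat_lit 1, nat_lit 4, nat_lit 5, nat_lit 7, nat_lit 0, nat_lit 8, nat_lit 7, nat_lit 6, nat_lit 10, nat_lit 7, nat_lit 11, nat_lit 7, nat_lit 9, nat_lit 11, nat_lit 12, nat_lit 7, nat_lit 9, nat_lit 12, nat_lit 11, nat_lit 12, nat_lit 0, nat_lit 7, nat_lit 9, nat_lit 12, nat_lit 7],
  [nat_lit 2, nat_lit 7, nat_lit 6, nat_lit 10, nat_lit 7, nat_lit 9, nat_lit 7, nat_lit 11, nat_lit 7, nat_lit 11, nat_lit 12, nat_lit 7, nat_lit 10, nat_lit 8, nat_lit 7, nat_lit 8, nat_lit 12, nat_lit 0, nat_lit 9, nat_lit 10]]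
noncomputable def Fs3 : List (List ℕ) := [[nat_lit 11, nat_lit 9, nat_lit 12, nat_lit 1, nat_lit 4, nat_lit 5, nat_lit 6, nat_lit 10, nat_lit 7, nat_lit 9, nat_lit 11, nat_lit 7, nat_lit 9, nat_lit 11, nat_lit 7, nat_lit 11, nat_lit 12, nat_lit 7, nat_lit 12, nat_lit 7, nat_lit 11],
  [nat_lit 1, nat_lit 2, nat_lit 7, nat_lit 8, nat_lit 3, nat_lit 9, nat_lit 7, nat_lit 11, nat_lit 7, nat_lit 9, nat_lit 11, nat_lit 0, nat_lit 7, nat_lit 0, nat_lit 12, nat_lit 7, nat_lit 0, nat_lit 11, nat_lit 9, nat_lit 7, nat_lit 12, nat_lit 9, nat_lit 8]]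
noncomputable def c3 : Pc := ⟨(nat_lit 2), (nat_lit 2), (nat_lit 3), (nat_lit 2), (nat_lit 4), (nat_lit 9),
  [[[]],
  [[nat_lit 1, nat_lit 2], []],
  [[nat_lit 2], [nat_lit 2], []]],
  [((nat_lit 0), [nat_lit 2], [nat_lit 2, nat_lit 2]),
  ((nat_lit 0), [nat_lit 1], [nat_lit 1]),
  ((nat_lit 1), [nat_lit 2], [nat_lit 2]),
  ((nat_lit 1), [nat_lit 1], [nat_lit 0, nat_lit 0, nat_lit 1])]⟩
noncomputable def I3_0 : List Pc.Idn := [⟨false, (nat_lit 0), [nat_lit 1], [nat_lit 0, nat_lit 0], [((nat_lit 12), (nat_lit 1))]⟩,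
  ⟨true, (nat_lit 0), [nat_lit 0, nat_lit 1], [nat_lit 1, nat_lit 0], [((nat_lit 11), (nat_lit 2))]⟩,
  ⟨true, (nat_lit 1), [nat_lit 2, nat_lit 3], [nat_lit 3, nat_lit 2], [((nat_lit 10), (nat_lit 1))]⟩]
noncomputable def Ds3 : List (List (ℕ × ℕ)) := I3_0.map Pc.Idn.D
noncomputable def S3 : List (List (ℕ × ℕ)) := [[],
  [],
  [((nat_lit 7), (nat_lit 1))]]
noncomputable def Yo3 : List (List (ℕ × ℕ) × ℕ × ℕ) := []
noncomputable def La3 : List ℕ := [nat_lit 0,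
  nat_lit 0,
  nat_lit 0,
  nat_lit 0,
  nat_lit 0,
  nat_lit 0,
  nat_lit 9,
  nat_lit 6,
  nat_lit 1]
noncomputable def Wsx3 : List (List ℕ) := [[nat_lit 0, nat_lit 1],
  [nat_lit 2],
  [nat_lit 0]]
noncomputable def LDx3_2d : ℕ := nat_lit 4
noncomputable def LDx3_2 (u : ℕ) : ℕ := Nat.land (Nat.shiftRight LDx3_2d (Nat.mul u (nat_lit 1))) (nat_lit 1)
noncomputable def Ptx3_2d : ℕ := nat_lit 0x1dd500
noncomputable def Ptx3_2 (u : ℕ) : ℕ := Nat.land (Nat.shiftRight Ptx3_2d (Nat.mul u (nat_lit 8))) (nat_lit 255)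
noncomputable def Qx3_2d : ℕ := nat_lit 0x40000000000000000000000000000000000000000000000000000000000000000000000000000000000000000000800000000000000
noncomputable def Qx3_2 (u : ℕ) : ℕ := Nat.land (Nat.shiftRight Qx3_2d (Nat.mul u (nat_lit 2))) (nat_lit 3)
noncomputable def lx3_2 : Lev := ⟨3, 1, LDx3_2, Ptx3_2, Qx3_2⟩
noncomputable def LDx3_1d : ℕ := nat_lit 0x34
noncomputable def LDx3_1 (u : ℕ) : ℕ := Nat.land (Nat.shiftRight LDx3_1d (Nat.mul u (nat_lit 2))) (nat_lit 3)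
noncomputable def Ptx3_1d : ℕ := nat_lit 0x47c1207
noncomputable def Ptx3_1 (u : ℕ) : ℕ := Nat.land (Nat.shiftRight Ptx3_1d (Nat.mul u (nat_lit 9))) (nat_lit 511)
noncomputable def Qx3_1d : ℕ := nat_lit 0x800000000000000000000000000000000000000000000000000000000000000000000000000000000000000000000000000000000000000000000000000000000000000000040000
noncomputable def Qx3_1 (u : ℕ) : ℕ := Nat.land (Nat.shiftRight Qx3_1d (Nat.mul u (nat_lit 2))) (nat_lit 3)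
noncomputable def lx3_1 : Lev := ⟨3, 2, LDx3_1, Ptx3_1, Qx3_1⟩
noncomputable def LDx3_0d : ℕ := nat_lit 0x150
noncomputable def LDx3_0 (u : ℕ) : ℕ := Nat.land (Nat.shiftRight LDx3_0d (Nat.mul u (nat_lit 3))) (nat_lit 7)
noncomputable def Ptx3_0d : ℕ := nat_lit 0x21b24054
noncomputable def Ptx3_0 (u : ℕ) : ℕ := Nat.land (Nat.shiftRight Ptx3_0d (Nat.mul u (nat_lit 10))) (nat_lit 1023)
noncomputable def Qx3_0d : ℕ := nat_lit 0x800000000000000000000000000000000000000000000000000000000000000000000000000000000000000000000000000000000000000000000000000000000000000000000000000000000000000000000000000000000000000000000000000001000000000000000000000000000000000000000000000000000000000000000000000000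
noncomputable def Qx3_0 (u : ℕ) : ℕ := Nat.land (Nat.shiftRight Qx3_0d (Nat.mul u (nat_lit 2))) (nat_lit 3)
noncomputable def lx3_0 : Lev := ⟨3, 3, LDx3_0, Ptx3_0, Qx3_0⟩
noncomputable def Lx3 : List Lev := [lx3_0, lx3_1, lx3_2]
noncomputable def Bx3 : List ℕ := [nat_lit 84, nat_lit 7, nat_lit 0]
noncomputable def Us2 : List (List ℕ) := [[nat_lit 0, nat_lit 3, nat_lit 6, nat_lit 8, nat_lit 3, nat_lit 9, nat_lit 10, nat_lit 0, nat_lit 7, nat_lit 8, nat_lit 11, nat_lit 7, nat_lit 6, nat_lit 8, nat_lit 12, nat_lit 0, nat_lit 7, nat_lit 9, nat_lit 12, nat_lit 7, nat_lit 6, nat_lit 9],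
  [nat_lit 5, nat_lit 6, nat_lit 8, nat_lit 10, nat_lit 7, nat_lit 8, nat_lit 10, nat_lit 11, nat_lit 7, nat_lit 6, nat_lit 8, nat_lit 12, nat_lit 0, nat_lit 7, nat_lit 9, nat_lit 11, nat_lit 0, nat_lit 7, nat_lit 12, nat_lit 7, nat_lit 8, nat_lit 0, nat_lit 10, nat_lit 2, nat_lit 1],
  [nat_lit 10, nat_lit 0, nat_lit 2, nat_lit 6, nat_lit 7, nat_lit 8, nat_lit 9, nat_lit 7, nat_lit 10, nat_lit 5, nat_lit 8, nat_lit 0, nat_lit 7, nat_lit 10, nat_lit 11, nat_lit 7, nat_lit 9, nat_lit 12, nat_lit 7, nat_lit 8, nat_lit 12, nat_lit 11, nat_lit 12, nat_lit 7, nat_lit 8, nat_lit 0],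
  [nat_lit 8, nat_lit 7, nat_lit 12, nat_lit 9, nat_lit 12, nat_lit 10, nat_lit 5, nat_lit 11, nat_lit 7, nat_lit 11, nat_lit 12, nat_lit 7, nat_lit 9, nat_lit 11, nat_lit 0, nat_lit 7, nat_lit 1, nat_lit 2],
  [nat_lit 12, nat_lit 1, nat_lit 11, nat_lit 2, nat_lit 3, nat_lit 4, nat_lit 8, nat_lit 4, nat_lit 7, nat_lit 8, nat_lit 7, nat_lit 11, nat_lit 4, nat_lit 7, nat_lit 8, nat_lit 12, nat_lit 7, nat_lit 10, nat_lit 11, nat_lit 12, nat_lit 9, nat_lit 12, nat_lit 7, nat_lit 11, nat_lit 12],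
  [nat_lit 7, nat_lit 0, nat_lit 6, nat_lit 12, nat_lit 9, nat_lit 12, nat_lit 11, nat_lit 4, nat_lit 7, nat_lit 6, nat_lit 12, nat_lit 7, nat_lit 9, nat_lit 11, nat_lit 12, nat_lit 7, nat_lit 6, nat_lit 12, nat_lit 7, nat_lit 9, nat_lit 12, nat_lit 11, nat_lit 7],
  [nat_lit 0, nat_lit 7, nat_lit 11, nat_lit 12, nat_lit 1, nat_lit 3, nat_lit 4, nat_lit 6, nat_lit 9, nat_lit 3, nat_lit 7, nat_lit 10, nat_lit 7, nat_lit 11, nat_lit 0, nat_lit 7, nat_lit 11, nat_lit 7, nat_lit 9, nat_lit 12, nat_lit 0, nat_lit 7],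
  [nat_lit 12, nat_lit 0, nat_lit 1, nat_lit 3, nat_lit 5, nat_lit 7, nat_lit 9, nat_lit 3, nat_lit 10, nat_lit 0, nat_lit 11, nat_lit 7, nat_lit 10, nat_lit 7, nat_lit 9, nat_lit 11, nat_lit 12, nat_lit 7, nat_lit 9, nat_lit 11, nat_lit 0, nat_lit 7, nat_lit 12, nat_lit 0],
  [nat_lit 0, nat_lit 2, nat_lit 7, nat_lit 10, nat_lit 7, nat_lit 9, nat_lit 11, nat_lit 7, nat_lit 11, nat_lit 10, nat_lit 5, nat_lit 8, nat_lit 10, nat_lit 12, nat_lit 7, nat_lit 11, nat_lit 8, nat_lit 9, nat_lit 7, nat_lit 8],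
  [nat_lit 6, nat_lit 8, nat_lit 9, nat_lit 7, nat_lit 9, nat_lit 10, nat_lit 7, nat_lit 9, nat_lit 0, nat_lit 9, nat_lit 10, nat_lit 8, nat_lit 12, nat_lit 0, nat_lit 7, nat_lit 12, nat_lit 7, nat_lit 5],
  [nat_lit 3, nat_lit 5, nat_lit 12, nat_lit 9, nat_lit 12, nat_lit 7, nat_lit 10, nat_lit 7, nat_lit 9, nat_lit 11, nat_lit 7, nat_lit 10, nat_lit 6, nat_lit 0, nat_lit 12, nat_lit 7, nat_lit 9, nat_lit 7, nat_lit 11, nat_lit 12, nat_lit 7, nat_lit 6, nat_lit 8],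
  [nat_lit 3, nat_lit 8, nat_lit 3, nat_lit 7, nat_lit 9, nat_lit 7, nat_lit 6, nat_lit 10, nat_lit 11, nat_lit 0, nat_lit 11, nat_lit 12, nat_lit 7, nat_lit 9, nat_lit 7, nat_lit 4, nat_lit 1],
  [nat_lit 1, nat_lit 2, nat_lit 7, nat_lit 9, nat_lit 7, nat_lit 6, nat_lit 10, nat_lit 0, nat_lit 11, nat_lit 0, nat_lit 11, nat_lit 12, nat_lit 7, nat_lit 9, nat_lit 7, nat_lit 8],
  [nat_lit 1, nat_lit 2, nat_lit 5, nat_lit 8, nat_lit 4, nat_lit 8, nat_lit 9, nat_lit 10, nat_lit 7, nat_lit 11, nat_lit 7, nat_lit 9, nat_lit 11, nat_lit 0, nat_lit 7, nat_lit 12, nat_lit 7, nat_lit 11, nat_lit 9, nat_lit 7, nat_lit 11, nat_lit 7, nat_lit 10, nat_lit 9, nat_lit 0],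
  [nat_lit 6, nat_lit 11, nat_lit 4, nat_lit 12, nat_lit 0, nat_lit 11, nat_lit 6, nat_lit 12],
  [nat_lit 7, nat_lit 3, nat_lit 7, nat_lit 0, nat_lit 11, nat_lit 4, nat_lit 11],
  [nat_lit 1, nat_lit 3, nat_lit 11, nat_lit 0, nat_lit 11],
  [nat_lit 2, nat_lit 11, nat_lit 12, nat_lit 5, nat_lit 11, nat_lit 12, nat_lit 0],
  [nat_lit 10, nat_lit 2, nat_lit 4, nat_lit 5, nat_lit 10],
  [nat_lit 5, nat_lit 7, nat_lit 3, nat_lit 7, nat_lit 12, nat_lit 0, nat_lit 12],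
  [nat_lit 1, nat_lit 10, nat_lit 3, nat_lit 10, nat_lit 5]]
noncomputable def Fs2 : List (List ℕ) := [[nat_lit 6, nat_lit 0, nat_lit 12, nat_lit 9, nat_lit 12, nat_lit 8, nat_lit 7, nat_lit 3, nat_lit 9, nat_lit 11, nat_lit 4, nat_lit 7, nat_lit 8, nat_lit 7, nat_lit 6, nat_lit 12, nat_lit 7, nat_lit 11, nat_lit 9, nat_lit 7, nat_lit 6, nat_lit 10, nat_lit 7, nat_lit 8, nat_lit 6],
  [nat_lit 9, nat_lit 3, nat_lit 11, nat_lit 5, nat_lit 8, nat_lit 7, nat_lit 8, nat_lit 6, nat_lit 7, nat_lit 9, nat_lit 10, nat_lit 7, nat_lit 9, nat_lit 11, nat_lit 7, nat_lit 9, nat_lit 8, nat_lit 11, nat_lit 12, nat_lit 7, nat_lit 0, nat_lit 12],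
  [nat_lit 1, nat_lit 7, nat_lit 8, nat_lit 7, nat_lit 6, nat_lit 3, nat_lit 8, nat_lit 9, nat_lit 7, nat_lit 8, nat_lit 11, nat_lit 7, nat_lit 8, nat_lit 7, nat_lit 8, nat_lit 11, nat_lit 12, nat_lit 7, nat_lit 8, nat_lit 12, nat_lit 7, nat_lit 11, nat_lit 7],
  [nat_lit 3, nat_lit 4, nat_lit 10, nat_lit 7, nat_lit 9, nat_lit 8, nat_lit 7, nat_lit 10, nat_lit 8, nat_lit 10, nat_lit 11, nat_lit 7, nat_lit 9, nat_lit 8, nat_lit 11, nat_lit 12, nat_lit 0, nat_lit 7, nat_lit 12, nat_lit 7, nat_lit 9],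
  [nat_lit 1, nat_lit 5, nat_lit 7, nat_lit 6, nat_lit 9, nat_lit 7, nat_lit 10, nat_lit 7, nat_lit 6, nat_lit 10, nat_lit 11, nat_lit 12, nat_lit 7, nat_lit 8, nat_lit 11, nat_lit 7, nat_lit 9, nat_lit 7, nat_lit 9, nat_lit 12, nat_lit 4, nat_lit 12, nat_lit 6],
  [nat_lit 0, nat_lit 7, nat_lit 0, nat_lit 6, nat_lit 9, nat_lit 7, nat_lit 3, nat_lit 8, nat_lit 11, nat_lit 7, nat_lit 10, nat_lit 8, nat_lit 10, nat_lit 12, nat_lit 7, nat_lit 10, nat_lit 8, nat_lit 7, nat_lit 8, nat_lit 9, nat_lit 10],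
  [nat_lit 12]]
noncomputable def c2 : Pc := ⟨(nat_lit 1), (nat_lit 3), (nat_lit 21), (nat_lit 5), (nat_lit 76), (nat_lit 19),
  [[[nat_lit 9, nat_lit 11, nat_lit 13, nat_lit 14, nat_lit 15, nat_lit 17, nat_lit 18, nat_lit 20]],
  [[nat_lit 1, nat_lit 5], [nat_lit 5, nat_lit 9, nat_lit 11, nat_lit 13, nat_lit 14, nat_lit 15, nat_lit 16, nat_lit 19]],
  [[nat_lit 2, nat_lit 6], [nat_lit 2, nat_lit 7], [nat_lit 6, nat_lit 10, nat_lit 12, nat_lit 15, nat_lit 17, nat_lit 18, nat_lit 19]],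
  [[nat_lit 3, nat_lit 5, nat_lit 6, nat_lit 10, nat_lit 12, nat_lit 14, nat_lit 15, nat_lit 17, nat_lit 20], [nat_lit 3, nat_lit 8], [nat_lit 3, nat_lit 7, nat_lit 11, nat_lit 12, nat_lit 13, nat_lit 15, nat_lit 17, nat_lit 19], [nat_lit 5, nat_lit 6, nat_lit 8, nat_lit 16, nat_lit 19]],
  [[nat_lit 4, nat_lit 5, nat_lit 6, nat_lit 10, nat_lit 11, nat_lit 12, nat_lit 13, nat_lit 14, nat_lit 15, nat_lit 16, nat_lit 19, nat_lit 20], [nat_lit 4, nat_lit 8, nat_lit 18, nat_lit 19], [nat_lit 4, nat_lit 6, nat_lit 7, nat_lit 9, nat_lit 10, nat_lit 11, nat_lit 12, nat_lit 14, nat_lit 15, nat_lit 18], [nat_lit 4, nat_lit 6, nat_lit 9, nat_lit 10, nat_lit 11, nat_lit 13, nat_lit 15, nat_lit 16, nat_lit 17], [nat_lit 5, nat_lit 8, nat_lit 9, nat_lit 10, nat_lit 11, nat_lit 13, nat_lit 15, nat_lit 18]],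
  [[nat_lit 5, nat_lit 16, nat_lit 17, nat_lit 19, nat_lit 20], [nat_lit 5, nat_lit 16, nat_lit 17, nat_lit 19, nat_lit 20], [nat_lit 5, nat_lit 9], [nat_lit 5, nat_lit 10], [nat_lit 5, nat_lit 10, nat_lit 13, nat_lit 18, nat_lit 19], [nat_lit 18]],
  [[nat_lit 6, nat_lit 13, nat_lit 15, nat_lit 16, nat_lit 17, nat_lit 18, nat_lit 20], [nat_lit 6, nat_lit 11], [nat_lit 6, nat_lit 13, nat_lit 14, nat_lit 16, nat_lit 17], [nat_lit 6, nat_lit 11, nat_lit 14], [nat_lit 6, nat_lit 11, nat_lit 14], [nat_lit 6, nat_lit 13, nat_lit 16, nat_lit 18, nat_lit 19], [nat_lit 16, nat_lit 20]],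
  [[nat_lit 7, nat_lit 9, nat_lit 11, nat_lit 15, nat_lit 17, nat_lit 19, nat_lit 20], [nat_lit 7, nat_lit 9, nat_lit 13, nat_lit 16, nat_lit 19], [nat_lit 7, nat_lit 11, nat_lit 14, nat_lit 16, nat_lit 20], [nat_lit 7, nat_lit 12], [nat_lit 7, nat_lit 11, nat_lit 12, nat_lit 13, nat_lit 15, nat_lit 16, nat_lit 17], [nat_lit 7, nat_lit 13, nat_lit 16, nat_lit 18], [nat_lit 7, nat_lit 15, nat_lit 17, nat_lit 18, nat_lit 19, nat_lit 20], [nat_lit 15, nat_lit 16, nat_lit 17, nat_lit 18, nat_lit 20]],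
  [[nat_lit 8, nat_lit 10, nat_lit 11, nat_lit 14, nat_lit 15, nat_lit 19], [nat_lit 8, nat_lit 10, nat_lit 13, nat_lit 14, nat_lit 19], [nat_lit 8, nat_lit 9, nat_lit 12, nat_lit 13, nat_lit 14, nat_lit 15, nat_lit 16, nat_lit 17, nat_lit 18, nat_lit 19], [nat_lit 8, nat_lit 10, nat_lit 11, nat_lit 14], [nat_lit 8, nat_lit 10, nat_lit 13, nat_lit 14, nat_lit 18, nat_lit 20], [nat_lit 8, nat_lit 13, nat_lit 16, nat_lit 18, nat_lit 20], [nat_lit 8, nat_lit 13, nat_lit 17], [nat_lit 8, nat_lit 13, nat_lit 15, nat_lit 16, nat_lit 17, nat_lit 18], [nat_lit 13, nat_lit 16, nat_lit 17, nat_lit 18, nat_lit 20]],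
  [[nat_lit 9, nat_lit 13], [nat_lit 9, nat_lit 13, nat_lit 18], [nat_lit 9, nat_lit 13, nat_lit 17, nat_lit 18], [nat_lit 9, nat_lit 14], [nat_lit 9, nat_lit 13, nat_lit 14, nat_lit 16, nat_lit 19, nat_lit 20], [nat_lit 9, nat_lit 19], [nat_lit 9, nat_lit 16, nat_lit 19], [nat_lit 9, nat_lit 16, nat_lit 18], [nat_lit 9, nat_lit 17, nat_lit 18, nat_lit 20], []],
  [[nat_lit 10, nat_lit 13, nat_lit 17, nat_lit 18, nat_lit 20], [nat_lit 10, nat_lit 13, nat_lit 16, nat_lit 18, nat_lit 19, nat_lit 20], [nat_lit 10, nat_lit 13, nat_lit 14, nat_lit 18], [nat_lit 10], [nat_lit 10, nat_lit 13, nat_lit 16, nat_lit 18, nat_lit 19, nat_lit 20], [nat_lit 10, nat_lit 20], [nat_lit 10], [nat_lit 10, nat_lit 16, nat_lit 17, nat_lit 18, nat_lit 19, nat_lit 20], [nat_lit 10, nat_lit 20], [nat_lit 10, nat_lit 19, nat_lit 20], [nat_lit 19, nat_lit 20]],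
  [[nat_lit 11, nat_lit 13, nat_lit 18], [nat_lit 11, nat_lit 13], [nat_lit 11, nat_lit 15], [nat_lit 11, nat_lit 19, nat_lit 20], [nat_lit 11, nat_lit 19], [nat_lit 11, nat_lit 19], [nat_lit 11, nat_lit 18, nat_lit 20], [nat_lit 11, nat_lit 19], [nat_lit 11, nat_lit 18, nat_lit 19, nat_lit 20], [nat_lit 11, nat_lit 18, nat_lit 20], [nat_lit 11], [nat_lit 20]],
  [[nat_lit 12, nat_lit 13, nat_lit 14, nat_lit 15, nat_lit 17, nat_lit 20], [nat_lit 12, nat_lit 13, nat_lit 14, nat_lit 15, nat_lit 17, nat_lit 18], [nat_lit 12, nat_lit 16, nat_lit 17, nat_lit 18, nat_lit 19], [nat_lit 12, nat_lit 19, nat_lit 20], [nat_lit 12, nat_lit 15, nat_lit 18, nat_lit 19, nat_lit 20], [nat_lit 12, nat_lit 16, nat_lit 17, nat_lit 18, nat_lit 19, nat_lit 20], [nat_lit 12, nat_lit 18, nat_lit 19], [nat_lit 12, nat_lit 19], [nat_lit 12, nat_lit 16, nat_lit 17, nat_lit 20], [nat_lit 12, nat_lit 18], [nat_lit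 12, nat_lit 19, nat_lit 20], [nat_lit 12], [nat_lit 20]],
  [[nat_lit 13, nat_lit 18, nat_lit 19], [nat_lit 13, nat_lit 18], [nat_lit 13, nat_lit 16], [nat_lit 13, nat_lit 18, nat_lit 20], [nat_lit 13, nat_lit 18, nat_lit 20], [nat_lit 13, nat_lit 20], [nat_lit 13, nat_lit 20], [nat_lit 13, nat_lit 18, nat_lit 20], [nat_lit 13, nat_lit 19], [nat_lit 13, nat_lit 20], [nat_lit 13], [nat_lit 13, nat_lit 20], [nat_lit 13, nat_lit 19, nat_lit 20], [nat_lit 20]],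
  [[nat_lit 14, nat_lit 16, nat_lit 19], [nat_lit 14, nat_lit 17], [nat_lit 14, nat_lit 16, nat_lit 19], [nat_lit 14, nat_lit 16, nat_lit 17, nat_lit 18, nat_lit 19], [nat_lit 14, nat_lit 17, nat_lit 20], [nat_lit 14, nat_lit 19, nat_lit 20], [nat_lit 14], [nat_lit 14, nat_lit 19, nat_lit 20], [nat_lit 14], [nat_lit 14], [nat_lit 14], [nat_lit 14, nat_lit 19], [nat_lit 14, nat_lit 19], [nat_lit 14], []],
  [[nat_lit 15, nat_lit 16, nat_lit 18, nat_lit 19], [nat_lit 15, nat_lit 16, nat_lit 18, nat_lit 19], [nat_lit 15, nat_lit 18], [nat_lit 15], [nat_lit 15, nat_lit 19, nat_lit 20], [nat_lit 15, nat_lit 18, nat_lit 19, nat_lit 20], [nat_lit 15], [nat_lit 15, nat_lit 19], [nat_lit 15, nat_lit 18, nat_lit 19, nat_lit 20], [nat_lit 15, nat_lit 19, nat_lit 20], [nat_lit 15, nat_lit 19], [nat_lit 15], [nat_lit 15], [nat_lit 15, nat_lit 20], [nat_lit 15], []],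
  [[nat_lit 16, nat_lit 19, nat_lit 20], [nat_lit 16, nat_lit 18], [nat_lit 16, nat_lit 19, nat_lit 20], [nat_lit 16, nat_lit 18, nat_lit 19], [nat_lit 16, nat_lit 18, nat_lit 19], [nat_lit 16, nat_lit 20], [nat_lit 16], [nat_lit 16, nat_lit 19], [nat_lit 16, nat_lit 19, nat_lit 20], [nat_lit 16], [nat_lit 16], [nat_lit 16, nat_lit 20], [nat_lit 16, nat_lit 20], [nat_lit 16], [nat_lit 16], [nat_lit 16], []],
  [[nat_lit 17, nat_lit 18, nat_lit 19], [nat_lit 17, nat_lit 20], [nat_lit 17, nat_lit 18], [nat_lit 17, nat_lit 18, nat_lit 19, nat_lit 20], [nat_lit 17, nat_lit 20], [nat_lit 17, nat_lit 20], [nat_lit 17, nat_lit 19, nat_lit 20], [nat_lit 17, nat_lit 20], [nat_lit 17], [nat_lit 17], [nat_lit 17], [nat_lit 17, nat_lit 20], [nat_lit 17, nat_lit 20], [nat_lit 17], [nat_lit 17], [nat_lit 17], [nat_lit 17], []],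
  [[nat_lit 18], [nat_lit 18], [nat_lit 18, nat_lit 19], [nat_lit 18, nat_lit 19], [nat_lit 18, nat_lit 19], [nat_lit 18], [nat_lit 18, nat_lit 20], [nat_lit 18, nat_lit 20], [nat_lit 18, nat_lit 20], [nat_lit 18], [nat_lit 18], [nat_lit 18], [nat_lit 18], [nat_lit 18], [nat_lit 18], [nat_lit 18], [nat_lit 18], [nat_lit 18], []],
  [[nat_lit 19, nat_lit 20], [nat_lit 19, nat_lit 20], [nat_lit 19, nat_lit 20], [nat_lit 19], [nat_lit 19, nat_lit 20], [nat_lit 19], [nat_lit 19], [nat_lit 19], [nat_lit 19], [nat_lit 19], [nat_lit 19], [nat_lit 19], [nat_lit 19], [nat_lit 19], [nat_lit 19], [nat_lit 19], [nat_lit 19], [nat_lit 19], [nat_lit 19], []],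
  [[nat_lit 20], [nat_lit 20], [nat_lit 20], [nat_lit 20], [nat_lit 20], [nat_lit 20], [nat_lit 20], [nat_lit 20], [nat_lit 20], [nat_lit 20], [nat_lit 20], [nat_lit 20], [nat_lit 20], [nat_lit 20], [nat_lit 20], [nat_lit 20], [nat_lit 20], [nat_lit 20], [nat_lit 20], [nat_lit 20], []]],
  [((nat_lit 1), [nat_lit 16], [nat_lit 16]),
  ((nat_lit 1), [nat_lit 11], [nat_lit 11, nat_lit 15, nat_lit 20]),
  ((nat_lit 1), [nat_lit 20], [nat_lit 20]),
  ((nat_lit 3), [nat_lit 15], [nat_lit 15, nat_lit 18, nat_lit 20]),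
  ((nat_lit 3), [nat_lit 13], [nat_lit 13, nat_lit 16, nat_lit 18, nat_lit 19]),
  ((nat_lit 3), [nat_lit 20], [nat_lit 20]),
  ((nat_lit 4), [nat_lit 16], [nat_lit 15, nat_lit 16]),
  ((nat_lit 4), [nat_lit 12], [nat_lit 13, nat_lit 16, nat_lit 17, nat_lit 19]),
  ((nat_lit 4), [nat_lit 20], [nat_lit 20]),
  ((nat_lit 5), [nat_lit 18], [nat_lit 14, nat_lit 19]),
  ((nat_lit 5), [nat_lit 16], [nat_lit 5, nat_lit 7, nat_lit 8, nat_lit 10, nat_lit 14, nat_lit 18]),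
  ((nat_lit 0), [nat_lit 15], [nat_lit 11, nat_lit 12, nat_lit 14, nat_lit 15, nat_lit 17, nat_lit 19]),
  ((nat_lit 0), [nat_lit 10], [nat_lit 10]),
  ((nat_lit 0), [nat_lit 19], [nat_lit 20]),
  ((nat_lit 2), [nat_lit 19], [nat_lit 19, nat_lit 20]),
  ((nat_lit 2), [nat_lit 2], [nat_lit 1, nat_lit 3, nat_lit 6, nat_lit 7, nat_lit 8, nat_lit 9, nat_lit 14, nat_lit 15, nat_lit 18, nat_lit 19]),
  ((nat_lit 2), [nat_lit 20], [nat_lit 20]),
  ((nat_lit 1), [nat_lit 15], [nat_lit 15, nat_lit 18, nat_lit 19]),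
  ((nat_lit 1), [nat_lit 5], [nat_lit 5, nat_lit 13, nat_lit 15, nat_lit 19]),
  ((nat_lit 1), [nat_lit 18], [nat_lit 19]),
  ((nat_lit 1), [nat_lit 19], [nat_lit 18, nat_lit 20]),
  ((nat_lit 0), [nat_lit 9], [nat_lit 9, nat_lit 10, nat_lit 14, nat_lit 16, nat_lit 17, nat_lit 19, nat_lit 20]),
  ((nat_lit 0), [nat_lit 20], [nat_lit 19]),
  ((nat_lit 4), [nat_lit 15], [nat_lit 18]),
  ((nat_lit 4), [nat_lit 9], [nat_lit 2, nat_lit 3, nat_lit 4, nat_lit 5, nat_lit 7, nat_lit 12, nat_lit 15, nat_lit 16]),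
  ((nat_lit 4), [nat_lit 19], [nat_lit 19]),
  ((nat_lit 2), [nat_lit 16], [nat_lit 18, nat_lit 19, nat_lit 20]),
  ((nat_lit 2), [nat_lit 7], [nat_lit 2, nat_lit 3, nat_lit 4, nat_lit 5, nat_lit 7, nat_lit 9, nat_lit 10, nat_lit 15, nat_lit 16, nat_lit 17]),
  ((nat_lit 3), [nat_lit 9], [nat_lit 5, nat_lit 11, nat_lit 13, nat_lit 15, nat_lit 16, nat_lit 17]),
  ((nat_lit 3), [nat_lit 19], [nat_lit 18, nat_lit 19, nat_lit 20]),
  ((nat_lit 6), [nat_lit 13], [nat_lit 6, nat_lit 8, nat_lit 12, nat_lit 14, nat_lit 17, nat_lit 18, nat_lit 19, nat_lit 20]),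
  ((nat_lit 6), [nat_lit 9], [nat_lit 9, nat_lit 16, nat_lit 17, nat_lit 20]),
  ((nat_lit 6), [nat_lit 20], [nat_lit 16, nat_lit 17]),
  ((nat_lit 0), [nat_lit 16], [nat_lit 14, nat_lit 17, nat_lit 19]),
  ((nat_lit 0), [nat_lit 3], [nat_lit 3, nat_lit 5, nat_lit 9, nat_lit 13, nat_lit 15, nat_lit 16, nat_lit 17, nat_lit 20]),
  ((nat_lit 0), [nat_lit 18], [nat_lit 16, nat_lit 17, nat_lit 19]),
  ((nat_lit 6), [nat_lit 11], [nat_lit 0, nat_lit 1, nat_lit 12, nat_lit 16]),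
  ((nat_lit 6), [nat_lit 18], [nat_lit 16, nat_lit 17, nat_lit 18, nat_lit 20]),
  ((nat_lit 6), [nat_lit 15], [nat_lit 5, nat_lit 7, nat_lit 8, nat_lit 10, nat_lit 14, nat_lit 18, nat_lit 19]),
  ((nat_lit 6), [nat_lit 19], [nat_lit 19]),
  ((nat_lit 2), [nat_lit 13], [nat_lit 13, nat_lit 16, nat_lit 18, nat_lit 19]),
  ((nat_lit 2), [nat_lit 0], [nat_lit 0, nat_lit 2, nat_lit 3, nat_lit 4, nat_lit 6, nat_lit 13, nat_lit 16, nat_lit 18, nat_lit 19, nat_lit 20]),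
  ((nat_lit 2), [nat_lit 18], [nat_lit 16, nat_lit 18, nat_lit 19]),
  ((nat_lit 4), [nat_lit 0, nat_lit 1, nat_lit 8], [nat_lit 0, nat_lit 2, nat_lit 8, nat_lit 9, nat_lit 15, nat_lit 16, nat_lit 17, nat_lit 18]),
  ((nat_lit 4), [nat_lit 18], [nat_lit 16, nat_lit 18, nat_lit 19, nat_lit 20]),
  ((nat_lit 2), [nat_lit 12], [nat_lit 6, nat_lit 9, nat_lit 10, nat_lit 12, nat_lit 13, nat_lit 15, nat_lit 20]),
  ((nat_lit 2), [nat_lit 9], [nat_lit 9, nat_lit 13, nat_lit 14, nat_lit 19, nat_lit 20]),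
  ((nat_lit 2), [nat_lit 6], [nat_lit 9, nat_lit 10, nat_lit 11, nat_lit 14, nat_lit 16, nat_lit 17, nat_lit 19, nat_lit 20]),
  ((nat_lit 3), [nat_lit 6], [nat_lit 11, nat_lit 14, nat_lit 15, nat_lit 17]),
  ((nat_lit 3), [nat_lit 16], [nat_lit 19, nat_lit 20]),
  ((nat_lit 4), [nat_lit 11], [nat_lit 13, nat_lit 14, nat_lit 17, nat_lit 18]),
  ((nat_lit 4), [nat_lit 2, nat_lit 8], [nat_lit 2, nat_lit 6, nat_lit 8, nat_lit 10, nat_lit 13, nat_lit 16, nat_lit 17, nat_lit 18, nat_lit 20]),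
  ((nat_lit 2), [nat_lit 11], [nat_lit 6, nat_lit 9, nat_lit 10, nat_lit 11, nat_lit 13, nat_lit 17, nat_lit 18, nat_lit 19, nat_lit 20]),
  ((nat_lit 0), [nat_lit 13], [nat_lit 10, nat_lit 13, nat_lit 14, nat_lit 16, nat_lit 17, nat_lit 19]),
  ((nat_lit 4), [nat_lit 4], [nat_lit 0, nat_lit 2, nat_lit 3, nat_lit 4, nat_lit 8, nat_lit 9, nat_lit 11, nat_lit 14, nat_lit 15, nat_lit 19, nat_lit 20]),
  ((nat_lit 2), [nat_lit 17], [nat_lit 14, nat_lit 16, nat_lit 17, nat_lit 19]),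
  ((nat_lit 2), [nat_lit 10], [nat_lit 10, nat_lit 13, nat_lit 14, nat_lit 16, nat_lit 18]),
  ((nat_lit 2), [nat_lit 14], [nat_lit 16, nat_lit 17, nat_lit 20]),
  ((nat_lit 3), [nat_lit 5], [nat_lit 0, nat_lit 5, nat_lit 7, nat_lit 10, nat_lit 12, nat_lit 14, nat_lit 16, nat_lit 17, nat_lit 18, nat_lit 20]),
  ((nat_lit 3), [nat_lit 18], [nat_lit 16, nat_lit 18]),
  ((nat_lit 1), [nat_lit 12], [nat_lit 5, nat_lit 7, nat_lit 8, nat_lit 9, nat_lit 12, nat_lit 13, nat_lit 14, nat_lit 17, nat_lit 18, nat_lit 19]),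
  ((nat_lit 1), [nat_lit 9], [nat_lit 5, nat_lit 9, nat_lit 11, nat_lit 16, nat_lit 17, nat_lit 19, nat_lit 20]),
  ((nat_lit 4), [nat_lit 14], [nat_lit 11, nat_lit 12, nat_lit 14, nat_lit 16, nat_lit 17, nat_lit 19]),
  ((nat_lit 3), [nat_lit 1, nat_lit 4], [nat_lit 0, nat_lit 1, nat_lit 5, nat_lit 9, nat_lit 10, nat_lit 11, nat_lit 12, nat_lit 14, nat_lit 16, nat_lit 17, nat_lit 20]),
  ((nat_lit 3), [nat_lit 14], [nat_lit 16, nat_lit 17, nat_lit 18, nat_lit 20]),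
  ((nat_lit 4), [nat_lit 3], [nat_lit 0, nat_lit 3, nat_lit 4, nat_lit 7, nat_lit 9, nat_lit 10, nat_lit 12, nat_lit 14, nat_lit 16, nat_lit 17, nat_lit 20]),
  ((nat_lit 4), [nat_lit 17], [nat_lit 14, nat_lit 15, nat_lit 16, nat_lit 17]),
  ((nat_lit 2), [nat_lit 1, nat_lit 4], [nat_lit 6, nat_lit 8, nat_lit 9, nat_lit 11, nat_lit 12, nat_lit 14, nat_lit 15, nat_lit 17, nat_lit 18, nat_lit 20]),
  ((nat_lit 6), [nat_lit 7, nat_lit 8], [nat_lit 7, nat_lit 8, nat_lit 9, nat_lit 14, nat_lit 16, nat_lit 18]),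
  ((nat_lit 6), [nat_lit 5], [nat_lit 6, nat_lit 7, nat_lit 9, nat_lit 10, nat_lit 12, nat_lit 13, nat_lit 16, nat_lit 18, nat_lit 20]),
  ((nat_lit 2), [nat_lit 15], [nat_lit 15, nat_lit 16, nat_lit 18, nat_lit 19, nat_lit 20]),
  ((nat_lit 3), [nat_lit 11], [nat_lit 3, nat_lit 4, nat_lit 5, nat_lit 6, nat_lit 8, nat_lit 10, nat_lit 18, nat_lit 19]),
  ((nat_lit 2), [nat_lit 5], [nat_lit 0, nat_lit 3, nat_lit 4, nat_lit 5, nat_lit 7, nat_lit 8, nat_lit 11, nat_lit 12, nat_lit 14, nat_lit 16, nat_lit 17, nat_lit 19, nat_lit 20]),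
  ((nat_lit 3), [nat_lit 12], [nat_lit 3, nat_lit 4, nat_lit 6, nat_lit 7, nat_lit 15, nat_lit 16, nat_lit 18, nat_lit 19]),
  ((nat_lit 3), [nat_lit 7, nat_lit 8], [nat_lit 1, nat_lit 2, nat_lit 4, nat_lit 5, nat_lit 7, nat_lit 8, nat_lit 11, nat_lit 12, nat_lit 15, nat_lit 17, nat_lit 18, nat_lit 20]),
  ((nat_lit 2), [nat_lit 3, nat_lit 4], [nat_lit 0, nat_lit 1, nat_lit 4, nat_lit 6, nat_lit 7, nat_lit 8, nat_lit 10, nat_lit 12, nat_lit 13, nat_lit 17, nat_lit 19])]⟩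
noncomputable def I2_4 : List Pc.Idn := [⟨true, (nat_lit 2), [nat_lit 27, nat_lit 47], [nat_lit 47, nat_lit 27, nat_lit 70, nat_lit 55, nat_lit 42, nat_lit 14, nat_lit 16], [((nat_lit 70), (nat_lit 1)), ((nat_lit 55), (nat_lit 1)), ((nat_lit 42), (nat_lit 1)), ((nat_lit 14), (nat_lit 1)), ((nat_lit 16), (nat_lit 1)), ((nat_lit 229), (nat_lit 1)), ((nat_lit 267), (nat_lit 1)), ((nat_lit 268), (nat_lit 1)), ((nat_lit 269), (nat_lit 1)), ((nat_lit 270), (nat_lit 1)), ((nat_lit 272), (nat_lit 1)), ((nat_lit 288), (nat_lit 1)), ((nat_lit 289), (nat_lit 1)), ((nat_lit 290), (nat_lit 1)), ((nat_lit 291), (nat_lit 1)), ((nat_lit 293), (nat_lit 1)), ((nat_lit 309), (nat_lit 1)), ((nat_lit 310), (nat_lit 1)), ((nat_lit 311), (nat_lit 1)), ((nat_lit 312), (nat_lit 1)), ((nat_lit 314), (nat_lit 1)), ((nat_lit 316), (nat_lit 1)), ((nat_lit 317), (nat_lit 1)), ((nat_lit 359), (nat_lit 2)), ((nat_lit 362),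 (nat_lit 2)), ((nat_lit 372), (nat_lit 1)), ((nat_lit 374), (nat_lit 1)), ((nat_lit 380), (nat_lit 2)), ((nat_lit 381), (nat_lit 3)), ((nat_lit 383), (nat_lit 1)), ((nat_lit 384), (nat_lit 2)), ((nat_lit 394), (nat_lit 1)), ((nat_lit 395), (nat_lit 1)), ((nat_lit 396), (nat_lit 1)), ((nat_lit 398), (nat_lit 1)), ((nat_lit 402), (nat_lit 3)), ((nat_lit 405), (nat_lit 1)), ((nat_lit 406), (nat_lit 1)), ((nat_lit 414), (nat_lit 1)), ((nat_lit 421), (nat_lit 3)), ((nat_lit 422), (nat_lit 1)), ((nat_lit 423), (nat_lit 3)), ((nat_lit 425), (nat_lit 1)), ((nat_lit 426), (nat_lit 3)), ((nat_lit 427), (nat_lit 1)), ((nat_lit 435), (nat_lit 1)), ((nat_lit 438), (nat_lit 1)), ((nat_lit 440), (nat_lit 1)), ((nat_lit 442), (nat_lit 3)), ((nat_lit 444), (nat_lit 1)), ((nat_lit 446), (nat_lit 1)), ((nat_lit 447), (nat_lit 2)), ((nat_lit 449), (nat_lit 3)), ((nat_lit 450), (nat_lit 2)), ((nat_lit 457),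 (nat_lit 1)), ((nat_lit 458), (nat_lit 1)), ((nat_lit 461), (nat_lit 1)), ((nat_lit 463), (nat_lit 1)), ((nat_lit 464), (nat_lit 2)), ((nat_lit 465), (nat_lit 1)), ((nat_lit 467), (nat_lit 1)), ((nat_lit 468), (nat_lit 3)), ((nat_lit 469), (nat_lit 2)), ((nat_lit 470), (nat_lit 3)), ((nat_lit 472), (nat_lit 1)), ((nat_lit 477), (nat_lit 1)), ((nat_lit 479), (nat_lit 1)), ((nat_lit 480), (nat_lit 1)), ((nat_lit 484), (nat_lit 1)), ((nat_lit 485), (nat_lit 3)), ((nat_lit 488), (nat_lit 1)), ((nat_lit 489), (nat_lit 1)), ((nat_lit 490), (nat_lit 3)), ((nat_lit 491), (nat_lit 1)), ((nat_lit 492), (nat_lit 1)), ((nat_lit 494), (nat_lit 3)), ((nat_lit 498), (nat_lit 1)), ((nat_lit 499), (nat_lit 1)), ((nat_lit 503), (nat_lit 1)), ((nat_lit 505), (nat_lit 1)), ((nat_lit 506), (nat_lit 1)), ((nat_lit 507), (nat_lit 1)), ((nat_lit 509), (nat_lit 1)), ((nat_lit 510), (nat_lit 2)), ((nat_lit 511),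 (nat_lit 3)), ((nat_lit 512), (nat_lit 1)), ((nat_lit 513), (nat_lit 1)), ((nat_lit 514), (nat_lit 2)), ((nat_lit 515), (nat_lit 3)), ((nat_lit 516), (nat_lit 2))]⟩,
  ⟨true, (nat_lit 2), [nat_lit 15, nat_lit 67], [nat_lit 67, nat_lit 15, nat_lit 47, nat_lit 46, nat_lit 56, nat_lit 40, nat_lit 57, nat_lit 70, nat_lit 26, nat_lit 14, nat_lit 16], [((nat_lit 47), (nat_lit 1)), ((nat_lit 46), (nat_lit 1)), ((nat_lit 56), (nat_lit 1)), ((nat_lit 40), (nat_lit 1)), ((nat_lit 57), (nat_lit 1)), ((nat_lit 70), (nat_lit 1)), ((nat_lit 26), (nat_lit 1)), ((nat_lit 14), (nat_lit 1)), ((nat_lit 16), (nat_lit 1)), ((nat_lit 119), (nat_lit 1)), ((nat_lit 162), (nat_lit 3)), ((nat_lit 203), (nat_lit 1)), ((nat_lit 205), (nat_lit 1)), ((nat_lit 208), (nat_lit 3)), ((nat_lit 227), (nat_lit 1)), ((nat_lit 229), (nat_lit 2)), ((nat_lit 245), (nat_lit 1)), ((nat_lit 247), (nat_lit 1)), ((nat_lit 251), (nat_lit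 1)), ((nat_lit 266), (nat_lit 1)), ((nat_lit 268), (nat_lit 1)), ((nat_lit 271), (nat_lit 3)), ((nat_lit 272), (nat_lit 1)), ((nat_lit 289), (nat_lit 1)), ((nat_lit 292), (nat_lit 3)), ((nat_lit 295), (nat_lit 2)), ((nat_lit 296), (nat_lit 1)), ((nat_lit 308), (nat_lit 1)), ((nat_lit 313), (nat_lit 3)), ((nat_lit 315), (nat_lit 2)), ((nat_lit 316), (nat_lit 1)), ((nat_lit 317), (nat_lit 2)), ((nat_lit 318), (nat_lit 2)), ((nat_lit 329), (nat_lit 1)), ((nat_lit 331), (nat_lit 1)), ((nat_lit 335), (nat_lit 1)), ((nat_lit 336), (nat_lit 1)), ((nat_lit 337), (nat_lit 2)), ((nat_lit 338), (nat_lit 1)), ((nat_lit 339), (nat_lit 1)), ((nat_lit 356), (nat_lit 1)), ((nat_lit 357), (nat_lit 3)), ((nat_lit 358), (nat_lit 1)), ((nat_lit 359), (nat_lit 1)), ((nat_lit 360), (nat_lit 1)), ((nat_lit 371), (nat_lit 1)), ((nat_lit 373), (nat_lit 1)), ((nat_lit 376), (nat_lit 2)), ((nat_lit 380), (nat_lit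 3)), ((nat_lit 381), (nat_lit 2)), ((nat_lit 382), (nat_lit 1)), ((nat_lit 383), (nat_lit 3)), ((nat_lit 384), (nat_lit 3)), ((nat_lit 392), (nat_lit 1)), ((nat_lit 397), (nat_lit 2)), ((nat_lit 401), (nat_lit 3)), ((nat_lit 402), (nat_lit 3)), ((nat_lit 415), (nat_lit 1)), ((nat_lit 419), (nat_lit 2)), ((nat_lit 422), (nat_lit 1)), ((nat_lit 423), (nat_lit 3)), ((nat_lit 425), (nat_lit 1)), ((nat_lit 427), (nat_lit 1)), ((nat_lit 434), (nat_lit 1)), ((nat_lit 436), (nat_lit 1)), ((nat_lit 440), (nat_lit 1)), ((nat_lit 441), (nat_lit 3)), ((nat_lit 442), (nat_lit 2)), ((nat_lit 443), (nat_lit 3)), ((nat_lit 445), (nat_lit 1)), ((nat_lit 446), (nat_lit 3)), ((nat_lit 447), (nat_lit 1)), ((nat_lit 448), (nat_lit 1)), ((nat_lit 449), (nat_lit 3)), ((nat_lit 450), (nat_lit 3)), ((nat_lit 455), (nat_lit 1)), ((nat_lit 460), (nat_lit 2)), ((nat_lit 461), (nat_lit 1)), ((nat_lit 462), (nat_lit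 2)), ((nat_lit 463), (nat_lit 3)), ((nat_lit 464), (nat_lit 2)), ((nat_lit 466), (nat_lit 1)), ((nat_lit 467), (nat_lit 3)), ((nat_lit 468), (nat_lit 2)), ((nat_lit 470), (nat_lit 1)), ((nat_lit 471), (nat_lit 1)), ((nat_lit 472), (nat_lit 3)), ((nat_lit 478), (nat_lit 1)), ((nat_lit 481), (nat_lit 3)), ((nat_lit 484), (nat_lit 3)), ((nat_lit 485), (nat_lit 3)), ((nat_lit 486), (nat_lit 2)), ((nat_lit 487), (nat_lit 3)), ((nat_lit 488), (nat_lit 3)), ((nat_lit 489), (nat_lit 2)), ((nat_lit 491), (nat_lit 2)), ((nat_lit 492), (nat_lit 3)), ((nat_lit 493), (nat_lit 1)), ((nat_lit 494), (nat_lit 1)), ((nat_lit 497), (nat_lit 1)), ((nat_lit 503), (nat_lit 3)), ((nat_lit 505), (nat_lit 2)), ((nat_lit 506), (nat_lit 2)), ((nat_lit 507), (nat_lit 3)), ((nat_lit 509), (nat_lit 3)), ((nat_lit 511), (nat_lit 2)), ((nat_lit 512), (nat_lit 1)), ((nat_lit 513), (nat_lit 3)), ((nat_lit 514), (nat_lit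 1)), ((nat_lit 515), (nat_lit 2)), ((nat_lit 516), (nat_lit 2))]⟩,
  ⟨true, (nat_lit 2), [nat_lit 27, nat_lit 67], [nat_lit 67, nat_lit 27, nat_lit 46, nat_lit 52, nat_lit 45, nat_lit 40, nat_lit 57, nat_lit 70, nat_lit 26, nat_lit 55, nat_lit 16], [((nat_lit 46), (nat_lit 1)), ((nat_lit 52), (nat_lit 1)), ((nat_lit 45), (nat_lit 1)), ((nat_lit 40), (nat_lit 1)), ((nat_lit 57), (nat_lit 1)), ((nat_lit 70), (nat_lit 1)), ((nat_lit 26), (nat_lit 1)), ((nat_lit 55), (nat_lit 1)), ((nat_lit 16), (nat_lit 1)), ((nat_lit 204), (nat_lit 1)), ((nat_lit 205), (nat_lit 1)), ((nat_lit 206), (nat_lit 1)), ((nat_lit 207), (nat_lit 1)), ((nat_lit 208), (nat_lit 1)), ((nat_lit 224), (nat_lit 1)), ((nat_lit 227), (nat_lit 1)), ((nat_lit 229), (nat_lit 1)), ((nat_lit 246), (nat_lit 1)), ((nat_lit 247), (nat_lit 1)), ((nat_lit 248), (nat_lit 1)), ((nat_lit 249), (nat_lit 1)), ((nat_lit 250), (nat_lit 2)),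 ((nat_lit 251), (nat_lit 1)), ((nat_lit 267), (nat_lit 1)), ((nat_lit 269), (nat_lit 1)), ((nat_lit 273), (nat_lit 3)), ((nat_lit 274), (nat_lit 2)), ((nat_lit 290), (nat_lit 1)), ((nat_lit 294), (nat_lit 3)), ((nat_lit 295), (nat_lit 1)), ((nat_lit 296), (nat_lit 2)), ((nat_lit 309), (nat_lit 1)), ((nat_lit 310), (nat_lit 1)), ((nat_lit 311), (nat_lit 1)), ((nat_lit 313), (nat_lit 1)), ((nat_lit 315), (nat_lit 2)), ((nat_lit 316), (nat_lit 2)), ((nat_lit 318), (nat_lit 2)), ((nat_lit 330), (nat_lit 1)), ((nat_lit 337), (nat_lit 2)), ((nat_lit 339), (nat_lit 1)), ((nat_lit 340), (nat_lit 1)), ((nat_lit 352), (nat_lit 1)), ((nat_lit 353), (nat_lit 2)), ((nat_lit 354), (nat_lit 1)), ((nat_lit 355), (nat_lit 2)), ((nat_lit 356), (nat_lit 1)), ((nat_lit 357), (nat_lit 2)), ((nat_lit 358), (nat_lit 3)), ((nat_lit 359), (nat_lit 2)), ((nat_lit 360), (nat_lit 2)), ((nat_lit 361), (nat_lit 2)),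 ((nat_lit 372), (nat_lit 1)), ((nat_lit 373), (nat_lit 1)), ((nat_lit 374), (nat_lit 1)), ((nat_lit 375), (nat_lit 1)), ((nat_lit 377), (nat_lit 1)), ((nat_lit 378), (nat_lit 3)), ((nat_lit 379), (nat_lit 3)), ((nat_lit 380), (nat_lit 3)), ((nat_lit 381), (nat_lit 1)), ((nat_lit 382), (nat_lit 1)), ((nat_lit 393), (nat_lit 1)), ((nat_lit 394), (nat_lit 1)), ((nat_lit 395), (nat_lit 1)), ((nat_lit 396), (nat_lit 1)), ((nat_lit 398), (nat_lit 1)), ((nat_lit 399), (nat_lit 2)), ((nat_lit 401), (nat_lit 1)), ((nat_lit 402), (nat_lit 2)), ((nat_lit 403), (nat_lit 1)), ((nat_lit 404), (nat_lit 2)), ((nat_lit 406), (nat_lit 3)), ((nat_lit 416), (nat_lit 2)), ((nat_lit 419), (nat_lit 1)), ((nat_lit 420), (nat_lit 3)), ((nat_lit 422), (nat_lit 2)), ((nat_lit 423), (nat_lit 3)), ((nat_lit 424), (nat_lit 1)), ((nat_lit 425), (nat_lit 1)), ((nat_lit 426), (nat_lit 2)), ((nat_lit 427), (nat_lit 2)),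 ((nat_lit 435), (nat_lit 1)), ((nat_lit 436), (nat_lit 1)), ((nat_lit 438), (nat_lit 1)), ((nat_lit 440), (nat_lit 1)), ((nat_lit 441), (nat_lit 3)), ((nat_lit 442), (nat_lit 2)), ((nat_lit 443), (nat_lit 3)), ((nat_lit 444), (nat_lit 1)), ((nat_lit 445), (nat_lit 1)), ((nat_lit 449), (nat_lit 1)), ((nat_lit 450), (nat_lit 2)), ((nat_lit 456), (nat_lit 1)), ((nat_lit 457), (nat_lit 1)), ((nat_lit 458), (nat_lit 1)), ((nat_lit 460), (nat_lit 1)), ((nat_lit 461), (nat_lit 1)), ((nat_lit 462), (nat_lit 2)), ((nat_lit 464), (nat_lit 2)), ((nat_lit 465), (nat_lit 1)), ((nat_lit 466), (nat_lit 2)), ((nat_lit 468), (nat_lit 2)), ((nat_lit 469), (nat_lit 1)), ((nat_lit 470), (nat_lit 3)), ((nat_lit 471), (nat_lit 1)), ((nat_lit 479), (nat_lit 1)), ((nat_lit 480), (nat_lit 1)), ((nat_lit 481), (nat_lit 1)), ((nat_lit 483), (nat_lit 1)), ((nat_lit 485), (nat_lit 3)), ((nat_lit 489), (nat_lit 2)),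 ((nat_lit 490), (nat_lit 2)), ((nat_lit 491), (nat_lit 3)), ((nat_lit 492), (nat_lit 3)), ((nat_lit 493), (nat_lit 2)), ((nat_lit 494), (nat_lit 1)), ((nat_lit 498), (nat_lit 1)), ((nat_lit 500), (nat_lit 1)), ((nat_lit 501), (nat_lit 1)), ((nat_lit 502), (nat_lit 2)), ((nat_lit 503), (nat_lit 2)), ((nat_lit 505), (nat_lit 3)), ((nat_lit 507), (nat_lit 2)), ((nat_lit 508), (nat_lit 2)), ((nat_lit 511), (nat_lit 2)), ((nat_lit 512), (nat_lit 2)), ((nat_lit 513), (nat_lit 1)), ((nat_lit 514), (nat_lit 1)), ((nat_lit 515), (nat_lit 3)), ((nat_lit 516), (nat_lit 1))]⟩,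
  ⟨true, (nat_lit 3), [nat_lit 71, nat_lit 58], [nat_lit 58, nat_lit 71, nat_lit 29], [((nat_lit 29), (nat_lit 1)), ((nat_lit 139), (nat_lit 3)), ((nat_lit 160), (nat_lit 3)), ((nat_lit 181), (nat_lit 3)), ((nat_lit 184), (nat_lit 1)), ((nat_lit 186), (nat_lit 3)), ((nat_lit 202), (nat_lit 3)), ((nat_lit 206), (nat_lit 3)), ((nat_lit 207), (nat_lit 2)), ((nat_lit 208), (nat_lit 3)), ((nat_lit 226), (nat_lit 1)), ((nat_lit 227), (nat_lit 1)), ((nat_lit 228), (nat_lit 1)), ((nat_lit 229), (nat_lit 1)), ((nat_lit 244), (nat_lit 3)), ((nat_lit 249), (nat_lit 3)), ((nat_lit 251), (nat_lit 3)), ((nat_lit 286), (nat_lit 3)), ((nat_lit 289), (nat_lit 1)), ((nat_lit 290), (nat_lit 3)), ((nat_lit 291), (nat_lit 3)), ((nat_lit 292), (nat_lit 3)), ((nat_lit 293), (nat_lit 1)), ((nat_lit 296), (nat_lit 3)), ((nat_lit 314), (nat_lit 3)), ((nat_lit 315), (nat_lit 1)), ((nat_lit 317), (nat_lit 1)), ((nat_lit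 318), (nat_lit 3)), ((nat_lit 331), (nat_lit 1)), ((nat_lit 332), (nat_lit 3)), ((nat_lit 336), (nat_lit 1)), ((nat_lit 338), (nat_lit 1)), ((nat_lit 339), (nat_lit 3)), ((nat_lit 355), (nat_lit 3)), ((nat_lit 356), (nat_lit 1)), ((nat_lit 357), (nat_lit 3)), ((nat_lit 360), (nat_lit 1)), ((nat_lit 361), (nat_lit 3)), ((nat_lit 362), (nat_lit 1)), ((nat_lit 373), (nat_lit 1)), ((nat_lit 380), (nat_lit 3)), ((nat_lit 381), (nat_lit 3)), ((nat_lit 382), (nat_lit 3)), ((nat_lit 383), (nat_lit 2)), ((nat_lit 384), (nat_lit 2)), ((nat_lit 395), (nat_lit 3)), ((nat_lit 396), (nat_lit 3)), ((nat_lit 398), (nat_lit 3)), ((nat_lit 401), (nat_lit 3)), ((nat_lit 403), (nat_lit 1)), ((nat_lit 404), (nat_lit 3)), ((nat_lit 405), (nat_lit 1)), ((nat_lit 406), (nat_lit 2)), ((nat_lit 415), (nat_lit 1)), ((nat_lit 416), (nat_lit 1)), ((nat_lit 417), (nat_lit 2)), ((nat_lit 419), (nat_lit 3)), ((nat_lit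 420), (nat_lit 3)), ((nat_lit 422), (nat_lit 2)), ((nat_lit 423), (nat_lit 3)), ((nat_lit 426), (nat_lit 3)), ((nat_lit 427), (nat_lit 2)), ((nat_lit 428), (nat_lit 2)), ((nat_lit 436), (nat_lit 1)), ((nat_lit 438), (nat_lit 3)), ((nat_lit 441), (nat_lit 3)), ((nat_lit 443), (nat_lit 3)), ((nat_lit 445), (nat_lit 3)), ((nat_lit 446), (nat_lit 2)), ((nat_lit 447), (nat_lit 2)), ((nat_lit 449), (nat_lit 2)), ((nat_lit 454), (nat_lit 3)), ((nat_lit 457), (nat_lit 1)), ((nat_lit 458), (nat_lit 1)), ((nat_lit 460), (nat_lit 1)), ((nat_lit 461), (nat_lit 2)), ((nat_lit 466), (nat_lit 3)), ((nat_lit 467), (nat_lit 1)), ((nat_lit 468), (nat_lit 3)), ((nat_lit 470), (nat_lit 3)), ((nat_lit 475), (nat_lit 3)), ((nat_lit 480), (nat_lit 3)), ((nat_lit 481), (nat_lit 3)), ((nat_lit 482), (nat_lit 1)), ((nat_lit 483), (nat_lit 3)), ((nat_lit 485), (nat_lit 3)), ((nat_lit 486), (nat_lit 2)), ((nat_lit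 488), (nat_lit 2)), ((nat_lit 489), (nat_lit 1)), ((nat_lit 490), (nat_lit 3)), ((nat_lit 491), (nat_lit 3)), ((nat_lit 492), (nat_lit 2)), ((nat_lit 493), (nat_lit 2)), ((nat_lit 499), (nat_lit 1)), ((nat_lit 504), (nat_lit 3)), ((nat_lit 507), (nat_lit 2)), ((nat_lit 509), (nat_lit 1)), ((nat_lit 510), (nat_lit 1)), ((nat_lit 511), (nat_lit 1)), ((nat_lit 512), (nat_lit 2)), ((nat_lit 513), (nat_lit 2)), ((nat_lit 515), (nat_lit 3)), ((nat_lit 516), (nat_lit 3))]⟩,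
  ⟨true, (nat_lit 2), [nat_lit 72, nat_lit 67], [nat_lit 67, nat_lit 72, nat_lit 56, nat_lit 40, nat_lit 26, nat_lit 55, nat_lit 14, nat_lit 16], [((nat_lit 56), (nat_lit 1)), ((nat_lit 40), (nat_lit 1)), ((nat_lit 26), (nat_lit 1)), ((nat_lit 55), (nat_lit 1)), ((nat_lit 14), (nat_lit 1)), ((nat_lit 16), (nat_lit 1)), ((nat_lit 182), (nat_lit 1)), ((nat_lit 185), (nat_lit 1)), ((nat_lit 202), (nat_lit 1)), ((nat_lit 205), (nat_lit 1)), ((nat_lit 206), (nat_lit 1)), ((nat_lit 207), (nat_lit 1)), ((nat_lit 229), (nat_lit 3)), ((nat_lit 244), (nat_lit 1)), ((nat_lit 247), (nat_lit 1)), ((nat_lit 248), (nat_lit 1)), ((nat_lit 249), (nat_lit 1)), ((nat_lit 250), (nat_lit 3)), ((nat_lit 251), (nat_lit 1)), ((nat_lit 265), (nat_lit 1)), ((nat_lit 268), (nat_lit 1)), ((nat_lit 269), (nat_lit 1)), ((nat_lit 270), (nat_lit 1)), ((nat_lit 272), (nat_lit 1)), ((nat_lit 273), (nat_lit 1)), ((nat_lit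 289), (nat_lit 1)), ((nat_lit 291), (nat_lit 1)), ((nat_lit 293), (nat_lit 1)), ((nat_lit 294), (nat_lit 1)), ((nat_lit 295), (nat_lit 3)), ((nat_lit 296), (nat_lit 2)), ((nat_lit 307), (nat_lit 1)), ((nat_lit 312), (nat_lit 1)), ((nat_lit 313), (nat_lit 3)), ((nat_lit 314), (nat_lit 1)), ((nat_lit 315), (nat_lit 2)), ((nat_lit 316), (nat_lit 1)), ((nat_lit 317), (nat_lit 2)), ((nat_lit 318), (nat_lit 2)), ((nat_lit 328), (nat_lit 1)), ((nat_lit 331), (nat_lit 1)), ((nat_lit 332), (nat_lit 1)), ((nat_lit 333), (nat_lit 1)), ((nat_lit 334), (nat_lit 3)), ((nat_lit 335), (nat_lit 1)), ((nat_lit 337), (nat_lit 3)), ((nat_lit 357), (nat_lit 2)), ((nat_lit 359), (nat_lit 3)), ((nat_lit 360), (nat_lit 1)), ((nat_lit 361), (nat_lit 1)), ((nat_lit 362), (nat_lit 1)), ((nat_lit 370), (nat_lit 1)), ((nat_lit 373), (nat_lit 1)), ((nat_lit 375), (nat_lit 1)), ((nat_lit 376), (nat_lit 3)), ((nat_lit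 377), (nat_lit 1)), ((nat_lit 378), (nat_lit 2)), ((nat_lit 380), (nat_lit 3)), ((nat_lit 381), (nat_lit 2)), ((nat_lit 382), (nat_lit 3)), ((nat_lit 383), (nat_lit 1)), ((nat_lit 384), (nat_lit 1)), ((nat_lit 391), (nat_lit 1)), ((nat_lit 396), (nat_lit 1)), ((nat_lit 398), (nat_lit 1)), ((nat_lit 399), (nat_lit 3)), ((nat_lit 401), (nat_lit 2)), ((nat_lit 403), (nat_lit 3)), ((nat_lit 404), (nat_lit 3)), ((nat_lit 405), (nat_lit 1)), ((nat_lit 406), (nat_lit 2)), ((nat_lit 415), (nat_lit 1)), ((nat_lit 416), (nat_lit 1)), ((nat_lit 417), (nat_lit 1)), ((nat_lit 418), (nat_lit 3)), ((nat_lit 420), (nat_lit 2)), ((nat_lit 421), (nat_lit 2)), ((nat_lit 422), (nat_lit 2)), ((nat_lit 423), (nat_lit 3)), ((nat_lit 424), (nat_lit 3)), ((nat_lit 425), (nat_lit 1)), ((nat_lit 426), (nat_lit 1)), ((nat_lit 428), (nat_lit 3)), ((nat_lit 433), (nat_lit 1)), ((nat_lit 436), (nat_lit 1)), ((nat_lit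 437), (nat_lit 1)), ((nat_lit 439), (nat_lit 3)), ((nat_lit 440), (nat_lit 1)), ((nat_lit 442), (nat_lit 2)), ((nat_lit 443), (nat_lit 3)), ((nat_lit 445), (nat_lit 3)), ((nat_lit 446), (nat_lit 1)), ((nat_lit 447), (nat_lit 1)), ((nat_lit 448), (nat_lit 2)), ((nat_lit 449), (nat_lit 3)), ((nat_lit 450), (nat_lit 3)), ((nat_lit 454), (nat_lit 1)), ((nat_lit 457), (nat_lit 1)), ((nat_lit 458), (nat_lit 1)), ((nat_lit 459), (nat_lit 1)), ((nat_lit 461), (nat_lit 1)), ((nat_lit 462), (nat_lit 1)), ((nat_lit 463), (nat_lit 2)), ((nat_lit 465), (nat_lit 2)), ((nat_lit 466), (nat_lit 2)), ((nat_lit 467), (nat_lit 1)), ((nat_lit 469), (nat_lit 2)), ((nat_lit 470), (nat_lit 2)), ((nat_lit 471), (nat_lit 3)), ((nat_lit 472), (nat_lit 2)), ((nat_lit 479), (nat_lit 1)), ((nat_lit 481), (nat_lit 3)), ((nat_lit 484), (nat_lit 2)), ((nat_lit 485), (nat_lit 2)), ((nat_lit 487), (nat_lit 3)), ((nat_lit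 488), (nat_lit 2)), ((nat_lit 489), (nat_lit 1)), ((nat_lit 490), (nat_lit 1)), ((nat_lit 491), (nat_lit 1)), ((nat_lit 493), (nat_lit 1)), ((nat_lit 494), (nat_lit 2)), ((nat_lit 496), (nat_lit 1)), ((nat_lit 500), (nat_lit 1)), ((nat_lit 501), (nat_lit 1)), ((nat_lit 502), (nat_lit 3)), ((nat_lit 504), (nat_lit 3)), ((nat_lit 505), (nat_lit 1)), ((nat_lit 506), (nat_lit 1)), ((nat_lit 508), (nat_lit 2)), ((nat_lit 509), (nat_lit 1)), ((nat_lit 510), (nat_lit 2)), ((nat_lit 511), (nat_lit 1)), ((nat_lit 512), (nat_lit 3)), ((nat_lit 515), (nat_lit 3))]⟩,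
  ⟨true, (nat_lit 3), [nat_lit 73, nat_lit 63], [nat_lit 63, nat_lit 73, nat_lit 4, nat_lit 64, nat_lit 59, nat_lit 29], [((nat_lit 4), (nat_lit 1)), ((nat_lit 64), (nat_lit 1)), ((nat_lit 59), (nat_lit 1)), ((nat_lit 29), (nat_lit 1)), ((nat_lit 139), (nat_lit 3)), ((nat_lit 140), (nat_lit 3)), ((nat_lit 160), (nat_lit 3)), ((nat_lit 161), (nat_lit 3)), ((nat_lit 184), (nat_lit 1)), ((nat_lit 186), (nat_lit 3)), ((nat_lit 202), (nat_lit 3)), ((nat_lit 203), (nat_lit 3)), ((nat_lit 206), (nat_lit 3)), ((nat_lit 207), (nat_lit 2)), ((nat_lit 208), (nat_lit 3)), ((nat_lit 223), (nat_lit 3)), ((nat_lit 224), (nat_lit 3)), ((nat_lit 228), (nat_lit 3)), ((nat_lit 248), (nat_lit 3)), ((nat_lit 252), (nat_lit 3)), ((nat_lit 266), (nat_lit 3)), ((nat_lit 268), (nat_lit 1)), ((nat_lit 269), (nat_lit 1)), ((nat_lit 271), (nat_lit 1)), ((nat_lit 272), (nat_lit 1)), ((nat_lit 274), (nat_lit 3)), ((nat_lit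 287), (nat_lit 3)), ((nat_lit 289), (nat_lit 1)), ((nat_lit 290), (nat_lit 3)), ((nat_lit 292), (nat_lit 2)), ((nat_lit 293), (nat_lit 3)), ((nat_lit 294), (nat_lit 3)), ((nat_lit 295), (nat_lit 3)), ((nat_lit 296), (nat_lit 3)), ((nat_lit 308), (nat_lit 3)), ((nat_lit 310), (nat_lit 1)), ((nat_lit 311), (nat_lit 1)), ((nat_lit 312), (nat_lit 3)), ((nat_lit 316), (nat_lit 2)), ((nat_lit 317), (nat_lit 1)), ((nat_lit 318), (nat_lit 2)), ((nat_lit 329), (nat_lit 1)), ((nat_lit 331), (nat_lit 1)), ((nat_lit 332), (nat_lit 1)), ((nat_lit 333), (nat_lit 3)), ((nat_lit 335), (nat_lit 1)), ((nat_lit 338), (nat_lit 3)), ((nat_lit 339), (nat_lit 3)), ((nat_lit 340), (nat_lit 3)), ((nat_lit 350), (nat_lit 3)), ((nat_lit 353), (nat_lit 1)), ((nat_lit 354), (nat_lit 3)), ((nat_lit 355), (nat_lit 2)), ((nat_lit 356), (nat_lit 2)), ((nat_lit 357), (nat_lit 3)), ((nat_lit 358), (nat_lit 2)), ((nat_lit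 360), (nat_lit 2)), ((nat_lit 361), (nat_lit 1)), ((nat_lit 362), (nat_lit 3)), ((nat_lit 371), (nat_lit 3)), ((nat_lit 373), (nat_lit 1)), ((nat_lit 376), (nat_lit 3)), ((nat_lit 377), (nat_lit 3)), ((nat_lit 378), (nat_lit 3)), ((nat_lit 379), (nat_lit 1)), ((nat_lit 380), (nat_lit 3)), ((nat_lit 381), (nat_lit 3)), ((nat_lit 382), (nat_lit 1)), ((nat_lit 383), (nat_lit 2)), ((nat_lit 384), (nat_lit 3)), ((nat_lit 391), (nat_lit 3)), ((nat_lit 398), (nat_lit 1)), ((nat_lit 406), (nat_lit 3)), ((nat_lit 412), (nat_lit 3)), ((nat_lit 413), (nat_lit 3)), ((nat_lit 415), (nat_lit 1)), ((nat_lit 417), (nat_lit 2)), ((nat_lit 418), (nat_lit 2)), ((nat_lit 419), (nat_lit 2)), ((nat_lit 421), (nat_lit 1)), ((nat_lit 422), (nat_lit 3)), ((nat_lit 424), (nat_lit 2)), ((nat_lit 425), (nat_lit 2)), ((nat_lit 427), (nat_lit 1)), ((nat_lit 428), (nat_lit 1)), ((nat_lit 436), (nat_lit 1)), ((nat_lit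 438), (nat_lit 3)), ((nat_lit 439), (nat_lit 1)), ((nat_lit 440), (nat_lit 3)), ((nat_lit 442), (nat_lit 2)), ((nat_lit 443), (nat_lit 1)), ((nat_lit 445), (nat_lit 3)), ((nat_lit 446), (nat_lit 1)), ((nat_lit 448), (nat_lit 3)), ((nat_lit 449), (nat_lit 2)), ((nat_lit 450), (nat_lit 2)), ((nat_lit 454), (nat_lit 3)), ((nat_lit 455), (nat_lit 3)), ((nat_lit 458), (nat_lit 2)), ((nat_lit 459), (nat_lit 2)), ((nat_lit 460), (nat_lit 2)), ((nat_lit 461), (nat_lit 2)), ((nat_lit 462), (nat_lit 3)), ((nat_lit 463), (nat_lit 3)), ((nat_lit 464), (nat_lit 2)), ((nat_lit 465), (nat_lit 1)), ((nat_lit 466), (nat_lit 1)), ((nat_lit 467), (nat_lit 2)), ((nat_lit 468), (nat_lit 2)), ((nat_lit 469), (nat_lit 3)), ((nat_lit 470), (nat_lit 2)), ((nat_lit 472), (nat_lit 3)), ((nat_lit 475), (nat_lit 3)), ((nat_lit 479), (nat_lit 1)), ((nat_lit 481), (nat_lit 3)), ((nat_lit 484), (nat_lit 1)), ((nat_lit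 488), (nat_lit 3)), ((nat_lit 489), (nat_lit 2)), ((nat_lit 490), (nat_lit 3)), ((nat_lit 491), (nat_lit 2)), ((nat_lit 492), (nat_lit 3)), ((nat_lit 493), (nat_lit 1)), ((nat_lit 494), (nat_lit 2)), ((nat_lit 497), (nat_lit 3)), ((nat_lit 499), (nat_lit 1)), ((nat_lit 500), (nat_lit 3)), ((nat_lit 501), (nat_lit 3)), ((nat_lit 502), (nat_lit 2)), ((nat_lit 503), (nat_lit 2)), ((nat_lit 504), (nat_lit 3)), ((nat_lit 506), (nat_lit 1)), ((nat_lit 507), (nat_lit 3)), ((nat_lit 508), (nat_lit 1)), ((nat_lit 509), (nat_lit 3)), ((nat_lit 510), (nat_lit 3)), ((nat_lit 511), (nat_lit 2)), ((nat_lit 512), (nat_lit 3)), ((nat_lit 513), (nat_lit 1)), ((nat_lit 514), (nat_lit 2)), ((nat_lit 515), (nat_lit 3)), ((nat_lit 516), (nat_lit 3))]⟩,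
  ⟨true, (nat_lit 2), [nat_lit 67, nat_lit 41], [nat_lit 41, nat_lit 67, nat_lit 47, nat_lit 52, nat_lit 45, nat_lit 57, nat_lit 70, nat_lit 26], [((nat_lit 47), (nat_lit 1)), ((nat_lit 52), (nat_lit 1)), ((nat_lit 45), (nat_lit 1)), ((nat_lit 57), (nat_lit 1)), ((nat_lit 70), (nat_lit 1)), ((nat_lit 26), (nat_lit 1)), ((nat_lit 97), (nat_lit 1)), ((nat_lit 160), (nat_lit 1)), ((nat_lit 185), (nat_lit 1)), ((nat_lit 186), (nat_lit 1)), ((nat_lit 202), (nat_lit 3)), ((nat_lit 204), (nat_lit 3)), ((nat_lit 205), (nat_lit 3)), ((nat_lit 206), (nat_lit 3)), ((nat_lit 208), (nat_lit 1)), ((nat_lit 244), (nat_lit 3)), ((nat_lit 246), (nat_lit 3)), ((nat_lit 247), (nat_lit 3)), ((nat_lit 248), (nat_lit 3)), ((nat_lit 250), (nat_lit 1)), ((nat_lit 265), (nat_lit 3)), ((nat_lit 267), (nat_lit 3)), ((nat_lit 271), (nat_lit 1)), ((nat_lit 274), (nat_lit 1)), ((nat_lit 288), (nat_lit 3)), ((nat_lit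 289), (nat_lit 3)), ((nat_lit 291), (nat_lit 1)), ((nat_lit 292), (nat_lit 1)), ((nat_lit 296), (nat_lit 1)), ((nat_lit 307), (nat_lit 3)), ((nat_lit 315), (nat_lit 2)), ((nat_lit 316), (nat_lit 1)), ((nat_lit 318), (nat_lit 3)), ((nat_lit 328), (nat_lit 3)), ((nat_lit 330), (nat_lit 3)), ((nat_lit 334), (nat_lit 2)), ((nat_lit 337), (nat_lit 2)), ((nat_lit 338), (nat_lit 2)), ((nat_lit 339), (nat_lit 2)), ((nat_lit 354), (nat_lit 1)), ((nat_lit 355), (nat_lit 3)), ((nat_lit 357), (nat_lit 3)), ((nat_lit 358), (nat_lit 1)), ((nat_lit 360), (nat_lit 2)), ((nat_lit 361), (nat_lit 2)), ((nat_lit 362), (nat_lit 2)), ((nat_lit 370), (nat_lit 3)), ((nat_lit 372), (nat_lit 3)), ((nat_lit 378), (nat_lit 1)), ((nat_lit 379), (nat_lit 3)), ((nat_lit 380), (nat_lit 3)), ((nat_lit 381), (nat_lit 3)), ((nat_lit 382), (nat_lit 1)), ((nat_lit 383), (nat_lit 3)), ((nat_lit 391), (nat_lit 3)), ((nat_lit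 394), (nat_lit 3)), ((nat_lit 395), (nat_lit 3)), ((nat_lit 397), (nat_lit 1)), ((nat_lit 399), (nat_lit 3)), ((nat_lit 400), (nat_lit 2)), ((nat_lit 401), (nat_lit 1)), ((nat_lit 402), (nat_lit 1)), ((nat_lit 404), (nat_lit 3)), ((nat_lit 405), (nat_lit 1)), ((nat_lit 406), (nat_lit 3)), ((nat_lit 414), (nat_lit 3)), ((nat_lit 415), (nat_lit 3)), ((nat_lit 416), (nat_lit 3)), ((nat_lit 418), (nat_lit 2)), ((nat_lit 420), (nat_lit 2)), ((nat_lit 421), (nat_lit 1)), ((nat_lit 423), (nat_lit 2)), ((nat_lit 424), (nat_lit 3)), ((nat_lit 425), (nat_lit 2)), ((nat_lit 426), (nat_lit 3)), ((nat_lit 427), (nat_lit 1)), ((nat_lit 428), (nat_lit 3)), ((nat_lit 433), (nat_lit 3)), ((nat_lit 435), (nat_lit 3)), ((nat_lit 436), (nat_lit 3)), ((nat_lit 437), (nat_lit 3)), ((nat_lit 439), (nat_lit 3)), ((nat_lit 441), (nat_lit 2)), ((nat_lit 442), (nat_lit 2)), ((nat_lit 443), (nat_lit 1)), ((nat_lit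 446), (nat_lit 2)), ((nat_lit 447), (nat_lit 1)), ((nat_lit 448), (nat_lit 3)), ((nat_lit 449), (nat_lit 2)), ((nat_lit 450), (nat_lit 3)), ((nat_lit 454), (nat_lit 3)), ((nat_lit 456), (nat_lit 3)), ((nat_lit 457), (nat_lit 3)), ((nat_lit 459), (nat_lit 1)), ((nat_lit 460), (nat_lit 1)), ((nat_lit 463), (nat_lit 2)), ((nat_lit 464), (nat_lit 2)), ((nat_lit 465), (nat_lit 3)), ((nat_lit 466), (nat_lit 1)), ((nat_lit 467), (nat_lit 1)), ((nat_lit 468), (nat_lit 2)), ((nat_lit 469), (nat_lit 2)), ((nat_lit 470), (nat_lit 2)), ((nat_lit 471), (nat_lit 1)), ((nat_lit 472), (nat_lit 1)), ((nat_lit 478), (nat_lit 3)), ((nat_lit 479), (nat_lit 3)), ((nat_lit 480), (nat_lit 1)), ((nat_lit 481), (nat_lit 2)), ((nat_lit 483), (nat_lit 1)), ((nat_lit 485), (nat_lit 2)), ((nat_lit 486), (nat_lit 2)), ((nat_lit 487), (nat_lit 2)), ((nat_lit 488), (nat_lit 3)), ((nat_lit 489), (nat_lit 3)), ((nat_lit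 490), (nat_lit 1)), ((nat_lit 491), (nat_lit 2)), ((nat_lit 496), (nat_lit 3)), ((nat_lit 502), (nat_lit 2)), ((nat_lit 504), (nat_lit 3)), ((nat_lit 505), (nat_lit 1)), ((nat_lit 508), (nat_lit 3)), ((nat_lit 510), (nat_lit 1)), ((nat_lit 511), (nat_lit 1)), ((nat_lit 512), (nat_lit 1)), ((nat_lit 513), (nat_lit 3)), ((nat_lit 514), (nat_lit 1)), ((nat_lit 515), (nat_lit 3)), ((nat_lit 516), (nat_lit 2))]⟩,
  ⟨true, (nat_lit 3), [nat_lit 74, nat_lit 58], [nat_lit 58, nat_lit 74], [((nat_lit 97), (nat_lit 3)), ((nat_lit 118), (nat_lit 3)), ((nat_lit 160), (nat_lit 3)), ((nat_lit 181), (nat_lit 3)), ((nat_lit 182), (nat_lit 1)), ((nat_lit 186), (nat_lit 3)), ((nat_lit 206), (nat_lit 3)), ((nat_lit 207), (nat_lit 3)), ((nat_lit 208), (nat_lit 3)), ((nat_lit 223), (nat_lit 3)), ((nat_lit 224), (nat_lit 1)), ((nat_lit 225), (nat_lit 1)), ((nat_lit 227), (nat_lit 1)), ((nat_lit 228), (nat_lit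 1)), ((nat_lit 244), (nat_lit 3)), ((nat_lit 251), (nat_lit 3)), ((nat_lit 267), (nat_lit 1)), ((nat_lit 269), (nat_lit 3)), ((nat_lit 270), (nat_lit 2)), ((nat_lit 271), (nat_lit 2)), ((nat_lit 287), (nat_lit 1)), ((nat_lit 288), (nat_lit 1)), ((nat_lit 290), (nat_lit 1)), ((nat_lit 291), (nat_lit 2)), ((nat_lit 292), (nat_lit 2)), ((nat_lit 295), (nat_lit 3)), ((nat_lit 296), (nat_lit 3)), ((nat_lit 307), (nat_lit 3)), ((nat_lit 311), (nat_lit 1)), ((nat_lit 312), (nat_lit 2)), ((nat_lit 313), (nat_lit 3)), ((nat_lit 314), (nat_lit 3)), ((nat_lit 315), (nat_lit 3)), ((nat_lit 317), (nat_lit 3)), ((nat_lit 318), (nat_lit 3)), ((nat_lit 328), (nat_lit 3)), ((nat_lit 329), (nat_lit 1)), ((nat_lit 330), (nat_lit 1)), ((nat_lit 332), (nat_lit 1)), ((nat_lit 333), (nat_lit 3)), ((nat_lit 335), (nat_lit 3)), ((nat_lit 336), (nat_lit 3)), ((nat_lit 337), (nat_lit 3)), ((nat_lit 339), (nat_lit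 2)), ((nat_lit 351), (nat_lit 1)), ((nat_lit 353), (nat_lit 1)), ((nat_lit 355), (nat_lit 2)), ((nat_lit 356), (nat_lit 2)), ((nat_lit 357), (nat_lit 1)), ((nat_lit 358), (nat_lit 2)), ((nat_lit 359), (nat_lit 2)), ((nat_lit 360), (nat_lit 3)), ((nat_lit 362), (nat_lit 1)), ((nat_lit 371), (nat_lit 1)), ((nat_lit 375), (nat_lit 2)), ((nat_lit 377), (nat_lit 2)), ((nat_lit 378), (nat_lit 3)), ((nat_lit 379), (nat_lit 3)), ((nat_lit 380), (nat_lit 3)), ((nat_lit 381), (nat_lit 2)), ((nat_lit 382), (nat_lit 3)), ((nat_lit 383), (nat_lit 1)), ((nat_lit 384), (nat_lit 3)), ((nat_lit 391), (nat_lit 3)), ((nat_lit 393), (nat_lit 1)), ((nat_lit 395), (nat_lit 1)), ((nat_lit 396), (nat_lit 3)), ((nat_lit 398), (nat_lit 3)), ((nat_lit 399), (nat_lit 3)), ((nat_lit 400), (nat_lit 3)), ((nat_lit 402), (nat_lit 3)), ((nat_lit 403), (nat_lit 3)), ((nat_lit 404), (nat_lit 3)), ((nat_lit 405), (nat_lit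 3)), ((nat_lit 406), (nat_lit 3)), ((nat_lit 413), (nat_lit 1)), ((nat_lit 416), (nat_lit 3)), ((nat_lit 418), (nat_lit 3)), ((nat_lit 420), (nat_lit 3)), ((nat_lit 421), (nat_lit 2)), ((nat_lit 422), (nat_lit 2)), ((nat_lit 424), (nat_lit 2)), ((nat_lit 425), (nat_lit 1)), ((nat_lit 426), (nat_lit 2)), ((nat_lit 427), (nat_lit 1)), ((nat_lit 428), (nat_lit 3)), ((nat_lit 433), (nat_lit 3)), ((nat_lit 434), (nat_lit 1)), ((nat_lit 440), (nat_lit 1)), ((nat_lit 441), (nat_lit 3)), ((nat_lit 442), (nat_lit 1)), ((nat_lit 443), (nat_lit 1)), ((nat_lit 444), (nat_lit 1)), ((nat_lit 445), (nat_lit 3)), ((nat_lit 446), (nat_lit 2)), ((nat_lit 447), (nat_lit 2)), ((nat_lit 449), (nat_lit 3)), ((nat_lit 454), (nat_lit 3)), ((nat_lit 455), (nat_lit 1)), ((nat_lit 459), (nat_lit 2)), ((nat_lit 460), (nat_lit 1)), ((nat_lit 461), (nat_lit 1)), ((nat_lit 462), (nat_lit 1)), ((nat_lit 463), (nat_lit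 3)), ((nat_lit 464), (nat_lit 2)), ((nat_lit 465), (nat_lit 3)), ((nat_lit 467), (nat_lit 1)), ((nat_lit 468), (nat_lit 3)), ((nat_lit 469), (nat_lit 3)), ((nat_lit 470), (nat_lit 2)), ((nat_lit 471), (nat_lit 2)), ((nat_lit 480), (nat_lit 2)), ((nat_lit 481), (nat_lit 3)), ((nat_lit 482), (nat_lit 2)), ((nat_lit 483), (nat_lit 3)), ((nat_lit 484), (nat_lit 2)), ((nat_lit 485), (nat_lit 2)), ((nat_lit 486), (nat_lit 3)), ((nat_lit 487), (nat_lit 2)), ((nat_lit 488), (nat_lit 2)), ((nat_lit 491), (nat_lit 2)), ((nat_lit 492), (nat_lit 1)), ((nat_lit 493), (nat_lit 2)), ((nat_lit 496), (nat_lit 3)), ((nat_lit 497), (nat_lit 1)), ((nat_lit 500), (nat_lit 1)), ((nat_lit 501), (nat_lit 2)), ((nat_lit 503), (nat_lit 1)), ((nat_lit 504), (nat_lit 2)), ((nat_lit 505), (nat_lit 1)), ((nat_lit 506), (nat_lit 3)), ((nat_lit 507), (nat_lit 2)), ((nat_lit 508), (nat_lit 3)), ((nat_lit 509), (nat_lit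 3)), ((nat_lit 511), (nat_lit 3)), ((nat_lit 513), (nat_lit 3)), ((nat_lit 514), (nat_lit 2)), ((nat_lit 516), (nat_lit 2))]⟩,
  ⟨true, (nat_lit 2), [nat_lit 75, nat_lit 67], [nat_lit 67, nat_lit 75, nat_lit 47, nat_lit 46, nat_lit 57, nat_lit 70, nat_lit 26, nat_lit 55, nat_lit 42], [((nat_lit 47), (nat_lit 1)), ((nat_lit 46), (nat_lit 1)), ((nat_lit 57), (nat_lit 1)), ((nat_lit 70), (nat_lit 1)), ((nat_lit 26), (nat_lit 1)), ((nat_lit 55), (nat_lit 1)), ((nat_lit 42), (nat_lit 1)), ((nat_lit 140), (nat_lit 1)), ((nat_lit 161), (nat_lit 1)), ((nat_lit 163), (nat_lit 3)), ((nat_lit 202), (nat_lit 1)), ((nat_lit 203), (nat_lit 1)), ((nat_lit 208), (nat_lit 3)), ((nat_lit 229), (nat_lit 3)), ((nat_lit 244), (nat_lit 1)), ((nat_lit 245), (nat_lit 1)), ((nat_lit 248), (nat_lit 2)), ((nat_lit 250), (nat_lit 2)), ((nat_lit 251), (nat_lit 1)), ((nat_lit 252), (nat_lit 1)), ((nat_lit 265), (nat_lit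 1)), ((nat_lit 266), (nat_lit 1)), ((nat_lit 272), (nat_lit 1)), ((nat_lit 273), (nat_lit 1)), ((nat_lit 287), (nat_lit 1)), ((nat_lit 292), (nat_lit 3)), ((nat_lit 293), (nat_lit 1)), ((nat_lit 294), (nat_lit 1)), ((nat_lit 295), (nat_lit 2)), ((nat_lit 296), (nat_lit 2)), ((nat_lit 307), (nat_lit 1)), ((nat_lit 313), (nat_lit 2)), ((nat_lit 315), (nat_lit 2)), ((nat_lit 316), (nat_lit 3)), ((nat_lit 318), (nat_lit 1)), ((nat_lit 328), (nat_lit 1)), ((nat_lit 329), (nat_lit 1)), ((nat_lit 332), (nat_lit 1)), ((nat_lit 335), (nat_lit 1)), ((nat_lit 337), (nat_lit 3)), ((nat_lit 338), (nat_lit 1)), ((nat_lit 339), (nat_lit 3)), ((nat_lit 353), (nat_lit 3)), ((nat_lit 355), (nat_lit 1)), ((nat_lit 356), (nat_lit 1)), ((nat_lit 357), (nat_lit 2)), ((nat_lit 359), (nat_lit 3)), ((nat_lit 360), (nat_lit 2)), ((nat_lit 361), (nat_lit 3)), ((nat_lit 362), (nat_lit 1)), ((nat_lit 370), (nat_lit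 1)), ((nat_lit 371), (nat_lit 1)), ((nat_lit 374), (nat_lit 2)), ((nat_lit 378), (nat_lit 2)), ((nat_lit 379), (nat_lit 2)), ((nat_lit 380), (nat_lit 2)), ((nat_lit 381), (nat_lit 2)), ((nat_lit 382), (nat_lit 3)), ((nat_lit 383), (nat_lit 3)), ((nat_lit 391), (nat_lit 1)), ((nat_lit 397), (nat_lit 3)), ((nat_lit 400), (nat_lit 1)), ((nat_lit 401), (nat_lit 3)), ((nat_lit 402), (nat_lit 3)), ((nat_lit 404), (nat_lit 3)), ((nat_lit 406), (nat_lit 2)), ((nat_lit 413), (nat_lit 1)), ((nat_lit 418), (nat_lit 1)), ((nat_lit 420), (nat_lit 3)), ((nat_lit 421), (nat_lit 2)), ((nat_lit 423), (nat_lit 2)), ((nat_lit 424), (nat_lit 2)), ((nat_lit 425), (nat_lit 1)), ((nat_lit 426), (nat_lit 2)), ((nat_lit 428), (nat_lit 1)), ((nat_lit 433), (nat_lit 1)), ((nat_lit 434), (nat_lit 1)), ((nat_lit 437), (nat_lit 1)), ((nat_lit 439), (nat_lit 3)), ((nat_lit 440), (nat_lit 1)), ((nat_lit 442), (nat_lit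 1)), ((nat_lit 443), (nat_lit 2)), ((nat_lit 444), (nat_lit 2)), ((nat_lit 446), (nat_lit 2)), ((nat_lit 447), (nat_lit 2)), ((nat_lit 448), (nat_lit 1)), ((nat_lit 449), (nat_lit 2)), ((nat_lit 454), (nat_lit 1)), ((nat_lit 455), (nat_lit 1)), ((nat_lit 458), (nat_lit 2)), ((nat_lit 460), (nat_lit 3)), ((nat_lit 464), (nat_lit 2)), ((nat_lit 465), (nat_lit 2)), ((nat_lit 466), (nat_lit 2)), ((nat_lit 468), (nat_lit 1)), ((nat_lit 469), (nat_lit 2)), ((nat_lit 470), (nat_lit 1)), ((nat_lit 471), (nat_lit 2)), ((nat_lit 472), (nat_lit 2)), ((nat_lit 479), (nat_lit 1)), ((nat_lit 481), (nat_lit 3)), ((nat_lit 483), (nat_lit 3)), ((nat_lit 484), (nat_lit 2)), ((nat_lit 488), (nat_lit 1)), ((nat_lit 489), (nat_lit 1)), ((nat_lit 491), (nat_lit 2)), ((nat_lit 494), (nat_lit 2)), ((nat_lit 496), (nat_lit 1)), ((nat_lit 500), (nat_lit 2)), ((nat_lit 502), (nat_lit 3)), ((nat_lit 503), (nat_lit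 3)), ((nat_lit 504), (nat_lit 3)), ((nat_lit 505), (nat_lit 2)), ((nat_lit 507), (nat_lit 2)), ((nat_lit 510), (nat_lit 3)), ((nat_lit 511), (nat_lit 2)), ((nat_lit 512), (nat_lit 3)), ((nat_lit 513), (nat_lit 3)), ((nat_lit 515), (nat_lit 3)), ((nat_lit 516), (nat_lit 3))]⟩,
  ⟨true, (nat_lit 4), [nat_lit 24, nat_lit 43], [nat_lit 43, nat_lit 24, nat_lit 66, nat_lit 44], [((nat_lit 66), (nat_lit 1)), ((nat_lit 44), (nat_lit 1)), ((nat_lit 118), (nat_lit 3)), ((nat_lit 139), (nat_lit 3)), ((nat_lit 141), (nat_lit 3)), ((nat_lit 160), (nat_lit 3)), ((nat_lit 162), (nat_lit 3)), ((nat_lit 181), (nat_lit 3)), ((nat_lit 183), (nat_lit 3)), ((nat_lit 185), (nat_lit 3)), ((nat_lit 186), (nat_lit 3)), ((nat_lit 204), (nat_lit 3)), ((nat_lit 205), (nat_lit 3)), ((nat_lit 207), (nat_lit 3)), ((nat_lit 208), (nat_lit 2)), ((nat_lit 223), (nat_lit 3)), ((nat_lit 225), (nat_lit 3)), ((nat_lit 227),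 (nat_lit 3)), ((nat_lit 229), (nat_lit 3)), ((nat_lit 230), (nat_lit 3)), ((nat_lit 246), (nat_lit 1)), ((nat_lit 247), (nat_lit 1)), ((nat_lit 248), (nat_lit 1)), ((nat_lit 249), (nat_lit 1)), ((nat_lit 251), (nat_lit 1)), ((nat_lit 265), (nat_lit 1)), ((nat_lit 266), (nat_lit 1)), ((nat_lit 270), (nat_lit 3)), ((nat_lit 274), (nat_lit 3)), ((nat_lit 288), (nat_lit 3)), ((nat_lit 290), (nat_lit 2)), ((nat_lit 292), (nat_lit 3)), ((nat_lit 293), (nat_lit 2)), ((nat_lit 295), (nat_lit 3)), ((nat_lit 296), (nat_lit 3)), ((nat_lit 309), (nat_lit 3)), ((nat_lit 311), (nat_lit 3)), ((nat_lit 312), (nat_lit 2)), ((nat_lit 313), (nat_lit 1)), ((nat_lit 314), (nat_lit 2)), ((nat_lit 315), (nat_lit 1)), ((nat_lit 316), (nat_lit 2)), ((nat_lit 317), (nat_lit 3)), ((nat_lit 318), (nat_lit 1)), ((nat_lit 328), (nat_lit 3)), ((nat_lit 330), (nat_lit 3)), ((nat_lit 331), (nat_lit 3)), ((nat_lit 332),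 (nat_lit 3)), ((nat_lit 333), (nat_lit 3)), ((nat_lit 334), (nat_lit 2)), ((nat_lit 335), (nat_lit 2)), ((nat_lit 337), (nat_lit 3)), ((nat_lit 338), (nat_lit 1)), ((nat_lit 339), (nat_lit 1)), ((nat_lit 340), (nat_lit 2)), ((nat_lit 350), (nat_lit 1)), ((nat_lit 353), (nat_lit 2)), ((nat_lit 354), (nat_lit 3)), ((nat_lit 356), (nat_lit 3)), ((nat_lit 357), (nat_lit 1)), ((nat_lit 358), (nat_lit 2)), ((nat_lit 359), (nat_lit 2)), ((nat_lit 360), (nat_lit 1)), ((nat_lit 362), (nat_lit 2)), ((nat_lit 373), (nat_lit 1)), ((nat_lit 375), (nat_lit 2)), ((nat_lit 376), (nat_lit 2)), ((nat_lit 377), (nat_lit 2)), ((nat_lit 378), (nat_lit 2)), ((nat_lit 379), (nat_lit 2)), ((nat_lit 380), (nat_lit 2)), ((nat_lit 381), (nat_lit 2)), ((nat_lit 383), (nat_lit 2)), ((nat_lit 384), (nat_lit 2)), ((nat_lit 391), (nat_lit 3)), ((nat_lit 393), (nat_lit 1)), ((nat_lit 397), (nat_lit 3)), ((nat_lit 398),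 (nat_lit 3)), ((nat_lit 400), (nat_lit 2)), ((nat_lit 401), (nat_lit 1)), ((nat_lit 402), (nat_lit 2)), ((nat_lit 405), (nat_lit 1)), ((nat_lit 412), (nat_lit 3)), ((nat_lit 414), (nat_lit 1)), ((nat_lit 415), (nat_lit 1)), ((nat_lit 416), (nat_lit 3)), ((nat_lit 417), (nat_lit 2)), ((nat_lit 418), (nat_lit 2)), ((nat_lit 419), (nat_lit 1)), ((nat_lit 421), (nat_lit 1)), ((nat_lit 422), (nat_lit 1)), ((nat_lit 423), (nat_lit 2)), ((nat_lit 424), (nat_lit 1)), ((nat_lit 425), (nat_lit 3)), ((nat_lit 427), (nat_lit 3)), ((nat_lit 428), (nat_lit 3)), ((nat_lit 435), (nat_lit 1)), ((nat_lit 437), (nat_lit 2)), ((nat_lit 439), (nat_lit 3)), ((nat_lit 440), (nat_lit 2)), ((nat_lit 442), (nat_lit 3)), ((nat_lit 443), (nat_lit 1)), ((nat_lit 444), (nat_lit 1)), ((nat_lit 445), (nat_lit 1)), ((nat_lit 446), (nat_lit 2)), ((nat_lit 450), (nat_lit 3)), ((nat_lit 457), (nat_lit 3)), ((nat_lit 458),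 (nat_lit 3)), ((nat_lit 459), (nat_lit 3)), ((nat_lit 460), (nat_lit 3)), ((nat_lit 462), (nat_lit 1)), ((nat_lit 463), (nat_lit 1)), ((nat_lit 464), (nat_lit 3)), ((nat_lit 465), (nat_lit 2)), ((nat_lit 466), (nat_lit 2)), ((nat_lit 467), (nat_lit 1)), ((nat_lit 468), (nat_lit 3)), ((nat_lit 469), (nat_lit 3)), ((nat_lit 471), (nat_lit 2)), ((nat_lit 477), (nat_lit 3)), ((nat_lit 478), (nat_lit 3)), ((nat_lit 479), (nat_lit 2)), ((nat_lit 480), (nat_lit 2)), ((nat_lit 481), (nat_lit 1)), ((nat_lit 483), (nat_lit 2)), ((nat_lit 484), (nat_lit 1)), ((nat_lit 485), (nat_lit 3)), ((nat_lit 487), (nat_lit 1)), ((nat_lit 488), (nat_lit 2)), ((nat_lit 489), (nat_lit 1)), ((nat_lit 490), (nat_lit 3)), ((nat_lit 491), (nat_lit 1)), ((nat_lit 492), (nat_lit 3)), ((nat_lit 493), (nat_lit 1)), ((nat_lit 494), (nat_lit 2)), ((nat_lit 498), (nat_lit 3)), ((nat_lit 499), (nat_lit 1)), ((nat_lit 500),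 (nat_lit 1)), ((nat_lit 502), (nat_lit 1)), ((nat_lit 503), (nat_lit 1)), ((nat_lit 504), (nat_lit 1)), ((nat_lit 505), (nat_lit 2)), ((nat_lit 506), (nat_lit 1)), ((nat_lit 507), (nat_lit 3)), ((nat_lit 508), (nat_lit 3)), ((nat_lit 509), (nat_lit 1)), ((nat_lit 510), (nat_lit 3)), ((nat_lit 512), (nat_lit 2)), ((nat_lit 513), (nat_lit 2)), ((nat_lit 514), (nat_lit 3)), ((nat_lit 515), (nat_lit 2)), ((nat_lit 516), (nat_lit 3))]⟩]
noncomputable def I2_3 : List Pc.Idn := [⟨false, (nat_lit 0), [nat_lit 3], [nat_lit 3, nat_lit 2], [((nat_lit 141), (nat_lit 2)), ((nat_lit 183), (nat_lit 1)), ((nat_lit 204), (nat_lit 1)), ((nat_lit 226), (nat_lit 3)), ((nat_lit 230), (nat_lit 3)), ((nat_lit 246), (nat_lit 1)), ((nat_lit 251), (nat_lit 2)), ((nat_lit 271), (nat_lit 1)), ((nat_lit 273), (nat_lit 1)), ((nat_lit 274), (nat_lit 1)), ((nat_lit 310), (nat_lit 3)), ((nat_lit 314), (nat_lit 3)), ((nat_lit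 318), (nat_lit 3)), ((nat_lit 331), (nat_lit 3)), ((nat_lit 339), (nat_lit 3)), ((nat_lit 340), (nat_lit 3)), ((nat_lit 352), (nat_lit 3)), ((nat_lit 357), (nat_lit 1)), ((nat_lit 358), (nat_lit 1)), ((nat_lit 360), (nat_lit 1)), ((nat_lit 361), (nat_lit 2)), ((nat_lit 362), (nat_lit 3)), ((nat_lit 378), (nat_lit 1)), ((nat_lit 379), (nat_lit 1)), ((nat_lit 382), (nat_lit 1)), ((nat_lit 383), (nat_lit 1)), ((nat_lit 384), (nat_lit 1)), ((nat_lit 394), (nat_lit 3)), ((nat_lit 399), (nat_lit 3)), ((nat_lit 402), (nat_lit 3)), ((nat_lit 403), (nat_lit 2)), ((nat_lit 404), (nat_lit 2)), ((nat_lit 406), (nat_lit 2)), ((nat_lit 414), (nat_lit 1)), ((nat_lit 419), (nat_lit 3)), ((nat_lit 420), (nat_lit 3)), ((nat_lit 426), (nat_lit 1)), ((nat_lit 427), (nat_lit 3)), ((nat_lit 436), (nat_lit 3)), ((nat_lit 444), (nat_lit 3)), ((nat_lit 445), (nat_lit 2)), ((nat_lit 446), (nat_lit 3)), ((nat_lit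 447), (nat_lit 1)), ((nat_lit 448), (nat_lit 2)), ((nat_lit 449), (nat_lit 3)), ((nat_lit 450), (nat_lit 3)), ((nat_lit 461), (nat_lit 3)), ((nat_lit 462), (nat_lit 3)), ((nat_lit 463), (nat_lit 1)), ((nat_lit 465), (nat_lit 2)), ((nat_lit 466), (nat_lit 3)), ((nat_lit 467), (nat_lit 1)), ((nat_lit 468), (nat_lit 2)), ((nat_lit 469), (nat_lit 1)), ((nat_lit 470), (nat_lit 3)), ((nat_lit 471), (nat_lit 1)), ((nat_lit 472), (nat_lit 2)), ((nat_lit 477), (nat_lit 1)), ((nat_lit 478), (nat_lit 3)), ((nat_lit 482), (nat_lit 3)), ((nat_lit 483), (nat_lit 1)), ((nat_lit 486), (nat_lit 2)), ((nat_lit 487), (nat_lit 3)), ((nat_lit 488), (nat_lit 1)), ((nat_lit 489), (nat_lit 3)), ((nat_lit 490), (nat_lit 2)), ((nat_lit 491), (nat_lit 1)), ((nat_lit 493), (nat_lit 1)), ((nat_lit 494), (nat_lit 1)), ((nat_lit 503), (nat_lit 3)), ((nat_lit 504), (nat_lit 3)), ((nat_lit 505), (nat_lit 1)), ((nat_lit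 507), (nat_lit 3)), ((nat_lit 508), (nat_lit 3)), ((nat_lit 509), (nat_lit 2)), ((nat_lit 512), (nat_lit 1)), ((nat_lit 513), (nat_lit 1)), ((nat_lit 514), (nat_lit 3)), ((nat_lit 516), (nat_lit 3))]⟩,
  ⟨false, (nat_lit 0), [nat_lit 7], [nat_lit 4, nat_lit 1], [((nat_lit 251), (nat_lit 1)), ((nat_lit 269), (nat_lit 3)), ((nat_lit 273), (nat_lit 3)), ((nat_lit 308), (nat_lit 1)), ((nat_lit 315), (nat_lit 3)), ((nat_lit 316), (nat_lit 3)), ((nat_lit 329), (nat_lit 1)), ((nat_lit 336), (nat_lit 3)), ((nat_lit 337), (nat_lit 3)), ((nat_lit 350), (nat_lit 1)), ((nat_lit 353), (nat_lit 3)), ((nat_lit 357), (nat_lit 3)), ((nat_lit 361), (nat_lit 1)), ((nat_lit 362), (nat_lit 1)), ((nat_lit 378), (nat_lit 3)), ((nat_lit 392), (nat_lit 1)), ((nat_lit 399), (nat_lit 3)), ((nat_lit 402), (nat_lit 1)), ((nat_lit 403), (nat_lit 1)), ((nat_lit 404), (nat_lit 1)), ((nat_lit 406), (nat_lit 1)), ((nat_lit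 413), (nat_lit 1)), ((nat_lit 416), (nat_lit 3)), ((nat_lit 420), (nat_lit 3)), ((nat_lit 425), (nat_lit 3)), ((nat_lit 426), (nat_lit 2)), ((nat_lit 427), (nat_lit 3)), ((nat_lit 434), (nat_lit 1)), ((nat_lit 441), (nat_lit 3)), ((nat_lit 446), (nat_lit 1)), ((nat_lit 448), (nat_lit 1)), ((nat_lit 449), (nat_lit 2)), ((nat_lit 461), (nat_lit 1)), ((nat_lit 465), (nat_lit 3)), ((nat_lit 466), (nat_lit 3)), ((nat_lit 467), (nat_lit 1)), ((nat_lit 470), (nat_lit 3)), ((nat_lit 471), (nat_lit 3)), ((nat_lit 472), (nat_lit 3)), ((nat_lit 479), (nat_lit 3)), ((nat_lit 482), (nat_lit 1)), ((nat_lit 484), (nat_lit 1)), ((nat_lit 486), (nat_lit 1)), ((nat_lit 488), (nat_lit 3)), ((nat_lit 489), (nat_lit 3)), ((nat_lit 490), (nat_lit 1)), ((nat_lit 491), (nat_lit 2)), ((nat_lit 492), (nat_lit 1)), ((nat_lit 493), (nat_lit 1)), ((nat_lit 494), (nat_lit 2)), ((nat_lit 504), (nat_lit 3)), ((nat_lit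 505), (nat_lit 1)), ((nat_lit 508), (nat_lit 3)), ((nat_lit 510), (nat_lit 3)), ((nat_lit 512), (nat_lit 1)), ((nat_lit 513), (nat_lit 1)), ((nat_lit 515), (nat_lit 2)), ((nat_lit 516), (nat_lit 2))]⟩,
  ⟨false, (nat_lit 0), [nat_lit 3], [nat_lit 1, nat_lit 0], [((nat_lit 182), (nat_lit 3)), ((nat_lit 184), (nat_lit 1)), ((nat_lit 203), (nat_lit 3)), ((nat_lit 207), (nat_lit 3)), ((nat_lit 244), (nat_lit 1)), ((nat_lit 249), (nat_lit 2)), ((nat_lit 250), (nat_lit 3)), ((nat_lit 287), (nat_lit 3)), ((nat_lit 292), (nat_lit 1)), ((nat_lit 296), (nat_lit 1)), ((nat_lit 312), (nat_lit 3)), ((nat_lit 317), (nat_lit 3)), ((nat_lit 329), (nat_lit 3)), ((nat_lit 333), (nat_lit 3)), ((nat_lit 336), (nat_lit 1)), ((nat_lit 338), (nat_lit 1)), ((nat_lit 339), (nat_lit 1)), ((nat_lit 355), (nat_lit 3)), ((nat_lit 357), (nat_lit 3)), ((nat_lit 361), (nat_lit 3)), ((nat_lit 362), (nat_lit 1)), ((nat_lit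 371), (nat_lit 3)), ((nat_lit 378), (nat_lit 1)), ((nat_lit 380), (nat_lit 1)), ((nat_lit 381), (nat_lit 1)), ((nat_lit 392), (nat_lit 3)), ((nat_lit 399), (nat_lit 1)), ((nat_lit 401), (nat_lit 1)), ((nat_lit 402), (nat_lit 1)), ((nat_lit 420), (nat_lit 3)), ((nat_lit 422), (nat_lit 1)), ((nat_lit 423), (nat_lit 1)), ((nat_lit 424), (nat_lit 3)), ((nat_lit 425), (nat_lit 2)), ((nat_lit 428), (nat_lit 1)), ((nat_lit 434), (nat_lit 3)), ((nat_lit 438), (nat_lit 3)), ((nat_lit 439), (nat_lit 3)), ((nat_lit 441), (nat_lit 1)), ((nat_lit 446), (nat_lit 3)), ((nat_lit 448), (nat_lit 1)), ((nat_lit 450), (nat_lit 2)), ((nat_lit 460), (nat_lit 3)), ((nat_lit 462), (nat_lit 1)), ((nat_lit 465), (nat_lit 2)), ((nat_lit 467), (nat_lit 2)), ((nat_lit 470), (nat_lit 3)), ((nat_lit 471), (nat_lit 3)), ((nat_lit 472), (nat_lit 1)), ((nat_lit 480), (nat_lit 3)), ((nat_lit 481), (nat_lit 3)), ((nat_lit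 485), (nat_lit 3)), ((nat_lit 486), (nat_lit 3)), ((nat_lit 488), (nat_lit 3)), ((nat_lit 489), (nat_lit 3)), ((nat_lit 491), (nat_lit 2)), ((nat_lit 494), (nat_lit 2)), ((nat_lit 497), (nat_lit 3)), ((nat_lit 502), (nat_lit 1)), ((nat_lit 504), (nat_lit 3)), ((nat_lit 506), (nat_lit 1)), ((nat_lit 507), (nat_lit 3)), ((nat_lit 508), (nat_lit 3)), ((nat_lit 509), (nat_lit 2)), ((nat_lit 512), (nat_lit 2)), ((nat_lit 513), (nat_lit 2)), ((nat_lit 514), (nat_lit 2)), ((nat_lit 515), (nat_lit 1)), ((nat_lit 516), (nat_lit 3))]⟩,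
  ⟨false, (nat_lit 0), [nat_lit 3], [nat_lit 2, nat_lit 2], [((nat_lit 141), (nat_lit 2)), ((nat_lit 205), (nat_lit 1)), ((nat_lit 225), (nat_lit 1)), ((nat_lit 230), (nat_lit 1)), ((nat_lit 289), (nat_lit 1)), ((nat_lit 293), (nat_lit 2)), ((nat_lit 309), (nat_lit 1)), ((nat_lit 314), (nat_lit 1)), ((nat_lit 317), (nat_lit 1)), ((nat_lit 318), (nat_lit 2)), ((nat_lit 330), (nat_lit 1)), ((nat_lit 331), (nat_lit 1)), ((nat_lit 335), (nat_lit 1)), ((nat_lit 339), (nat_lit 1)), ((nat_lit 340), (nat_lit 1)), ((nat_lit 351), (nat_lit 1)), ((nat_lit 356), (nat_lit 1)), ((nat_lit 360), (nat_lit 2)), ((nat_lit 361), (nat_lit 1)), ((nat_lit 362), (nat_lit 1)), ((nat_lit 377), (nat_lit 2)), ((nat_lit 380), (nat_lit 1)), ((nat_lit 381), (nat_lit 2)), ((nat_lit 382), (nat_lit 2)), ((nat_lit 383), (nat_lit 1)), ((nat_lit 384), (nat_lit 1)), ((nat_lit 393), (nat_lit 1)), ((nat_lit 394), (nat_lit 1)),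 ((nat_lit 398), (nat_lit 1)), ((nat_lit 401), (nat_lit 1)), ((nat_lit 402), (nat_lit 3)), ((nat_lit 403), (nat_lit 1)), ((nat_lit 404), (nat_lit 2)), ((nat_lit 405), (nat_lit 2)), ((nat_lit 406), (nat_lit 2)), ((nat_lit 419), (nat_lit 1)), ((nat_lit 422), (nat_lit 1)), ((nat_lit 423), (nat_lit 3)), ((nat_lit 424), (nat_lit 2)), ((nat_lit 425), (nat_lit 2)), ((nat_lit 426), (nat_lit 2)), ((nat_lit 427), (nat_lit 2)), ((nat_lit 428), (nat_lit 3)), ((nat_lit 435), (nat_lit 1)), ((nat_lit 436), (nat_lit 1)), ((nat_lit 440), (nat_lit 2)), ((nat_lit 443), (nat_lit 1)), ((nat_lit 444), (nat_lit 3)), ((nat_lit 445), (nat_lit 2)), ((nat_lit 447), (nat_lit 2)), ((nat_lit 448), (nat_lit 2)), ((nat_lit 449), (nat_lit 3)), ((nat_lit 450), (nat_lit 3)), ((nat_lit 457), (nat_lit 1)), ((nat_lit 461), (nat_lit 1)), ((nat_lit 464), (nat_lit 1)), ((nat_lit 465), (nat_lit 2)), ((nat_lit 466), (nat_lit 2)),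 ((nat_lit 467), (nat_lit 2)), ((nat_lit 468), (nat_lit 2)), ((nat_lit 469), (nat_lit 3)), ((nat_lit 470), (nat_lit 3)), ((nat_lit 477), (nat_lit 1)), ((nat_lit 478), (nat_lit 1)), ((nat_lit 482), (nat_lit 2)), ((nat_lit 486), (nat_lit 2)), ((nat_lit 487), (nat_lit 1)), ((nat_lit 489), (nat_lit 1)), ((nat_lit 490), (nat_lit 3)), ((nat_lit 491), (nat_lit 3)), ((nat_lit 492), (nat_lit 2)), ((nat_lit 493), (nat_lit 2)), ((nat_lit 494), (nat_lit 2)), ((nat_lit 506), (nat_lit 1)), ((nat_lit 508), (nat_lit 3)), ((nat_lit 509), (nat_lit 2)), ((nat_lit 511), (nat_lit 1)), ((nat_lit 513), (nat_lit 3)), ((nat_lit 514), (nat_lit 3)), ((nat_lit 515), (nat_lit 1))]⟩,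
  ⟨false, (nat_lit 0), [nat_lit 4], [nat_lit 3, nat_lit 3], [((nat_lit 163), (nat_lit 2)), ((nat_lit 185), (nat_lit 1)), ((nat_lit 205), (nat_lit 1)), ((nat_lit 206), (nat_lit 1)), ((nat_lit 208), (nat_lit 1)), ((nat_lit 248), (nat_lit 1)), ((nat_lit 250), (nat_lit 2)), ((nat_lit 268), (nat_lit 1)), ((nat_lit 271), (nat_lit 1)), ((nat_lit 274), (nat_lit 1)), ((nat_lit 289), (nat_lit 1)), ((nat_lit 292), (nat_lit 2)), ((nat_lit 294), (nat_lit 1)), ((nat_lit 295), (nat_lit 1)), ((nat_lit 296), (nat_lit 2)), ((nat_lit 310), (nat_lit 1)), ((nat_lit 313), (nat_lit 1)), ((nat_lit 315), (nat_lit 1)), ((nat_lit 316), (nat_lit 2)), ((nat_lit 317), (nat_lit 3)), ((nat_lit 318), (nat_lit 2)), ((nat_lit 352), (nat_lit 1)), ((nat_lit 355), (nat_lit 1)), ((nat_lit 357), (nat_lit 1)), ((nat_lit 358), (nat_lit 3)), ((nat_lit 360), (nat_lit 1)), ((nat_lit 362), (nat_lit 3)), ((nat_lit 378), (nat_lit 1)),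 ((nat_lit 379), (nat_lit 1)), ((nat_lit 380), (nat_lit 1)), ((nat_lit 383), (nat_lit 1)), ((nat_lit 384), (nat_lit 2)), ((nat_lit 394), (nat_lit 1)), ((nat_lit 397), (nat_lit 1)), ((nat_lit 400), (nat_lit 1)), ((nat_lit 401), (nat_lit 1)), ((nat_lit 402), (nat_lit 2)), ((nat_lit 404), (nat_lit 1)), ((nat_lit 405), (nat_lit 2)), ((nat_lit 406), (nat_lit 1)), ((nat_lit 415), (nat_lit 1)), ((nat_lit 416), (nat_lit 1)), ((nat_lit 418), (nat_lit 2)), ((nat_lit 420), (nat_lit 1)), ((nat_lit 422), (nat_lit 1)), ((nat_lit 423), (nat_lit 1)), ((nat_lit 425), (nat_lit 1)), ((nat_lit 427), (nat_lit 1)), ((nat_lit 428), (nat_lit 2)), ((nat_lit 436), (nat_lit 1)), ((nat_lit 442), (nat_lit 3)), ((nat_lit 443), (nat_lit 3)), ((nat_lit 446), (nat_lit 2)), ((nat_lit 447), (nat_lit 2)), ((nat_lit 448), (nat_lit 3)), ((nat_lit 449), (nat_lit 1)), ((nat_lit 450), (nat_lit 2)), ((nat_lit 460), (nat_lit 1)),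 ((nat_lit 462), (nat_lit 1)), ((nat_lit 463), (nat_lit 1)), ((nat_lit 464), (nat_lit 1)), ((nat_lit 465), (nat_lit 2)), ((nat_lit 469), (nat_lit 1)), ((nat_lit 470), (nat_lit 2)), ((nat_lit 471), (nat_lit 3)), ((nat_lit 472), (nat_lit 1)), ((nat_lit 479), (nat_lit 1)), ((nat_lit 481), (nat_lit 2)), ((nat_lit 483), (nat_lit 1)), ((nat_lit 484), (nat_lit 1)), ((nat_lit 485), (nat_lit 3)), ((nat_lit 486), (nat_lit 2)), ((nat_lit 488), (nat_lit 3)), ((nat_lit 489), (nat_lit 3)), ((nat_lit 490), (nat_lit 1)), ((nat_lit 492), (nat_lit 2)), ((nat_lit 494), (nat_lit 3)), ((nat_lit 504), (nat_lit 2)), ((nat_lit 505), (nat_lit 1)), ((nat_lit 506), (nat_lit 2)), ((nat_lit 507), (nat_lit 1)), ((nat_lit 509), (nat_lit 3)), ((nat_lit 510), (nat_lit 2)), ((nat_lit 511), (nat_lit 2)), ((nat_lit 512), (nat_lit 1)), ((nat_lit 513), (nat_lit 1)), ((nat_lit 514), (nat_lit 2)), ((nat_lit 516), (nat_lit 3))]⟩,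
  ⟨false, (nat_lit 0), [nat_lit 4], [nat_lit 3, nat_lit 1], [((nat_lit 203), (nat_lit 1)), ((nat_lit 247), (nat_lit 3)), ((nat_lit 248), (nat_lit 1)), ((nat_lit 266), (nat_lit 1)), ((nat_lit 273), (nat_lit 2)), ((nat_lit 287), (nat_lit 1)), ((nat_lit 292), (nat_lit 1)), ((nat_lit 295), (nat_lit 1)), ((nat_lit 308), (nat_lit 1)), ((nat_lit 315), (nat_lit 3)), ((nat_lit 316), (nat_lit 1)), ((nat_lit 350), (nat_lit 1)), ((nat_lit 357), (nat_lit 3)), ((nat_lit 358), (nat_lit 3)), ((nat_lit 359), (nat_lit 1)), ((nat_lit 360), (nat_lit 3)), ((nat_lit 362), (nat_lit 2)), ((nat_lit 376), (nat_lit 1)), ((nat_lit 379), (nat_lit 1)), ((nat_lit 380), (nat_lit 1)), ((nat_lit 381), (nat_lit 2)), ((nat_lit 392), (nat_lit 1)), ((nat_lit 399), (nat_lit 2)), ((nat_lit 401), (nat_lit 3)), ((nat_lit 402), (nat_lit 3)), ((nat_lit 405), (nat_lit 3)), ((nat_lit 413), (nat_lit 1)), ((nat_lit 418), (nat_lit 1)),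 ((nat_lit 420), (nat_lit 2)), ((nat_lit 422), (nat_lit 1)), ((nat_lit 425), (nat_lit 2)), ((nat_lit 426), (nat_lit 3)), ((nat_lit 427), (nat_lit 3)), ((nat_lit 428), (nat_lit 1)), ((nat_lit 434), (nat_lit 1)), ((nat_lit 439), (nat_lit 1)), ((nat_lit 441), (nat_lit 3)), ((nat_lit 443), (nat_lit 1)), ((nat_lit 444), (nat_lit 1)), ((nat_lit 447), (nat_lit 1)), ((nat_lit 449), (nat_lit 2)), ((nat_lit 450), (nat_lit 3)), ((nat_lit 457), (nat_lit 3)), ((nat_lit 460), (nat_lit 1)), ((nat_lit 462), (nat_lit 1)), ((nat_lit 465), (nat_lit 3)), ((nat_lit 467), (nat_lit 2)), ((nat_lit 468), (nat_lit 1)), ((nat_lit 469), (nat_lit 1)), ((nat_lit 470), (nat_lit 1)), ((nat_lit 472), (nat_lit 1)), ((nat_lit 478), (nat_lit 3)), ((nat_lit 485), (nat_lit 1)), ((nat_lit 486), (nat_lit 3)), ((nat_lit 489), (nat_lit 2)), ((nat_lit 490), (nat_lit 2)), ((nat_lit 491), (nat_lit 3)), ((nat_lit 492), (nat_lit 1)),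 ((nat_lit 494), (nat_lit 3)), ((nat_lit 502), (nat_lit 1)), ((nat_lit 504), (nat_lit 1)), ((nat_lit 506), (nat_lit 1)), ((nat_lit 507), (nat_lit 1)), ((nat_lit 509), (nat_lit 3)), ((nat_lit 510), (nat_lit 1)), ((nat_lit 512), (nat_lit 1)), ((nat_lit 513), (nat_lit 2)), ((nat_lit 514), (nat_lit 3)), ((nat_lit 515), (nat_lit 2)), ((nat_lit 516), (nat_lit 1))]⟩,
  ⟨false, (nat_lit 0), [nat_lit 3], [nat_lit 0, nat_lit 0], [((nat_lit 139), (nat_lit 2)), ((nat_lit 181), (nat_lit 1)), ((nat_lit 186), (nat_lit 1)), ((nat_lit 202), (nat_lit 1)), ((nat_lit 207), (nat_lit 1)), ((nat_lit 208), (nat_lit 1)), ((nat_lit 268), (nat_lit 1)), ((nat_lit 270), (nat_lit 2)), ((nat_lit 271), (nat_lit 2)), ((nat_lit 286), (nat_lit 1)), ((nat_lit 291), (nat_lit 1)), ((nat_lit 292), (nat_lit 1)), ((nat_lit 296), (nat_lit 1)), ((nat_lit 310), (nat_lit 1)), ((nat_lit 312), (nat_lit 2)), ((nat_lit 313), (nat_lit 2)),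 ((nat_lit 317), (nat_lit 2)), ((nat_lit 328), (nat_lit 1)), ((nat_lit 333), (nat_lit 1)), ((nat_lit 334), (nat_lit 1)), ((nat_lit 338), (nat_lit 1)), ((nat_lit 340), (nat_lit 1)), ((nat_lit 352), (nat_lit 1)), ((nat_lit 354), (nat_lit 2)), ((nat_lit 355), (nat_lit 1)), ((nat_lit 358), (nat_lit 1)), ((nat_lit 359), (nat_lit 3)), ((nat_lit 360), (nat_lit 1)), ((nat_lit 361), (nat_lit 2)), ((nat_lit 362), (nat_lit 2)), ((nat_lit 370), (nat_lit 1)), ((nat_lit 373), (nat_lit 1)), ((nat_lit 375), (nat_lit 1)), ((nat_lit 376), (nat_lit 1)), ((nat_lit 380), (nat_lit 1)), ((nat_lit 381), (nat_lit 1)), ((nat_lit 382), (nat_lit 1)), ((nat_lit 384), (nat_lit 2)), ((nat_lit 391), (nat_lit 1)), ((nat_lit 394), (nat_lit 1)), ((nat_lit 396), (nat_lit 1)), ((nat_lit 397), (nat_lit 1)), ((nat_lit 401), (nat_lit 2)), ((nat_lit 403), (nat_lit 2)), ((nat_lit 404), (nat_lit 2)), ((nat_lit 405), (nat_lit 2)),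 ((nat_lit 406), (nat_lit 2)), ((nat_lit 417), (nat_lit 1)), ((nat_lit 418), (nat_lit 2)), ((nat_lit 421), (nat_lit 2)), ((nat_lit 422), (nat_lit 1)), ((nat_lit 423), (nat_lit 2)), ((nat_lit 424), (nat_lit 1)), ((nat_lit 425), (nat_lit 2)), ((nat_lit 428), (nat_lit 1)), ((nat_lit 433), (nat_lit 1)), ((nat_lit 436), (nat_lit 1)), ((nat_lit 438), (nat_lit 1)), ((nat_lit 439), (nat_lit 1)), ((nat_lit 445), (nat_lit 1)), ((nat_lit 446), (nat_lit 3)), ((nat_lit 447), (nat_lit 2)), ((nat_lit 448), (nat_lit 3)), ((nat_lit 449), (nat_lit 1)), ((nat_lit 457), (nat_lit 1)), ((nat_lit 460), (nat_lit 3)), ((nat_lit 466), (nat_lit 2)), ((nat_lit 467), (nat_lit 1)), ((nat_lit 471), (nat_lit 1)), ((nat_lit 472), (nat_lit 3)), ((nat_lit 480), (nat_lit 2)), ((nat_lit 484), (nat_lit 1)), ((nat_lit 485), (nat_lit 3)), ((nat_lit 487), (nat_lit 3)), ((nat_lit 490), (nat_lit 3)), ((nat_lit 491), (nat_lit 2)),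 ((nat_lit 492), (nat_lit 3)), ((nat_lit 493), (nat_lit 1)), ((nat_lit 494), (nat_lit 2)), ((nat_lit 496), (nat_lit 1)), ((nat_lit 499), (nat_lit 1)), ((nat_lit 501), (nat_lit 1)), ((nat_lit 502), (nat_lit 1)), ((nat_lit 505), (nat_lit 2)), ((nat_lit 506), (nat_lit 3)), ((nat_lit 507), (nat_lit 3)), ((nat_lit 508), (nat_lit 3)), ((nat_lit 509), (nat_lit 3)), ((nat_lit 510), (nat_lit 3)), ((nat_lit 511), (nat_lit 2)), ((nat_lit 515), (nat_lit 2))]⟩,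
  ⟨false, (nat_lit 0), [nat_lit 4], [nat_lit 0, nat_lit 0], [((nat_lit 160), (nat_lit 2)), ((nat_lit 181), (nat_lit 1)), ((nat_lit 186), (nat_lit 1)), ((nat_lit 202), (nat_lit 1)), ((nat_lit 207), (nat_lit 1)), ((nat_lit 208), (nat_lit 1)), ((nat_lit 269), (nat_lit 1)), ((nat_lit 270), (nat_lit 2)), ((nat_lit 271), (nat_lit 2)), ((nat_lit 286), (nat_lit 1)), ((nat_lit 291), (nat_lit 1)), ((nat_lit 292), (nat_lit 1)), ((nat_lit 296), (nat_lit 1)), ((nat_lit 307), (nat_lit 1)), ((nat_lit 311), (nat_lit 1)), ((nat_lit 312), (nat_lit 1)), ((nat_lit 313), (nat_lit 1)), ((nat_lit 317), (nat_lit 1)), ((nat_lit 318), (nat_lit 1)), ((nat_lit 328), (nat_lit 1)), ((nat_lit 333), (nat_lit 1)), ((nat_lit 334), (nat_lit 1)), ((nat_lit 338), (nat_lit 1)), ((nat_lit 339), (nat_lit 1)), ((nat_lit 340), (nat_lit 1)), ((nat_lit 349), (nat_lit 1)), ((nat_lit 353), (nat_lit 1)), ((nat_lit 354), (nat_lit 1)),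 ((nat_lit 358), (nat_lit 1)), ((nat_lit 359), (nat_lit 2)), ((nat_lit 360), (nat_lit 1)), ((nat_lit 361), (nat_lit 2)), ((nat_lit 370), (nat_lit 1)), ((nat_lit 374), (nat_lit 1)), ((nat_lit 375), (nat_lit 1)), ((nat_lit 376), (nat_lit 1)), ((nat_lit 380), (nat_lit 1)), ((nat_lit 381), (nat_lit 2)), ((nat_lit 382), (nat_lit 1)), ((nat_lit 383), (nat_lit 1)), ((nat_lit 384), (nat_lit 2)), ((nat_lit 391), (nat_lit 1)), ((nat_lit 395), (nat_lit 1)), ((nat_lit 396), (nat_lit 1)), ((nat_lit 397), (nat_lit 1)), ((nat_lit 401), (nat_lit 2)), ((nat_lit 402), (nat_lit 2)), ((nat_lit 403), (nat_lit 2)), ((nat_lit 405), (nat_lit 2)), ((nat_lit 406), (nat_lit 2)), ((nat_lit 412), (nat_lit 1)), ((nat_lit 417), (nat_lit 2)), ((nat_lit 418), (nat_lit 1)), ((nat_lit 421), (nat_lit 2)), ((nat_lit 422), (nat_lit 2)), ((nat_lit 423), (nat_lit 3)), ((nat_lit 424), (nat_lit 2)), ((nat_lit 425), (nat_lit 1)),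 ((nat_lit 426), (nat_lit 3)), ((nat_lit 427), (nat_lit 3)), ((nat_lit 428), (nat_lit 2)), ((nat_lit 437), (nat_lit 1)), ((nat_lit 443), (nat_lit 1)), ((nat_lit 446), (nat_lit 3)), ((nat_lit 447), (nat_lit 2)), ((nat_lit 448), (nat_lit 2)), ((nat_lit 449), (nat_lit 1)), ((nat_lit 450), (nat_lit 3)), ((nat_lit 458), (nat_lit 1)), ((nat_lit 460), (nat_lit 3)), ((nat_lit 464), (nat_lit 1)), ((nat_lit 466), (nat_lit 1)), ((nat_lit 467), (nat_lit 1)), ((nat_lit 469), (nat_lit 3)), ((nat_lit 470), (nat_lit 2)), ((nat_lit 471), (nat_lit 1)), ((nat_lit 472), (nat_lit 2)), ((nat_lit 475), (nat_lit 1)), ((nat_lit 480), (nat_lit 2)), ((nat_lit 481), (nat_lit 1)), ((nat_lit 484), (nat_lit 1)), ((nat_lit 485), (nat_lit 3)), ((nat_lit 486), (nat_lit 3)), ((nat_lit 487), (nat_lit 3)), ((nat_lit 488), (nat_lit 1)), ((nat_lit 489), (nat_lit 3)), ((nat_lit 490), (nat_lit 2)), ((nat_lit 491), (nat_lit 2)),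 ((nat_lit 492), (nat_lit 1)), ((nat_lit 493), (nat_lit 2)), ((nat_lit 494), (nat_lit 3)), ((nat_lit 496), (nat_lit 1)), ((nat_lit 500), (nat_lit 1)), ((nat_lit 501), (nat_lit 2)), ((nat_lit 502), (nat_lit 1)), ((nat_lit 505), (nat_lit 2)), ((nat_lit 506), (nat_lit 2)), ((nat_lit 507), (nat_lit 1)), ((nat_lit 509), (nat_lit 3)), ((nat_lit 510), (nat_lit 3)), ((nat_lit 512), (nat_lit 3)), ((nat_lit 513), (nat_lit 3)), ((nat_lit 515), (nat_lit 3)), ((nat_lit 516), (nat_lit 3))]⟩,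
  ⟨false, (nat_lit 0), [nat_lit 4], [nat_lit 2, nat_lit 2], [((nat_lit 162), (nat_lit 2)), ((nat_lit 204), (nat_lit 1)), ((nat_lit 206), (nat_lit 1)), ((nat_lit 208), (nat_lit 1)), ((nat_lit 225), (nat_lit 1)), ((nat_lit 229), (nat_lit 1)), ((nat_lit 230), (nat_lit 1)), ((nat_lit 267), (nat_lit 1)), ((nat_lit 271), (nat_lit 1)), ((nat_lit 272), (nat_lit 1)), ((nat_lit 274), (nat_lit 1)), ((nat_lit 288), (nat_lit 1)), ((nat_lit 290), (nat_lit 1)), ((nat_lit 292), (nat_lit 1)), ((nat_lit 293), (nat_lit 1)), ((nat_lit 295), (nat_lit 1)), ((nat_lit 296), (nat_lit 1)), ((nat_lit 309), (nat_lit 1)), ((nat_lit 313), (nat_lit 1)), ((nat_lit 314), (nat_lit 1)), ((nat_lit 316), (nat_lit 2)), ((nat_lit 317), (nat_lit 3)), ((nat_lit 318), (nat_lit 2)), ((nat_lit 330), (nat_lit 1)), ((nat_lit 332), (nat_lit 1)), ((nat_lit 334), (nat_lit 1)), ((nat_lit 335), (nat_lit 1)), ((nat_lit 337), (nat_lit 1)),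 ((nat_lit 338), (nat_lit 1)), ((nat_lit 339), (nat_lit 1)), ((nat_lit 340), (nat_lit 1)), ((nat_lit 355), (nat_lit 2)), ((nat_lit 356), (nat_lit 1)), ((nat_lit 358), (nat_lit 1)), ((nat_lit 359), (nat_lit 2)), ((nat_lit 360), (nat_lit 1)), ((nat_lit 361), (nat_lit 2)), ((nat_lit 362), (nat_lit 2)), ((nat_lit 372), (nat_lit 1)), ((nat_lit 376), (nat_lit 1)), ((nat_lit 377), (nat_lit 2)), ((nat_lit 379), (nat_lit 1)), ((nat_lit 380), (nat_lit 2)), ((nat_lit 381), (nat_lit 3)), ((nat_lit 382), (nat_lit 3)), ((nat_lit 383), (nat_lit 1)), ((nat_lit 384), (nat_lit 3)), ((nat_lit 393), (nat_lit 1)), ((nat_lit 395), (nat_lit 1)), ((nat_lit 397), (nat_lit 1)), ((nat_lit 400), (nat_lit 3)), ((nat_lit 401), (nat_lit 1)), ((nat_lit 402), (nat_lit 2)), ((nat_lit 404), (nat_lit 3)), ((nat_lit 405), (nat_lit 3)), ((nat_lit 406), (nat_lit 3)), ((nat_lit 418), (nat_lit 2)), ((nat_lit 419), (nat_lit 1)),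 ((nat_lit 421), (nat_lit 2)), ((nat_lit 422), (nat_lit 2)), ((nat_lit 425), (nat_lit 3)), ((nat_lit 426), (nat_lit 1)), ((nat_lit 428), (nat_lit 1)), ((nat_lit 437), (nat_lit 1)), ((nat_lit 439), (nat_lit 1)), ((nat_lit 440), (nat_lit 1)), ((nat_lit 442), (nat_lit 3)), ((nat_lit 444), (nat_lit 2)), ((nat_lit 445), (nat_lit 1)), ((nat_lit 447), (nat_lit 1)), ((nat_lit 448), (nat_lit 2)), ((nat_lit 449), (nat_lit 3)), ((nat_lit 450), (nat_lit 3)), ((nat_lit 456), (nat_lit 1)), ((nat_lit 458), (nat_lit 1)), ((nat_lit 460), (nat_lit 1)), ((nat_lit 461), (nat_lit 2)), ((nat_lit 464), (nat_lit 2)), ((nat_lit 465), (nat_lit 3)), ((nat_lit 466), (nat_lit 1)), ((nat_lit 468), (nat_lit 1)), ((nat_lit 469), (nat_lit 1)), ((nat_lit 470), (nat_lit 2)), ((nat_lit 471), (nat_lit 2)), ((nat_lit 472), (nat_lit 1)), ((nat_lit 479), (nat_lit 1)), ((nat_lit 481), (nat_lit 2)), ((nat_lit 482), (nat_lit 1)),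 ((nat_lit 484), (nat_lit 2)), ((nat_lit 485), (nat_lit 1)), ((nat_lit 487), (nat_lit 1)), ((nat_lit 488), (nat_lit 1)), ((nat_lit 490), (nat_lit 2)), ((nat_lit 492), (nat_lit 3)), ((nat_lit 502), (nat_lit 1)), ((nat_lit 503), (nat_lit 1)), ((nat_lit 505), (nat_lit 3)), ((nat_lit 506), (nat_lit 2)), ((nat_lit 507), (nat_lit 2)), ((nat_lit 508), (nat_lit 2)), ((nat_lit 510), (nat_lit 3)), ((nat_lit 513), (nat_lit 1)), ((nat_lit 514), (nat_lit 2)), ((nat_lit 515), (nat_lit 1)), ((nat_lit 516), (nat_lit 2))]⟩,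
  ⟨false, (nat_lit 0), [nat_lit 4], [nat_lit 2, nat_lit 1], [((nat_lit 203), (nat_lit 1)), ((nat_lit 224), (nat_lit 1)), ((nat_lit 227), (nat_lit 1)), ((nat_lit 229), (nat_lit 1)), ((nat_lit 246), (nat_lit 3)), ((nat_lit 250), (nat_lit 1)), ((nat_lit 266), (nat_lit 1)), ((nat_lit 273), (nat_lit 3)), ((nat_lit 287), (nat_lit 1)), ((nat_lit 293), (nat_lit 3)), ((nat_lit 294), (nat_lit 3)), ((nat_lit 295), (nat_lit 3)), ((nat_lit 308), (nat_lit 1)), ((nat_lit 313), (nat_lit 1)), ((nat_lit 314), (nat_lit 3)), ((nat_lit 316), (nat_lit 3)), ((nat_lit 318), (nat_lit 1)), ((nat_lit 329), (nat_lit 1)), ((nat_lit 334), (nat_lit 1)), ((nat_lit 335), (nat_lit 1)), ((nat_lit 337), (nat_lit 1)), ((nat_lit 338), (nat_lit 1)), ((nat_lit 339), (nat_lit 2)), ((nat_lit 355), (nat_lit 1)), ((nat_lit 356), (nat_lit 3)), ((nat_lit 357), (nat_lit 1)), ((nat_lit 358), (nat_lit 1)), ((nat_lit 361), (nat_lit 3)),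 ((nat_lit 362), (nat_lit 3)), ((nat_lit 371), (nat_lit 1)), ((nat_lit 378), (nat_lit 3)), ((nat_lit 379), (nat_lit 3)), ((nat_lit 382), (nat_lit 3)), ((nat_lit 383), (nat_lit 3)), ((nat_lit 392), (nat_lit 1)), ((nat_lit 397), (nat_lit 1)), ((nat_lit 399), (nat_lit 1)), ((nat_lit 400), (nat_lit 3)), ((nat_lit 402), (nat_lit 1)), ((nat_lit 404), (nat_lit 1)), ((nat_lit 406), (nat_lit 1)), ((nat_lit 420), (nat_lit 1)), ((nat_lit 422), (nat_lit 1)), ((nat_lit 423), (nat_lit 3)), ((nat_lit 424), (nat_lit 3)), ((nat_lit 425), (nat_lit 1)), ((nat_lit 426), (nat_lit 2)), ((nat_lit 427), (nat_lit 3)), ((nat_lit 428), (nat_lit 1)), ((nat_lit 440), (nat_lit 3)), ((nat_lit 441), (nat_lit 2)), ((nat_lit 443), (nat_lit 3)), ((nat_lit 444), (nat_lit 2)), ((nat_lit 445), (nat_lit 3)), ((nat_lit 446), (nat_lit 1)), ((nat_lit 447), (nat_lit 1)), ((nat_lit 448), (nat_lit 1)), ((nat_lit 450), (nat_lit 1)),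 ((nat_lit 455), (nat_lit 1)), ((nat_lit 456), (nat_lit 3)), ((nat_lit 460), (nat_lit 1)), ((nat_lit 461), (nat_lit 1)), ((nat_lit 463), (nat_lit 1)), ((nat_lit 464), (nat_lit 3)), ((nat_lit 466), (nat_lit 2)), ((nat_lit 468), (nat_lit 1)), ((nat_lit 469), (nat_lit 2)), ((nat_lit 471), (nat_lit 1)), ((nat_lit 472), (nat_lit 2)), ((nat_lit 477), (nat_lit 3)), ((nat_lit 481), (nat_lit 1)), ((nat_lit 482), (nat_lit 1)), ((nat_lit 483), (nat_lit 1)), ((nat_lit 484), (nat_lit 1)), ((nat_lit 486), (nat_lit 3)), ((nat_lit 487), (nat_lit 3)), ((nat_lit 489), (nat_lit 3)), ((nat_lit 490), (nat_lit 3)), ((nat_lit 491), (nat_lit 3)), ((nat_lit 492), (nat_lit 2)), ((nat_lit 494), (nat_lit 3)), ((nat_lit 503), (nat_lit 3)), ((nat_lit 504), (nat_lit 1)), ((nat_lit 505), (nat_lit 2)), ((nat_lit 506), (nat_lit 3)), ((nat_lit 508), (nat_lit 2)), ((nat_lit 509), (nat_lit 3)), ((nat_lit 510), (nat_lit 1)),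 ((nat_lit 513), (nat_lit 1)), ((nat_lit 514), (nat_lit 1)), ((nat_lit 515), (nat_lit 2)), ((nat_lit 516), (nat_lit 2))]⟩,
  ⟨true, (nat_lit 1), [nat_lit 0, nat_lit 1], [nat_lit 1, nat_lit 0, nat_lit 2], [((nat_lit 2), (nat_lit 1)), ((nat_lit 427), (nat_lit 3)), ((nat_lit 511), (nat_lit 3)), ((nat_lit 512), (nat_lit 1))]⟩,
  ⟨true, (nat_lit 3), [nat_lit 3, nat_lit 4], [nat_lit 4, nat_lit 3, nat_lit 5], [((nat_lit 5), (nat_lit 1)), ((nat_lit 427), (nat_lit 1)), ((nat_lit 467), (nat_lit 3)), ((nat_lit 469), (nat_lit 1)), ((nat_lit 470), (nat_lit 3)), ((nat_lit 490), (nat_lit 1)), ((nat_lit 493), (nat_lit 1)), ((nat_lit 509), (nat_lit 3)), ((nat_lit 514), (nat_lit 3))]⟩,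
  ⟨true, (nat_lit 4), [nat_lit 6, nat_lit 7], [nat_lit 7, nat_lit 6, nat_lit 8], [((nat_lit 8), (nat_lit 1)), ((nat_lit 404), (nat_lit 3)), ((nat_lit 424), (nat_lit 1)), ((nat_lit 425), (nat_lit 3)), ((nat_lit 427), (nat_lit 1)), ((nat_lit 448), (nat_lit 1)), ((nat_lit 449), (nat_lit 1)), ((nat_lit 490), (nat_lit 1)), ((nat_lit 491), (nat_lit 1)), ((nat_lit 512), (nat_lit 2)), ((nat_lit 513), (nat_lit 3)), ((nat_lit 515), (nat_lit 3))]⟩,
  ⟨true, (nat_lit 5), [nat_lit 9, nat_lit 10], [nat_lit 10, nat_lit 9], [((nat_lit 375), (nat_lit 3)), ((nat_lit 377), (nat_lit 3)), ((nat_lit 378), (nat_lit 3)), ((nat_lit 380), (nat_lit 3)), ((nat_lit 468), (nat_lit 1)), ((nat_lit 470), (nat_lit 1)), ((nat_lit 480), (nat_lit 3)), ((nat_lit 483), (nat_lit 3)), ((nat_lit 485), (nat_lit 3)), ((nat_lit 489), (nat_lit 3)), ((nat_lit 493), (nat_lit 3)), ((nat_lit 494), (nat_lit 3)), ((nat_lit 503), (nat_lit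 3)), ((nat_lit 515), (nat_lit 3)), ((nat_lit 516), (nat_lit 3))]⟩,
  ⟨true, (nat_lit 0), [nat_lit 11, nat_lit 12], [nat_lit 12, nat_lit 11, nat_lit 13], [((nat_lit 13), (nat_lit 1)), ((nat_lit 317), (nat_lit 3)), ((nat_lit 338), (nat_lit 3)), ((nat_lit 380), (nat_lit 3)), ((nat_lit 443), (nat_lit 3)), ((nat_lit 485), (nat_lit 3)), ((nat_lit 489), (nat_lit 3)), ((nat_lit 490), (nat_lit 3)), ((nat_lit 494), (nat_lit 3)), ((nat_lit 510), (nat_lit 3)), ((nat_lit 511), (nat_lit 3)), ((nat_lit 513), (nat_lit 3)), ((nat_lit 515), (nat_lit 2))]⟩,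
  ⟨true, (nat_lit 2), [nat_lit 14, nat_lit 15], [nat_lit 15, nat_lit 14, nat_lit 16], [((nat_lit 16), (nat_lit 1)), ((nat_lit 476), (nat_lit 3)), ((nat_lit 477), (nat_lit 1)), ((nat_lit 478), (nat_lit 3)), ((nat_lit 481), (nat_lit 3)), ((nat_lit 482), (nat_lit 3)), ((nat_lit 483), (nat_lit 3)), ((nat_lit 484), (nat_lit 3)), ((nat_lit 489), (nat_lit 3)), ((nat_lit 490), (nat_lit 3)), ((nat_lit 493), (nat_lit 3)), ((nat_lit 497), (nat_lit 3))]⟩,
  ⟨true, (nat_lit 1), [nat_lit 17, nat_lit 18], [nat_lit 18, nat_lit 17, nat_lit 19, nat_lit 20, nat_lit 2], [((nat_lit 19), (nat_lit 1)), ((nat_lit 20), (nat_lit 1)), ((nat_lit 2), (nat_lit 1)), ((nat_lit 404), (nat_lit 3)), ((nat_lit 459), (nat_lit 3)), ((nat_lit 480), (nat_lit 3)), ((nat_lit 490), (nat_lit 1)), ((nat_lit 493), (nat_lit 1)), ((nat_lit 509), (nat_lit 3)), ((nat_lit 514), (nat_lit 3)), ((nat_lit 515), (nat_lit 3))]⟩,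
  ⟨true, (nat_lit 0), [nat_lit 12, nat_lit 21], [nat_lit 21, nat_lit 12, nat_lit 13, nat_lit 22], [((nat_lit 13), (nat_lit 1)), ((nat_lit 22), (nat_lit 1)), ((nat_lit 380), (nat_lit 1)), ((nat_lit 422), (nat_lit 1)), ((nat_lit 443), (nat_lit 1)), ((nat_lit 489), (nat_lit 1)), ((nat_lit 491), (nat_lit 1)), ((nat_lit 492), (nat_lit 1)), ((nat_lit 510), (nat_lit 1)), ((nat_lit 512), (nat_lit 1)), ((nat_lit 513), (nat_lit 1)), ((nat_lit 515), (nat_lit 1))]⟩,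
  ⟨true, (nat_lit 1), [nat_lit 1, nat_lit 18], [nat_lit 18, nat_lit 1, nat_lit 20], [((nat_lit 20), (nat_lit 1)), ((nat_lit 360), (nat_lit 1)), ((nat_lit 396), (nat_lit 3)), ((nat_lit 402), (nat_lit 1)), ((nat_lit 404), (nat_lit 3)), ((nat_lit 467), (nat_lit 3)), ((nat_lit 469), (nat_lit 3)), ((nat_lit 486), (nat_lit 1)), ((nat_lit 494), (nat_lit 3)), ((nat_lit 501), (nat_lit 3)), ((nat_lit 511), (nat_lit 1)), ((nat_lit 514), (nat_lit 3))]⟩,
  ⟨true, (nat_lit 4), [nat_lit 23, nat_lit 24], [nat_lit 24, nat_lit 23, nat_lit 25, nat_lit 8], [((nat_lit 25), (nat_lit 1)), ((nat_lit 8), (nat_lit 1)), ((nat_lit 400), (nat_lit 1)), ((nat_lit 456), (nat_lit 3)), ((nat_lit 457), (nat_lit 3)), ((nat_lit 458), (nat_lit 3)), ((nat_lit 459), (nat_lit 3)), ((nat_lit 461), (nat_lit 3)), ((nat_lit 466), (nat_lit 3)), ((nat_lit 469), (nat_lit 3)), ((nat_lit 470), (nat_lit 3)), ((nat_lit 478), (nat_lit 3)),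 ((nat_lit 480), (nat_lit 3)), ((nat_lit 482), (nat_lit 3)), ((nat_lit 487), (nat_lit 3)), ((nat_lit 490), (nat_lit 3)), ((nat_lit 491), (nat_lit 3)), ((nat_lit 494), (nat_lit 3)), ((nat_lit 508), (nat_lit 3)), ((nat_lit 511), (nat_lit 3)), ((nat_lit 512), (nat_lit 3)), ((nat_lit 515), (nat_lit 3))]⟩,
  ⟨true, (nat_lit 2), [nat_lit 26, nat_lit 27], [nat_lit 27, nat_lit 26, nat_lit 14], [((nat_lit 14), (nat_lit 1)), ((nat_lit 419), (nat_lit 1)), ((nat_lit 456), (nat_lit 3)), ((nat_lit 457), (nat_lit 3)), ((nat_lit 458), (nat_lit 3)), ((nat_lit 459), (nat_lit 3)), ((nat_lit 461), (nat_lit 3)), ((nat_lit 463), (nat_lit 3)), ((nat_lit 464), (nat_lit 3)), ((nat_lit 469), (nat_lit 3)), ((nat_lit 470), (nat_lit 3)), ((nat_lit 471), (nat_lit 3)), ((nat_lit 477), (nat_lit 3)), ((nat_lit 479), (nat_lit 3)), ((nat_lit 494), (nat_lit 3)), ((nat_lit 498), (nat_lit 3)), ((nat_lit 501), (nat_lit 3)), ((nat_lit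 503), (nat_lit 3)), ((nat_lit 515), (nat_lit 1)), ((nat_lit 516), (nat_lit 3))]⟩,
  ⟨true, (nat_lit 3), [nat_lit 3, nat_lit 28], [nat_lit 28, nat_lit 3, nat_lit 29, nat_lit 5], [((nat_lit 29), (nat_lit 1)), ((nat_lit 5), (nat_lit 1)), ((nat_lit 396), (nat_lit 3)), ((nat_lit 400), (nat_lit 1)), ((nat_lit 402), (nat_lit 3)), ((nat_lit 404), (nat_lit 3)), ((nat_lit 427), (nat_lit 1)), ((nat_lit 448), (nat_lit 1)), ((nat_lit 459), (nat_lit 3)), ((nat_lit 486), (nat_lit 3)), ((nat_lit 488), (nat_lit 3)), ((nat_lit 490), (nat_lit 3)), ((nat_lit 491), (nat_lit 3)), ((nat_lit 492), (nat_lit 3)), ((nat_lit 493), (nat_lit 3)), ((nat_lit 501), (nat_lit 3)), ((nat_lit 511), (nat_lit 3)), ((nat_lit 512), (nat_lit 3)), ((nat_lit 513), (nat_lit 3))]⟩,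
  ⟨true, (nat_lit 6), [nat_lit 30, nat_lit 31], [nat_lit 31, nat_lit 30, nat_lit 32], [((nat_lit 32), (nat_lit 1)), ((nat_lit 271), (nat_lit 1)), ((nat_lit 273), (nat_lit 1)), ((nat_lit 337), (nat_lit 3)), ((nat_lit 358), (nat_lit 1)), ((nat_lit 379), (nat_lit 3)), ((nat_lit 418), (nat_lit 1)), ((nat_lit 428), (nat_lit 1)), ((nat_lit 439), (nat_lit 1)), ((nat_lit 441), (nat_lit 1)), ((nat_lit 442), (nat_lit 3)), ((nat_lit 450), (nat_lit 1)), ((nat_lit 463), (nat_lit 3)), ((nat_lit 466), (nat_lit 1)), ((nat_lit 471), (nat_lit 1)), ((nat_lit 484), (nat_lit 3)), ((nat_lit 491), (nat_lit 1)), ((nat_lit 492), (nat_lit 1)), ((nat_lit 494), (nat_lit 1)), ((nat_lit 502), (nat_lit 1)), ((nat_lit 505), (nat_lit 3)), ((nat_lit 508), (nat_lit 1)), ((nat_lit 510), (nat_lit 1)), ((nat_lit 512), (nat_lit 3)), ((nat_lit 513), (nat_lit 1)), ((nat_lit 514), (nat_lit 1)), ((nat_lit 515), (nat_lit 1)), ((nat_lit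 516), (nat_lit 1))]⟩,
  ⟨true, (nat_lit 0), [nat_lit 33, nat_lit 34], [nat_lit 34, nat_lit 33, nat_lit 35, nat_lit 13], [((nat_lit 35), (nat_lit 1)), ((nat_lit 13), (nat_lit 1)), ((nat_lit 373), (nat_lit 3)), ((nat_lit 375), (nat_lit 3)), ((nat_lit 379), (nat_lit 3)), ((nat_lit 383), (nat_lit 3)), ((nat_lit 405), (nat_lit 1)), ((nat_lit 415), (nat_lit 1)), ((nat_lit 417), (nat_lit 3)), ((nat_lit 421), (nat_lit 3)), ((nat_lit 425), (nat_lit 3)), ((nat_lit 426), (nat_lit 1)), ((nat_lit 427), (nat_lit 3)), ((nat_lit 436), (nat_lit 3)), ((nat_lit 447), (nat_lit 1)), ((nat_lit 471), (nat_lit 3)), ((nat_lit 472), (nat_lit 3)), ((nat_lit 478), (nat_lit 3)), ((nat_lit 480), (nat_lit 3)), ((nat_lit 493), (nat_lit 3)), ((nat_lit 494), (nat_lit 3)), ((nat_lit 501), (nat_lit 3)), ((nat_lit 505), (nat_lit 3)), ((nat_lit 509), (nat_lit 3)), ((nat_lit 510), (nat_lit 1)), ((nat_lit 511), (nat_lit 3)), ((nat_lit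 512), (nat_lit 3)), ((nat_lit 513), (nat_lit 1)), ((nat_lit 515), (nat_lit 1)), ((nat_lit 516), (nat_lit 3))]⟩,
  ⟨true, (nat_lit 6), [nat_lit 36, nat_lit 31], [nat_lit 31, nat_lit 36, nat_lit 37, nat_lit 32], [((nat_lit 37), (nat_lit 1)), ((nat_lit 32), (nat_lit 1)), ((nat_lit 265), (nat_lit 1)), ((nat_lit 266), (nat_lit 1)), ((nat_lit 316), (nat_lit 1)), ((nat_lit 337), (nat_lit 3)), ((nat_lit 350), (nat_lit 1)), ((nat_lit 362), (nat_lit 1)), ((nat_lit 412), (nat_lit 1)), ((nat_lit 413), (nat_lit 1)), ((nat_lit 421), (nat_lit 3)), ((nat_lit 424), (nat_lit 1)), ((nat_lit 428), (nat_lit 1)), ((nat_lit 433), (nat_lit 1)), ((nat_lit 434), (nat_lit 1)), ((nat_lit 445), (nat_lit 1)), ((nat_lit 449), (nat_lit 2)), ((nat_lit 450), (nat_lit 1)), ((nat_lit 455), (nat_lit 1)), ((nat_lit 467), (nat_lit 1)), ((nat_lit 470), (nat_lit 3)), ((nat_lit 471), (nat_lit 1)), ((nat_lit 472), (nat_lit 2)), ((nat_lit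 492), (nat_lit 1)), ((nat_lit 493), (nat_lit 1)), ((nat_lit 494), (nat_lit 1)), ((nat_lit 496), (nat_lit 1)), ((nat_lit 512), (nat_lit 2)), ((nat_lit 515), (nat_lit 1)), ((nat_lit 516), (nat_lit 3))]⟩,
  ⟨true, (nat_lit 6), [nat_lit 38, nat_lit 31], [nat_lit 31, nat_lit 38, nat_lit 39, nat_lit 32], [((nat_lit 39), (nat_lit 1)), ((nat_lit 32), (nat_lit 1)), ((nat_lit 270), (nat_lit 1)), ((nat_lit 272), (nat_lit 1)), ((nat_lit 273), (nat_lit 1)), ((nat_lit 295), (nat_lit 3)), ((nat_lit 379), (nat_lit 3)), ((nat_lit 400), (nat_lit 1)), ((nat_lit 417), (nat_lit 1)), ((nat_lit 419), (nat_lit 1)), ((nat_lit 428), (nat_lit 1)), ((nat_lit 438), (nat_lit 1)), ((nat_lit 440), (nat_lit 1)), ((nat_lit 441), (nat_lit 1)), ((nat_lit 450), (nat_lit 1)), ((nat_lit 462), (nat_lit 1)), ((nat_lit 463), (nat_lit 3)), ((nat_lit 470), (nat_lit 1)), ((nat_lit 471), (nat_lit 2)), ((nat_lit 472), (nat_lit 1)), ((nat_lit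 482), (nat_lit 1)), ((nat_lit 484), (nat_lit 3)), ((nat_lit 489), (nat_lit 3)), ((nat_lit 491), (nat_lit 1)), ((nat_lit 492), (nat_lit 2)), ((nat_lit 493), (nat_lit 3)), ((nat_lit 494), (nat_lit 1)), ((nat_lit 501), (nat_lit 1)), ((nat_lit 503), (nat_lit 1)), ((nat_lit 510), (nat_lit 3)), ((nat_lit 512), (nat_lit 3)), ((nat_lit 513), (nat_lit 1)), ((nat_lit 516), (nat_lit 2))]⟩,
  ⟨true, (nat_lit 2), [nat_lit 40, nat_lit 41], [nat_lit 41, nat_lit 40, nat_lit 42, nat_lit 14], [((nat_lit 42), (nat_lit 1)), ((nat_lit 14), (nat_lit 1)), ((nat_lit 351), (nat_lit 3)), ((nat_lit 352), (nat_lit 3)), ((nat_lit 353), (nat_lit 3)), ((nat_lit 355), (nat_lit 3)), ((nat_lit 412), (nat_lit 3)), ((nat_lit 414), (nat_lit 3)), ((nat_lit 425), (nat_lit 1)), ((nat_lit 454), (nat_lit 3)), ((nat_lit 458), (nat_lit 3)), ((nat_lit 467), (nat_lit 1)), ((nat_lit 472), (nat_lit 3)), ((nat_lit 475), (nat_lit 3)), ((nat_lit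 477), (nat_lit 3)), ((nat_lit 481), (nat_lit 3)), ((nat_lit 491), (nat_lit 3)), ((nat_lit 494), (nat_lit 3)), ((nat_lit 500), (nat_lit 3)), ((nat_lit 512), (nat_lit 1)), ((nat_lit 514), (nat_lit 3)), ((nat_lit 516), (nat_lit 1))]⟩,
  ⟨true, (nat_lit 4), [nat_lit 6, nat_lit 43], [nat_lit 43, nat_lit 6, nat_lit 44], [((nat_lit 44), (nat_lit 1)), ((nat_lit 391), (nat_lit 3)), ((nat_lit 393), (nat_lit 3)), ((nat_lit 399), (nat_lit 3)), ((nat_lit 400), (nat_lit 3)), ((nat_lit 413), (nat_lit 1)), ((nat_lit 420), (nat_lit 1)), ((nat_lit 427), (nat_lit 1)), ((nat_lit 448), (nat_lit 1)), ((nat_lit 449), (nat_lit 2)), ((nat_lit 456), (nat_lit 3)), ((nat_lit 462), (nat_lit 1)), ((nat_lit 463), (nat_lit 3)), ((nat_lit 471), (nat_lit 3)), ((nat_lit 472), (nat_lit 3)), ((nat_lit 476), (nat_lit 1)), ((nat_lit 490), (nat_lit 3)), ((nat_lit 491), (nat_lit 2)), ((nat_lit 492), (nat_lit 3)), ((nat_lit 493),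 (nat_lit 3)), ((nat_lit 494), (nat_lit 3)), ((nat_lit 497), (nat_lit 1)), ((nat_lit 498), (nat_lit 3)), ((nat_lit 504), (nat_lit 3)), ((nat_lit 511), (nat_lit 3)), ((nat_lit 512), (nat_lit 3)), ((nat_lit 513), (nat_lit 3)), ((nat_lit 514), (nat_lit 3)), ((nat_lit 515), (nat_lit 3)), ((nat_lit 516), (nat_lit 1))]⟩,
  ⟨true, (nat_lit 2), [nat_lit 45, nat_lit 45], [nat_lit 16], [((nat_lit 45), (nat_lit 2)), ((nat_lit 16), (nat_lit 1)), ((nat_lit 208), (nat_lit 3)), ((nat_lit 271), (nat_lit 3)), ((nat_lit 274), (nat_lit 3)), ((nat_lit 292), (nat_lit 3)), ((nat_lit 295), (nat_lit 3)), ((nat_lit 296), (nat_lit 3)), ((nat_lit 334), (nat_lit 3)), ((nat_lit 337), (nat_lit 3)), ((nat_lit 338), (nat_lit 3)), ((nat_lit 355), (nat_lit 3)), ((nat_lit 358), (nat_lit 3)), ((nat_lit 359), (nat_lit 3)), ((nat_lit 361), (nat_lit 3)), ((nat_lit 362), (nat_lit 3)), ((nat_lit 397), (nat_lit 3)), ((nat_lit 400),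 (nat_lit 3)), ((nat_lit 401), (nat_lit 3)), ((nat_lit 403), (nat_lit 3)), ((nat_lit 404), (nat_lit 3)), ((nat_lit 406), (nat_lit 3)), ((nat_lit 421), (nat_lit 3)), ((nat_lit 428), (nat_lit 3)), ((nat_lit 463), (nat_lit 3)), ((nat_lit 467), (nat_lit 2)), ((nat_lit 469), (nat_lit 2)), ((nat_lit 472), (nat_lit 3)), ((nat_lit 485), (nat_lit 3)), ((nat_lit 488), (nat_lit 3)), ((nat_lit 490), (nat_lit 2)), ((nat_lit 493), (nat_lit 2)), ((nat_lit 502), (nat_lit 3)), ((nat_lit 505), (nat_lit 2)), ((nat_lit 506), (nat_lit 3)), ((nat_lit 508), (nat_lit 1)), ((nat_lit 509), (nat_lit 1)), ((nat_lit 511), (nat_lit 3)), ((nat_lit 512), (nat_lit 3)), ((nat_lit 514), (nat_lit 1)), ((nat_lit 516), (nat_lit 2))]⟩,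
  ⟨true, (nat_lit 2), [nat_lit 46, nat_lit 47], [nat_lit 47, nat_lit 46, nat_lit 26, nat_lit 14], [((nat_lit 26), (nat_lit 1)), ((nat_lit 14), (nat_lit 1)), ((nat_lit 271), (nat_lit 1)), ((nat_lit 295), (nat_lit 1)), ((nat_lit 316), (nat_lit 1)), ((nat_lit 358), (nat_lit 3)), ((nat_lit 359), (nat_lit 3)), ((nat_lit 360), (nat_lit 3)), ((nat_lit 380), (nat_lit 3)), ((nat_lit 381), (nat_lit 3)), ((nat_lit 383), (nat_lit 1)), ((nat_lit 421), (nat_lit 1)), ((nat_lit 425), (nat_lit 1)), ((nat_lit 426), (nat_lit 1)), ((nat_lit 442), (nat_lit 1)), ((nat_lit 446), (nat_lit 1)), ((nat_lit 447), (nat_lit 1)), ((nat_lit 467), (nat_lit 1)), ((nat_lit 468), (nat_lit 2)), ((nat_lit 470), (nat_lit 1)), ((nat_lit 471), (nat_lit 1)), ((nat_lit 472), (nat_lit 1)), ((nat_lit 485), (nat_lit 3)), ((nat_lit 489), (nat_lit 1)), ((nat_lit 491), (nat_lit 1)), ((nat_lit 492), (nat_lit 1)), ((nat_lit 493), (nat_lit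 2)), ((nat_lit 494), (nat_lit 1)), ((nat_lit 507), (nat_lit 1)), ((nat_lit 509), (nat_lit 1)), ((nat_lit 510), (nat_lit 2)), ((nat_lit 512), (nat_lit 3)), ((nat_lit 513), (nat_lit 3)), ((nat_lit 514), (nat_lit 1)), ((nat_lit 515), (nat_lit 2)), ((nat_lit 516), (nat_lit 1))]⟩,
  ⟨true, (nat_lit 3), [nat_lit 28, nat_lit 48], [nat_lit 48, nat_lit 28, nat_lit 49, nat_lit 29], [((nat_lit 49), (nat_lit 1)), ((nat_lit 29), (nat_lit 1)), ((nat_lit 271), (nat_lit 1)), ((nat_lit 312), (nat_lit 1)), ((nat_lit 360), (nat_lit 3)), ((nat_lit 375), (nat_lit 1)), ((nat_lit 381), (nat_lit 1)), ((nat_lit 383), (nat_lit 1)), ((nat_lit 396), (nat_lit 1)), ((nat_lit 404), (nat_lit 1)), ((nat_lit 405), (nat_lit 3)), ((nat_lit 423), (nat_lit 3)), ((nat_lit 426), (nat_lit 3)), ((nat_lit 427), (nat_lit 3)), ((nat_lit 438), (nat_lit 1)), ((nat_lit 446), (nat_lit 1)), ((nat_lit 447), (nat_lit 3)), ((nat_lit 449),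 (nat_lit 1)), ((nat_lit 465), (nat_lit 1)), ((nat_lit 467), (nat_lit 1)), ((nat_lit 469), (nat_lit 1)), ((nat_lit 470), (nat_lit 1)), ((nat_lit 471), (nat_lit 2)), ((nat_lit 472), (nat_lit 1)), ((nat_lit 486), (nat_lit 1)), ((nat_lit 489), (nat_lit 1)), ((nat_lit 490), (nat_lit 1)), ((nat_lit 492), (nat_lit 2)), ((nat_lit 493), (nat_lit 2)), ((nat_lit 494), (nat_lit 3)), ((nat_lit 507), (nat_lit 1)), ((nat_lit 510), (nat_lit 1)), ((nat_lit 511), (nat_lit 2)), ((nat_lit 513), (nat_lit 1)), ((nat_lit 514), (nat_lit 3)), ((nat_lit 515), (nat_lit 3)), ((nat_lit 516), (nat_lit 2))]⟩,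
  ⟨true, (nat_lit 4), [nat_lit 50, nat_lit 51], [nat_lit 51, nat_lit 50, nat_lit 23], [((nat_lit 23), (nat_lit 1)), ((nat_lit 309), (nat_lit 1)), ((nat_lit 315), (nat_lit 1)), ((nat_lit 351), (nat_lit 3)), ((nat_lit 355), (nat_lit 3)), ((nat_lit 357), (nat_lit 3)), ((nat_lit 359), (nat_lit 3)), ((nat_lit 372), (nat_lit 3)), ((nat_lit 376), (nat_lit 3)), ((nat_lit 378), (nat_lit 3)), ((nat_lit 380), (nat_lit 3)), ((nat_lit 383), (nat_lit 3)), ((nat_lit 399), (nat_lit 1)), ((nat_lit 425), (nat_lit 1)), ((nat_lit 428), (nat_lit 3)), ((nat_lit 435), (nat_lit 3)), ((nat_lit 439), (nat_lit 3)), ((nat_lit 441), (nat_lit 3)), ((nat_lit 443), (nat_lit 3)), ((nat_lit 447), (nat_lit 1)), ((nat_lit 449), (nat_lit 3)), ((nat_lit 456), (nat_lit 3)), ((nat_lit 467), (nat_lit 1)), ((nat_lit 468), (nat_lit 1)), ((nat_lit 469), (nat_lit 1)), ((nat_lit 471), (nat_lit 1)), ((nat_lit 472), (nat_lit 1)), ((nat_lit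 483), (nat_lit 3)), ((nat_lit 489), (nat_lit 3)), ((nat_lit 490), (nat_lit 1)), ((nat_lit 492), (nat_lit 2)), ((nat_lit 493), (nat_lit 3)), ((nat_lit 494), (nat_lit 3)), ((nat_lit 509), (nat_lit 1)), ((nat_lit 510), (nat_lit 2)), ((nat_lit 511), (nat_lit 1)), ((nat_lit 513), (nat_lit 2)), ((nat_lit 514), (nat_lit 1))]⟩,
  ⟨true, (nat_lit 2), [nat_lit 52, nat_lit 52], [nat_lit 16], [((nat_lit 52), (nat_lit 2)), ((nat_lit 16), (nat_lit 1)), ((nat_lit 208), (nat_lit 3)), ((nat_lit 271), (nat_lit 3)), ((nat_lit 274), (nat_lit 3)), ((nat_lit 292), (nat_lit 3)), ((nat_lit 295), (nat_lit 3)), ((nat_lit 296), (nat_lit 3)), ((nat_lit 313), (nat_lit 3)), ((nat_lit 316), (nat_lit 3)), ((nat_lit 317), (nat_lit 3)), ((nat_lit 355), (nat_lit 3)), ((nat_lit 358), (nat_lit 3)), ((nat_lit 359), (nat_lit 3)), ((nat_lit 360), (nat_lit 3)), ((nat_lit 362), (nat_lit 3)), ((nat_lit 421), (nat_lit 3)), ((nat_lit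 428), (nat_lit 3)), ((nat_lit 439), (nat_lit 3)), ((nat_lit 442), (nat_lit 3)), ((nat_lit 443), (nat_lit 3)), ((nat_lit 444), (nat_lit 3)), ((nat_lit 446), (nat_lit 3)), ((nat_lit 450), (nat_lit 3)), ((nat_lit 460), (nat_lit 3)), ((nat_lit 464), (nat_lit 3)), ((nat_lit 465), (nat_lit 3)), ((nat_lit 467), (nat_lit 1)), ((nat_lit 471), (nat_lit 1)), ((nat_lit 472), (nat_lit 2)), ((nat_lit 481), (nat_lit 3)), ((nat_lit 484), (nat_lit 3)), ((nat_lit 485), (nat_lit 3)), ((nat_lit 494), (nat_lit 1)), ((nat_lit 502), (nat_lit 3)), ((nat_lit 505), (nat_lit 3)), ((nat_lit 506), (nat_lit 2)), ((nat_lit 507), (nat_lit 1)), ((nat_lit 509), (nat_lit 1)), ((nat_lit 512), (nat_lit 3)), ((nat_lit 514), (nat_lit 3)), ((nat_lit 515), (nat_lit 2)), ((nat_lit 516), (nat_lit 1))]⟩,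
  ⟨true, (nat_lit 4), [nat_lit 7, nat_lit 51], [nat_lit 51, nat_lit 7, nat_lit 44, nat_lit 8], [((nat_lit 44), (nat_lit 1)), ((nat_lit 8), (nat_lit 1)), ((nat_lit 330), (nat_lit 1)), ((nat_lit 336), (nat_lit 1)), ((nat_lit 351), (nat_lit 3)), ((nat_lit 355), (nat_lit 3)), ((nat_lit 357), (nat_lit 3)), ((nat_lit 359), (nat_lit 3)), ((nat_lit 414), (nat_lit 3)), ((nat_lit 420), (nat_lit 1)), ((nat_lit 425), (nat_lit 1)), ((nat_lit 428), (nat_lit 1)), ((nat_lit 435), (nat_lit 3)), ((nat_lit 439), (nat_lit 3)), ((nat_lit 443), (nat_lit 3)), ((nat_lit 449), (nat_lit 1)), ((nat_lit 450), (nat_lit 1)), ((nat_lit 460), (nat_lit 3)), ((nat_lit 464), (nat_lit 3)), ((nat_lit 470), (nat_lit 1)), ((nat_lit 477), (nat_lit 3)), ((nat_lit 491), (nat_lit 1)), ((nat_lit 492), (nat_lit 3)), ((nat_lit 493), (nat_lit 3)), ((nat_lit 504), (nat_lit 3)), ((nat_lit 509), (nat_lit 1)), ((nat_lit 512), (nat_lit 1)),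 ((nat_lit 513), (nat_lit 1)), ((nat_lit 514), (nat_lit 2)), ((nat_lit 515), (nat_lit 3)), ((nat_lit 516), (nat_lit 3))]⟩,
  ⟨true, (nat_lit 0), [nat_lit 53, nat_lit 34], [nat_lit 34, nat_lit 53, nat_lit 35, nat_lit 22], [((nat_lit 35), (nat_lit 1)), ((nat_lit 22), (nat_lit 1)), ((nat_lit 289), (nat_lit 3)), ((nat_lit 291), (nat_lit 3)), ((nat_lit 295), (nat_lit 3)), ((nat_lit 354), (nat_lit 3)), ((nat_lit 358), (nat_lit 3)), ((nat_lit 359), (nat_lit 1)), ((nat_lit 373), (nat_lit 3)), ((nat_lit 375), (nat_lit 3)), ((nat_lit 379), (nat_lit 3)), ((nat_lit 383), (nat_lit 3)), ((nat_lit 401), (nat_lit 1)), ((nat_lit 404), (nat_lit 1)), ((nat_lit 405), (nat_lit 1)), ((nat_lit 415), (nat_lit 3)), ((nat_lit 422), (nat_lit 1)), ((nat_lit 425), (nat_lit 1)), ((nat_lit 426), (nat_lit 1)), ((nat_lit 436), (nat_lit 3)), ((nat_lit 443), (nat_lit 1)), ((nat_lit 446), (nat_lit 1)), ((nat_lit 447), (nat_lit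 1)), ((nat_lit 468), (nat_lit 3)), ((nat_lit 470), (nat_lit 3)), ((nat_lit 471), (nat_lit 2)), ((nat_lit 472), (nat_lit 2)), ((nat_lit 478), (nat_lit 3)), ((nat_lit 484), (nat_lit 3)), ((nat_lit 491), (nat_lit 1)), ((nat_lit 492), (nat_lit 2)), ((nat_lit 493), (nat_lit 3)), ((nat_lit 494), (nat_lit 3)), ((nat_lit 505), (nat_lit 3)), ((nat_lit 506), (nat_lit 1)), ((nat_lit 509), (nat_lit 2)), ((nat_lit 510), (nat_lit 3)), ((nat_lit 511), (nat_lit 1)), ((nat_lit 514), (nat_lit 1)), ((nat_lit 516), (nat_lit 1))]⟩,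
  ⟨true, (nat_lit 4), [nat_lit 7, nat_lit 54], [nat_lit 54, nat_lit 7, nat_lit 23, nat_lit 44, nat_lit 25, nat_lit 8], [((nat_lit 23), (nat_lit 1)), ((nat_lit 44), (nat_lit 1)), ((nat_lit 25), (nat_lit 1)), ((nat_lit 8), (nat_lit 1)), ((nat_lit 332), (nat_lit 1)), ((nat_lit 349), (nat_lit 3)), ((nat_lit 351), (nat_lit 3)), ((nat_lit 352), (nat_lit 3)), ((nat_lit 353), (nat_lit 3)), ((nat_lit 357), (nat_lit 3)), ((nat_lit 358), (nat_lit 3)), ((nat_lit 360), (nat_lit 3)), ((nat_lit 383), (nat_lit 1)), ((nat_lit 404), (nat_lit 1)), ((nat_lit 412), (nat_lit 3)), ((nat_lit 414), (nat_lit 3)), ((nat_lit 433), (nat_lit 3)), ((nat_lit 435), (nat_lit 3)), ((nat_lit 436), (nat_lit 3)), ((nat_lit 437), (nat_lit 3)), ((nat_lit 441), (nat_lit 3)), ((nat_lit 442), (nat_lit 3)), ((nat_lit 444), (nat_lit 3)), ((nat_lit 447), (nat_lit 3)), ((nat_lit 448), (nat_lit 3)), ((nat_lit 449), (nat_lit 1)), ((nat_lit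 457), (nat_lit 3)), ((nat_lit 458), (nat_lit 3)), ((nat_lit 471), (nat_lit 1)), ((nat_lit 472), (nat_lit 2)), ((nat_lit 475), (nat_lit 3)), ((nat_lit 478), (nat_lit 3)), ((nat_lit 479), (nat_lit 3)), ((nat_lit 484), (nat_lit 3)), ((nat_lit 486), (nat_lit 3)), ((nat_lit 488), (nat_lit 1)), ((nat_lit 489), (nat_lit 3)), ((nat_lit 490), (nat_lit 3)), ((nat_lit 492), (nat_lit 3)), ((nat_lit 493), (nat_lit 2)), ((nat_lit 494), (nat_lit 1)), ((nat_lit 499), (nat_lit 3)), ((nat_lit 500), (nat_lit 3)), ((nat_lit 507), (nat_lit 3)), ((nat_lit 509), (nat_lit 1)), ((nat_lit 510), (nat_lit 3)), ((nat_lit 511), (nat_lit 3)), ((nat_lit 513), (nat_lit 2)), ((nat_lit 514), (nat_lit 1)), ((nat_lit 515), (nat_lit 1))]⟩,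
  ⟨true, (nat_lit 2), [nat_lit 46, nat_lit 15], [nat_lit 15, nat_lit 46, nat_lit 40, nat_lit 55, nat_lit 42], [((nat_lit 40), (nat_lit 1)), ((nat_lit 55), (nat_lit 1)), ((nat_lit 42), (nat_lit 1)), ((nat_lit 266), (nat_lit 3)), ((nat_lit 267), (nat_lit 1)), ((nat_lit 268), (nat_lit 3)), ((nat_lit 271), (nat_lit 3)), ((nat_lit 272), (nat_lit 3)), ((nat_lit 273), (nat_lit 3)), ((nat_lit 350), (nat_lit 3)), ((nat_lit 371), (nat_lit 3)), ((nat_lit 373), (nat_lit 3)), ((nat_lit 379), (nat_lit 1)), ((nat_lit 383), (nat_lit 1)), ((nat_lit 400), (nat_lit 1)), ((nat_lit 404), (nat_lit 2)), ((nat_lit 405), (nat_lit 2)), ((nat_lit 418), (nat_lit 3)), ((nat_lit 420), (nat_lit 3)), ((nat_lit 421), (nat_lit 3)), ((nat_lit 427), (nat_lit 3)), ((nat_lit 436), (nat_lit 3)), ((nat_lit 442), (nat_lit 3)), ((nat_lit 447), (nat_lit 3)), ((nat_lit 448), (nat_lit 3)), ((nat_lit 450), (nat_lit 3)), ((nat_lit 462),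 (nat_lit 3)), ((nat_lit 463), (nat_lit 1)), ((nat_lit 467), (nat_lit 1)), ((nat_lit 468), (nat_lit 1)), ((nat_lit 471), (nat_lit 3)), ((nat_lit 472), (nat_lit 2)), ((nat_lit 476), (nat_lit 3)), ((nat_lit 478), (nat_lit 3)), ((nat_lit 481), (nat_lit 3)), ((nat_lit 488), (nat_lit 1)), ((nat_lit 489), (nat_lit 3)), ((nat_lit 490), (nat_lit 3)), ((nat_lit 491), (nat_lit 1)), ((nat_lit 492), (nat_lit 3)), ((nat_lit 497), (nat_lit 3)), ((nat_lit 499), (nat_lit 3)), ((nat_lit 505), (nat_lit 3)), ((nat_lit 509), (nat_lit 2)), ((nat_lit 510), (nat_lit 3)), ((nat_lit 512), (nat_lit 2)), ((nat_lit 514), (nat_lit 1)), ((nat_lit 516), (nat_lit 3))]⟩,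
  ⟨true, (nat_lit 2), [nat_lit 56, nat_lit 15], [nat_lit 15, nat_lit 56, nat_lit 40, nat_lit 57, nat_lit 42], [((nat_lit 40), (nat_lit 1)), ((nat_lit 57), (nat_lit 1)), ((nat_lit 42), (nat_lit 1)), ((nat_lit 287), (nat_lit 3)), ((nat_lit 288), (nat_lit 1)), ((nat_lit 289), (nat_lit 3)), ((nat_lit 292), (nat_lit 3)), ((nat_lit 293), (nat_lit 3)), ((nat_lit 294), (nat_lit 3)), ((nat_lit 295), (nat_lit 3)), ((nat_lit 350), (nat_lit 3)), ((nat_lit 371), (nat_lit 3)), ((nat_lit 373), (nat_lit 3)), ((nat_lit 376), (nat_lit 3)), ((nat_lit 377), (nat_lit 3)), ((nat_lit 378), (nat_lit 3)), ((nat_lit 379), (nat_lit 3)), ((nat_lit 380), (nat_lit 1)), ((nat_lit 383), (nat_lit 1)), ((nat_lit 401), (nat_lit 1)), ((nat_lit 404), (nat_lit 2)), ((nat_lit 405), (nat_lit 1)), ((nat_lit 413), (nat_lit 3)), ((nat_lit 418), (nat_lit 3)), ((nat_lit 419), (nat_lit 3)), ((nat_lit 426), (nat_lit 2)), ((nat_lit 436),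 (nat_lit 3)), ((nat_lit 441), (nat_lit 3)), ((nat_lit 442), (nat_lit 3)), ((nat_lit 447), (nat_lit 2)), ((nat_lit 448), (nat_lit 3)), ((nat_lit 449), (nat_lit 3)), ((nat_lit 450), (nat_lit 3)), ((nat_lit 455), (nat_lit 3)), ((nat_lit 462), (nat_lit 3)), ((nat_lit 463), (nat_lit 3)), ((nat_lit 464), (nat_lit 1)), ((nat_lit 468), (nat_lit 3)), ((nat_lit 469), (nat_lit 3)), ((nat_lit 470), (nat_lit 2)), ((nat_lit 472), (nat_lit 2)), ((nat_lit 478), (nat_lit 3)), ((nat_lit 481), (nat_lit 3)), ((nat_lit 482), (nat_lit 3)), ((nat_lit 485), (nat_lit 1)), ((nat_lit 488), (nat_lit 3)), ((nat_lit 490), (nat_lit 3)), ((nat_lit 491), (nat_lit 1)), ((nat_lit 492), (nat_lit 2)), ((nat_lit 494), (nat_lit 2)), ((nat_lit 502), (nat_lit 3)), ((nat_lit 503), (nat_lit 3)), ((nat_lit 504), (nat_lit 3)), ((nat_lit 505), (nat_lit 3)), ((nat_lit 510), (nat_lit 2)), ((nat_lit 511), (nat_lit 1)), ((nat_lit 512),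 (nat_lit 2)), ((nat_lit 513), (nat_lit 3)), ((nat_lit 515), (nat_lit 2)), ((nat_lit 516), (nat_lit 2))]⟩,
  ⟨true, (nat_lit 2), [nat_lit 46, nat_lit 41], [nat_lit 41, nat_lit 46, nat_lit 40], [((nat_lit 40), (nat_lit 1)), ((nat_lit 267), (nat_lit 3)), ((nat_lit 268), (nat_lit 3)), ((nat_lit 269), (nat_lit 3)), ((nat_lit 271), (nat_lit 3)), ((nat_lit 349), (nat_lit 3)), ((nat_lit 352), (nat_lit 3)), ((nat_lit 353), (nat_lit 3)), ((nat_lit 358), (nat_lit 1)), ((nat_lit 362), (nat_lit 3)), ((nat_lit 370), (nat_lit 3)), ((nat_lit 372), (nat_lit 3)), ((nat_lit 373), (nat_lit 3)), ((nat_lit 376), (nat_lit 3)), ((nat_lit 383), (nat_lit 2)), ((nat_lit 384), (nat_lit 3)), ((nat_lit 414), (nat_lit 3)), ((nat_lit 416), (nat_lit 3)), ((nat_lit 421), (nat_lit 1)), ((nat_lit 428), (nat_lit 2)), ((nat_lit 436), (nat_lit 3)), ((nat_lit 447), (nat_lit 3)), ((nat_lit 449), (nat_lit 2)), ((nat_lit 450), (nat_lit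 3)), ((nat_lit 456), (nat_lit 3)), ((nat_lit 458), (nat_lit 3)), ((nat_lit 460), (nat_lit 3)), ((nat_lit 463), (nat_lit 1)), ((nat_lit 467), (nat_lit 1)), ((nat_lit 468), (nat_lit 2)), ((nat_lit 470), (nat_lit 3)), ((nat_lit 471), (nat_lit 3)), ((nat_lit 472), (nat_lit 1)), ((nat_lit 475), (nat_lit 3)), ((nat_lit 477), (nat_lit 3)), ((nat_lit 481), (nat_lit 3)), ((nat_lit 484), (nat_lit 1)), ((nat_lit 489), (nat_lit 3)), ((nat_lit 491), (nat_lit 1)), ((nat_lit 492), (nat_lit 3)), ((nat_lit 494), (nat_lit 3)), ((nat_lit 496), (nat_lit 3)), ((nat_lit 498), (nat_lit 3)), ((nat_lit 499), (nat_lit 3)), ((nat_lit 500), (nat_lit 3)), ((nat_lit 505), (nat_lit 1)), ((nat_lit 509), (nat_lit 2)), ((nat_lit 510), (nat_lit 2)), ((nat_lit 512), (nat_lit 1)), ((nat_lit 513), (nat_lit 2)), ((nat_lit 514), (nat_lit 3)), ((nat_lit 515), (nat_lit 3))]⟩,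
  ⟨true, (nat_lit 3), [nat_lit 48, nat_lit 58], [nat_lit 58, nat_lit 48, nat_lit 4, nat_lit 49, nat_lit 59, nat_lit 29], [((nat_lit 4), (nat_lit 1)), ((nat_lit 49), (nat_lit 1)), ((nat_lit 59), (nat_lit 1)), ((nat_lit 29), (nat_lit 1)), ((nat_lit 207), (nat_lit 1)), ((nat_lit 307), (nat_lit 3)), ((nat_lit 312), (nat_lit 3)), ((nat_lit 314), (nat_lit 3)), ((nat_lit 317), (nat_lit 3)), ((nat_lit 339), (nat_lit 1)), ((nat_lit 354), (nat_lit 3)), ((nat_lit 356), (nat_lit 3)), ((nat_lit 359), (nat_lit 3)), ((nat_lit 361), (nat_lit 3)), ((nat_lit 370), (nat_lit 3)), ((nat_lit 375), (nat_lit 3)), ((nat_lit 377), (nat_lit 3)), ((nat_lit 380), (nat_lit 3)), ((nat_lit 381), (nat_lit 1)), ((nat_lit 382), (nat_lit 3)), ((nat_lit 391), (nat_lit 3)), ((nat_lit 396), (nat_lit 3)), ((nat_lit 398), (nat_lit 3)), ((nat_lit 401), (nat_lit 3)), ((nat_lit 403), (nat_lit 3)), ((nat_lit 404), (nat_lit 1)), ((nat_lit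 405), (nat_lit 3)), ((nat_lit 423), (nat_lit 1)), ((nat_lit 425), (nat_lit 1)), ((nat_lit 426), (nat_lit 1)), ((nat_lit 433), (nat_lit 3)), ((nat_lit 438), (nat_lit 3)), ((nat_lit 440), (nat_lit 3)), ((nat_lit 443), (nat_lit 3)), ((nat_lit 444), (nat_lit 1)), ((nat_lit 445), (nat_lit 3)), ((nat_lit 448), (nat_lit 1)), ((nat_lit 449), (nat_lit 3)), ((nat_lit 459), (nat_lit 3)), ((nat_lit 464), (nat_lit 3)), ((nat_lit 465), (nat_lit 1)), ((nat_lit 466), (nat_lit 3)), ((nat_lit 467), (nat_lit 1)), ((nat_lit 468), (nat_lit 2)), ((nat_lit 469), (nat_lit 3)), ((nat_lit 470), (nat_lit 2)), ((nat_lit 471), (nat_lit 2)), ((nat_lit 472), (nat_lit 3)), ((nat_lit 480), (nat_lit 3)), ((nat_lit 485), (nat_lit 3)), ((nat_lit 488), (nat_lit 3)), ((nat_lit 489), (nat_lit 2)), ((nat_lit 491), (nat_lit 2)), ((nat_lit 492), (nat_lit 3)), ((nat_lit 506), (nat_lit 3)), ((nat_lit 507), (nat_lit 1)), ((nat_lit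 508), (nat_lit 3)), ((nat_lit 509), (nat_lit 1)), ((nat_lit 510), (nat_lit 1)), ((nat_lit 512), (nat_lit 1)), ((nat_lit 513), (nat_lit 3)), ((nat_lit 514), (nat_lit 2)), ((nat_lit 515), (nat_lit 3)), ((nat_lit 516), (nat_lit 2))]⟩,
  ⟨true, (nat_lit 1), [nat_lit 60, nat_lit 61], [nat_lit 61, nat_lit 60, nat_lit 19], [((nat_lit 19), (nat_lit 1)), ((nat_lit 228), (nat_lit 3)), ((nat_lit 249), (nat_lit 3)), ((nat_lit 272), (nat_lit 1)), ((nat_lit 273), (nat_lit 1)), ((nat_lit 312), (nat_lit 1)), ((nat_lit 314), (nat_lit 1)), ((nat_lit 315), (nat_lit 1)), ((nat_lit 316), (nat_lit 1)), ((nat_lit 333), (nat_lit 3)), ((nat_lit 339), (nat_lit 3)), ((nat_lit 354), (nat_lit 3)), ((nat_lit 357), (nat_lit 3)), ((nat_lit 358), (nat_lit 3)), ((nat_lit 360), (nat_lit 3)), ((nat_lit 362), (nat_lit 3)), ((nat_lit 375), (nat_lit 3)), ((nat_lit 379), (nat_lit 3)), ((nat_lit 381), (nat_lit 3)), ((nat_lit 417),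 (nat_lit 1)), ((nat_lit 419), (nat_lit 1)), ((nat_lit 420), (nat_lit 3)), ((nat_lit 421), (nat_lit 3)), ((nat_lit 425), (nat_lit 2)), ((nat_lit 426), (nat_lit 3)), ((nat_lit 428), (nat_lit 3)), ((nat_lit 440), (nat_lit 1)), ((nat_lit 441), (nat_lit 1)), ((nat_lit 444), (nat_lit 1)), ((nat_lit 446), (nat_lit 3)), ((nat_lit 447), (nat_lit 3)), ((nat_lit 459), (nat_lit 3)), ((nat_lit 463), (nat_lit 3)), ((nat_lit 465), (nat_lit 3)), ((nat_lit 467), (nat_lit 3)), ((nat_lit 470), (nat_lit 3)), ((nat_lit 471), (nat_lit 2)), ((nat_lit 482), (nat_lit 1)), ((nat_lit 483), (nat_lit 1)), ((nat_lit 486), (nat_lit 1)), ((nat_lit 487), (nat_lit 3)), ((nat_lit 491), (nat_lit 1)), ((nat_lit 492), (nat_lit 2)), ((nat_lit 493), (nat_lit 2)), ((nat_lit 501), (nat_lit 1)), ((nat_lit 503), (nat_lit 1)), ((nat_lit 504), (nat_lit 3)), ((nat_lit 505), (nat_lit 1)), ((nat_lit 509), (nat_lit 2)), ((nat_lit 510),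 (nat_lit 2)), ((nat_lit 512), (nat_lit 3)), ((nat_lit 513), (nat_lit 1)), ((nat_lit 514), (nat_lit 3)), ((nat_lit 515), (nat_lit 2)), ((nat_lit 516), (nat_lit 3))]⟩,
  ⟨true, (nat_lit 4), [nat_lit 62, nat_lit 51], [nat_lit 51, nat_lit 62, nat_lit 6, nat_lit 8], [((nat_lit 6), (nat_lit 1)), ((nat_lit 8), (nat_lit 1)), ((nat_lit 309), (nat_lit 3)), ((nat_lit 313), (nat_lit 3)), ((nat_lit 315), (nat_lit 3)), ((nat_lit 317), (nat_lit 3)), ((nat_lit 330), (nat_lit 3)), ((nat_lit 334), (nat_lit 3)), ((nat_lit 336), (nat_lit 3)), ((nat_lit 338), (nat_lit 3)), ((nat_lit 360), (nat_lit 1)), ((nat_lit 361), (nat_lit 1)), ((nat_lit 376), (nat_lit 3)), ((nat_lit 380), (nat_lit 3)), ((nat_lit 383), (nat_lit 3)), ((nat_lit 397), (nat_lit 3)), ((nat_lit 399), (nat_lit 3)), ((nat_lit 401), (nat_lit 3)), ((nat_lit 403), (nat_lit 3)), ((nat_lit 404), (nat_lit 3)), ((nat_lit 405), (nat_lit 3)), ((nat_lit 414),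 (nat_lit 3)), ((nat_lit 418), (nat_lit 3)), ((nat_lit 423), (nat_lit 1)), ((nat_lit 424), (nat_lit 1)), ((nat_lit 426), (nat_lit 3)), ((nat_lit 427), (nat_lit 3)), ((nat_lit 428), (nat_lit 3)), ((nat_lit 435), (nat_lit 3)), ((nat_lit 443), (nat_lit 3)), ((nat_lit 444), (nat_lit 1)), ((nat_lit 445), (nat_lit 1)), ((nat_lit 446), (nat_lit 3)), ((nat_lit 447), (nat_lit 3)), ((nat_lit 448), (nat_lit 3)), ((nat_lit 449), (nat_lit 1)), ((nat_lit 450), (nat_lit 3)), ((nat_lit 465), (nat_lit 1)), ((nat_lit 466), (nat_lit 3)), ((nat_lit 468), (nat_lit 3)), ((nat_lit 470), (nat_lit 3)), ((nat_lit 471), (nat_lit 3)), ((nat_lit 472), (nat_lit 1)), ((nat_lit 477), (nat_lit 3)), ((nat_lit 487), (nat_lit 3)), ((nat_lit 489), (nat_lit 1)), ((nat_lit 490), (nat_lit 1)), ((nat_lit 491), (nat_lit 3)), ((nat_lit 493), (nat_lit 3)), ((nat_lit 494), (nat_lit 1)), ((nat_lit 504), (nat_lit 3)), ((nat_lit 506),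 (nat_lit 3)), ((nat_lit 507), (nat_lit 1)), ((nat_lit 508), (nat_lit 2)), ((nat_lit 510), (nat_lit 3)), ((nat_lit 511), (nat_lit 3)), ((nat_lit 514), (nat_lit 3)), ((nat_lit 515), (nat_lit 2)), ((nat_lit 516), (nat_lit 3))]⟩,
  ⟨true, (nat_lit 3), [nat_lit 28, nat_lit 58], [nat_lit 58, nat_lit 28, nat_lit 29], [((nat_lit 29), (nat_lit 1)), ((nat_lit 181), (nat_lit 3)), ((nat_lit 228), (nat_lit 1)), ((nat_lit 270), (nat_lit 1)), ((nat_lit 291), (nat_lit 1)), ((nat_lit 307), (nat_lit 3)), ((nat_lit 312), (nat_lit 3)), ((nat_lit 314), (nat_lit 3)), ((nat_lit 317), (nat_lit 3)), ((nat_lit 333), (nat_lit 1)), ((nat_lit 339), (nat_lit 1)), ((nat_lit 349), (nat_lit 3)), ((nat_lit 359), (nat_lit 1)), ((nat_lit 360), (nat_lit 1)), ((nat_lit 361), (nat_lit 1)), ((nat_lit 375), (nat_lit 1)), ((nat_lit 381), (nat_lit 1)), ((nat_lit 383), (nat_lit 1)), ((nat_lit 391), (nat_lit 3)), ((nat_lit 396), (nat_lit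 3)), ((nat_lit 398), (nat_lit 3)), ((nat_lit 401), (nat_lit 3)), ((nat_lit 403), (nat_lit 3)), ((nat_lit 405), (nat_lit 3)), ((nat_lit 412), (nat_lit 3)), ((nat_lit 419), (nat_lit 3)), ((nat_lit 425), (nat_lit 3)), ((nat_lit 426), (nat_lit 3)), ((nat_lit 433), (nat_lit 3)), ((nat_lit 438), (nat_lit 1)), ((nat_lit 444), (nat_lit 3)), ((nat_lit 446), (nat_lit 2)), ((nat_lit 447), (nat_lit 1)), ((nat_lit 448), (nat_lit 3)), ((nat_lit 449), (nat_lit 3)), ((nat_lit 459), (nat_lit 1)), ((nat_lit 461), (nat_lit 1)), ((nat_lit 465), (nat_lit 3)), ((nat_lit 468), (nat_lit 1)), ((nat_lit 469), (nat_lit 3)), ((nat_lit 470), (nat_lit 1)), ((nat_lit 472), (nat_lit 3)), ((nat_lit 480), (nat_lit 3)), ((nat_lit 482), (nat_lit 3)), ((nat_lit 487), (nat_lit 3)), ((nat_lit 488), (nat_lit 2)), ((nat_lit 489), (nat_lit 3)), ((nat_lit 490), (nat_lit 2)), ((nat_lit 491), (nat_lit 1)), ((nat_lit 492), (nat_lit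 1)), ((nat_lit 493), (nat_lit 2)), ((nat_lit 494), (nat_lit 1)), ((nat_lit 503), (nat_lit 3)), ((nat_lit 508), (nat_lit 3)), ((nat_lit 510), (nat_lit 3)), ((nat_lit 512), (nat_lit 2)), ((nat_lit 513), (nat_lit 2)), ((nat_lit 514), (nat_lit 2)), ((nat_lit 515), (nat_lit 3)), ((nat_lit 516), (nat_lit 2))]⟩,
  ⟨true, (nat_lit 3), [nat_lit 48, nat_lit 63], [nat_lit 63, nat_lit 48, nat_lit 64, nat_lit 5], [((nat_lit 64), (nat_lit 1)), ((nat_lit 5), (nat_lit 1)), ((nat_lit 203), (nat_lit 1)), ((nat_lit 206), (nat_lit 1)), ((nat_lit 307), (nat_lit 3)), ((nat_lit 308), (nat_lit 3)), ((nat_lit 311), (nat_lit 1)), ((nat_lit 312), (nat_lit 3)), ((nat_lit 316), (nat_lit 3)), ((nat_lit 317), (nat_lit 3)), ((nat_lit 318), (nat_lit 1)), ((nat_lit 339), (nat_lit 1)), ((nat_lit 350), (nat_lit 3)), ((nat_lit 362), (nat_lit 3)), ((nat_lit 370), (nat_lit 3)), ((nat_lit 371), (nat_lit 3)), ((nat_lit 375), (nat_lit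 3)), ((nat_lit 379), (nat_lit 3)), ((nat_lit 380), (nat_lit 3)), ((nat_lit 381), (nat_lit 1)), ((nat_lit 382), (nat_lit 3)), ((nat_lit 391), (nat_lit 3)), ((nat_lit 392), (nat_lit 3)), ((nat_lit 396), (nat_lit 3)), ((nat_lit 400), (nat_lit 3)), ((nat_lit 401), (nat_lit 3)), ((nat_lit 402), (nat_lit 3)), ((nat_lit 403), (nat_lit 3)), ((nat_lit 405), (nat_lit 3)), ((nat_lit 417), (nat_lit 3)), ((nat_lit 421), (nat_lit 3)), ((nat_lit 422), (nat_lit 3)), ((nat_lit 424), (nat_lit 3)), ((nat_lit 428), (nat_lit 3)), ((nat_lit 433), (nat_lit 3)), ((nat_lit 434), (nat_lit 3)), ((nat_lit 444), (nat_lit 1)), ((nat_lit 447), (nat_lit 1)), ((nat_lit 449), (nat_lit 3)), ((nat_lit 455), (nat_lit 3)), ((nat_lit 459), (nat_lit 3)), ((nat_lit 464), (nat_lit 3)), ((nat_lit 465), (nat_lit 3)), ((nat_lit 466), (nat_lit 3)), ((nat_lit 469), (nat_lit 1)), ((nat_lit 470), (nat_lit 2)), ((nat_lit 471), (nat_lit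 2)), ((nat_lit 472), (nat_lit 1)), ((nat_lit 476), (nat_lit 3)), ((nat_lit 484), (nat_lit 3)), ((nat_lit 486), (nat_lit 3)), ((nat_lit 489), (nat_lit 3)), ((nat_lit 490), (nat_lit 2)), ((nat_lit 491), (nat_lit 3)), ((nat_lit 492), (nat_lit 1)), ((nat_lit 493), (nat_lit 3)), ((nat_lit 501), (nat_lit 3)), ((nat_lit 507), (nat_lit 1)), ((nat_lit 508), (nat_lit 1)), ((nat_lit 510), (nat_lit 2)), ((nat_lit 512), (nat_lit 2)), ((nat_lit 513), (nat_lit 1)), ((nat_lit 514), (nat_lit 3)), ((nat_lit 515), (nat_lit 3)), ((nat_lit 516), (nat_lit 1))]⟩,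
  ⟨true, (nat_lit 4), [nat_lit 62, nat_lit 65], [nat_lit 65, nat_lit 62, nat_lit 6, nat_lit 66, nat_lit 44, nat_lit 25], [((nat_lit 6), (nat_lit 1)), ((nat_lit 66), (nat_lit 1)), ((nat_lit 44), (nat_lit 1)), ((nat_lit 25), (nat_lit 1)), ((nat_lit 307), (nat_lit 3)), ((nat_lit 310), (nat_lit 3)), ((nat_lit 311), (nat_lit 3)), ((nat_lit 314), (nat_lit 3)), ((nat_lit 316), (nat_lit 3)), ((nat_lit 317), (nat_lit 3)), ((nat_lit 328), (nat_lit 3)), ((nat_lit 331), (nat_lit 3)), ((nat_lit 332), (nat_lit 3)), ((nat_lit 335), (nat_lit 3)), ((nat_lit 337), (nat_lit 3)), ((nat_lit 338), (nat_lit 3)), ((nat_lit 339), (nat_lit 1)), ((nat_lit 361), (nat_lit 3)), ((nat_lit 362), (nat_lit 3)), ((nat_lit 370), (nat_lit 3)), ((nat_lit 373), (nat_lit 1)), ((nat_lit 381), (nat_lit 1)), ((nat_lit 382), (nat_lit 1)), ((nat_lit 394), (nat_lit 3)), ((nat_lit 395), (nat_lit 3)), ((nat_lit 412), (nat_lit 3)), ((nat_lit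 423), (nat_lit 1)), ((nat_lit 424), (nat_lit 1)), ((nat_lit 426), (nat_lit 2)), ((nat_lit 427), (nat_lit 1)), ((nat_lit 428), (nat_lit 1)), ((nat_lit 433), (nat_lit 3)), ((nat_lit 444), (nat_lit 1)), ((nat_lit 445), (nat_lit 1)), ((nat_lit 461), (nat_lit 3)), ((nat_lit 463), (nat_lit 3)), ((nat_lit 464), (nat_lit 3)), ((nat_lit 466), (nat_lit 1)), ((nat_lit 467), (nat_lit 3)), ((nat_lit 468), (nat_lit 1)), ((nat_lit 469), (nat_lit 2)), ((nat_lit 470), (nat_lit 1)), ((nat_lit 471), (nat_lit 1)), ((nat_lit 472), (nat_lit 2)), ((nat_lit 475), (nat_lit 3)), ((nat_lit 478), (nat_lit 3)), ((nat_lit 479), (nat_lit 3)), ((nat_lit 487), (nat_lit 1)), ((nat_lit 488), (nat_lit 3)), ((nat_lit 489), (nat_lit 2)), ((nat_lit 491), (nat_lit 3)), ((nat_lit 493), (nat_lit 1)), ((nat_lit 499), (nat_lit 3)), ((nat_lit 500), (nat_lit 3)), ((nat_lit 505), (nat_lit 3)), ((nat_lit 507), (nat_lit 1)), ((nat_lit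 508), (nat_lit 2)), ((nat_lit 509), (nat_lit 3)), ((nat_lit 511), (nat_lit 3)), ((nat_lit 512), (nat_lit 3)), ((nat_lit 513), (nat_lit 1)), ((nat_lit 514), (nat_lit 2)), ((nat_lit 515), (nat_lit 1))]⟩,
  ⟨true, (nat_lit 2), [nat_lit 47, nat_lit 67], [nat_lit 67, nat_lit 47, nat_lit 57, nat_lit 16], [((nat_lit 57), (nat_lit 1)), ((nat_lit 16), (nat_lit 1)), ((nat_lit 203), (nat_lit 1)), ((nat_lit 206), (nat_lit 1)), ((nat_lit 271), (nat_lit 3)), ((nat_lit 273), (nat_lit 3)), ((nat_lit 292), (nat_lit 3)), ((nat_lit 294), (nat_lit 3)), ((nat_lit 295), (nat_lit 3)), ((nat_lit 311), (nat_lit 1)), ((nat_lit 313), (nat_lit 3)), ((nat_lit 315), (nat_lit 3)), ((nat_lit 317), (nat_lit 1)), ((nat_lit 318), (nat_lit 1)), ((nat_lit 337), (nat_lit 1)), ((nat_lit 338), (nat_lit 1)), ((nat_lit 339), (nat_lit 1)), ((nat_lit 376), (nat_lit 3)), ((nat_lit 378), (nat_lit 3)), ((nat_lit 380), (nat_lit 1)), ((nat_lit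 381), (nat_lit 1)), ((nat_lit 382), (nat_lit 3)), ((nat_lit 400), (nat_lit 1)), ((nat_lit 401), (nat_lit 1)), ((nat_lit 402), (nat_lit 1)), ((nat_lit 405), (nat_lit 1)), ((nat_lit 418), (nat_lit 3)), ((nat_lit 422), (nat_lit 3)), ((nat_lit 423), (nat_lit 3)), ((nat_lit 426), (nat_lit 3)), ((nat_lit 439), (nat_lit 3)), ((nat_lit 441), (nat_lit 3)), ((nat_lit 442), (nat_lit 1)), ((nat_lit 449), (nat_lit 1)), ((nat_lit 462), (nat_lit 3)), ((nat_lit 466), (nat_lit 1)), ((nat_lit 468), (nat_lit 3)), ((nat_lit 470), (nat_lit 1)), ((nat_lit 471), (nat_lit 1)), ((nat_lit 472), (nat_lit 3)), ((nat_lit 481), (nat_lit 3)), ((nat_lit 483), (nat_lit 3)), ((nat_lit 486), (nat_lit 2)), ((nat_lit 489), (nat_lit 1)), ((nat_lit 490), (nat_lit 1)), ((nat_lit 493), (nat_lit 1)), ((nat_lit 502), (nat_lit 3)), ((nat_lit 507), (nat_lit 2)), ((nat_lit 508), (nat_lit 2)), ((nat_lit 510), (nat_lit 3)), ((nat_lit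 511), (nat_lit 3)), ((nat_lit 512), (nat_lit 1)), ((nat_lit 513), (nat_lit 3)), ((nat_lit 514), (nat_lit 2)), ((nat_lit 516), (nat_lit 2))]⟩,
  ⟨true, (nat_lit 6), [nat_lit 36, nat_lit 68], [nat_lit 68, nat_lit 36, nat_lit 37, nat_lit 32], [((nat_lit 37), (nat_lit 1)), ((nat_lit 32), (nat_lit 1)), ((nat_lit 223), (nat_lit 1)), ((nat_lit 224), (nat_lit 1)), ((nat_lit 244), (nat_lit 1)), ((nat_lit 245), (nat_lit 1)), ((nat_lit 265), (nat_lit 1)), ((nat_lit 273), (nat_lit 2)), ((nat_lit 274), (nat_lit 1)), ((nat_lit 287), (nat_lit 1)), ((nat_lit 295), (nat_lit 1)), ((nat_lit 296), (nat_lit 1)), ((nat_lit 314), (nat_lit 1)), ((nat_lit 315), (nat_lit 2)), ((nat_lit 317), (nat_lit 1)), ((nat_lit 318), (nat_lit 1)), ((nat_lit 335), (nat_lit 3)), ((nat_lit 336), (nat_lit 3)), ((nat_lit 337), (nat_lit 3)), ((nat_lit 350), (nat_lit 1)), ((nat_lit 357), (nat_lit 1)), ((nat_lit 359), (nat_lit 1)), ((nat_lit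 362), (nat_lit 2)), ((nat_lit 370), (nat_lit 1)), ((nat_lit 379), (nat_lit 1)), ((nat_lit 380), (nat_lit 1)), ((nat_lit 382), (nat_lit 1)), ((nat_lit 383), (nat_lit 3)), ((nat_lit 384), (nat_lit 1)), ((nat_lit 399), (nat_lit 1)), ((nat_lit 401), (nat_lit 1)), ((nat_lit 402), (nat_lit 1)), ((nat_lit 405), (nat_lit 1)), ((nat_lit 406), (nat_lit 1)), ((nat_lit 412), (nat_lit 1)), ((nat_lit 419), (nat_lit 3)), ((nat_lit 422), (nat_lit 2)), ((nat_lit 425), (nat_lit 2)), ((nat_lit 426), (nat_lit 1)), ((nat_lit 428), (nat_lit 2)), ((nat_lit 441), (nat_lit 1)), ((nat_lit 442), (nat_lit 3)), ((nat_lit 443), (nat_lit 2)), ((nat_lit 444), (nat_lit 1)), ((nat_lit 445), (nat_lit 1)), ((nat_lit 448), (nat_lit 1)), ((nat_lit 449), (nat_lit 2)), ((nat_lit 450), (nat_lit 2)), ((nat_lit 454), (nat_lit 1)), ((nat_lit 463), (nat_lit 1)), ((nat_lit 464), (nat_lit 3)), ((nat_lit 465), (nat_lit 2)), ((nat_lit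 466), (nat_lit 1)), ((nat_lit 468), (nat_lit 2)), ((nat_lit 469), (nat_lit 1)), ((nat_lit 470), (nat_lit 1)), ((nat_lit 471), (nat_lit 1)), ((nat_lit 472), (nat_lit 3)), ((nat_lit 483), (nat_lit 3)), ((nat_lit 485), (nat_lit 2)), ((nat_lit 488), (nat_lit 2)), ((nat_lit 489), (nat_lit 2)), ((nat_lit 490), (nat_lit 1)), ((nat_lit 491), (nat_lit 1)), ((nat_lit 493), (nat_lit 2)), ((nat_lit 494), (nat_lit 3)), ((nat_lit 504), (nat_lit 1)), ((nat_lit 506), (nat_lit 2)), ((nat_lit 507), (nat_lit 2)), ((nat_lit 509), (nat_lit 3)), ((nat_lit 510), (nat_lit 1)), ((nat_lit 511), (nat_lit 2)), ((nat_lit 512), (nat_lit 2)), ((nat_lit 516), (nat_lit 3))]⟩,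
  ⟨true, (nat_lit 6), [nat_lit 36, nat_lit 69], [nat_lit 69, nat_lit 36, nat_lit 39], [((nat_lit 39), (nat_lit 1)), ((nat_lit 202), (nat_lit 1)), ((nat_lit 203), (nat_lit 1)), ((nat_lit 223), (nat_lit 1)), ((nat_lit 224), (nat_lit 1)), ((nat_lit 265), (nat_lit 1)), ((nat_lit 274), (nat_lit 1)), ((nat_lit 286), (nat_lit 1)), ((nat_lit 287), (nat_lit 1)), ((nat_lit 308), (nat_lit 1)), ((nat_lit 312), (nat_lit 1)), ((nat_lit 314), (nat_lit 1)), ((nat_lit 316), (nat_lit 2)), ((nat_lit 317), (nat_lit 2)), ((nat_lit 318), (nat_lit 1)), ((nat_lit 328), (nat_lit 1)), ((nat_lit 329), (nat_lit 1)), ((nat_lit 334), (nat_lit 3)), ((nat_lit 335), (nat_lit 3)), ((nat_lit 337), (nat_lit 3)), ((nat_lit 338), (nat_lit 3)), ((nat_lit 349), (nat_lit 1)), ((nat_lit 350), (nat_lit 1)), ((nat_lit 356), (nat_lit 1)), ((nat_lit 358), (nat_lit 2)), ((nat_lit 359), (nat_lit 1)), ((nat_lit 360), (nat_lit 1)), ((nat_lit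 361), (nat_lit 3)), ((nat_lit 371), (nat_lit 1)), ((nat_lit 383), (nat_lit 2)), ((nat_lit 384), (nat_lit 1)), ((nat_lit 392), (nat_lit 1)), ((nat_lit 398), (nat_lit 1)), ((nat_lit 400), (nat_lit 1)), ((nat_lit 402), (nat_lit 1)), ((nat_lit 404), (nat_lit 2)), ((nat_lit 405), (nat_lit 1)), ((nat_lit 406), (nat_lit 2)), ((nat_lit 412), (nat_lit 1)), ((nat_lit 418), (nat_lit 3)), ((nat_lit 421), (nat_lit 1)), ((nat_lit 422), (nat_lit 1)), ((nat_lit 423), (nat_lit 1)), ((nat_lit 424), (nat_lit 1)), ((nat_lit 426), (nat_lit 1)), ((nat_lit 427), (nat_lit 2)), ((nat_lit 428), (nat_lit 2)), ((nat_lit 440), (nat_lit 1)), ((nat_lit 442), (nat_lit 1)), ((nat_lit 444), (nat_lit 1)), ((nat_lit 445), (nat_lit 1)), ((nat_lit 446), (nat_lit 2)), ((nat_lit 447), (nat_lit 2)), ((nat_lit 448), (nat_lit 2)), ((nat_lit 450), (nat_lit 3)), ((nat_lit 454), (nat_lit 1)), ((nat_lit 463), (nat_lit 3)), ((nat_lit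 464), (nat_lit 2)), ((nat_lit 466), (nat_lit 1)), ((nat_lit 467), (nat_lit 2)), ((nat_lit 469), (nat_lit 1)), ((nat_lit 471), (nat_lit 2)), ((nat_lit 476), (nat_lit 1)), ((nat_lit 482), (nat_lit 3)), ((nat_lit 485), (nat_lit 3)), ((nat_lit 486), (nat_lit 2)), ((nat_lit 487), (nat_lit 1)), ((nat_lit 489), (nat_lit 1)), ((nat_lit 490), (nat_lit 2)), ((nat_lit 491), (nat_lit 3)), ((nat_lit 493), (nat_lit 3)), ((nat_lit 494), (nat_lit 1)), ((nat_lit 496), (nat_lit 1)), ((nat_lit 503), (nat_lit 1)), ((nat_lit 505), (nat_lit 3)), ((nat_lit 506), (nat_lit 1)), ((nat_lit 507), (nat_lit 1)), ((nat_lit 510), (nat_lit 1)), ((nat_lit 511), (nat_lit 1)), ((nat_lit 513), (nat_lit 2)), ((nat_lit 515), (nat_lit 1)), ((nat_lit 516), (nat_lit 2))]⟩]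
noncomputable def I2_2 : List Pc.Idn := [⟨false, (nat_lit 0), [nat_lit 6], [nat_lit 6, nat_lit 4], [((nat_lit 206), (nat_lit 2)), ((nat_lit 313), (nat_lit 3)), ((nat_lit 318), (nat_lit 3)), ((nat_lit 376), (nat_lit 3)), ((nat_lit 381), (nat_lit 3)), ((nat_lit 384), (nat_lit 3)), ((nat_lit 416), (nat_lit 1)), ((nat_lit 423), (nat_lit 2)), ((nat_lit 426), (nat_lit 2)), ((nat_lit 465), (nat_lit 3)), ((nat_lit 468), (nat_lit 2)), ((nat_lit 489), (nat_lit 3)), ((nat_lit 491), (nat_lit 3)), ((nat_lit 493), (nat_lit 3)), ((nat_lit 500), (nat_lit 1)), ((nat_lit 507), (nat_lit 2)), ((nat_lit 510), (nat_lit 1)), ((nat_lit 512), (nat_lit 3)), ((nat_lit 515), (nat_lit 3)), ((nat_lit 516), (nat_lit 2))]⟩,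
  ⟨false, (nat_lit 0), [nat_lit 7], [nat_lit 6, nat_lit 6], [((nat_lit 229), (nat_lit 2)), ((nat_lit 397), (nat_lit 1)), ((nat_lit 406), (nat_lit 1)), ((nat_lit 419), (nat_lit 1)), ((nat_lit 427), (nat_lit 2)), ((nat_lit 439), (nat_lit 1)), ((nat_lit 448), (nat_lit 1)), ((nat_lit 450), (nat_lit 1)), ((nat_lit 460), (nat_lit 1)), ((nat_lit 469), (nat_lit 1)), ((nat_lit 471), (nat_lit 1)), ((nat_lit 472), (nat_lit 1)), ((nat_lit 481), (nat_lit 1)), ((nat_lit 490), (nat_lit 1)), ((nat_lit 492), (nat_lit 1)), ((nat_lit 493), (nat_lit 2)), ((nat_lit 494), (nat_lit 2)), ((nat_lit 502), (nat_lit 1)), ((nat_lit 503), (nat_lit 1)), ((nat_lit 511), (nat_lit 1)), ((nat_lit 513), (nat_lit 1)), ((nat_lit 514), (nat_lit 2)), ((nat_lit 515), (nat_lit 1)), ((nat_lit 516), (nat_lit 2))]⟩,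
  ⟨false, (nat_lit 0), [nat_lit 11], [nat_lit 4, nat_lit 4], [((nat_lit 311), (nat_lit 2)), ((nat_lit 312), (nat_lit 3)), ((nat_lit 315), (nat_lit 3)), ((nat_lit 316), (nat_lit 3)), ((nat_lit 317), (nat_lit 3)), ((nat_lit 360), (nat_lit 1)), ((nat_lit 402), (nat_lit 1)), ((nat_lit 463), (nat_lit 3)), ((nat_lit 465), (nat_lit 1)), ((nat_lit 472), (nat_lit 3)), ((nat_lit 479), (nat_lit 1)), ((nat_lit 483), (nat_lit 3)), ((nat_lit 505), (nat_lit 3)), ((nat_lit 511), (nat_lit 3)), ((nat_lit 514), (nat_lit 2)), ((nat_lit 515), (nat_lit 3))]⟩,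
  ⟨false, (nat_lit 0), [nat_lit 9], [nat_lit 6, nat_lit 1], [((nat_lit 316), (nat_lit 1)), ((nat_lit 355), (nat_lit 3)), ((nat_lit 360), (nat_lit 3)), ((nat_lit 413), (nat_lit 1)), ((nat_lit 423), (nat_lit 3)), ((nat_lit 425), (nat_lit 3)), ((nat_lit 460), (nat_lit 3)), ((nat_lit 465), (nat_lit 3)), ((nat_lit 467), (nat_lit 1)), ((nat_lit 472), (nat_lit 1)), ((nat_lit 476), (nat_lit 1)), ((nat_lit 486), (nat_lit 3)), ((nat_lit 488), (nat_lit 3)), ((nat_lit 493), (nat_lit 3)), ((nat_lit 509), (nat_lit 1)), ((nat_lit 514), (nat_lit 1)), ((nat_lit 515), (nat_lit 1)), ((nat_lit 516), (nat_lit 3))]⟩,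
  ⟨false, (nat_lit 0), [nat_lit 11], [nat_lit 2, nat_lit 0], [((nat_lit 313), (nat_lit 3)), ((nat_lit 351), (nat_lit 3)), ((nat_lit 355), (nat_lit 3)), ((nat_lit 391), (nat_lit 1)), ((nat_lit 397), (nat_lit 3)), ((nat_lit 404), (nat_lit 3)), ((nat_lit 418), (nat_lit 3)), ((nat_lit 456), (nat_lit 3)), ((nat_lit 460), (nat_lit 3)), ((nat_lit 467), (nat_lit 3)), ((nat_lit 481), (nat_lit 3)), ((nat_lit 502), (nat_lit 3)), ((nat_lit 509), (nat_lit 3)), ((nat_lit 512), (nat_lit 3)), ((nat_lit 514), (nat_lit 3)), ((nat_lit 515), (nat_lit 2)), ((nat_lit 516), (nat_lit 2))]⟩,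
  ⟨false, (nat_lit 0), [nat_lit 6], [nat_lit 3, nat_lit 1], [((nat_lit 250), (nat_lit 1)), ((nat_lit 308), (nat_lit 1)), ((nat_lit 310), (nat_lit 3)), ((nat_lit 360), (nat_lit 2)), ((nat_lit 362), (nat_lit 1)), ((nat_lit 371), (nat_lit 1)), ((nat_lit 378), (nat_lit 3)), ((nat_lit 381), (nat_lit 3)), ((nat_lit 444), (nat_lit 2)), ((nat_lit 446), (nat_lit 1)), ((nat_lit 447), (nat_lit 1)), ((nat_lit 450), (nat_lit 1)), ((nat_lit 494), (nat_lit 3)), ((nat_lit 509), (nat_lit 2)), ((nat_lit 510), (nat_lit 3)), ((nat_lit 513), (nat_lit 2)), ((nat_lit 515), (nat_lit 2)), ((nat_lit 516), (nat_lit 2))]⟩,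
  ⟨false, (nat_lit 0), [nat_lit 9], [nat_lit 3, nat_lit 1], [((nat_lit 273), (nat_lit 3)), ((nat_lit 352), (nat_lit 3)), ((nat_lit 357), (nat_lit 3)), ((nat_lit 371), (nat_lit 1)), ((nat_lit 378), (nat_lit 3)), ((nat_lit 383), (nat_lit 3)), ((nat_lit 446), (nat_lit 3)), ((nat_lit 447), (nat_lit 3)), ((nat_lit 457), (nat_lit 3)), ((nat_lit 467), (nat_lit 3)), ((nat_lit 471), (nat_lit 1)), ((nat_lit 472), (nat_lit 3)), ((nat_lit 483), (nat_lit 3)), ((nat_lit 489), (nat_lit 3)), ((nat_lit 494), (nat_lit 3)), ((nat_lit 504), (nat_lit 3)), ((nat_lit 509), (nat_lit 3)), ((nat_lit 510), (nat_lit 3)), ((nat_lit 514), (nat_lit 3)), ((nat_lit 515), (nat_lit 1)), ((nat_lit 516), (nat_lit 3))]⟩,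
  ⟨false, (nat_lit 0), [nat_lit 11], [nat_lit 4, nat_lit 1], [((nat_lit 315), (nat_lit 3)), ((nat_lit 353), (nat_lit 3)), ((nat_lit 357), (nat_lit 3)), ((nat_lit 462), (nat_lit 3)), ((nat_lit 465), (nat_lit 1)), ((nat_lit 472), (nat_lit 3)), ((nat_lit 476), (nat_lit 1)), ((nat_lit 483), (nat_lit 3)), ((nat_lit 486), (nat_lit 1)), ((nat_lit 488), (nat_lit 3)), ((nat_lit 493), (nat_lit 2)), ((nat_lit 494), (nat_lit 3)), ((nat_lit 504), (nat_lit 3)), ((nat_lit 509), (nat_lit 3)), ((nat_lit 514), (nat_lit 2)), ((nat_lit 515), (nat_lit 2)), ((nat_lit 516), (nat_lit 3))]⟩,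
  ⟨false, (nat_lit 0), [nat_lit 9], [nat_lit 3, nat_lit 3], [((nat_lit 268), (nat_lit 2)), ((nat_lit 270), (nat_lit 3)), ((nat_lit 271), (nat_lit 3)), ((nat_lit 273), (nat_lit 3)), ((nat_lit 373), (nat_lit 1)), ((nat_lit 384), (nat_lit 1)), ((nat_lit 420), (nat_lit 3)), ((nat_lit 421), (nat_lit 1)), ((nat_lit 426), (nat_lit 2)), ((nat_lit 449), (nat_lit 2)), ((nat_lit 470), (nat_lit 2)), ((nat_lit 481), (nat_lit 3)), ((nat_lit 484), (nat_lit 1)), ((nat_lit 489), (nat_lit 2)), ((nat_lit 492), (nat_lit 1)), ((nat_lit 493), (nat_lit 1)), ((nat_lit 494), (nat_lit 3)), ((nat_lit 512), (nat_lit 3)), ((nat_lit 515), (nat_lit 3)), ((nat_lit 516), (nat_lit 3))]⟩,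
  ⟨false, (nat_lit 0), [nat_lit 10], [nat_lit 7, nat_lit 3], [((nat_lit 338), (nat_lit 1)), ((nat_lit 415), (nat_lit 1)), ((nat_lit 424), (nat_lit 3)), ((nat_lit 436), (nat_lit 1)), ((nat_lit 445), (nat_lit 3)), ((nat_lit 457), (nat_lit 1)), ((nat_lit 466), (nat_lit 3)), ((nat_lit 471), (nat_lit 1)), ((nat_lit 472), (nat_lit 1)), ((nat_lit 478), (nat_lit 1)), ((nat_lit 487), (nat_lit 3)), ((nat_lit 491), (nat_lit 1)), ((nat_lit 493), (nat_lit 2)), ((nat_lit 494), (nat_lit 2)), ((nat_lit 499), (nat_lit 1)), ((nat_lit 508), (nat_lit 3)), ((nat_lit 512), (nat_lit 1)), ((nat_lit 514), (nat_lit 2)), ((nat_lit 515), (nat_lit 2))]⟩,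
  ⟨false, (nat_lit 0), [nat_lit 10], [nat_lit 3, nat_lit 1], [((nat_lit 294), (nat_lit 3)), ((nat_lit 352), (nat_lit 3)), ((nat_lit 357), (nat_lit 3)), ((nat_lit 415), (nat_lit 3)), ((nat_lit 420), (nat_lit 3)), ((nat_lit 457), (nat_lit 3)), ((nat_lit 462), (nat_lit 3)), ((nat_lit 470), (nat_lit 3)), ((nat_lit 472), (nat_lit 3)), ((nat_lit 478), (nat_lit 3)), ((nat_lit 483), (nat_lit 3)), ((nat_lit 491), (nat_lit 3)), ((nat_lit 493), (nat_lit 3)), ((nat_lit 494), (nat_lit 2)), ((nat_lit 499), (nat_lit 3)), ((nat_lit 509), (nat_lit 3)), ((nat_lit 512), (nat_lit 2)), ((nat_lit 514), (nat_lit 2)), ((nat_lit 515), (nat_lit 2)), ((nat_lit 516), (nat_lit 2))]⟩,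
  ⟨false, (nat_lit 0), [nat_lit 11], [nat_lit 2, nat_lit 2], [((nat_lit 309), (nat_lit 2)), ((nat_lit 313), (nat_lit 3)), ((nat_lit 317), (nat_lit 3)), ((nat_lit 339), (nat_lit 1)), ((nat_lit 393), (nat_lit 1)), ((nat_lit 402), (nat_lit 1)), ((nat_lit 406), (nat_lit 1)), ((nat_lit 444), (nat_lit 1)), ((nat_lit 448), (nat_lit 2)), ((nat_lit 464), (nat_lit 3)), ((nat_lit 465), (nat_lit 1)), ((nat_lit 466), (nat_lit 3)), ((nat_lit 469), (nat_lit 1)), ((nat_lit 471), (nat_lit 3)), ((nat_lit 486), (nat_lit 1)), ((nat_lit 490), (nat_lit 2)), ((nat_lit 493), (nat_lit 1)), ((nat_lit 506), (nat_lit 3)), ((nat_lit 508), (nat_lit 3)), ((nat_lit 511), (nat_lit 1)), ((nat_lit 513), (nat_lit 3)), ((nat_lit 514), (nat_lit 1))]⟩,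
  ⟨false, (nat_lit 0), [nat_lit 7], [nat_lit 7, nat_lit 3], [((nat_lit 226), (nat_lit 2)), ((nat_lit 335), (nat_lit 3)), ((nat_lit 340), (nat_lit 3)), ((nat_lit 394), (nat_lit 1)), ((nat_lit 403), (nat_lit 2)), ((nat_lit 415), (nat_lit 1)), ((nat_lit 424), (nat_lit 2)), ((nat_lit 436), (nat_lit 1)), ((nat_lit 445), (nat_lit 2)), ((nat_lit 457), (nat_lit 1)), ((nat_lit 466), (nat_lit 2)), ((nat_lit 471), (nat_lit 1)), ((nat_lit 472), (nat_lit 1)), ((nat_lit 487), (nat_lit 3)), ((nat_lit 492), (nat_lit 1)), ((nat_lit 493), (nat_lit 1)), ((nat_lit 494), (nat_lit 1)), ((nat_lit 499), (nat_lit 1)), ((nat_lit 508), (nat_lit 2)), ((nat_lit 511), (nat_lit 3)), ((nat_lit 512), (nat_lit 3)), ((nat_lit 513), (nat_lit 3)), ((nat_lit 515), (nat_lit 3)), ((nat_lit 516), (nat_lit 2))]⟩,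
  ⟨false, (nat_lit 0), [nat_lit 15], [nat_lit 4, nat_lit 1], [((nat_lit 399), (nat_lit 3)), ((nat_lit 416), (nat_lit 3)), ((nat_lit 420), (nat_lit 3)), ((nat_lit 458), (nat_lit 3)), ((nat_lit 469), (nat_lit 1)), ((nat_lit 472), (nat_lit 3)), ((nat_lit 476), (nat_lit 1)), ((nat_lit 479), (nat_lit 3)), ((nat_lit 490), (nat_lit 1)), ((nat_lit 491), (nat_lit 3)), ((nat_lit 494), (nat_lit 2)), ((nat_lit 497), (nat_lit 1)), ((nat_lit 512), (nat_lit 2)), ((nat_lit 514), (nat_lit 2)), ((nat_lit 516), (nat_lit 3))]⟩,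
  ⟨false, (nat_lit 0), [nat_lit 9], [nat_lit 2, nat_lit 1], [((nat_lit 272), (nat_lit 3)), ((nat_lit 350), (nat_lit 1)), ((nat_lit 351), (nat_lit 3)), ((nat_lit 419), (nat_lit 3)), ((nat_lit 428), (nat_lit 3)), ((nat_lit 434), (nat_lit 1)), ((nat_lit 440), (nat_lit 3)), ((nat_lit 446), (nat_lit 3)), ((nat_lit 449), (nat_lit 3)), ((nat_lit 455), (nat_lit 1)), ((nat_lit 456), (nat_lit 3)), ((nat_lit 470), (nat_lit 2)), ((nat_lit 471), (nat_lit 3)), ((nat_lit 482), (nat_lit 3)), ((nat_lit 492), (nat_lit 3)), ((nat_lit 494), (nat_lit 3)), ((nat_lit 503), (nat_lit 3)), ((nat_lit 512), (nat_lit 3)), ((nat_lit 515), (nat_lit 2))]⟩,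
  ⟨false, (nat_lit 0), [nat_lit 6], [nat_lit 5, nat_lit 1], [((nat_lit 312), (nat_lit 3)), ((nat_lit 350), (nat_lit 1)), ((nat_lit 360), (nat_lit 3)), ((nat_lit 413), (nat_lit 1)), ((nat_lit 418), (nat_lit 1)), ((nat_lit 425), (nat_lit 1)), ((nat_lit 439), (nat_lit 1)), ((nat_lit 444), (nat_lit 1)), ((nat_lit 446), (nat_lit 1)), ((nat_lit 449), (nat_lit 1)), ((nat_lit 455), (nat_lit 1)), ((nat_lit 465), (nat_lit 3)), ((nat_lit 471), (nat_lit 3)), ((nat_lit 472), (nat_lit 1)), ((nat_lit 476), (nat_lit 1)), ((nat_lit 481), (nat_lit 1)), ((nat_lit 486), (nat_lit 3)), ((nat_lit 502), (nat_lit 1)), ((nat_lit 512), (nat_lit 3)), ((nat_lit 513), (nat_lit 1)), ((nat_lit 515), (nat_lit 1)), ((nat_lit 516), (nat_lit 1))]⟩,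
  ⟨false, (nat_lit 0), [nat_lit 9], [nat_lit 2, nat_lit 0], [((nat_lit 271), (nat_lit 3)), ((nat_lit 349), (nat_lit 1)), ((nat_lit 351), (nat_lit 3)), ((nat_lit 418), (nat_lit 3)), ((nat_lit 428), (nat_lit 3)), ((nat_lit 433), (nat_lit 1)), ((nat_lit 439), (nat_lit 3)), ((nat_lit 446), (nat_lit 3)), ((nat_lit 449), (nat_lit 3)), ((nat_lit 454), (nat_lit 1)), ((nat_lit 460), (nat_lit 3)), ((nat_lit 467), (nat_lit 3)), ((nat_lit 470), (nat_lit 3)), ((nat_lit 471), (nat_lit 1)), ((nat_lit 472), (nat_lit 1)), ((nat_lit 491), (nat_lit 3)), ((nat_lit 493), (nat_lit 1)), ((nat_lit 502), (nat_lit 3)), ((nat_lit 512), (nat_lit 3)), ((nat_lit 514), (nat_lit 1)), ((nat_lit 515), (nat_lit 2)), ((nat_lit 516), (nat_lit 3))]⟩,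
  ⟨false, (nat_lit 0), [nat_lit 6], [nat_lit 6, nat_lit 0], [((nat_lit 202), (nat_lit 2)), ((nat_lit 355), (nat_lit 3)), ((nat_lit 362), (nat_lit 3)), ((nat_lit 397), (nat_lit 3)), ((nat_lit 404), (nat_lit 3)), ((nat_lit 406), (nat_lit 3)), ((nat_lit 412), (nat_lit 1)), ((nat_lit 418), (nat_lit 3)), ((nat_lit 425), (nat_lit 3)), ((nat_lit 427), (nat_lit 3)), ((nat_lit 428), (nat_lit 3)), ((nat_lit 439), (nat_lit 3)), ((nat_lit 446), (nat_lit 3)), ((nat_lit 448), (nat_lit 3)), ((nat_lit 449), (nat_lit 3)), ((nat_lit 450), (nat_lit 3)), ((nat_lit 460), (nat_lit 3)), ((nat_lit 467), (nat_lit 3)), ((nat_lit 469), (nat_lit 3)), ((nat_lit 470), (nat_lit 3)), ((nat_lit 471), (nat_lit 3)), ((nat_lit 472), (nat_lit 3)), ((nat_lit 488), (nat_lit 3)), ((nat_lit 490), (nat_lit 3)), ((nat_lit 491), (nat_lit 3)), ((nat_lit 492), (nat_lit 3)), ((nat_lit 493), (nat_lit 2)), ((nat_lit 496), (nat_lit 1)),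 ((nat_lit 502), (nat_lit 3)), ((nat_lit 509), (nat_lit 2)), ((nat_lit 511), (nat_lit 2)), ((nat_lit 512), (nat_lit 3)), ((nat_lit 513), (nat_lit 3)), ((nat_lit 514), (nat_lit 2)), ((nat_lit 516), (nat_lit 1))]⟩,
  ⟨false, (nat_lit 0), [nat_lit 12], [nat_lit 3, nat_lit 3], [((nat_lit 331), (nat_lit 2)), ((nat_lit 333), (nat_lit 3)), ((nat_lit 334), (nat_lit 3)), ((nat_lit 336), (nat_lit 3)), ((nat_lit 418), (nat_lit 3)), ((nat_lit 420), (nat_lit 3)), ((nat_lit 424), (nat_lit 1)), ((nat_lit 428), (nat_lit 3)), ((nat_lit 439), (nat_lit 3)), ((nat_lit 441), (nat_lit 3)), ((nat_lit 449), (nat_lit 3)), ((nat_lit 450), (nat_lit 3)), ((nat_lit 460), (nat_lit 3)), ((nat_lit 470), (nat_lit 3)), ((nat_lit 471), (nat_lit 3)), ((nat_lit 472), (nat_lit 3)), ((nat_lit 478), (nat_lit 1)), ((nat_lit 481), (nat_lit 3)), ((nat_lit 483), (nat_lit 3)), ((nat_lit 487), (nat_lit 1)), ((nat_lit 491), (nat_lit 3)),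 ((nat_lit 492), (nat_lit 2)), ((nat_lit 494), (nat_lit 3)), ((nat_lit 499), (nat_lit 1)), ((nat_lit 502), (nat_lit 3)), ((nat_lit 504), (nat_lit 3)), ((nat_lit 512), (nat_lit 2)), ((nat_lit 514), (nat_lit 3)), ((nat_lit 516), (nat_lit 3))]⟩,
  ⟨false, (nat_lit 0), [nat_lit 6], [nat_lit 5, nat_lit 3], [((nat_lit 292), (nat_lit 1)), ((nat_lit 312), (nat_lit 3)), ((nat_lit 317), (nat_lit 3)), ((nat_lit 352), (nat_lit 1)), ((nat_lit 359), (nat_lit 3)), ((nat_lit 360), (nat_lit 3)), ((nat_lit 375), (nat_lit 3)), ((nat_lit 380), (nat_lit 3)), ((nat_lit 383), (nat_lit 1)), ((nat_lit 415), (nat_lit 1)), ((nat_lit 422), (nat_lit 3)), ((nat_lit 423), (nat_lit 3)), ((nat_lit 426), (nat_lit 3)), ((nat_lit 457), (nat_lit 1)), ((nat_lit 464), (nat_lit 3)), ((nat_lit 465), (nat_lit 3)), ((nat_lit 468), (nat_lit 3)), ((nat_lit 470), (nat_lit 1)), ((nat_lit 472), (nat_lit 1)), ((nat_lit 478), (nat_lit 1)),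 ((nat_lit 485), (nat_lit 3)), ((nat_lit 486), (nat_lit 3)), ((nat_lit 493), (nat_lit 1)), ((nat_lit 506), (nat_lit 3)), ((nat_lit 514), (nat_lit 2)), ((nat_lit 515), (nat_lit 3)), ((nat_lit 516), (nat_lit 3))]⟩,
  ⟨false, (nat_lit 0), [nat_lit 3], [nat_lit 3, nat_lit 3], [((nat_lit 184), (nat_lit 1)), ((nat_lit 205), (nat_lit 1)), ((nat_lit 247), (nat_lit 1)), ((nat_lit 292), (nat_lit 1)), ((nat_lit 294), (nat_lit 1)), ((nat_lit 296), (nat_lit 1)), ((nat_lit 315), (nat_lit 1)), ((nat_lit 317), (nat_lit 1)), ((nat_lit 318), (nat_lit 1)), ((nat_lit 378), (nat_lit 1)), ((nat_lit 380), (nat_lit 1)), ((nat_lit 381), (nat_lit 1)), ((nat_lit 384), (nat_lit 1)), ((nat_lit 415), (nat_lit 1)), ((nat_lit 464), (nat_lit 1)), ((nat_lit 465), (nat_lit 1)), ((nat_lit 468), (nat_lit 2)), ((nat_lit 470), (nat_lit 1)), ((nat_lit 472), (nat_lit 1)), ((nat_lit 478), (nat_lit 1)), ((nat_lit 485), (nat_lit 1)),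 ((nat_lit 486), (nat_lit 1)), ((nat_lit 489), (nat_lit 3)), ((nat_lit 491), (nat_lit 1)), ((nat_lit 493), (nat_lit 3)), ((nat_lit 494), (nat_lit 2)), ((nat_lit 507), (nat_lit 3)), ((nat_lit 510), (nat_lit 2)), ((nat_lit 514), (nat_lit 3)), ((nat_lit 515), (nat_lit 3)), ((nat_lit 516), (nat_lit 2))]⟩,
  ⟨false, (nat_lit 0), [nat_lit 7], [nat_lit 6, nat_lit 3], [((nat_lit 314), (nat_lit 1)), ((nat_lit 334), (nat_lit 3)), ((nat_lit 339), (nat_lit 3)), ((nat_lit 377), (nat_lit 1)), ((nat_lit 382), (nat_lit 1)), ((nat_lit 394), (nat_lit 1)), ((nat_lit 402), (nat_lit 3)), ((nat_lit 403), (nat_lit 3)), ((nat_lit 405), (nat_lit 3)), ((nat_lit 436), (nat_lit 1)), ((nat_lit 444), (nat_lit 3)), ((nat_lit 445), (nat_lit 3)), ((nat_lit 447), (nat_lit 3)), ((nat_lit 457), (nat_lit 1)), ((nat_lit 466), (nat_lit 3)), ((nat_lit 478), (nat_lit 1)), ((nat_lit 487), (nat_lit 3)), ((nat_lit 489), (nat_lit 1)),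 ((nat_lit 490), (nat_lit 1)), ((nat_lit 492), (nat_lit 1)), ((nat_lit 494), (nat_lit 2)), ((nat_lit 499), (nat_lit 1)), ((nat_lit 510), (nat_lit 3)), ((nat_lit 511), (nat_lit 1)), ((nat_lit 513), (nat_lit 1))]⟩,
  ⟨false, (nat_lit 0), [nat_lit 5], [nat_lit 2, nat_lit 0], [((nat_lit 207), (nat_lit 1)), ((nat_lit 265), (nat_lit 1)), ((nat_lit 271), (nat_lit 3)), ((nat_lit 358), (nat_lit 1)), ((nat_lit 362), (nat_lit 1)), ((nat_lit 414), (nat_lit 3)), ((nat_lit 418), (nat_lit 3)), ((nat_lit 435), (nat_lit 3)), ((nat_lit 439), (nat_lit 3)), ((nat_lit 442), (nat_lit 1)), ((nat_lit 446), (nat_lit 1)), ((nat_lit 460), (nat_lit 3)), ((nat_lit 463), (nat_lit 1)), ((nat_lit 467), (nat_lit 1)), ((nat_lit 470), (nat_lit 1)), ((nat_lit 471), (nat_lit 1)), ((nat_lit 477), (nat_lit 3)), ((nat_lit 492), (nat_lit 3)), ((nat_lit 493), (nat_lit 3)), ((nat_lit 494), (nat_lit 3)), ((nat_lit 498), (nat_lit 3)),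 ((nat_lit 502), (nat_lit 3)), ((nat_lit 505), (nat_lit 1)), ((nat_lit 513), (nat_lit 1)), ((nat_lit 515), (nat_lit 3)), ((nat_lit 516), (nat_lit 3))]⟩,
  ⟨false, (nat_lit 0), [nat_lit 10], [nat_lit 2, nat_lit 0], [((nat_lit 292), (nat_lit 3)), ((nat_lit 349), (nat_lit 1)), ((nat_lit 351), (nat_lit 3)), ((nat_lit 370), (nat_lit 1)), ((nat_lit 376), (nat_lit 3)), ((nat_lit 383), (nat_lit 3)), ((nat_lit 418), (nat_lit 3)), ((nat_lit 435), (nat_lit 3)), ((nat_lit 439), (nat_lit 3)), ((nat_lit 446), (nat_lit 1)), ((nat_lit 447), (nat_lit 1)), ((nat_lit 449), (nat_lit 1)), ((nat_lit 454), (nat_lit 1)), ((nat_lit 456), (nat_lit 3)), ((nat_lit 460), (nat_lit 3)), ((nat_lit 470), (nat_lit 3)), ((nat_lit 471), (nat_lit 3)), ((nat_lit 481), (nat_lit 3)), ((nat_lit 489), (nat_lit 1)), ((nat_lit 491), (nat_lit 1)), ((nat_lit 493), (nat_lit 3)), ((nat_lit 498), (nat_lit 3)), ((nat_lit 509), (nat_lit 1)),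 ((nat_lit 510), (nat_lit 3)), ((nat_lit 512), (nat_lit 3)), ((nat_lit 514), (nat_lit 1)), ((nat_lit 515), (nat_lit 3)), ((nat_lit 516), (nat_lit 3))]⟩,
  ⟨false, (nat_lit 0), [nat_lit 12], [nat_lit 2, nat_lit 2], [((nat_lit 330), (nat_lit 2)), ((nat_lit 334), (nat_lit 3)), ((nat_lit 338), (nat_lit 3)), ((nat_lit 403), (nat_lit 1)), ((nat_lit 414), (nat_lit 1)), ((nat_lit 428), (nat_lit 1)), ((nat_lit 435), (nat_lit 1)), ((nat_lit 445), (nat_lit 1)), ((nat_lit 449), (nat_lit 1)), ((nat_lit 450), (nat_lit 1)), ((nat_lit 456), (nat_lit 1)), ((nat_lit 464), (nat_lit 3)), ((nat_lit 469), (nat_lit 3)), ((nat_lit 470), (nat_lit 1)), ((nat_lit 472), (nat_lit 1)), ((nat_lit 477), (nat_lit 1)), ((nat_lit 485), (nat_lit 3)), ((nat_lit 487), (nat_lit 1)), ((nat_lit 491), (nat_lit 1)), ((nat_lit 492), (nat_lit 2)), ((nat_lit 493), (nat_lit 2)), ((nat_lit 494), (nat_lit 1)), ((nat_lit 508), (nat_lit 3)),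 ((nat_lit 511), (nat_lit 1)), ((nat_lit 513), (nat_lit 2)), ((nat_lit 515), (nat_lit 1)), ((nat_lit 516), (nat_lit 1))]⟩,
  ⟨false, (nat_lit 0), [nat_lit 8], [nat_lit 7, nat_lit 7], [((nat_lit 251), (nat_lit 2)), ((nat_lit 356), (nat_lit 1)), ((nat_lit 362), (nat_lit 1)), ((nat_lit 398), (nat_lit 1)), ((nat_lit 399), (nat_lit 1)), ((nat_lit 404), (nat_lit 1)), ((nat_lit 406), (nat_lit 1)), ((nat_lit 419), (nat_lit 1)), ((nat_lit 420), (nat_lit 1)), ((nat_lit 425), (nat_lit 1)), ((nat_lit 427), (nat_lit 1)), ((nat_lit 428), (nat_lit 1)), ((nat_lit 440), (nat_lit 1)), ((nat_lit 441), (nat_lit 1)), ((nat_lit 446), (nat_lit 1)), ((nat_lit 448), (nat_lit 1)), ((nat_lit 449), (nat_lit 1)), ((nat_lit 450), (nat_lit 1)), ((nat_lit 461), (nat_lit 1)), ((nat_lit 462), (nat_lit 1)), ((nat_lit 467), (nat_lit 1)), ((nat_lit 470), (nat_lit 1)), ((nat_lit 471), (nat_lit 1)), ((nat_lit 472), (nat_lit 2)),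 ((nat_lit 491), (nat_lit 2)), ((nat_lit 494), (nat_lit 2)), ((nat_lit 504), (nat_lit 1)), ((nat_lit 509), (nat_lit 1)), ((nat_lit 511), (nat_lit 2)), ((nat_lit 513), (nat_lit 3)), ((nat_lit 514), (nat_lit 2)), ((nat_lit 515), (nat_lit 3))]⟩,
  ⟨false, (nat_lit 0), [nat_lit 5], [nat_lit 2, nat_lit 1], [((nat_lit 228), (nat_lit 1)), ((nat_lit 266), (nat_lit 1)), ((nat_lit 272), (nat_lit 3)), ((nat_lit 358), (nat_lit 1)), ((nat_lit 362), (nat_lit 1)), ((nat_lit 414), (nat_lit 3)), ((nat_lit 419), (nat_lit 3)), ((nat_lit 435), (nat_lit 3)), ((nat_lit 440), (nat_lit 3)), ((nat_lit 442), (nat_lit 1)), ((nat_lit 446), (nat_lit 1)), ((nat_lit 461), (nat_lit 3)), ((nat_lit 463), (nat_lit 1)), ((nat_lit 467), (nat_lit 1)), ((nat_lit 477), (nat_lit 3)), ((nat_lit 484), (nat_lit 1)), ((nat_lit 488), (nat_lit 1)), ((nat_lit 492), (nat_lit 2)), ((nat_lit 493), (nat_lit 3)), ((nat_lit 494), (nat_lit 3)),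 ((nat_lit 498), (nat_lit 3)), ((nat_lit 503), (nat_lit 3)), ((nat_lit 505), (nat_lit 1)), ((nat_lit 513), (nat_lit 1)), ((nat_lit 514), (nat_lit 1)), ((nat_lit 515), (nat_lit 1)), ((nat_lit 516), (nat_lit 3))]⟩,
  ⟨false, (nat_lit 0), [nat_lit 5], [nat_lit 3, nat_lit 1], [((nat_lit 249), (nat_lit 1)), ((nat_lit 287), (nat_lit 1)), ((nat_lit 294), (nat_lit 3)), ((nat_lit 359), (nat_lit 1)), ((nat_lit 362), (nat_lit 1)), ((nat_lit 415), (nat_lit 3)), ((nat_lit 420), (nat_lit 3)), ((nat_lit 428), (nat_lit 1)), ((nat_lit 436), (nat_lit 3)), ((nat_lit 441), (nat_lit 3)), ((nat_lit 443), (nat_lit 1)), ((nat_lit 446), (nat_lit 1)), ((nat_lit 449), (nat_lit 1)), ((nat_lit 464), (nat_lit 1)), ((nat_lit 467), (nat_lit 1)), ((nat_lit 470), (nat_lit 2)), ((nat_lit 478), (nat_lit 3)), ((nat_lit 483), (nat_lit 3)), ((nat_lit 485), (nat_lit 1)), ((nat_lit 488), (nat_lit 1)), ((nat_lit 491), (nat_lit 1)),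 ((nat_lit 492), (nat_lit 2)), ((nat_lit 494), (nat_lit 3)), ((nat_lit 499), (nat_lit 3)), ((nat_lit 512), (nat_lit 1)), ((nat_lit 513), (nat_lit 2)), ((nat_lit 514), (nat_lit 2)), ((nat_lit 515), (nat_lit 1))]⟩,
  ⟨false, (nat_lit 0), [nat_lit 6], [nat_lit 4, nat_lit 1], [((nat_lit 250), (nat_lit 1)), ((nat_lit 308), (nat_lit 1)), ((nat_lit 311), (nat_lit 3)), ((nat_lit 360), (nat_lit 2)), ((nat_lit 362), (nat_lit 1)), ((nat_lit 371), (nat_lit 1)), ((nat_lit 378), (nat_lit 3)), ((nat_lit 381), (nat_lit 3)), ((nat_lit 444), (nat_lit 2)), ((nat_lit 446), (nat_lit 1)), ((nat_lit 447), (nat_lit 1)), ((nat_lit 450), (nat_lit 1)), ((nat_lit 460), (nat_lit 1)), ((nat_lit 465), (nat_lit 2)), ((nat_lit 467), (nat_lit 1)), ((nat_lit 468), (nat_lit 1)), ((nat_lit 471), (nat_lit 1)), ((nat_lit 481), (nat_lit 1)), ((nat_lit 486), (nat_lit 2)), ((nat_lit 488), (nat_lit 1)), ((nat_lit 489), (nat_lit 1)),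 ((nat_lit 492), (nat_lit 1)), ((nat_lit 494), (nat_lit 3)), ((nat_lit 504), (nat_lit 3)), ((nat_lit 507), (nat_lit 2)), ((nat_lit 509), (nat_lit 1)), ((nat_lit 513), (nat_lit 3)), ((nat_lit 514), (nat_lit 1)), ((nat_lit 516), (nat_lit 3))]⟩,
  ⟨false, (nat_lit 0), [nat_lit 5], [nat_lit 3, nat_lit 3], [((nat_lit 184), (nat_lit 2)), ((nat_lit 207), (nat_lit 1)), ((nat_lit 249), (nat_lit 1)), ((nat_lit 289), (nat_lit 1)), ((nat_lit 296), (nat_lit 1)), ((nat_lit 357), (nat_lit 1)), ((nat_lit 362), (nat_lit 1)), ((nat_lit 417), (nat_lit 1)), ((nat_lit 420), (nat_lit 1)), ((nat_lit 422), (nat_lit 2)), ((nat_lit 425), (nat_lit 1)), ((nat_lit 428), (nat_lit 1)), ((nat_lit 462), (nat_lit 3)), ((nat_lit 464), (nat_lit 2)), ((nat_lit 467), (nat_lit 1)), ((nat_lit 470), (nat_lit 1)), ((nat_lit 472), (nat_lit 1)), ((nat_lit 480), (nat_lit 1)), ((nat_lit 483), (nat_lit 1)), ((nat_lit 488), (nat_lit 1)),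 ((nat_lit 493), (nat_lit 2)), ((nat_lit 494), (nat_lit 2)), ((nat_lit 506), (nat_lit 2)), ((nat_lit 509), (nat_lit 1)), ((nat_lit 514), (nat_lit 3)), ((nat_lit 516), (nat_lit 2))]⟩,
  ⟨false, (nat_lit 0), [nat_lit 10], [nat_lit 2, nat_lit 1], [((nat_lit 293), (nat_lit 3)), ((nat_lit 350), (nat_lit 1)), ((nat_lit 351), (nat_lit 3)), ((nat_lit 371), (nat_lit 1)), ((nat_lit 377), (nat_lit 3)), ((nat_lit 383), (nat_lit 3)), ((nat_lit 414), (nat_lit 3)), ((nat_lit 425), (nat_lit 1)), ((nat_lit 428), (nat_lit 3)), ((nat_lit 447), (nat_lit 3)), ((nat_lit 455), (nat_lit 1)), ((nat_lit 456), (nat_lit 3)), ((nat_lit 468), (nat_lit 3)), ((nat_lit 470), (nat_lit 2)), ((nat_lit 477), (nat_lit 3)), ((nat_lit 482), (nat_lit 3)), ((nat_lit 488), (nat_lit 1)), ((nat_lit 492), (nat_lit 1)), ((nat_lit 493), (nat_lit 1)), ((nat_lit 494), (nat_lit 2)), ((nat_lit 498), (nat_lit 3)), ((nat_lit 509), (nat_lit 1)),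 ((nat_lit 510), (nat_lit 2)), ((nat_lit 512), (nat_lit 3)), ((nat_lit 515), (nat_lit 3)), ((nat_lit 516), (nat_lit 2))]⟩,
  ⟨false, (nat_lit 0), [nat_lit 2], [nat_lit 2, nat_lit 2], [((nat_lit 204), (nat_lit 1)), ((nat_lit 288), (nat_lit 1)), ((nat_lit 330), (nat_lit 1)), ((nat_lit 359), (nat_lit 1)), ((nat_lit 362), (nat_lit 1)), ((nat_lit 380), (nat_lit 1)), ((nat_lit 383), (nat_lit 1)), ((nat_lit 384), (nat_lit 1)), ((nat_lit 393), (nat_lit 1)), ((nat_lit 422), (nat_lit 1)), ((nat_lit 424), (nat_lit 1)), ((nat_lit 425), (nat_lit 1)), ((nat_lit 426), (nat_lit 1)), ((nat_lit 428), (nat_lit 1)), ((nat_lit 435), (nat_lit 1)), ((nat_lit 443), (nat_lit 1)), ((nat_lit 445), (nat_lit 1)), ((nat_lit 446), (nat_lit 1)), ((nat_lit 447), (nat_lit 1)), ((nat_lit 449), (nat_lit 1)), ((nat_lit 450), (nat_lit 1)), ((nat_lit 456), (nat_lit 1)), ((nat_lit 466), (nat_lit 1)), ((nat_lit 470), (nat_lit 1)),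 ((nat_lit 471), (nat_lit 2)), ((nat_lit 472), (nat_lit 2)), ((nat_lit 477), (nat_lit 1)), ((nat_lit 490), (nat_lit 1)), ((nat_lit 492), (nat_lit 1)), ((nat_lit 493), (nat_lit 3)), ((nat_lit 494), (nat_lit 1)), ((nat_lit 508), (nat_lit 1)), ((nat_lit 510), (nat_lit 2)), ((nat_lit 511), (nat_lit 1)), ((nat_lit 512), (nat_lit 2)), ((nat_lit 514), (nat_lit 1)), ((nat_lit 515), (nat_lit 3)), ((nat_lit 516), (nat_lit 2))]⟩,
  ⟨false, (nat_lit 0), [nat_lit 7], [nat_lit 5, nat_lit 3], [((nat_lit 293), (nat_lit 1)), ((nat_lit 333), (nat_lit 3)), ((nat_lit 338), (nat_lit 3)), ((nat_lit 352), (nat_lit 1)), ((nat_lit 359), (nat_lit 3)), ((nat_lit 361), (nat_lit 3)), ((nat_lit 415), (nat_lit 1)), ((nat_lit 425), (nat_lit 1)), ((nat_lit 443), (nat_lit 3)), ((nat_lit 445), (nat_lit 1)), ((nat_lit 446), (nat_lit 1)), ((nat_lit 449), (nat_lit 1)), ((nat_lit 457), (nat_lit 1)), ((nat_lit 467), (nat_lit 1)),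 ((nat_lit 470), (nat_lit 3)), ((nat_lit 471), (nat_lit 3)), ((nat_lit 472), (nat_lit 1)), ((nat_lit 487), (nat_lit 1)), ((nat_lit 491), (nat_lit 3)), ((nat_lit 492), (nat_lit 2)), ((nat_lit 506), (nat_lit 3)), ((nat_lit 508), (nat_lit 1)), ((nat_lit 512), (nat_lit 3)), ((nat_lit 514), (nat_lit 1))]⟩,
  ⟨false, (nat_lit 0), [nat_lit 6], [nat_lit 3, nat_lit 3], [((nat_lit 205), (nat_lit 2)), ((nat_lit 207), (nat_lit 3)), ((nat_lit 250), (nat_lit 1)), ((nat_lit 310), (nat_lit 1)), ((nat_lit 318), (nat_lit 1)), ((nat_lit 355), (nat_lit 3)), ((nat_lit 357), (nat_lit 3)), ((nat_lit 360), (nat_lit 2)), ((nat_lit 373), (nat_lit 1)), ((nat_lit 381), (nat_lit 1)), ((nat_lit 384), (nat_lit 1)), ((nat_lit 420), (nat_lit 1)), ((nat_lit 444), (nat_lit 2)), ((nat_lit 447), (nat_lit 2)), ((nat_lit 449), (nat_lit 2)), ((nat_lit 450), (nat_lit 1)), ((nat_lit 460), (nat_lit 3)), ((nat_lit 462), (nat_lit 3)),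 ((nat_lit 470), (nat_lit 3)), ((nat_lit 483), (nat_lit 3)), ((nat_lit 488), (nat_lit 1)), ((nat_lit 491), (nat_lit 1)), ((nat_lit 492), (nat_lit 2)), ((nat_lit 493), (nat_lit 3)), ((nat_lit 494), (nat_lit 1)), ((nat_lit 513), (nat_lit 1)), ((nat_lit 515), (nat_lit 3)), ((nat_lit 516), (nat_lit 2))]⟩,
  ⟨false, (nat_lit 0), [nat_lit 10], [nat_lit 4, nat_lit 1], [((nat_lit 294), (nat_lit 3)), ((nat_lit 350), (nat_lit 1)), ((nat_lit 353), (nat_lit 3)), ((nat_lit 413), (nat_lit 1)), ((nat_lit 416), (nat_lit 3)), ((nat_lit 455), (nat_lit 1)), ((nat_lit 458), (nat_lit 3)), ((nat_lit 464), (nat_lit 1)), ((nat_lit 470), (nat_lit 2)), ((nat_lit 476), (nat_lit 1)), ((nat_lit 479), (nat_lit 3)), ((nat_lit 485), (nat_lit 1)), ((nat_lit 493), (nat_lit 3)), ((nat_lit 494), (nat_lit 3)), ((nat_lit 497), (nat_lit 1)), ((nat_lit 500), (nat_lit 3)), ((nat_lit 504), (nat_lit 3)), ((nat_lit 512), (nat_lit 3)),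 ((nat_lit 514), (nat_lit 1)), ((nat_lit 516), (nat_lit 3))]⟩,
  ⟨false, (nat_lit 0), [nat_lit 8], [nat_lit 8, nat_lit 1], [((nat_lit 245), (nat_lit 2)), ((nat_lit 294), (nat_lit 3)), ((nat_lit 296), (nat_lit 3)), ((nat_lit 350), (nat_lit 1)), ((nat_lit 357), (nat_lit 3)), ((nat_lit 359), (nat_lit 3)), ((nat_lit 362), (nat_lit 3)), ((nat_lit 378), (nat_lit 3)), ((nat_lit 380), (nat_lit 3)), ((nat_lit 383), (nat_lit 3)), ((nat_lit 384), (nat_lit 3)), ((nat_lit 413), (nat_lit 1)), ((nat_lit 422), (nat_lit 2)), ((nat_lit 425), (nat_lit 2)), ((nat_lit 426), (nat_lit 2)), ((nat_lit 434), (nat_lit 1)), ((nat_lit 443), (nat_lit 2)), ((nat_lit 446), (nat_lit 2)), ((nat_lit 447), (nat_lit 2)), ((nat_lit 455), (nat_lit 1)), ((nat_lit 464), (nat_lit 2)), ((nat_lit 467), (nat_lit 2)), ((nat_lit 468), (nat_lit 2)), ((nat_lit 470), (nat_lit 1)), ((nat_lit 472), (nat_lit 1)), ((nat_lit 483), (nat_lit 3)),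 ((nat_lit 488), (nat_lit 3)), ((nat_lit 489), (nat_lit 1)), ((nat_lit 491), (nat_lit 3)), ((nat_lit 492), (nat_lit 3)), ((nat_lit 493), (nat_lit 3)), ((nat_lit 494), (nat_lit 2)), ((nat_lit 497), (nat_lit 1)), ((nat_lit 506), (nat_lit 2)), ((nat_lit 510), (nat_lit 2)), ((nat_lit 512), (nat_lit 2)), ((nat_lit 513), (nat_lit 2)), ((nat_lit 514), (nat_lit 3)), ((nat_lit 515), (nat_lit 2)), ((nat_lit 516), (nat_lit 3))]⟩,
  ⟨false, (nat_lit 0), [nat_lit 12], [nat_lit 2, nat_lit 1], [((nat_lit 335), (nat_lit 3)), ((nat_lit 351), (nat_lit 3)), ((nat_lit 356), (nat_lit 3)), ((nat_lit 372), (nat_lit 3)), ((nat_lit 377), (nat_lit 3)), ((nat_lit 393), (nat_lit 3)), ((nat_lit 398), (nat_lit 3)), ((nat_lit 413), (nat_lit 1)), ((nat_lit 419), (nat_lit 3)), ((nat_lit 425), (nat_lit 3)), ((nat_lit 427), (nat_lit 3)), ((nat_lit 428), (nat_lit 3)), ((nat_lit 434), (nat_lit 1)), ((nat_lit 435), (nat_lit 3)),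 ((nat_lit 446), (nat_lit 3)), ((nat_lit 447), (nat_lit 3)), ((nat_lit 448), (nat_lit 3)), ((nat_lit 449), (nat_lit 3)), ((nat_lit 455), (nat_lit 1)), ((nat_lit 456), (nat_lit 3)), ((nat_lit 467), (nat_lit 3)), ((nat_lit 468), (nat_lit 2)), ((nat_lit 469), (nat_lit 2)), ((nat_lit 470), (nat_lit 2)), ((nat_lit 472), (nat_lit 3)), ((nat_lit 476), (nat_lit 1)), ((nat_lit 482), (nat_lit 3)), ((nat_lit 488), (nat_lit 2)), ((nat_lit 489), (nat_lit 2)), ((nat_lit 491), (nat_lit 1)), ((nat_lit 493), (nat_lit 3)), ((nat_lit 494), (nat_lit 1)), ((nat_lit 510), (nat_lit 3)), ((nat_lit 514), (nat_lit 1))]⟩,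
  ⟨false, (nat_lit 0), [nat_lit 11], [nat_lit 4, nat_lit 2], [((nat_lit 313), (nat_lit 3)), ((nat_lit 314), (nat_lit 3)), ((nat_lit 316), (nat_lit 3)), ((nat_lit 317), (nat_lit 3)), ((nat_lit 339), (nat_lit 1)), ((nat_lit 381), (nat_lit 1)), ((nat_lit 395), (nat_lit 3)), ((nat_lit 397), (nat_lit 3)), ((nat_lit 398), (nat_lit 3)), ((nat_lit 400), (nat_lit 3)), ((nat_lit 401), (nat_lit 3)), ((nat_lit 403), (nat_lit 3)), ((nat_lit 405), (nat_lit 3)), ((nat_lit 461), (nat_lit 3)), ((nat_lit 463), (nat_lit 3)), ((nat_lit 465), (nat_lit 1)), ((nat_lit 469), (nat_lit 3)), ((nat_lit 472), (nat_lit 3)), ((nat_lit 477), (nat_lit 1)), ((nat_lit 485), (nat_lit 3)), ((nat_lit 494), (nat_lit 2)), ((nat_lit 502), (nat_lit 3)), ((nat_lit 505), (nat_lit 3)), ((nat_lit 506), (nat_lit 3)), ((nat_lit 507), (nat_lit 3)), ((nat_lit 508), (nat_lit 1)), ((nat_lit 510), (nat_lit 1)), ((nat_lit 511), (nat_lit 3)),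 ((nat_lit 514), (nat_lit 1)), ((nat_lit 515), (nat_lit 1)), ((nat_lit 516), (nat_lit 2))]⟩,
  ⟨false, (nat_lit 0), [nat_lit 12], [nat_lit 3, nat_lit 1], [((nat_lit 336), (nat_lit 3)), ((nat_lit 352), (nat_lit 3)), ((nat_lit 357), (nat_lit 3)), ((nat_lit 373), (nat_lit 3)), ((nat_lit 378), (nat_lit 3)), ((nat_lit 394), (nat_lit 3)), ((nat_lit 399), (nat_lit 3)), ((nat_lit 420), (nat_lit 3)), ((nat_lit 425), (nat_lit 3)), ((nat_lit 426), (nat_lit 3)), ((nat_lit 427), (nat_lit 2)), ((nat_lit 428), (nat_lit 3)), ((nat_lit 436), (nat_lit 3)), ((nat_lit 446), (nat_lit 3)), ((nat_lit 447), (nat_lit 3)), ((nat_lit 448), (nat_lit 2)), ((nat_lit 449), (nat_lit 3)), ((nat_lit 450), (nat_lit 3)), ((nat_lit 457), (nat_lit 3)), ((nat_lit 468), (nat_lit 3)), ((nat_lit 470), (nat_lit 2)), ((nat_lit 471), (nat_lit 3)), ((nat_lit 472), (nat_lit 2)), ((nat_lit 476), (nat_lit 1)), ((nat_lit 488), (nat_lit 3)),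 ((nat_lit 489), (nat_lit 2)), ((nat_lit 490), (nat_lit 3)), ((nat_lit 491), (nat_lit 3)), ((nat_lit 492), (nat_lit 3)), ((nat_lit 494), (nat_lit 1)), ((nat_lit 497), (nat_lit 1)), ((nat_lit 504), (nat_lit 3)), ((nat_lit 509), (nat_lit 2)), ((nat_lit 510), (nat_lit 3)), ((nat_lit 511), (nat_lit 3)), ((nat_lit 514), (nat_lit 1)), ((nat_lit 515), (nat_lit 1)), ((nat_lit 516), (nat_lit 2))]⟩,
  ⟨false, (nat_lit 0), [nat_lit 10], [nat_lit 2, nat_lit 2], [((nat_lit 288), (nat_lit 2)), ((nat_lit 292), (nat_lit 3)), ((nat_lit 338), (nat_lit 1)), ((nat_lit 351), (nat_lit 1)), ((nat_lit 362), (nat_lit 1)), ((nat_lit 372), (nat_lit 1)), ((nat_lit 383), (nat_lit 1)), ((nat_lit 384), (nat_lit 1)), ((nat_lit 401), (nat_lit 1)), ((nat_lit 404), (nat_lit 2)), ((nat_lit 405), (nat_lit 2)), ((nat_lit 426), (nat_lit 1)), ((nat_lit 428), (nat_lit 1)), ((nat_lit 443), (nat_lit 1)), ((nat_lit 446), (nat_lit 2)),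 ((nat_lit 447), (nat_lit 2)), ((nat_lit 449), (nat_lit 2)), ((nat_lit 456), (nat_lit 1)), ((nat_lit 464), (nat_lit 1)), ((nat_lit 467), (nat_lit 1)), ((nat_lit 468), (nat_lit 1)), ((nat_lit 472), (nat_lit 1)), ((nat_lit 485), (nat_lit 1)), ((nat_lit 490), (nat_lit 3)), ((nat_lit 493), (nat_lit 1)), ((nat_lit 494), (nat_lit 2)), ((nat_lit 509), (nat_lit 1)), ((nat_lit 510), (nat_lit 3)), ((nat_lit 512), (nat_lit 2)), ((nat_lit 514), (nat_lit 2)), ((nat_lit 515), (nat_lit 2)), ((nat_lit 516), (nat_lit 2))]⟩,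
  ⟨false, (nat_lit 0), [nat_lit 12], [nat_lit 4, nat_lit 4], [((nat_lit 332), (nat_lit 2)), ((nat_lit 333), (nat_lit 3)), ((nat_lit 336), (nat_lit 3)), ((nat_lit 337), (nat_lit 3)), ((nat_lit 338), (nat_lit 3)), ((nat_lit 339), (nat_lit 3)), ((nat_lit 361), (nat_lit 1)), ((nat_lit 395), (nat_lit 1)), ((nat_lit 403), (nat_lit 1)), ((nat_lit 406), (nat_lit 1)), ((nat_lit 420), (nat_lit 3)), ((nat_lit 428), (nat_lit 3)), ((nat_lit 441), (nat_lit 3)), ((nat_lit 449), (nat_lit 3)), ((nat_lit 450), (nat_lit 3)), ((nat_lit 458), (nat_lit 1)), ((nat_lit 462), (nat_lit 3)), ((nat_lit 463), (nat_lit 3)), ((nat_lit 466), (nat_lit 1)), ((nat_lit 469), (nat_lit 1)), ((nat_lit 479), (nat_lit 1)), ((nat_lit 483), (nat_lit 3)), ((nat_lit 486), (nat_lit 3)), ((nat_lit 488), (nat_lit 3)), ((nat_lit 490), (nat_lit 1)), ((nat_lit 492), (nat_lit 3)), ((nat_lit 493), (nat_lit 1)), ((nat_lit 494), (nat_lit 1)),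 ((nat_lit 500), (nat_lit 1)), ((nat_lit 504), (nat_lit 3)), ((nat_lit 507), (nat_lit 3)), ((nat_lit 509), (nat_lit 3)), ((nat_lit 511), (nat_lit 1)), ((nat_lit 512), (nat_lit 3)), ((nat_lit 514), (nat_lit 2)), ((nat_lit 515), (nat_lit 1))]⟩,
  ⟨false, (nat_lit 0), [nat_lit 8], [nat_lit 8, nat_lit 4], [((nat_lit 248), (nat_lit 2)), ((nat_lit 294), (nat_lit 3)), ((nat_lit 296), (nat_lit 3)), ((nat_lit 353), (nat_lit 1)), ((nat_lit 357), (nat_lit 3)), ((nat_lit 359), (nat_lit 3)), ((nat_lit 362), (nat_lit 3)), ((nat_lit 378), (nat_lit 3)), ((nat_lit 380), (nat_lit 3)), ((nat_lit 383), (nat_lit 3)), ((nat_lit 384), (nat_lit 3)), ((nat_lit 416), (nat_lit 1)), ((nat_lit 422), (nat_lit 2)), ((nat_lit 425), (nat_lit 2)), ((nat_lit 426), (nat_lit 2)), ((nat_lit 437), (nat_lit 1)), ((nat_lit 443), (nat_lit 2)), ((nat_lit 446), (nat_lit 2)), ((nat_lit 447), (nat_lit 2)), ((nat_lit 458), (nat_lit 1)),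 ((nat_lit 462), (nat_lit 3)), ((nat_lit 464), (nat_lit 3)), ((nat_lit 467), (nat_lit 3)), ((nat_lit 468), (nat_lit 3)), ((nat_lit 470), (nat_lit 1)), ((nat_lit 485), (nat_lit 3)), ((nat_lit 489), (nat_lit 2)), ((nat_lit 491), (nat_lit 3)), ((nat_lit 500), (nat_lit 1)), ((nat_lit 504), (nat_lit 3)), ((nat_lit 506), (nat_lit 2)), ((nat_lit 510), (nat_lit 2)), ((nat_lit 512), (nat_lit 3)), ((nat_lit 513), (nat_lit 3)), ((nat_lit 514), (nat_lit 3)), ((nat_lit 515), (nat_lit 3)), ((nat_lit 516), (nat_lit 2))]⟩,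
  ⟨false, (nat_lit 0), [nat_lit 7], [nat_lit 7, nat_lit 2], [((nat_lit 225), (nat_lit 2)), ((nat_lit 314), (nat_lit 3)), ((nat_lit 318), (nat_lit 3)), ((nat_lit 377), (nat_lit 3)), ((nat_lit 381), (nat_lit 3)), ((nat_lit 384), (nat_lit 3)), ((nat_lit 393), (nat_lit 1)), ((nat_lit 402), (nat_lit 2)), ((nat_lit 405), (nat_lit 2)), ((nat_lit 414), (nat_lit 1)), ((nat_lit 419), (nat_lit 3)), ((nat_lit 423), (nat_lit 3)), ((nat_lit 426), (nat_lit 3)), ((nat_lit 428), (nat_lit 3)), ((nat_lit 435), (nat_lit 1)), ((nat_lit 444), (nat_lit 2)), ((nat_lit 447), (nat_lit 2)), ((nat_lit 449), (nat_lit 2)), ((nat_lit 456), (nat_lit 1)), ((nat_lit 465), (nat_lit 2)), ((nat_lit 468), (nat_lit 2)), ((nat_lit 470), (nat_lit 3)), ((nat_lit 471), (nat_lit 1)), ((nat_lit 472), (nat_lit 1)), ((nat_lit 486), (nat_lit 3)), ((nat_lit 489), (nat_lit 3)), ((nat_lit 490), (nat_lit 3)), ((nat_lit 493), (nat_lit 1)),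 ((nat_lit 494), (nat_lit 3)), ((nat_lit 498), (nat_lit 1)), ((nat_lit 503), (nat_lit 3)), ((nat_lit 507), (nat_lit 2)), ((nat_lit 510), (nat_lit 1)), ((nat_lit 511), (nat_lit 3)), ((nat_lit 512), (nat_lit 3)), ((nat_lit 513), (nat_lit 3)), ((nat_lit 514), (nat_lit 2)), ((nat_lit 515), (nat_lit 2)), ((nat_lit 516), (nat_lit 1))]⟩,
  ⟨false, (nat_lit 0), [nat_lit 7], [nat_lit 7, nat_lit 0], [((nat_lit 223), (nat_lit 2)), ((nat_lit 272), (nat_lit 3)), ((nat_lit 274), (nat_lit 3)), ((nat_lit 314), (nat_lit 3)), ((nat_lit 316), (nat_lit 3)), ((nat_lit 318), (nat_lit 3)), ((nat_lit 391), (nat_lit 1)), ((nat_lit 398), (nat_lit 3)), ((nat_lit 400), (nat_lit 3)), ((nat_lit 402), (nat_lit 3)), ((nat_lit 406), (nat_lit 3)), ((nat_lit 412), (nat_lit 1)), ((nat_lit 421), (nat_lit 3)), ((nat_lit 433), (nat_lit 1)), ((nat_lit 440), (nat_lit 3)), ((nat_lit 442), (nat_lit 3)), ((nat_lit 444), (nat_lit 3)),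 ((nat_lit 448), (nat_lit 3)), ((nat_lit 449), (nat_lit 3)), ((nat_lit 450), (nat_lit 3)), ((nat_lit 454), (nat_lit 1)), ((nat_lit 463), (nat_lit 3)), ((nat_lit 465), (nat_lit 3)), ((nat_lit 469), (nat_lit 3)), ((nat_lit 482), (nat_lit 3)), ((nat_lit 486), (nat_lit 3)), ((nat_lit 491), (nat_lit 3)), ((nat_lit 492), (nat_lit 2)), ((nat_lit 493), (nat_lit 3)), ((nat_lit 494), (nat_lit 3)), ((nat_lit 496), (nat_lit 1)), ((nat_lit 503), (nat_lit 3)), ((nat_lit 505), (nat_lit 2)), ((nat_lit 511), (nat_lit 2)), ((nat_lit 512), (nat_lit 3)), ((nat_lit 513), (nat_lit 2)), ((nat_lit 515), (nat_lit 1)), ((nat_lit 516), (nat_lit 1))]⟩,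
  ⟨false, (nat_lit 0), [nat_lit 1], [nat_lit 1, nat_lit 1], [((nat_lit 182), (nat_lit 1)), ((nat_lit 266), (nat_lit 1)), ((nat_lit 308), (nat_lit 1)), ((nat_lit 350), (nat_lit 1)), ((nat_lit 360), (nat_lit 1)), ((nat_lit 362), (nat_lit 1)), ((nat_lit 371), (nat_lit 1)), ((nat_lit 392), (nat_lit 1)), ((nat_lit 413), (nat_lit 1)), ((nat_lit 421), (nat_lit 1)), ((nat_lit 423), (nat_lit 1)), ((nat_lit 425), (nat_lit 3)), ((nat_lit 426), (nat_lit 1)), ((nat_lit 427), (nat_lit 1)), ((nat_lit 428), (nat_lit 1)), ((nat_lit 442), (nat_lit 1)), ((nat_lit 444), (nat_lit 1)), ((nat_lit 446), (nat_lit 3)), ((nat_lit 447), (nat_lit 1)), ((nat_lit 450), (nat_lit 1)), ((nat_lit 465), (nat_lit 1)), ((nat_lit 467), (nat_lit 2)), ((nat_lit 470), (nat_lit 1)), ((nat_lit 472), (nat_lit 2)), ((nat_lit 476), (nat_lit 1)), ((nat_lit 484), (nat_lit 1)), ((nat_lit 486), (nat_lit 1)), ((nat_lit 488), (nat_lit 3)),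 ((nat_lit 489), (nat_lit 1)), ((nat_lit 490), (nat_lit 1)), ((nat_lit 491), (nat_lit 1)), ((nat_lit 492), (nat_lit 1)), ((nat_lit 493), (nat_lit 3)), ((nat_lit 494), (nat_lit 1)), ((nat_lit 505), (nat_lit 1)), ((nat_lit 507), (nat_lit 1)), ((nat_lit 509), (nat_lit 2)), ((nat_lit 510), (nat_lit 1)), ((nat_lit 511), (nat_lit 1)), ((nat_lit 513), (nat_lit 2)), ((nat_lit 514), (nat_lit 2)), ((nat_lit 516), (nat_lit 3))]⟩,
  ⟨false, (nat_lit 0), [nat_lit 2], [nat_lit 1, nat_lit 0], [((nat_lit 183), (nat_lit 1)), ((nat_lit 203), (nat_lit 3)), ((nat_lit 207), (nat_lit 3)), ((nat_lit 223), (nat_lit 1)), ((nat_lit 228), (nat_lit 3)), ((nat_lit 229), (nat_lit 3)), ((nat_lit 271), (nat_lit 1)), ((nat_lit 272), (nat_lit 1)), ((nat_lit 274), (nat_lit 1)), ((nat_lit 312), (nat_lit 3)), ((nat_lit 356), (nat_lit 3)), ((nat_lit 362), (nat_lit 3)), ((nat_lit 396), (nat_lit 3)), ((nat_lit 402), (nat_lit 3)),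 ((nat_lit 425), (nat_lit 3)), ((nat_lit 438), (nat_lit 3)), ((nat_lit 444), (nat_lit 3)), ((nat_lit 459), (nat_lit 3)), ((nat_lit 461), (nat_lit 3)), ((nat_lit 463), (nat_lit 1)), ((nat_lit 465), (nat_lit 3)), ((nat_lit 471), (nat_lit 1)), ((nat_lit 472), (nat_lit 2)), ((nat_lit 480), (nat_lit 3)), ((nat_lit 486), (nat_lit 3)), ((nat_lit 490), (nat_lit 3)), ((nat_lit 493), (nat_lit 2)), ((nat_lit 494), (nat_lit 3)), ((nat_lit 507), (nat_lit 2)), ((nat_lit 511), (nat_lit 3)), ((nat_lit 512), (nat_lit 1)), ((nat_lit 514), (nat_lit 3)), ((nat_lit 515), (nat_lit 3)), ((nat_lit 516), (nat_lit 1))]⟩,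
  ⟨false, (nat_lit 0), [nat_lit 7], [nat_lit 7, nat_lit 1], [((nat_lit 224), (nat_lit 2)), ((nat_lit 272), (nat_lit 3)), ((nat_lit 274), (nat_lit 3)), ((nat_lit 356), (nat_lit 3)), ((nat_lit 358), (nat_lit 3)), ((nat_lit 362), (nat_lit 3)), ((nat_lit 392), (nat_lit 1)), ((nat_lit 400), (nat_lit 2)), ((nat_lit 404), (nat_lit 2)), ((nat_lit 413), (nat_lit 1)), ((nat_lit 419), (nat_lit 3)), ((nat_lit 421), (nat_lit 2)), ((nat_lit 425), (nat_lit 3)), ((nat_lit 428), (nat_lit 3)), ((nat_lit 434), (nat_lit 1)), ((nat_lit 442), (nat_lit 2)), ((nat_lit 446), (nat_lit 2)), ((nat_lit 449), (nat_lit 1)), ((nat_lit 455), (nat_lit 1)), ((nat_lit 463), (nat_lit 2)), ((nat_lit 467), (nat_lit 3)), ((nat_lit 470), (nat_lit 2)), ((nat_lit 482), (nat_lit 3)), ((nat_lit 484), (nat_lit 3)), ((nat_lit 488), (nat_lit 3)), ((nat_lit 491), (nat_lit 1)), ((nat_lit 492), (nat_lit 3)), ((nat_lit 493), (nat_lit 2)),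 ((nat_lit 494), (nat_lit 2)), ((nat_lit 497), (nat_lit 1)), ((nat_lit 505), (nat_lit 3)), ((nat_lit 511), (nat_lit 2)), ((nat_lit 512), (nat_lit 3)), ((nat_lit 513), (nat_lit 2)), ((nat_lit 514), (nat_lit 3)), ((nat_lit 515), (nat_lit 2)), ((nat_lit 516), (nat_lit 1))]⟩,
  ⟨false, (nat_lit 0), [nat_lit 4], [nat_lit 4, nat_lit 4], [((nat_lit 185), (nat_lit 1)), ((nat_lit 248), (nat_lit 1)), ((nat_lit 269), (nat_lit 1)), ((nat_lit 290), (nat_lit 1)), ((nat_lit 294), (nat_lit 1)), ((nat_lit 296), (nat_lit 1)), ((nat_lit 311), (nat_lit 1)), ((nat_lit 353), (nat_lit 1)), ((nat_lit 357), (nat_lit 1)), ((nat_lit 359), (nat_lit 2)), ((nat_lit 362), (nat_lit 2)), ((nat_lit 379), (nat_lit 1)), ((nat_lit 383), (nat_lit 1)), ((nat_lit 384), (nat_lit 1)), ((nat_lit 395), (nat_lit 1)), ((nat_lit 422), (nat_lit 1)), ((nat_lit 425), (nat_lit 1)), ((nat_lit 428), (nat_lit 1)), ((nat_lit 458), (nat_lit 1)),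 ((nat_lit 462), (nat_lit 1)), ((nat_lit 464), (nat_lit 1)), ((nat_lit 465), (nat_lit 1)), ((nat_lit 467), (nat_lit 2)), ((nat_lit 468), (nat_lit 1)), ((nat_lit 472), (nat_lit 2)), ((nat_lit 483), (nat_lit 1)), ((nat_lit 484), (nat_lit 1)), ((nat_lit 486), (nat_lit 1)), ((nat_lit 488), (nat_lit 3)), ((nat_lit 489), (nat_lit 2)), ((nat_lit 491), (nat_lit 1)), ((nat_lit 505), (nat_lit 1)), ((nat_lit 510), (nat_lit 1)), ((nat_lit 511), (nat_lit 1)), ((nat_lit 512), (nat_lit 3)), ((nat_lit 515), (nat_lit 1)), ((nat_lit 516), (nat_lit 1))]⟩,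
  ⟨false, (nat_lit 0), [nat_lit 12], [nat_lit 4, nat_lit 1], [((nat_lit 336), (nat_lit 3)), ((nat_lit 353), (nat_lit 3)), ((nat_lit 357), (nat_lit 3)), ((nat_lit 374), (nat_lit 3)), ((nat_lit 378), (nat_lit 3)), ((nat_lit 392), (nat_lit 1)), ((nat_lit 395), (nat_lit 3)), ((nat_lit 404), (nat_lit 3)), ((nat_lit 405), (nat_lit 3)), ((nat_lit 425), (nat_lit 3)), ((nat_lit 426), (nat_lit 3)), ((nat_lit 437), (nat_lit 3)), ((nat_lit 446), (nat_lit 3)), ((nat_lit 447), (nat_lit 3)), ((nat_lit 449), (nat_lit 1)), ((nat_lit 450), (nat_lit 3)), ((nat_lit 455), (nat_lit 1)), ((nat_lit 458), (nat_lit 3)), ((nat_lit 462), (nat_lit 3)), ((nat_lit 466), (nat_lit 1)), ((nat_lit 468), (nat_lit 1)), ((nat_lit 469), (nat_lit 1)), ((nat_lit 471), (nat_lit 1)), ((nat_lit 476), (nat_lit 1)), ((nat_lit 483), (nat_lit 3)), ((nat_lit 487), (nat_lit 1)), ((nat_lit 489), (nat_lit 3)), ((nat_lit 490), (nat_lit 1)),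 ((nat_lit 491), (nat_lit 1)), ((nat_lit 494), (nat_lit 3)), ((nat_lit 497), (nat_lit 1)), ((nat_lit 509), (nat_lit 2)), ((nat_lit 510), (nat_lit 2)), ((nat_lit 513), (nat_lit 2)), ((nat_lit 514), (nat_lit 2)), ((nat_lit 515), (nat_lit 2)), ((nat_lit 516), (nat_lit 1))]⟩,
  ⟨false, (nat_lit 0), [nat_lit 7], [nat_lit 3, nat_lit 3], [((nat_lit 226), (nat_lit 2)), ((nat_lit 228), (nat_lit 3)), ((nat_lit 229), (nat_lit 3)), ((nat_lit 251), (nat_lit 1)), ((nat_lit 331), (nat_lit 1)), ((nat_lit 340), (nat_lit 1)), ((nat_lit 355), (nat_lit 3)), ((nat_lit 357), (nat_lit 3)), ((nat_lit 361), (nat_lit 2)), ((nat_lit 399), (nat_lit 3)), ((nat_lit 403), (nat_lit 2)), ((nat_lit 404), (nat_lit 3)), ((nat_lit 418), (nat_lit 3)), ((nat_lit 419), (nat_lit 1)), ((nat_lit 420), (nat_lit 3)), ((nat_lit 441), (nat_lit 3)), ((nat_lit 445), (nat_lit 2)), ((nat_lit 446), (nat_lit 3)), ((nat_lit 449), (nat_lit 3)),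 ((nat_lit 460), (nat_lit 3)), ((nat_lit 466), (nat_lit 2)), ((nat_lit 467), (nat_lit 3)), ((nat_lit 470), (nat_lit 2)), ((nat_lit 471), (nat_lit 3)), ((nat_lit 472), (nat_lit 3)), ((nat_lit 482), (nat_lit 1)), ((nat_lit 483), (nat_lit 3)), ((nat_lit 487), (nat_lit 1)), ((nat_lit 488), (nat_lit 3)), ((nat_lit 490), (nat_lit 1)), ((nat_lit 491), (nat_lit 3)), ((nat_lit 492), (nat_lit 1)), ((nat_lit 511), (nat_lit 1)), ((nat_lit 512), (nat_lit 2)), ((nat_lit 514), (nat_lit 3)), ((nat_lit 515), (nat_lit 1))]⟩,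
  ⟨false, (nat_lit 0), [nat_lit 1], [nat_lit 0, nat_lit 0], [((nat_lit 97), (nat_lit 2)), ((nat_lit 181), (nat_lit 1)), ((nat_lit 186), (nat_lit 1)), ((nat_lit 266), (nat_lit 1)), ((nat_lit 270), (nat_lit 2)), ((nat_lit 308), (nat_lit 1)), ((nat_lit 312), (nat_lit 2)), ((nat_lit 350), (nat_lit 1)), ((nat_lit 354), (nat_lit 2)), ((nat_lit 360), (nat_lit 1)), ((nat_lit 362), (nat_lit 1)), ((nat_lit 371), (nat_lit 1)), ((nat_lit 375), (nat_lit 2)), ((nat_lit 392), (nat_lit 1)), ((nat_lit 396), (nat_lit 2)), ((nat_lit 417), (nat_lit 2)), ((nat_lit 428), (nat_lit 1)), ((nat_lit 434), (nat_lit 1)), ((nat_lit 448), (nat_lit 1)), ((nat_lit 449), (nat_lit 1)), ((nat_lit 450), (nat_lit 1)), ((nat_lit 455), (nat_lit 1)), ((nat_lit 459), (nat_lit 1)), ((nat_lit 463), (nat_lit 1)), ((nat_lit 465), (nat_lit 2)), ((nat_lit 467), (nat_lit 3)), ((nat_lit 468), (nat_lit 1)), ((nat_lit 469), (nat_lit 1)),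 ((nat_lit 470), (nat_lit 2)), ((nat_lit 471), (nat_lit 2)), ((nat_lit 472), (nat_lit 3)), ((nat_lit 480), (nat_lit 2)), ((nat_lit 486), (nat_lit 2)), ((nat_lit 490), (nat_lit 2)), ((nat_lit 491), (nat_lit 1)), ((nat_lit 492), (nat_lit 2)), ((nat_lit 493), (nat_lit 3)), ((nat_lit 494), (nat_lit 1)), ((nat_lit 497), (nat_lit 1)), ((nat_lit 509), (nat_lit 1)), ((nat_lit 510), (nat_lit 2)), ((nat_lit 512), (nat_lit 2)), ((nat_lit 514), (nat_lit 3)), ((nat_lit 515), (nat_lit 2)), ((nat_lit 516), (nat_lit 2))]⟩,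
  ⟨false, (nat_lit 0), [nat_lit 7], [nat_lit 2, nat_lit 2], [((nat_lit 225), (nat_lit 2)), ((nat_lit 229), (nat_lit 3)), ((nat_lit 293), (nat_lit 1)), ((nat_lit 309), (nat_lit 1)), ((nat_lit 318), (nat_lit 1)), ((nat_lit 335), (nat_lit 1)), ((nat_lit 339), (nat_lit 2)), ((nat_lit 372), (nat_lit 1)), ((nat_lit 381), (nat_lit 1)), ((nat_lit 384), (nat_lit 1)), ((nat_lit 398), (nat_lit 1)), ((nat_lit 401), (nat_lit 3)), ((nat_lit 402), (nat_lit 2)), ((nat_lit 403), (nat_lit 3)), ((nat_lit 405), (nat_lit 1)), ((nat_lit 414), (nat_lit 1)), ((nat_lit 423), (nat_lit 1)), ((nat_lit 424), (nat_lit 1)), ((nat_lit 426), (nat_lit 1)), ((nat_lit 427), (nat_lit 1)), ((nat_lit 428), (nat_lit 2)), ((nat_lit 440), (nat_lit 1)), ((nat_lit 443), (nat_lit 3)), ((nat_lit 461), (nat_lit 1)), ((nat_lit 464), (nat_lit 3)), ((nat_lit 482), (nat_lit 1)), ((nat_lit 485), (nat_lit 3)), ((nat_lit 487), (nat_lit 1)),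 ((nat_lit 489), (nat_lit 1)), ((nat_lit 490), (nat_lit 2)), ((nat_lit 491), (nat_lit 1)), ((nat_lit 494), (nat_lit 2)), ((nat_lit 498), (nat_lit 1)), ((nat_lit 506), (nat_lit 3)), ((nat_lit 507), (nat_lit 2)), ((nat_lit 508), (nat_lit 1)), ((nat_lit 510), (nat_lit 1)), ((nat_lit 511), (nat_lit 2)), ((nat_lit 513), (nat_lit 2)), ((nat_lit 514), (nat_lit 3))]⟩,
  ⟨false, (nat_lit 0), [nat_lit 7], [nat_lit 7, nat_lit 4], [((nat_lit 227), (nat_lit 2)), ((nat_lit 314), (nat_lit 3)), ((nat_lit 318), (nat_lit 3)), ((nat_lit 335), (nat_lit 3)), ((nat_lit 339), (nat_lit 3)), ((nat_lit 340), (nat_lit 3)), ((nat_lit 356), (nat_lit 3)), ((nat_lit 360), (nat_lit 3)), ((nat_lit 361), (nat_lit 3)), ((nat_lit 362), (nat_lit 3)), ((nat_lit 395), (nat_lit 1)), ((nat_lit 398), (nat_lit 3)), ((nat_lit 402), (nat_lit 3)), ((nat_lit 403), (nat_lit 3)), ((nat_lit 404), (nat_lit 3)), ((nat_lit 406), (nat_lit 3)),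 ((nat_lit 416), (nat_lit 1)), ((nat_lit 419), (nat_lit 3)), ((nat_lit 423), (nat_lit 3)), ((nat_lit 424), (nat_lit 3)), ((nat_lit 425), (nat_lit 3)), ((nat_lit 427), (nat_lit 3)), ((nat_lit 428), (nat_lit 3)), ((nat_lit 437), (nat_lit 1)), ((nat_lit 440), (nat_lit 3)), ((nat_lit 444), (nat_lit 3)), ((nat_lit 445), (nat_lit 3)), ((nat_lit 446), (nat_lit 3)), ((nat_lit 448), (nat_lit 3)), ((nat_lit 449), (nat_lit 3)), ((nat_lit 450), (nat_lit 3)), ((nat_lit 458), (nat_lit 1)), ((nat_lit 465), (nat_lit 3)), ((nat_lit 466), (nat_lit 3)), ((nat_lit 467), (nat_lit 3)), ((nat_lit 471), (nat_lit 1)), ((nat_lit 487), (nat_lit 3)), ((nat_lit 488), (nat_lit 3)), ((nat_lit 490), (nat_lit 3)), ((nat_lit 491), (nat_lit 3)), ((nat_lit 492), (nat_lit 3)), ((nat_lit 493), (nat_lit 1)), ((nat_lit 494), (nat_lit 3)), ((nat_lit 500), (nat_lit 1)), ((nat_lit 507), (nat_lit 3)), ((nat_lit 508), (nat_lit 2)),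 ((nat_lit 509), (nat_lit 1)), ((nat_lit 511), (nat_lit 2)), ((nat_lit 512), (nat_lit 2)), ((nat_lit 515), (nat_lit 3)), ((nat_lit 516), (nat_lit 3))]⟩,
  ⟨false, (nat_lit 0), [nat_lit 3], [nat_lit 3, nat_lit 1], [((nat_lit 140), (nat_lit 2)), ((nat_lit 182), (nat_lit 1)), ((nat_lit 203), (nat_lit 1)), ((nat_lit 245), (nat_lit 1)), ((nat_lit 247), (nat_lit 3)), ((nat_lit 252), (nat_lit 3)), ((nat_lit 294), (nat_lit 3)), ((nat_lit 317), (nat_lit 1)), ((nat_lit 357), (nat_lit 3)), ((nat_lit 359), (nat_lit 3)), ((nat_lit 360), (nat_lit 3)), ((nat_lit 378), (nat_lit 3)), ((nat_lit 413), (nat_lit 1)), ((nat_lit 418), (nat_lit 1)), ((nat_lit 422), (nat_lit 1)), ((nat_lit 423), (nat_lit 1)), ((nat_lit 425), (nat_lit 1)), ((nat_lit 426), (nat_lit 1)), ((nat_lit 439), (nat_lit 1)), ((nat_lit 446), (nat_lit 1)), ((nat_lit 462), (nat_lit 3)), ((nat_lit 465), (nat_lit 3)), ((nat_lit 468), (nat_lit 3)),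 ((nat_lit 470), (nat_lit 1)), ((nat_lit 476), (nat_lit 1)), ((nat_lit 481), (nat_lit 1)), ((nat_lit 483), (nat_lit 3)), ((nat_lit 488), (nat_lit 3)), ((nat_lit 491), (nat_lit 2)), ((nat_lit 493), (nat_lit 1)), ((nat_lit 494), (nat_lit 1)), ((nat_lit 502), (nat_lit 1)), ((nat_lit 507), (nat_lit 3)), ((nat_lit 514), (nat_lit 3))]⟩,
  ⟨false, (nat_lit 0), [nat_lit 5], [nat_lit 2, nat_lit 2], [((nat_lit 183), (nat_lit 2)), ((nat_lit 207), (nat_lit 1)), ((nat_lit 267), (nat_lit 1)), ((nat_lit 274), (nat_lit 1)), ((nat_lit 291), (nat_lit 1)), ((nat_lit 295), (nat_lit 2)), ((nat_lit 333), (nat_lit 1)), ((nat_lit 337), (nat_lit 2)), ((nat_lit 358), (nat_lit 2)), ((nat_lit 359), (nat_lit 1)), ((nat_lit 361), (nat_lit 1)), ((nat_lit 362), (nat_lit 1)), ((nat_lit 396), (nat_lit 1)), ((nat_lit 400), (nat_lit 2)), ((nat_lit 404), (nat_lit 1)), ((nat_lit 422), (nat_lit 1)), ((nat_lit 424), (nat_lit 1)),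 ((nat_lit 428), (nat_lit 1)), ((nat_lit 438), (nat_lit 1)), ((nat_lit 448), (nat_lit 1)), ((nat_lit 450), (nat_lit 1)), ((nat_lit 459), (nat_lit 1)), ((nat_lit 463), (nat_lit 1)), ((nat_lit 464), (nat_lit 1)), ((nat_lit 466), (nat_lit 1)), ((nat_lit 467), (nat_lit 2)), ((nat_lit 469), (nat_lit 2)), ((nat_lit 470), (nat_lit 1)), ((nat_lit 471), (nat_lit 2)), ((nat_lit 472), (nat_lit 3)), ((nat_lit 480), (nat_lit 1)), ((nat_lit 484), (nat_lit 2)), ((nat_lit 485), (nat_lit 1)), ((nat_lit 487), (nat_lit 3)), ((nat_lit 488), (nat_lit 3)), ((nat_lit 490), (nat_lit 3)), ((nat_lit 491), (nat_lit 1)), ((nat_lit 492), (nat_lit 1)), ((nat_lit 493), (nat_lit 1)), ((nat_lit 505), (nat_lit 1)), ((nat_lit 508), (nat_lit 3)), ((nat_lit 509), (nat_lit 2)), ((nat_lit 511), (nat_lit 1)), ((nat_lit 512), (nat_lit 2)), ((nat_lit 513), (nat_lit 2)), ((nat_lit 515), (nat_lit 3)), ((nat_lit 516), (nat_lit 3))]⟩,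
  ⟨false, (nat_lit 0), [nat_lit 2], [nat_lit 0, nat_lit 0], [((nat_lit 118), (nat_lit 2)), ((nat_lit 202), (nat_lit 1)), ((nat_lit 208), (nat_lit 1)), ((nat_lit 267), (nat_lit 1)), ((nat_lit 271), (nat_lit 2)), ((nat_lit 309), (nat_lit 1)), ((nat_lit 313), (nat_lit 2)), ((nat_lit 351), (nat_lit 1)), ((nat_lit 360), (nat_lit 1)), ((nat_lit 362), (nat_lit 1)), ((nat_lit 372), (nat_lit 1)), ((nat_lit 376), (nat_lit 2)), ((nat_lit 383), (nat_lit 1)), ((nat_lit 393), (nat_lit 1)), ((nat_lit 404), (nat_lit 1)), ((nat_lit 405), (nat_lit 1)), ((nat_lit 406), (nat_lit 1)), ((nat_lit 418), (nat_lit 1)), ((nat_lit 421), (nat_lit 1)), ((nat_lit 423), (nat_lit 1)), ((nat_lit 425), (nat_lit 1)), ((nat_lit 426), (nat_lit 2)), ((nat_lit 427), (nat_lit 1)), ((nat_lit 428), (nat_lit 3)), ((nat_lit 435), (nat_lit 1)), ((nat_lit 444), (nat_lit 1)), ((nat_lit 446), (nat_lit 1)), ((nat_lit 447), (nat_lit 1)),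 ((nat_lit 448), (nat_lit 2)), ((nat_lit 449), (nat_lit 2)), ((nat_lit 450), (nat_lit 1)), ((nat_lit 456), (nat_lit 1)), ((nat_lit 460), (nat_lit 1)), ((nat_lit 465), (nat_lit 1)), ((nat_lit 467), (nat_lit 1)), ((nat_lit 468), (nat_lit 3)), ((nat_lit 469), (nat_lit 2)), ((nat_lit 470), (nat_lit 3)), ((nat_lit 472), (nat_lit 3)), ((nat_lit 481), (nat_lit 1)), ((nat_lit 486), (nat_lit 2)), ((nat_lit 489), (nat_lit 2)), ((nat_lit 490), (nat_lit 1)), ((nat_lit 491), (nat_lit 1)), ((nat_lit 492), (nat_lit 1)), ((nat_lit 493), (nat_lit 2)), ((nat_lit 494), (nat_lit 2)), ((nat_lit 498), (nat_lit 1)), ((nat_lit 502), (nat_lit 2)), ((nat_lit 505), (nat_lit 1)), ((nat_lit 507), (nat_lit 1)), ((nat_lit 511), (nat_lit 1)), ((nat_lit 512), (nat_lit 1)), ((nat_lit 513), (nat_lit 1)), ((nat_lit 514), (nat_lit 2)), ((nat_lit 515), (nat_lit 3)), ((nat_lit 516), (nat_lit 1))]⟩,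
  ⟨false, (nat_lit 0), [nat_lit 8], [nat_lit 0, nat_lit 0], [((nat_lit 244), (nat_lit 2)), ((nat_lit 273), (nat_lit 1)), ((nat_lit 286), (nat_lit 1)), ((nat_lit 296), (nat_lit 1)), ((nat_lit 307), (nat_lit 1)), ((nat_lit 315), (nat_lit 1)), ((nat_lit 317), (nat_lit 1)), ((nat_lit 318), (nat_lit 1)), ((nat_lit 357), (nat_lit 1)), ((nat_lit 359), (nat_lit 2)), ((nat_lit 360), (nat_lit 1)), ((nat_lit 362), (nat_lit 1)), ((nat_lit 370), (nat_lit 1)), ((nat_lit 378), (nat_lit 1)), ((nat_lit 380), (nat_lit 1)), ((nat_lit 381), (nat_lit 1)), ((nat_lit 384), (nat_lit 1)), ((nat_lit 391), (nat_lit 1)), ((nat_lit 399), (nat_lit 1)), ((nat_lit 401), (nat_lit 1)), ((nat_lit 402), (nat_lit 1)), ((nat_lit 405), (nat_lit 1)), ((nat_lit 406), (nat_lit 1)), ((nat_lit 427), (nat_lit 1)), ((nat_lit 428), (nat_lit 1)), ((nat_lit 441), (nat_lit 1)), ((nat_lit 444), (nat_lit 2)), ((nat_lit 446), (nat_lit 2)),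 ((nat_lit 447), (nat_lit 2)), ((nat_lit 448), (nat_lit 2)), ((nat_lit 449), (nat_lit 2)), ((nat_lit 450), (nat_lit 1)), ((nat_lit 462), (nat_lit 1)), ((nat_lit 465), (nat_lit 2)), ((nat_lit 467), (nat_lit 1)), ((nat_lit 471), (nat_lit 1)), ((nat_lit 472), (nat_lit 3)), ((nat_lit 475), (nat_lit 1)), ((nat_lit 485), (nat_lit 1)), ((nat_lit 486), (nat_lit 1)), ((nat_lit 489), (nat_lit 2)), ((nat_lit 490), (nat_lit 2)), ((nat_lit 491), (nat_lit 1)), ((nat_lit 492), (nat_lit 2)), ((nat_lit 493), (nat_lit 3)), ((nat_lit 494), (nat_lit 1)), ((nat_lit 504), (nat_lit 1)), ((nat_lit 507), (nat_lit 2)), ((nat_lit 510), (nat_lit 1)), ((nat_lit 511), (nat_lit 1)), ((nat_lit 514), (nat_lit 3)), ((nat_lit 516), (nat_lit 2))]⟩,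
  ⟨false, (nat_lit 0), [nat_lit 7], [nat_lit 3, nat_lit 1], [((nat_lit 251), (nat_lit 1)), ((nat_lit 268), (nat_lit 3)), ((nat_lit 273), (nat_lit 3)), ((nat_lit 329), (nat_lit 1)), ((nat_lit 336), (nat_lit 3)), ((nat_lit 337), (nat_lit 3)), ((nat_lit 352), (nat_lit 3)), ((nat_lit 357), (nat_lit 3)), ((nat_lit 358), (nat_lit 1)), ((nat_lit 362), (nat_lit 1)), ((nat_lit 378), (nat_lit 3)), ((nat_lit 383), (nat_lit 3)), ((nat_lit 400), (nat_lit 1)), ((nat_lit 403), (nat_lit 1)), ((nat_lit 404), (nat_lit 2)), ((nat_lit 405), (nat_lit 1)), ((nat_lit 406), (nat_lit 1)), ((nat_lit 415), (nat_lit 3)), ((nat_lit 420), (nat_lit 3)), ((nat_lit 421), (nat_lit 1)), ((nat_lit 426), (nat_lit 3)), ((nat_lit 442), (nat_lit 1)), ((nat_lit 446), (nat_lit 2)), ((nat_lit 447), (nat_lit 1)), ((nat_lit 448), (nat_lit 1)), ((nat_lit 462), (nat_lit 3)), ((nat_lit 463), (nat_lit 1)), ((nat_lit 468), (nat_lit 3)),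 ((nat_lit 469), (nat_lit 1)), ((nat_lit 470), (nat_lit 3)), ((nat_lit 472), (nat_lit 3)), ((nat_lit 478), (nat_lit 3)), ((nat_lit 488), (nat_lit 1)), ((nat_lit 489), (nat_lit 3)), ((nat_lit 491), (nat_lit 1)), ((nat_lit 492), (nat_lit 1)), ((nat_lit 493), (nat_lit 1)), ((nat_lit 494), (nat_lit 3)), ((nat_lit 504), (nat_lit 3)), ((nat_lit 508), (nat_lit 3)), ((nat_lit 510), (nat_lit 3)), ((nat_lit 511), (nat_lit 2)), ((nat_lit 512), (nat_lit 2)), ((nat_lit 513), (nat_lit 1)), ((nat_lit 515), (nat_lit 1))]⟩,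
  ⟨false, (nat_lit 0), [nat_lit 8], [nat_lit 8, nat_lit 0], [((nat_lit 244), (nat_lit 2)), ((nat_lit 294), (nat_lit 3)), ((nat_lit 296), (nat_lit 3)), ((nat_lit 315), (nat_lit 3)), ((nat_lit 317), (nat_lit 3)), ((nat_lit 318), (nat_lit 3)), ((nat_lit 349), (nat_lit 1)), ((nat_lit 359), (nat_lit 2)), ((nat_lit 360), (nat_lit 2)), ((nat_lit 378), (nat_lit 3)), ((nat_lit 380), (nat_lit 3)), ((nat_lit 381), (nat_lit 3)), ((nat_lit 384), (nat_lit 3)), ((nat_lit 399), (nat_lit 3)), ((nat_lit 401), (nat_lit 3)), ((nat_lit 402), (nat_lit 3)), ((nat_lit 405), (nat_lit 3)), ((nat_lit 406), (nat_lit 3)), ((nat_lit 412), (nat_lit 1)), ((nat_lit 422), (nat_lit 2)), ((nat_lit 423), (nat_lit 2)), ((nat_lit 426), (nat_lit 2)), ((nat_lit 427), (nat_lit 2)), ((nat_lit 433), (nat_lit 1)), ((nat_lit 443), (nat_lit 2)), ((nat_lit 444), (nat_lit 2)), ((nat_lit 447), (nat_lit 2)), ((nat_lit 448), (nat_lit 2)),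 ((nat_lit 454), (nat_lit 1)), ((nat_lit 464), (nat_lit 2)), ((nat_lit 465), (nat_lit 2)), ((nat_lit 468), (nat_lit 3)), ((nat_lit 469), (nat_lit 3)), ((nat_lit 470), (nat_lit 1)), ((nat_lit 471), (nat_lit 1)), ((nat_lit 483), (nat_lit 3)), ((nat_lit 485), (nat_lit 3)), ((nat_lit 486), (nat_lit 2)), ((nat_lit 488), (nat_lit 3)), ((nat_lit 489), (nat_lit 2)), ((nat_lit 490), (nat_lit 1)), ((nat_lit 492), (nat_lit 3)), ((nat_lit 493), (nat_lit 3)), ((nat_lit 494), (nat_lit 2)), ((nat_lit 496), (nat_lit 1)), ((nat_lit 506), (nat_lit 2)), ((nat_lit 507), (nat_lit 3)), ((nat_lit 509), (nat_lit 2)), ((nat_lit 510), (nat_lit 3)), ((nat_lit 511), (nat_lit 3)), ((nat_lit 512), (nat_lit 2)), ((nat_lit 513), (nat_lit 3)), ((nat_lit 514), (nat_lit 3)), ((nat_lit 515), (nat_lit 1)), ((nat_lit 516), (nat_lit 3))]⟩,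
  ⟨false, (nat_lit 0), [nat_lit 2], [nat_lit 1, nat_lit 1], [((nat_lit 119), (nat_lit 2)), ((nat_lit 183), (nat_lit 1)), ((nat_lit 224), (nat_lit 1)), ((nat_lit 230), (nat_lit 1)), ((nat_lit 267), (nat_lit 1)), ((nat_lit 274), (nat_lit 1)), ((nat_lit 309), (nat_lit 1)), ((nat_lit 314), (nat_lit 2)), ((nat_lit 316), (nat_lit 1)), ((nat_lit 351), (nat_lit 1)), ((nat_lit 360), (nat_lit 1)), ((nat_lit 362), (nat_lit 1)), ((nat_lit 372), (nat_lit 1)), ((nat_lit 377), (nat_lit 2)), ((nat_lit 379), (nat_lit 1)), ((nat_lit 383), (nat_lit 1)), ((nat_lit 393), (nat_lit 1)), ((nat_lit 400), (nat_lit 1)), ((nat_lit 402), (nat_lit 1)), ((nat_lit 404), (nat_lit 2)), ((nat_lit 405), (nat_lit 2)), ((nat_lit 406), (nat_lit 1)), ((nat_lit 414), (nat_lit 1)), ((nat_lit 419), (nat_lit 2)), ((nat_lit 423), (nat_lit 1)), ((nat_lit 426), (nat_lit 2)), ((nat_lit 428), (nat_lit 2)), ((nat_lit 440), (nat_lit 2)),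 ((nat_lit 444), (nat_lit 2)), ((nat_lit 446), (nat_lit 1)), ((nat_lit 447), (nat_lit 2)), ((nat_lit 448), (nat_lit 2)), ((nat_lit 450), (nat_lit 1)), ((nat_lit 463), (nat_lit 1)), ((nat_lit 465), (nat_lit 2)), ((nat_lit 467), (nat_lit 1)), ((nat_lit 468), (nat_lit 3)), ((nat_lit 469), (nat_lit 3)), ((nat_lit 470), (nat_lit 3)), ((nat_lit 471), (nat_lit 1)), ((nat_lit 472), (nat_lit 2)), ((nat_lit 477), (nat_lit 1)), ((nat_lit 482), (nat_lit 1)), ((nat_lit 484), (nat_lit 1)), ((nat_lit 489), (nat_lit 2)), ((nat_lit 490), (nat_lit 1)), ((nat_lit 491), (nat_lit 1)), ((nat_lit 492), (nat_lit 2)), ((nat_lit 493), (nat_lit 2)), ((nat_lit 494), (nat_lit 1)), ((nat_lit 505), (nat_lit 1)), ((nat_lit 507), (nat_lit 1)), ((nat_lit 509), (nat_lit 1)), ((nat_lit 510), (nat_lit 2)), ((nat_lit 511), (nat_lit 2)), ((nat_lit 512), (nat_lit 1)), ((nat_lit 513), (nat_lit 3)), ((nat_lit 515), (nat_lit 1))]⟩,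
  ⟨false, (nat_lit 0), [nat_lit 5], [nat_lit 4, nat_lit 4], [((nat_lit 185), (nat_lit 2)), ((nat_lit 249), (nat_lit 1)), ((nat_lit 270), (nat_lit 1)), ((nat_lit 290), (nat_lit 1)), ((nat_lit 291), (nat_lit 1)), ((nat_lit 296), (nat_lit 1)), ((nat_lit 312), (nat_lit 1)), ((nat_lit 317), (nat_lit 2)), ((nat_lit 353), (nat_lit 1)), ((nat_lit 354), (nat_lit 1)), ((nat_lit 358), (nat_lit 1)), ((nat_lit 359), (nat_lit 2)), ((nat_lit 360), (nat_lit 1)), ((nat_lit 362), (nat_lit 2)), ((nat_lit 396), (nat_lit 1)), ((nat_lit 401), (nat_lit 2)), ((nat_lit 404), (nat_lit 3)), ((nat_lit 421), (nat_lit 1)), ((nat_lit 422), (nat_lit 3)), ((nat_lit 423), (nat_lit 1)), ((nat_lit 425), (nat_lit 3)), ((nat_lit 427), (nat_lit 1)), ((nat_lit 428), (nat_lit 1)), ((nat_lit 458), (nat_lit 1)), ((nat_lit 459), (nat_lit 1)), ((nat_lit 463), (nat_lit 3)), ((nat_lit 465), (nat_lit 3)), ((nat_lit 467), (nat_lit 1)),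 ((nat_lit 469), (nat_lit 3)), ((nat_lit 470), (nat_lit 2)), ((nat_lit 472), (nat_lit 3)), ((nat_lit 479), (nat_lit 1)), ((nat_lit 485), (nat_lit 2)), ((nat_lit 486), (nat_lit 2)), ((nat_lit 488), (nat_lit 2)), ((nat_lit 490), (nat_lit 1)), ((nat_lit 491), (nat_lit 2)), ((nat_lit 494), (nat_lit 1)), ((nat_lit 505), (nat_lit 3)), ((nat_lit 506), (nat_lit 2)), ((nat_lit 509), (nat_lit 1)), ((nat_lit 511), (nat_lit 1)), ((nat_lit 512), (nat_lit 3)), ((nat_lit 515), (nat_lit 2))]⟩,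
  ⟨false, (nat_lit 0), [nat_lit 2], [nat_lit 2, nat_lit 1], [((nat_lit 119), (nat_lit 2)), ((nat_lit 203), (nat_lit 1)), ((nat_lit 225), (nat_lit 3)), ((nat_lit 230), (nat_lit 3)), ((nat_lit 287), (nat_lit 1)), ((nat_lit 293), (nat_lit 2)), ((nat_lit 314), (nat_lit 3)), ((nat_lit 317), (nat_lit 1)), ((nat_lit 329), (nat_lit 1)), ((nat_lit 335), (nat_lit 2)), ((nat_lit 339), (nat_lit 3)), ((nat_lit 361), (nat_lit 1)), ((nat_lit 362), (nat_lit 1)), ((nat_lit 377), (nat_lit 3)), ((nat_lit 392), (nat_lit 1)), ((nat_lit 398), (nat_lit 2)), ((nat_lit 401), (nat_lit 3)), ((nat_lit 402), (nat_lit 2)), ((nat_lit 403), (nat_lit 3)), ((nat_lit 405), (nat_lit 2)), ((nat_lit 422), (nat_lit 3)), ((nat_lit 423), (nat_lit 3)), ((nat_lit 425), (nat_lit 1)), ((nat_lit 427), (nat_lit 1)), ((nat_lit 428), (nat_lit 3)), ((nat_lit 434), (nat_lit 1)), ((nat_lit 440), (nat_lit 3)), ((nat_lit 443), (nat_lit 3)),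 ((nat_lit 445), (nat_lit 3)), ((nat_lit 450), (nat_lit 3)), ((nat_lit 455), (nat_lit 1)), ((nat_lit 461), (nat_lit 3)), ((nat_lit 464), (nat_lit 3)), ((nat_lit 467), (nat_lit 1)), ((nat_lit 468), (nat_lit 1)), ((nat_lit 470), (nat_lit 3)), ((nat_lit 476), (nat_lit 1)), ((nat_lit 482), (nat_lit 3)), ((nat_lit 487), (nat_lit 3)), ((nat_lit 490), (nat_lit 3)), ((nat_lit 491), (nat_lit 3)), ((nat_lit 492), (nat_lit 2)), ((nat_lit 493), (nat_lit 3)), ((nat_lit 494), (nat_lit 1)), ((nat_lit 503), (nat_lit 3)), ((nat_lit 506), (nat_lit 3)), ((nat_lit 507), (nat_lit 3)), ((nat_lit 509), (nat_lit 1)), ((nat_lit 511), (nat_lit 2)), ((nat_lit 512), (nat_lit 1)), ((nat_lit 513), (nat_lit 1)), ((nat_lit 514), (nat_lit 1)), ((nat_lit 516), (nat_lit 2))]⟩,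
  ⟨false, (nat_lit 0), [nat_lit 8], [nat_lit 8, nat_lit 2], [((nat_lit 246), (nat_lit 2)), ((nat_lit 273), (nat_lit 3)), ((nat_lit 274), (nat_lit 3)), ((nat_lit 336), (nat_lit 3)), ((nat_lit 337), (nat_lit 3)), ((nat_lit 340), (nat_lit 3)), ((nat_lit 351), (nat_lit 1)), ((nat_lit 357), (nat_lit 3)), ((nat_lit 358), (nat_lit 3)), ((nat_lit 361), (nat_lit 3)), ((nat_lit 362), (nat_lit 3)), ((nat_lit 378), (nat_lit 3)), ((nat_lit 379), (nat_lit 3)), ((nat_lit 382), (nat_lit 3)), ((nat_lit 383), (nat_lit 3)), ((nat_lit 384), (nat_lit 3)), ((nat_lit 399), (nat_lit 3)), ((nat_lit 400), (nat_lit 3)), ((nat_lit 403), (nat_lit 3)), ((nat_lit 404), (nat_lit 3)), ((nat_lit 405), (nat_lit 3)), ((nat_lit 406), (nat_lit 3)), ((nat_lit 414), (nat_lit 1)), ((nat_lit 420), (nat_lit 3)), ((nat_lit 421), (nat_lit 2)), ((nat_lit 424), (nat_lit 2)), ((nat_lit 425), (nat_lit 3)), ((nat_lit 426), (nat_lit 3)),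 ((nat_lit 427), (nat_lit 3)), ((nat_lit 428), (nat_lit 3)), ((nat_lit 435), (nat_lit 1)), ((nat_lit 441), (nat_lit 3)), ((nat_lit 442), (nat_lit 3)), ((nat_lit 446), (nat_lit 3)), ((nat_lit 447), (nat_lit 3)), ((nat_lit 448), (nat_lit 3)), ((nat_lit 449), (nat_lit 3)), ((nat_lit 450), (nat_lit 2)), ((nat_lit 456), (nat_lit 1)), ((nat_lit 462), (nat_lit 3)), ((nat_lit 463), (nat_lit 3)), ((nat_lit 466), (nat_lit 3)), ((nat_lit 467), (nat_lit 3)), ((nat_lit 468), (nat_lit 2)), ((nat_lit 469), (nat_lit 2)), ((nat_lit 470), (nat_lit 1)), ((nat_lit 471), (nat_lit 1)), ((nat_lit 472), (nat_lit 2)), ((nat_lit 483), (nat_lit 3)), ((nat_lit 484), (nat_lit 3)), ((nat_lit 488), (nat_lit 2)), ((nat_lit 489), (nat_lit 3)), ((nat_lit 490), (nat_lit 2)), ((nat_lit 491), (nat_lit 2)), ((nat_lit 492), (nat_lit 3)), ((nat_lit 494), (nat_lit 1)), ((nat_lit 498), (nat_lit 1)), ((nat_lit 505), (nat_lit 3)),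 ((nat_lit 508), (nat_lit 2)), ((nat_lit 509), (nat_lit 3)), ((nat_lit 510), (nat_lit 2)), ((nat_lit 511), (nat_lit 2)), ((nat_lit 512), (nat_lit 2)), ((nat_lit 513), (nat_lit 1)), ((nat_lit 514), (nat_lit 2)), ((nat_lit 515), (nat_lit 3)), ((nat_lit 516), (nat_lit 2))]⟩,
  ⟨false, (nat_lit 0), [nat_lit 5], [nat_lit 3, nat_lit 2], [((nat_lit 228), (nat_lit 1)), ((nat_lit 268), (nat_lit 3)), ((nat_lit 272), (nat_lit 3)), ((nat_lit 288), (nat_lit 1)), ((nat_lit 293), (nat_lit 3)), ((nat_lit 295), (nat_lit 3)), ((nat_lit 312), (nat_lit 1)), ((nat_lit 316), (nat_lit 1)), ((nat_lit 317), (nat_lit 1)), ((nat_lit 333), (nat_lit 1)), ((nat_lit 337), (nat_lit 1)), ((nat_lit 338), (nat_lit 1)), ((nat_lit 354), (nat_lit 1)), ((nat_lit 360), (nat_lit 1)), ((nat_lit 361), (nat_lit 1)), ((nat_lit 362), (nat_lit 1)), ((nat_lit 377), (nat_lit 3)), ((nat_lit 381), (nat_lit 3)), ((nat_lit 382), (nat_lit 3)),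 ((nat_lit 383), (nat_lit 3)), ((nat_lit 396), (nat_lit 1)), ((nat_lit 400), (nat_lit 1)), ((nat_lit 401), (nat_lit 1)), ((nat_lit 404), (nat_lit 1)), ((nat_lit 405), (nat_lit 1)), ((nat_lit 422), (nat_lit 3)), ((nat_lit 423), (nat_lit 1)), ((nat_lit 424), (nat_lit 1)), ((nat_lit 438), (nat_lit 1)), ((nat_lit 444), (nat_lit 3)), ((nat_lit 445), (nat_lit 3)), ((nat_lit 447), (nat_lit 3)), ((nat_lit 463), (nat_lit 1)), ((nat_lit 465), (nat_lit 1)), ((nat_lit 466), (nat_lit 2)), ((nat_lit 467), (nat_lit 1)), ((nat_lit 468), (nat_lit 1)), ((nat_lit 471), (nat_lit 1)), ((nat_lit 472), (nat_lit 2)), ((nat_lit 480), (nat_lit 1)), ((nat_lit 482), (nat_lit 3)), ((nat_lit 484), (nat_lit 1)), ((nat_lit 486), (nat_lit 3)), ((nat_lit 487), (nat_lit 1)), ((nat_lit 489), (nat_lit 2)), ((nat_lit 490), (nat_lit 1)), ((nat_lit 491), (nat_lit 1)), ((nat_lit 492), (nat_lit 1)), ((nat_lit 493), (nat_lit 3)),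 ((nat_lit 494), (nat_lit 1)), ((nat_lit 503), (nat_lit 3)), ((nat_lit 505), (nat_lit 1)), ((nat_lit 506), (nat_lit 1)), ((nat_lit 507), (nat_lit 3)), ((nat_lit 508), (nat_lit 1)), ((nat_lit 510), (nat_lit 3)), ((nat_lit 511), (nat_lit 2)), ((nat_lit 512), (nat_lit 2)), ((nat_lit 514), (nat_lit 1)), ((nat_lit 515), (nat_lit 2))]⟩,
  ⟨false, (nat_lit 0), [nat_lit 2], [nat_lit 2, nat_lit 0], [((nat_lit 118), (nat_lit 2)), ((nat_lit 202), (nat_lit 1)), ((nat_lit 204), (nat_lit 3)), ((nat_lit 208), (nat_lit 3)), ((nat_lit 286), (nat_lit 1)), ((nat_lit 292), (nat_lit 2)), ((nat_lit 328), (nat_lit 1)), ((nat_lit 334), (nat_lit 2)), ((nat_lit 355), (nat_lit 3)), ((nat_lit 359), (nat_lit 1)), ((nat_lit 362), (nat_lit 1)), ((nat_lit 376), (nat_lit 3)), ((nat_lit 391), (nat_lit 1)), ((nat_lit 397), (nat_lit 2)), ((nat_lit 401), (nat_lit 1)), ((nat_lit 403), (nat_lit 1)), ((nat_lit 404), (nat_lit 1)),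 ((nat_lit 406), (nat_lit 1)), ((nat_lit 425), (nat_lit 1)), ((nat_lit 427), (nat_lit 1)), ((nat_lit 433), (nat_lit 1)), ((nat_lit 439), (nat_lit 3)), ((nat_lit 443), (nat_lit 1)), ((nat_lit 447), (nat_lit 3)), ((nat_lit 448), (nat_lit 1)), ((nat_lit 450), (nat_lit 1)), ((nat_lit 454), (nat_lit 1)), ((nat_lit 460), (nat_lit 3)), ((nat_lit 464), (nat_lit 1)), ((nat_lit 468), (nat_lit 3)), ((nat_lit 469), (nat_lit 2)), ((nat_lit 471), (nat_lit 1)), ((nat_lit 472), (nat_lit 1)), ((nat_lit 475), (nat_lit 1)), ((nat_lit 481), (nat_lit 2)), ((nat_lit 487), (nat_lit 1)), ((nat_lit 489), (nat_lit 3)), ((nat_lit 491), (nat_lit 1)), ((nat_lit 492), (nat_lit 1)), ((nat_lit 502), (nat_lit 3)), ((nat_lit 508), (nat_lit 3)), ((nat_lit 509), (nat_lit 2)), ((nat_lit 510), (nat_lit 2)), ((nat_lit 511), (nat_lit 1)), ((nat_lit 514), (nat_lit 3)), ((nat_lit 515), (nat_lit 3)), ((nat_lit 516), (nat_lit 1))]⟩,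
  ⟨false, (nat_lit 0), [nat_lit 3], [nat_lit 1, nat_lit 1], [((nat_lit 140), (nat_lit 2)), ((nat_lit 184), (nat_lit 1)), ((nat_lit 245), (nat_lit 1)), ((nat_lit 252), (nat_lit 1)), ((nat_lit 268), (nat_lit 1)), ((nat_lit 273), (nat_lit 2)), ((nat_lit 294), (nat_lit 2)), ((nat_lit 295), (nat_lit 1)), ((nat_lit 296), (nat_lit 1)), ((nat_lit 310), (nat_lit 1)), ((nat_lit 315), (nat_lit 2)), ((nat_lit 317), (nat_lit 1)), ((nat_lit 352), (nat_lit 1)), ((nat_lit 357), (nat_lit 2)), ((nat_lit 358), (nat_lit 1)), ((nat_lit 359), (nat_lit 1)), ((nat_lit 360), (nat_lit 1)), ((nat_lit 362), (nat_lit 1)), ((nat_lit 373), (nat_lit 1)), ((nat_lit 381), (nat_lit 1)), ((nat_lit 383), (nat_lit 1)), ((nat_lit 384), (nat_lit 1)), ((nat_lit 394), (nat_lit 1)), ((nat_lit 399), (nat_lit 2)), ((nat_lit 401), (nat_lit 1)), ((nat_lit 404), (nat_lit 1)), ((nat_lit 405), (nat_lit 1)), ((nat_lit 415), (nat_lit 1)),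 ((nat_lit 421), (nat_lit 1)), ((nat_lit 422), (nat_lit 2)), ((nat_lit 423), (nat_lit 1)), ((nat_lit 425), (nat_lit 2)), ((nat_lit 426), (nat_lit 1)), ((nat_lit 427), (nat_lit 2)), ((nat_lit 428), (nat_lit 1)), ((nat_lit 441), (nat_lit 1)), ((nat_lit 442), (nat_lit 1)), ((nat_lit 443), (nat_lit 1)), ((nat_lit 444), (nat_lit 1)), ((nat_lit 446), (nat_lit 1)), ((nat_lit 448), (nat_lit 2)), ((nat_lit 449), (nat_lit 1)), ((nat_lit 450), (nat_lit 2)), ((nat_lit 462), (nat_lit 1)), ((nat_lit 463), (nat_lit 1)), ((nat_lit 464), (nat_lit 1)), ((nat_lit 465), (nat_lit 1)), ((nat_lit 467), (nat_lit 1)), ((nat_lit 468), (nat_lit 1)), ((nat_lit 469), (nat_lit 1)), ((nat_lit 470), (nat_lit 1)), ((nat_lit 471), (nat_lit 3)), ((nat_lit 472), (nat_lit 1)), ((nat_lit 478), (nat_lit 1)), ((nat_lit 483), (nat_lit 1)), ((nat_lit 486), (nat_lit 2)), ((nat_lit 488), (nat_lit 3)), ((nat_lit 489), (nat_lit 2)),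 ((nat_lit 490), (nat_lit 1)), ((nat_lit 491), (nat_lit 1)), ((nat_lit 492), (nat_lit 2)), ((nat_lit 493), (nat_lit 3)), ((nat_lit 494), (nat_lit 3)), ((nat_lit 504), (nat_lit 2)), ((nat_lit 505), (nat_lit 1)), ((nat_lit 506), (nat_lit 2)), ((nat_lit 507), (nat_lit 2)), ((nat_lit 509), (nat_lit 2)), ((nat_lit 510), (nat_lit 2)), ((nat_lit 511), (nat_lit 2)), ((nat_lit 512), (nat_lit 3)), ((nat_lit 513), (nat_lit 3)), ((nat_lit 514), (nat_lit 3)), ((nat_lit 516), (nat_lit 2))]⟩,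
  ⟨false, (nat_lit 0), [nat_lit 8], [nat_lit 2, nat_lit 2], [((nat_lit 246), (nat_lit 2)), ((nat_lit 250), (nat_lit 3)), ((nat_lit 267), (nat_lit 1)), ((nat_lit 274), (nat_lit 1)), ((nat_lit 294), (nat_lit 1)), ((nat_lit 295), (nat_lit 2)), ((nat_lit 330), (nat_lit 1)), ((nat_lit 336), (nat_lit 1)), ((nat_lit 337), (nat_lit 1)), ((nat_lit 340), (nat_lit 1)), ((nat_lit 351), (nat_lit 1)), ((nat_lit 358), (nat_lit 1)), ((nat_lit 359), (nat_lit 3)), ((nat_lit 361), (nat_lit 3)), ((nat_lit 362), (nat_lit 1)), ((nat_lit 372), (nat_lit 1)), ((nat_lit 379), (nat_lit 1)), ((nat_lit 382), (nat_lit 1)), ((nat_lit 383), (nat_lit 2)), ((nat_lit 384), (nat_lit 1)), ((nat_lit 393), (nat_lit 1)), ((nat_lit 399), (nat_lit 1)), ((nat_lit 400), (nat_lit 1)), ((nat_lit 403), (nat_lit 1)), ((nat_lit 404), (nat_lit 1)), ((nat_lit 405), (nat_lit 1)), ((nat_lit 406), (nat_lit 1)), ((nat_lit 414), (nat_lit 1)),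 ((nat_lit 421), (nat_lit 1)), ((nat_lit 424), (nat_lit 1)), ((nat_lit 425), (nat_lit 2)), ((nat_lit 426), (nat_lit 1)), ((nat_lit 427), (nat_lit 3)), ((nat_lit 428), (nat_lit 3)), ((nat_lit 435), (nat_lit 1)), ((nat_lit 441), (nat_lit 1)), ((nat_lit 442), (nat_lit 1)), ((nat_lit 443), (nat_lit 3)), ((nat_lit 445), (nat_lit 3)), ((nat_lit 446), (nat_lit 2)), ((nat_lit 447), (nat_lit 1)), ((nat_lit 448), (nat_lit 1)), ((nat_lit 449), (nat_lit 3)), ((nat_lit 450), (nat_lit 2)), ((nat_lit 456), (nat_lit 1)), ((nat_lit 462), (nat_lit 1)), ((nat_lit 466), (nat_lit 2)), ((nat_lit 467), (nat_lit 1)), ((nat_lit 468), (nat_lit 1)), ((nat_lit 469), (nat_lit 2)), ((nat_lit 477), (nat_lit 1)), ((nat_lit 483), (nat_lit 1)), ((nat_lit 484), (nat_lit 1)), ((nat_lit 487), (nat_lit 1)), ((nat_lit 488), (nat_lit 1)), ((nat_lit 489), (nat_lit 1)), ((nat_lit 490), (nat_lit 1)), ((nat_lit 491), (nat_lit 2)),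 ((nat_lit 492), (nat_lit 1)), ((nat_lit 494), (nat_lit 1)), ((nat_lit 505), (nat_lit 1)), ((nat_lit 508), (nat_lit 2)), ((nat_lit 509), (nat_lit 2)), ((nat_lit 510), (nat_lit 2)), ((nat_lit 511), (nat_lit 3)), ((nat_lit 514), (nat_lit 2)), ((nat_lit 516), (nat_lit 2))]⟩,
  ⟨false, (nat_lit 0), [nat_lit 7], [nat_lit 4, nat_lit 4], [((nat_lit 227), (nat_lit 2)), ((nat_lit 228), (nat_lit 3)), ((nat_lit 251), (nat_lit 1)), ((nat_lit 272), (nat_lit 1)), ((nat_lit 293), (nat_lit 1)), ((nat_lit 311), (nat_lit 1)), ((nat_lit 314), (nat_lit 1)), ((nat_lit 318), (nat_lit 1)), ((nat_lit 332), (nat_lit 1)), ((nat_lit 339), (nat_lit 1)), ((nat_lit 340), (nat_lit 1)), ((nat_lit 353), (nat_lit 1)), ((nat_lit 356), (nat_lit 1)), ((nat_lit 357), (nat_lit 3)), ((nat_lit 360), (nat_lit 1)), ((nat_lit 361), (nat_lit 1)), ((nat_lit 362), (nat_lit 1)), ((nat_lit 395), (nat_lit 1)), ((nat_lit 398), (nat_lit 1)),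 ((nat_lit 400), (nat_lit 1)), ((nat_lit 401), (nat_lit 1)), ((nat_lit 402), (nat_lit 2)), ((nat_lit 403), (nat_lit 1)), ((nat_lit 404), (nat_lit 1)), ((nat_lit 406), (nat_lit 2)), ((nat_lit 416), (nat_lit 1)), ((nat_lit 420), (nat_lit 3)), ((nat_lit 422), (nat_lit 3)), ((nat_lit 423), (nat_lit 1)), ((nat_lit 424), (nat_lit 1)), ((nat_lit 425), (nat_lit 1)), ((nat_lit 427), (nat_lit 1)), ((nat_lit 428), (nat_lit 2)), ((nat_lit 437), (nat_lit 1)), ((nat_lit 442), (nat_lit 1)), ((nat_lit 443), (nat_lit 1)), ((nat_lit 444), (nat_lit 1)), ((nat_lit 445), (nat_lit 1)), ((nat_lit 446), (nat_lit 1)), ((nat_lit 448), (nat_lit 2)), ((nat_lit 449), (nat_lit 3)), ((nat_lit 450), (nat_lit 2)), ((nat_lit 461), (nat_lit 1)), ((nat_lit 462), (nat_lit 3)), ((nat_lit 464), (nat_lit 3)), ((nat_lit 465), (nat_lit 2)), ((nat_lit 466), (nat_lit 2)), ((nat_lit 467), (nat_lit 1)), ((nat_lit 469), (nat_lit 2)),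 ((nat_lit 470), (nat_lit 3)), ((nat_lit 471), (nat_lit 1)), ((nat_lit 472), (nat_lit 3)), ((nat_lit 485), (nat_lit 1)), ((nat_lit 486), (nat_lit 3)), ((nat_lit 487), (nat_lit 1)), ((nat_lit 488), (nat_lit 1)), ((nat_lit 490), (nat_lit 3)), ((nat_lit 491), (nat_lit 3)), ((nat_lit 493), (nat_lit 2)), ((nat_lit 506), (nat_lit 3)), ((nat_lit 507), (nat_lit 1)), ((nat_lit 508), (nat_lit 1)), ((nat_lit 509), (nat_lit 1)), ((nat_lit 511), (nat_lit 1)), ((nat_lit 513), (nat_lit 3)), ((nat_lit 514), (nat_lit 3)), ((nat_lit 515), (nat_lit 2))]⟩,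
  ⟨false, (nat_lit 0), [nat_lit 4], [nat_lit 1, nat_lit 1], [((nat_lit 161), (nat_lit 2)), ((nat_lit 185), (nat_lit 1)), ((nat_lit 245), (nat_lit 1)), ((nat_lit 252), (nat_lit 1)), ((nat_lit 269), (nat_lit 1)), ((nat_lit 273), (nat_lit 2)), ((nat_lit 294), (nat_lit 2)), ((nat_lit 295), (nat_lit 1)), ((nat_lit 296), (nat_lit 1)), ((nat_lit 311), (nat_lit 1)), ((nat_lit 315), (nat_lit 2)), ((nat_lit 317), (nat_lit 1)), ((nat_lit 353), (nat_lit 1)), ((nat_lit 357), (nat_lit 2)), ((nat_lit 358), (nat_lit 2)), ((nat_lit 359), (nat_lit 1)), ((nat_lit 360), (nat_lit 1)), ((nat_lit 362), (nat_lit 2)), ((nat_lit 374), (nat_lit 1)), ((nat_lit 381), (nat_lit 1)), ((nat_lit 383), (nat_lit 1)), ((nat_lit 384), (nat_lit 1)), ((nat_lit 395), (nat_lit 1)), ((nat_lit 399), (nat_lit 2)), ((nat_lit 401), (nat_lit 1)), ((nat_lit 404), (nat_lit 1)), ((nat_lit 405), (nat_lit 1)), ((nat_lit 416), (nat_lit 1)),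 ((nat_lit 421), (nat_lit 1)), ((nat_lit 422), (nat_lit 2)), ((nat_lit 423), (nat_lit 2)), ((nat_lit 425), (nat_lit 3)), ((nat_lit 426), (nat_lit 2)), ((nat_lit 427), (nat_lit 2)), ((nat_lit 428), (nat_lit 1)), ((nat_lit 441), (nat_lit 1)), ((nat_lit 442), (nat_lit 1)), ((nat_lit 443), (nat_lit 1)), ((nat_lit 444), (nat_lit 1)), ((nat_lit 446), (nat_lit 1)), ((nat_lit 448), (nat_lit 2)), ((nat_lit 449), (nat_lit 1)), ((nat_lit 450), (nat_lit 2)), ((nat_lit 455), (nat_lit 1)), ((nat_lit 462), (nat_lit 2)), ((nat_lit 463), (nat_lit 2)), ((nat_lit 464), (nat_lit 2)), ((nat_lit 465), (nat_lit 2)), ((nat_lit 468), (nat_lit 2)), ((nat_lit 469), (nat_lit 1)), ((nat_lit 470), (nat_lit 1)), ((nat_lit 471), (nat_lit 2)), ((nat_lit 472), (nat_lit 2)), ((nat_lit 476), (nat_lit 1)), ((nat_lit 479), (nat_lit 1)), ((nat_lit 484), (nat_lit 1)), ((nat_lit 485), (nat_lit 1)), ((nat_lit 486), (nat_lit 2)),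 ((nat_lit 488), (nat_lit 1)), ((nat_lit 489), (nat_lit 2)), ((nat_lit 490), (nat_lit 2)), ((nat_lit 491), (nat_lit 1)), ((nat_lit 492), (nat_lit 2)), ((nat_lit 493), (nat_lit 2)), ((nat_lit 494), (nat_lit 1)), ((nat_lit 504), (nat_lit 2)), ((nat_lit 505), (nat_lit 1)), ((nat_lit 506), (nat_lit 3)), ((nat_lit 507), (nat_lit 1)), ((nat_lit 509), (nat_lit 3)), ((nat_lit 510), (nat_lit 2)), ((nat_lit 511), (nat_lit 2)), ((nat_lit 512), (nat_lit 2)), ((nat_lit 513), (nat_lit 2)), ((nat_lit 514), (nat_lit 1)), ((nat_lit 516), (nat_lit 2))]⟩]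
noncomputable def I2_1 : List Pc.Idn := [⟨false, (nat_lit 0), [nat_lit 14], [nat_lit 5, nat_lit 5], [((nat_lit 375), (nat_lit 2)), ((nat_lit 468), (nat_lit 1)), ((nat_lit 480), (nat_lit 1)), ((nat_lit 494), (nat_lit 1)), ((nat_lit 501), (nat_lit 1)), ((nat_lit 515), (nat_lit 1)), ((nat_lit 516), (nat_lit 1))]⟩,
  ⟨false, (nat_lit 0), [nat_lit 11], [nat_lit 11, nat_lit 6], [((nat_lit 313), (nat_lit 2)), ((nat_lit 465), (nat_lit 3)), ((nat_lit 472), (nat_lit 3)), ((nat_lit 502), (nat_lit 1)), ((nat_lit 507), (nat_lit 3)), ((nat_lit 514), (nat_lit 3)), ((nat_lit 516), (nat_lit 3))]⟩,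
  ⟨false, (nat_lit 0), [nat_lit 13], [nat_lit 13, nat_lit 7], [((nat_lit 356), (nat_lit 2)), ((nat_lit 467), (nat_lit 3)), ((nat_lit 472), (nat_lit 3)), ((nat_lit 503), (nat_lit 1)), ((nat_lit 509), (nat_lit 3)), ((nat_lit 514), (nat_lit 3)), ((nat_lit 516), (nat_lit 3))]⟩,
  ⟨false, (nat_lit 0), [nat_lit 12], [nat_lit 12, nat_lit 10], [((nat_lit 338), (nat_lit 2)), ((nat_lit 487), (nat_lit 3)), ((nat_lit 494), (nat_lit 3)), ((nat_lit 506), (nat_lit 1)), ((nat_lit 508), (nat_lit 3)), ((nat_lit 515), (nat_lit 3)), ((nat_lit 516), (nat_lit 3))]⟩,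
  ⟨false, (nat_lit 0), [nat_lit 13], [nat_lit 13, nat_lit 12], [((nat_lit 361), (nat_lit 2)), ((nat_lit 488), (nat_lit 3)), ((nat_lit 494), (nat_lit 3)), ((nat_lit 508), (nat_lit 1)), ((nat_lit 509), (nat_lit 3)), ((nat_lit 515), (nat_lit 3)), ((nat_lit 516), (nat_lit 3))]⟩,
  ⟨false, (nat_lit 0), [nat_lit 5], [nat_lit 5, nat_lit 2], [((nat_lit 183), (nat_lit 2)), ((nat_lit 270), (nat_lit 3)), ((nat_lit 274), (nat_lit 3)), ((nat_lit 456), (nat_lit 1)), ((nat_lit 463), (nat_lit 2)), ((nat_lit 484), (nat_lit 3))]⟩,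
  ⟨false, (nat_lit 0), [nat_lit 15], [nat_lit 11, nat_lit 2], [((nat_lit 465), (nat_lit 3)), ((nat_lit 469), (nat_lit 3))]⟩,
  ⟨false, (nat_lit 0), [nat_lit 17], [nat_lit 15, nat_lit 2], [((nat_lit 469), (nat_lit 3)), ((nat_lit 471), (nat_lit 1))]⟩,
  ⟨false, (nat_lit 0), [nat_lit 10], [nat_lit 6, nat_lit 3], [((nat_lit 317), (nat_lit 1)), ((nat_lit 380), (nat_lit 1))]⟩,
  ⟨false, (nat_lit 0), [nat_lit 15], [nat_lit 6, nat_lit 3], [((nat_lit 402), (nat_lit 3)), ((nat_lit 405), (nat_lit 3))]⟩,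
  ⟨false, (nat_lit 0), [nat_lit 14], [nat_lit 8, nat_lit 6], [((nat_lit 383), (nat_lit 3)), ((nat_lit 447), (nat_lit 1))]⟩,
  ⟨false, (nat_lit 0), [nat_lit 15], [nat_lit 15, nat_lit 0], [((nat_lit 391), (nat_lit 2)), ((nat_lit 427), (nat_lit 3)), ((nat_lit 428), (nat_lit 3)), ((nat_lit 469), (nat_lit 3)), ((nat_lit 470), (nat_lit 3)), ((nat_lit 472), (nat_lit 3)), ((nat_lit 490), (nat_lit 3)), ((nat_lit 491), (nat_lit 3)), ((nat_lit 493), (nat_lit 3)), ((nat_lit 494), (nat_lit 3))]⟩,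
  ⟨false, (nat_lit 0), [nat_lit 19], [nat_lit 3, nat_lit 1], [((nat_lit 483), (nat_lit 3)), ((nat_lit 499), (nat_lit 3)), ((nat_lit 504), (nat_lit 3))]⟩,
  ⟨false, (nat_lit 0), [nat_lit 18], [nat_lit 6, nat_lit 1], [((nat_lit 465), (nat_lit 3)), ((nat_lit 497), (nat_lit 1)), ((nat_lit 507), (nat_lit 3))]⟩,
  ⟨false, (nat_lit 0), [nat_lit 9], [nat_lit 9, nat_lit 1], [((nat_lit 266), (nat_lit 2)), ((nat_lit 358), (nat_lit 3)), ((nat_lit 362), (nat_lit 3)), ((nat_lit 463), (nat_lit 3)), ((nat_lit 467), (nat_lit 3)), ((nat_lit 472), (nat_lit 3)), ((nat_lit 509), (nat_lit 3)), ((nat_lit 514), (nat_lit 2)), ((nat_lit 516), (nat_lit 3))]⟩,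
  ⟨false, (nat_lit 0), [nat_lit 14], [nat_lit 13, nat_lit 1], [((nat_lit 446), (nat_lit 3)), ((nat_lit 468), (nat_lit 1)), ((nat_lit 471), (nat_lit 1))]⟩,
  ⟨false, (nat_lit 0), [nat_lit 16], [nat_lit 14, nat_lit 1], [((nat_lit 449), (nat_lit 1)), ((nat_lit 468), (nat_lit 3)), ((nat_lit 471), (nat_lit 3))]⟩,
  ⟨false, (nat_lit 0), [nat_lit 15], [nat_lit 7, nat_lit 3], [((nat_lit 403), (nat_lit 3)), ((nat_lit 478), (nat_lit 1)), ((nat_lit 487), (nat_lit 3))]⟩,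
  ⟨false, (nat_lit 0), [nat_lit 17], [nat_lit 17, nat_lit 3], [((nat_lit 436), (nat_lit 2)), ((nat_lit 471), (nat_lit 3)), ((nat_lit 472), (nat_lit 3)), ((nat_lit 492), (nat_lit 3)), ((nat_lit 493), (nat_lit 3)), ((nat_lit 494), (nat_lit 3)), ((nat_lit 513), (nat_lit 3)), ((nat_lit 514), (nat_lit 3)), ((nat_lit 515), (nat_lit 3)), ((nat_lit 516), (nat_lit 3))]⟩,
  ⟨false, (nat_lit 0), [nat_lit 19], [nat_lit 3, nat_lit 3], [((nat_lit 478), (nat_lit 2)), ((nat_lit 480), (nat_lit 3)), ((nat_lit 481), (nat_lit 3)), ((nat_lit 483), (nat_lit 3)), ((nat_lit 491), (nat_lit 3))]⟩,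
  ⟨false, (nat_lit 0), [nat_lit 15], [nat_lit 15, nat_lit 5], [((nat_lit 396), (nat_lit 2)), ((nat_lit 469), (nat_lit 3)), ((nat_lit 472), (nat_lit 3)), ((nat_lit 490), (nat_lit 3)), ((nat_lit 493), (nat_lit 3)), ((nat_lit 494), (nat_lit 3)), ((nat_lit 511), (nat_lit 3)), ((nat_lit 514), (nat_lit 3)), ((nat_lit 515), (nat_lit 3)), ((nat_lit 516), (nat_lit 3))]⟩,
  ⟨false, (nat_lit 0), [nat_lit 9], [nat_lit 9, nat_lit 8], [((nat_lit 273), (nat_lit 2)), ((nat_lit 442), (nat_lit 3)), ((nat_lit 450), (nat_lit 3)), ((nat_lit 463), (nat_lit 3)), ((nat_lit 471), (nat_lit 3)), ((nat_lit 472), (nat_lit 3)), ((nat_lit 505), (nat_lit 3)), ((nat_lit 513), (nat_lit 3)), ((nat_lit 514), (nat_lit 3)), ((nat_lit 516), (nat_lit 3))]⟩,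
  ⟨false, (nat_lit 0), [nat_lit 15], [nat_lit 15, nat_lit 8], [((nat_lit 399), (nat_lit 2)), ((nat_lit 469), (nat_lit 3)), ((nat_lit 472), (nat_lit 3)), ((nat_lit 490), (nat_lit 3)), ((nat_lit 493), (nat_lit 3)), ((nat_lit 494), (nat_lit 3)), ((nat_lit 511), (nat_lit 3)), ((nat_lit 514), (nat_lit 3)), ((nat_lit 515), (nat_lit 3)), ((nat_lit 516), (nat_lit 3))]⟩,
  ⟨false, (nat_lit 0), [nat_lit 19], [nat_lit 1, nat_lit 0], [((nat_lit 480), (nat_lit 3)), ((nat_lit 496), (nat_lit 1)), ((nat_lit 497), (nat_lit 3))]⟩,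
  ⟨false, (nat_lit 0), [nat_lit 19], [nat_lit 2, nat_lit 0], [((nat_lit 481), (nat_lit 3)), ((nat_lit 496), (nat_lit 1)), ((nat_lit 498), (nat_lit 3))]⟩,
  ⟨false, (nat_lit 0), [nat_lit 19], [nat_lit 2, nat_lit 1], [((nat_lit 482), (nat_lit 3)), ((nat_lit 497), (nat_lit 1)), ((nat_lit 498), (nat_lit 3))]⟩,
  ⟨false, (nat_lit 0), [nat_lit 17], [nat_lit 11, nat_lit 4], [((nat_lit 492), (nat_lit 1)), ((nat_lit 500), (nat_lit 1)), ((nat_lit 507), (nat_lit 3))]⟩,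
  ⟨false, (nat_lit 0), [nat_lit 11], [nat_lit 6, nat_lit 6], [((nat_lit 313), (nat_lit 2)), ((nat_lit 423), (nat_lit 1)), ((nat_lit 460), (nat_lit 1)), ((nat_lit 472), (nat_lit 1)), ((nat_lit 502), (nat_lit 1)), ((nat_lit 507), (nat_lit 1)), ((nat_lit 514), (nat_lit 1)), ((nat_lit 516), (nat_lit 2))]⟩,
  ⟨false, (nat_lit 0), [nat_lit 14], [nat_lit 9, nat_lit 8], [((nat_lit 447), (nat_lit 1)), ((nat_lit 468), (nat_lit 1)), ((nat_lit 510), (nat_lit 1))]⟩,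
  ⟨false, (nat_lit 0), [nat_lit 18], [nat_lit 2, nat_lit 0], [((nat_lit 460), (nat_lit 3)), ((nat_lit 475), (nat_lit 1)), ((nat_lit 481), (nat_lit 3)), ((nat_lit 515), (nat_lit 3))]⟩,
  ⟨false, (nat_lit 0), [nat_lit 11], [nat_lit 11, nat_lit 0], [((nat_lit 307), (nat_lit 2)), ((nat_lit 360), (nat_lit 3)), ((nat_lit 362), (nat_lit 3)), ((nat_lit 465), (nat_lit 3)), ((nat_lit 467), (nat_lit 3)), ((nat_lit 472), (nat_lit 3)), ((nat_lit 496), (nat_lit 1)), ((nat_lit 509), (nat_lit 3)), ((nat_lit 514), (nat_lit 2)), ((nat_lit 516), (nat_lit 3))]⟩,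
  ⟨false, (nat_lit 0), [nat_lit 13], [nat_lit 13, nat_lit 0], [((nat_lit 349), (nat_lit 2)), ((nat_lit 467), (nat_lit 3)), ((nat_lit 472), (nat_lit 3)), ((nat_lit 488), (nat_lit 3)), ((nat_lit 493), (nat_lit 3)), ((nat_lit 494), (nat_lit 3)), ((nat_lit 496), (nat_lit 1)), ((nat_lit 514), (nat_lit 2)), ((nat_lit 515), (nat_lit 2))]⟩,
  ⟨false, (nat_lit 0), [nat_lit 18], [nat_lit 2, nat_lit 1], [((nat_lit 461), (nat_lit 3)), ((nat_lit 476), (nat_lit 1)), ((nat_lit 482), (nat_lit 3)), ((nat_lit 515), (nat_lit 3))]⟩,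
  ⟨false, (nat_lit 0), [nat_lit 18], [nat_lit 3, nat_lit 1], [((nat_lit 462), (nat_lit 3)), ((nat_lit 476), (nat_lit 1)), ((nat_lit 483), (nat_lit 3)), ((nat_lit 515), (nat_lit 3))]⟩,
  ⟨false, (nat_lit 0), [nat_lit 5], [nat_lit 5, nat_lit 3], [((nat_lit 184), (nat_lit 2)), ((nat_lit 291), (nat_lit 3)), ((nat_lit 296), (nat_lit 3)), ((nat_lit 457), (nat_lit 1)), ((nat_lit 464), (nat_lit 2)), ((nat_lit 493), (nat_lit 3)), ((nat_lit 506), (nat_lit 3)), ((nat_lit 514), (nat_lit 3)), ((nat_lit 516), (nat_lit 3))]⟩,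
  ⟨false, (nat_lit 0), [nat_lit 12], [nat_lit 6, nat_lit 6], [((nat_lit 334), (nat_lit 2)), ((nat_lit 424), (nat_lit 1)), ((nat_lit 460), (nat_lit 1)), ((nat_lit 472), (nat_lit 1)), ((nat_lit 481), (nat_lit 1)), ((nat_lit 493), (nat_lit 1)), ((nat_lit 494), (nat_lit 1)), ((nat_lit 508), (nat_lit 1)), ((nat_lit 515), (nat_lit 1)), ((nat_lit 516), (nat_lit 1))]⟩,
  ⟨false, (nat_lit 0), [nat_lit 17], [nat_lit 7, nat_lit 7], [((nat_lit 440), (nat_lit 2)), ((nat_lit 448), (nat_lit 3)), ((nat_lit 449), (nat_lit 3)), ((nat_lit 471), (nat_lit 1)), ((nat_lit 503), (nat_lit 1)), ((nat_lit 513), (nat_lit 1)), ((nat_lit 516), (nat_lit 1))]⟩,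
  ⟨false, (nat_lit 0), [nat_lit 11], [nat_lit 11, nat_lit 8], [((nat_lit 315), (nat_lit 2)), ((nat_lit 465), (nat_lit 3)), ((nat_lit 472), (nat_lit 3)), ((nat_lit 486), (nat_lit 3)), ((nat_lit 493), (nat_lit 3)), ((nat_lit 494), (nat_lit 3)), ((nat_lit 504), (nat_lit 1)), ((nat_lit 507), (nat_lit 3)), ((nat_lit 514), (nat_lit 3)), ((nat_lit 515), (nat_lit 3)), ((nat_lit 516), (nat_lit 3))]⟩,
  ⟨false, (nat_lit 0), [nat_lit 12], [nat_lit 12, nat_lit 8], [((nat_lit 336), (nat_lit 2)), ((nat_lit 424), (nat_lit 3)), ((nat_lit 428), (nat_lit 3)), ((nat_lit 445), (nat_lit 3)), ((nat_lit 449), (nat_lit 3)), ((nat_lit 450), (nat_lit 3)), ((nat_lit 504), (nat_lit 1)), ((nat_lit 508), (nat_lit 3)), ((nat_lit 512), (nat_lit 3)), ((nat_lit 516), (nat_lit 2))]⟩,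
  ⟨false, (nat_lit 0), [nat_lit 14], [nat_lit 9, nat_lit 0], [((nat_lit 383), (nat_lit 3)), ((nat_lit 421), (nat_lit 3)), ((nat_lit 425), (nat_lit 3)), ((nat_lit 484), (nat_lit 3)), ((nat_lit 488), (nat_lit 3))]⟩,
  ⟨false, (nat_lit 0), [nat_lit 14], [nat_lit 9, nat_lit 1], [((nat_lit 383), (nat_lit 3)), ((nat_lit 442), (nat_lit 3)), ((nat_lit 446), (nat_lit 3)), ((nat_lit 468), (nat_lit 1)), ((nat_lit 471), (nat_lit 1))]⟩,
  ⟨false, (nat_lit 0), [nat_lit 10], [nat_lit 9, nat_lit 3], [((nat_lit 380), (nat_lit 1)), ((nat_lit 478), (nat_lit 1)), ((nat_lit 489), (nat_lit 3)), ((nat_lit 499), (nat_lit 1)), ((nat_lit 510), (nat_lit 3))]⟩,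
  ⟨false, (nat_lit 0), [nat_lit 15], [nat_lit 9, nat_lit 3], [((nat_lit 405), (nat_lit 3)), ((nat_lit 478), (nat_lit 1)), ((nat_lit 489), (nat_lit 3)), ((nat_lit 499), (nat_lit 1)), ((nat_lit 510), (nat_lit 3))]⟩,
  ⟨false, (nat_lit 0), [nat_lit 14], [nat_lit 10, nat_lit 3], [((nat_lit 422), (nat_lit 3)), ((nat_lit 443), (nat_lit 3)), ((nat_lit 464), (nat_lit 3)), ((nat_lit 485), (nat_lit 3))]⟩,
  ⟨false, (nat_lit 0), [nat_lit 10], [nat_lit 8, nat_lit 6], [((nat_lit 359), (nat_lit 1)), ((nat_lit 443), (nat_lit 1)), ((nat_lit 502), (nat_lit 1)), ((nat_lit 509), (nat_lit 3)), ((nat_lit 513), (nat_lit 3))]⟩,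
  ⟨false, (nat_lit 0), [nat_lit 7], [nat_lit 7, nat_lit 7], [((nat_lit 398), (nat_lit 1)), ((nat_lit 419), (nat_lit 1)), ((nat_lit 440), (nat_lit 1)), ((nat_lit 461), (nat_lit 1)), ((nat_lit 491), (nat_lit 1)), ((nat_lit 494), (nat_lit 1)), ((nat_lit 503), (nat_lit 1)), ((nat_lit 514), (nat_lit 1)), ((nat_lit 516), (nat_lit 1))]⟩,
  ⟨false, (nat_lit 0), [nat_lit 10], [nat_lit 3, nat_lit 3], [((nat_lit 289), (nat_lit 2)), ((nat_lit 291), (nat_lit 3)), ((nat_lit 292), (nat_lit 3)), ((nat_lit 294), (nat_lit 3)), ((nat_lit 422), (nat_lit 1)), ((nat_lit 485), (nat_lit 1)), ((nat_lit 502), (nat_lit 3)), ((nat_lit 504), (nat_lit 3)), ((nat_lit 516), (nat_lit 3))]⟩,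
  ⟨false, (nat_lit 0), [nat_lit 8], [nat_lit 8, nat_lit 8], [((nat_lit 357), (nat_lit 1)), ((nat_lit 420), (nat_lit 1)), ((nat_lit 441), (nat_lit 1)), ((nat_lit 462), (nat_lit 1)), ((nat_lit 491), (nat_lit 1)), ((nat_lit 494), (nat_lit 1)), ((nat_lit 504), (nat_lit 1)), ((nat_lit 513), (nat_lit 1)), ((nat_lit 514), (nat_lit 1)), ((nat_lit 516), (nat_lit 1))]⟩,
  ⟨false, (nat_lit 0), [nat_lit 17], [nat_lit 4, nat_lit 1], [((nat_lit 441), (nat_lit 3)), ((nat_lit 471), (nat_lit 1)), ((nat_lit 492), (nat_lit 1)), ((nat_lit 497), (nat_lit 1)), ((nat_lit 500), (nat_lit 3))]⟩,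
  ⟨false, (nat_lit 0), [nat_lit 13], [nat_lit 6, nat_lit 1], [((nat_lit 360), (nat_lit 3)), ((nat_lit 460), (nat_lit 3)), ((nat_lit 465), (nat_lit 3)), ((nat_lit 497), (nat_lit 1)), ((nat_lit 514), (nat_lit 2)), ((nat_lit 516), (nat_lit 3))]⟩,
  ⟨false, (nat_lit 0), [nat_lit 13], [nat_lit 5, nat_lit 2], [((nat_lit 358), (nat_lit 3)), ((nat_lit 417), (nat_lit 3)), ((nat_lit 421), (nat_lit 3)), ((nat_lit 498), (nat_lit 1)), ((nat_lit 512), (nat_lit 2)), ((nat_lit 516), (nat_lit 3))]⟩,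
  ⟨false, (nat_lit 0), [nat_lit 13], [nat_lit 11, nat_lit 2], [((nat_lit 404), (nat_lit 1)), ((nat_lit 423), (nat_lit 3)), ((nat_lit 427), (nat_lit 3)), ((nat_lit 498), (nat_lit 1))]⟩,
  ⟨false, (nat_lit 0), [nat_lit 11], [nat_lit 7, nat_lit 3], [((nat_lit 339), (nat_lit 1)), ((nat_lit 478), (nat_lit 1)), ((nat_lit 482), (nat_lit 3)), ((nat_lit 503), (nat_lit 3)), ((nat_lit 508), (nat_lit 3)), ((nat_lit 515), (nat_lit 1))]⟩,
  ⟨false, (nat_lit 0), [nat_lit 18], [nat_lit 3, nat_lit 3], [((nat_lit 457), (nat_lit 2)), ((nat_lit 459), (nat_lit 3)), ((nat_lit 460), (nat_lit 3)), ((nat_lit 462), (nat_lit 3)), ((nat_lit 470), (nat_lit 3)), ((nat_lit 478), (nat_lit 1)), ((nat_lit 493), (nat_lit 1)), ((nat_lit 494), (nat_lit 1)), ((nat_lit 504), (nat_lit 3)), ((nat_lit 516), (nat_lit 3))]⟩,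
  ⟨false, (nat_lit 0), [nat_lit 17], [nat_lit 2, nat_lit 1], [((nat_lit 440), (nat_lit 3)), ((nat_lit 455), (nat_lit 1)), ((nat_lit 461), (nat_lit 3)), ((nat_lit 498), (nat_lit 3)), ((nat_lit 503), (nat_lit 3)), ((nat_lit 516), (nat_lit 3))]⟩,
  ⟨false, (nat_lit 0), [nat_lit 16], [nat_lit 3, nat_lit 1], [((nat_lit 420), (nat_lit 3)), ((nat_lit 455), (nat_lit 1)), ((nat_lit 457), (nat_lit 3)), ((nat_lit 476), (nat_lit 1)), ((nat_lit 493), (nat_lit 3)), ((nat_lit 494), (nat_lit 3))]⟩,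
  ⟨false, (nat_lit 0), [nat_lit 6], [nat_lit 6, nat_lit 1], [((nat_lit 203), (nat_lit 2)), ((nat_lit 313), (nat_lit 3)), ((nat_lit 318), (nat_lit 3)), ((nat_lit 413), (nat_lit 1)), ((nat_lit 423), (nat_lit 2)), ((nat_lit 465), (nat_lit 3)), ((nat_lit 497), (nat_lit 1)), ((nat_lit 507), (nat_lit 2)), ((nat_lit 512), (nat_lit 3)), ((nat_lit 516), (nat_lit 2))]⟩,
  ⟨false, (nat_lit 0), [nat_lit 14], [nat_lit 6, nat_lit 1], [((nat_lit 381), (nat_lit 3)), ((nat_lit 439), (nat_lit 3)), ((nat_lit 444), (nat_lit 3)), ((nat_lit 486), (nat_lit 3)), ((nat_lit 492), (nat_lit 3)), ((nat_lit 494), (nat_lit 3)), ((nat_lit 507), (nat_lit 3)), ((nat_lit 515), (nat_lit 3)), ((nat_lit 516), (nat_lit 3))]⟩,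
  ⟨false, (nat_lit 0), [nat_lit 14], [nat_lit 11, nat_lit 1], [((nat_lit 383), (nat_lit 3)), ((nat_lit 444), (nat_lit 3)), ((nat_lit 446), (nat_lit 3)), ((nat_lit 476), (nat_lit 1)), ((nat_lit 488), (nat_lit 3)), ((nat_lit 492), (nat_lit 3)), ((nat_lit 509), (nat_lit 3))]⟩,
  ⟨false, (nat_lit 0), [nat_lit 9], [nat_lit 9, nat_lit 2], [((nat_lit 267), (nat_lit 2)), ((nat_lit 358), (nat_lit 3)), ((nat_lit 362), (nat_lit 3)), ((nat_lit 442), (nat_lit 3)), ((nat_lit 446), (nat_lit 3)), ((nat_lit 450), (nat_lit 3)), ((nat_lit 463), (nat_lit 3)), ((nat_lit 467), (nat_lit 3)), ((nat_lit 471), (nat_lit 3)), ((nat_lit 472), (nat_lit 3)), ((nat_lit 509), (nat_lit 3)), ((nat_lit 513), (nat_lit 2)), ((nat_lit 514), (nat_lit 2)), ((nat_lit 516), (nat_lit 3))]⟩,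
  ⟨false, (nat_lit 0), [nat_lit 17], [nat_lit 2, nat_lit 0], [((nat_lit 439), (nat_lit 3)), ((nat_lit 454), (nat_lit 1)), ((nat_lit 456), (nat_lit 3)), ((nat_lit 477), (nat_lit 3)), ((nat_lit 493), (nat_lit 1)), ((nat_lit 494), (nat_lit 3)), ((nat_lit 502), (nat_lit 3)), ((nat_lit 516), (nat_lit 3))]⟩,
  ⟨false, (nat_lit 0), [nat_lit 14], [nat_lit 11, nat_lit 4], [((nat_lit 444), (nat_lit 3)), ((nat_lit 479), (nat_lit 1)), ((nat_lit 489), (nat_lit 1)), ((nat_lit 507), (nat_lit 3)), ((nat_lit 515), (nat_lit 1))]⟩,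
  ⟨false, (nat_lit 0), [nat_lit 12], [nat_lit 12, nat_lit 4], [((nat_lit 332), (nat_lit 2)), ((nat_lit 403), (nat_lit 3)), ((nat_lit 406), (nat_lit 3)), ((nat_lit 466), (nat_lit 3)), ((nat_lit 469), (nat_lit 3)), ((nat_lit 472), (nat_lit 3)), ((nat_lit 487), (nat_lit 3)), ((nat_lit 490), (nat_lit 3)), ((nat_lit 493), (nat_lit 3)), ((nat_lit 494), (nat_lit 3)), ((nat_lit 500), (nat_lit 1)), ((nat_lit 508), (nat_lit 3)), ((nat_lit 511), (nat_lit 3)), ((nat_lit 514), (nat_lit 3)), ((nat_lit 515), (nat_lit 3)), ((nat_lit 516), (nat_lit 3))]⟩,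
  ⟨false, (nat_lit 0), [nat_lit 12], [nat_lit 7, nat_lit 7], [((nat_lit 335), (nat_lit 2)), ((nat_lit 403), (nat_lit 1)), ((nat_lit 424), (nat_lit 1)), ((nat_lit 445), (nat_lit 1)), ((nat_lit 466), (nat_lit 1)), ((nat_lit 482), (nat_lit 1)), ((nat_lit 494), (nat_lit 1)), ((nat_lit 508), (nat_lit 1)), ((nat_lit 513), (nat_lit 1)), ((nat_lit 515), (nat_lit 2)), ((nat_lit 516), (nat_lit 1))]⟩,
  ⟨false, (nat_lit 0), [nat_lit 13], [nat_lit 1, nat_lit 0], [((nat_lit 354), (nat_lit 3)), ((nat_lit 454), (nat_lit 1)), ((nat_lit 455), (nat_lit 3)), ((nat_lit 476), (nat_lit 3)), ((nat_lit 480), (nat_lit 3)), ((nat_lit 493), (nat_lit 1)), ((nat_lit 501), (nat_lit 3)), ((nat_lit 515), (nat_lit 3)), ((nat_lit 516), (nat_lit 3))]⟩,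
  ⟨false, (nat_lit 0), [nat_lit 14], [nat_lit 11, nat_lit 2], [((nat_lit 405), (nat_lit 1)), ((nat_lit 423), (nat_lit 3)), ((nat_lit 427), (nat_lit 3)), ((nat_lit 477), (nat_lit 1)), ((nat_lit 486), (nat_lit 3)), ((nat_lit 491), (nat_lit 3)), ((nat_lit 511), (nat_lit 3)), ((nat_lit 515), (nat_lit 3))]⟩,
  ⟨false, (nat_lit 0), [nat_lit 15], [nat_lit 5, nat_lit 3], [((nat_lit 401), (nat_lit 3)), ((nat_lit 457), (nat_lit 1)), ((nat_lit 464), (nat_lit 3)), ((nat_lit 478), (nat_lit 1)), ((nat_lit 485), (nat_lit 3)), ((nat_lit 493), (nat_lit 3)), ((nat_lit 499), (nat_lit 1)), ((nat_lit 506), (nat_lit 3))]⟩,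
  ⟨false, (nat_lit 0), [nat_lit 14], [nat_lit 5, nat_lit 2], [((nat_lit 379), (nat_lit 3)), ((nat_lit 417), (nat_lit 3)), ((nat_lit 421), (nat_lit 3)), ((nat_lit 477), (nat_lit 1)), ((nat_lit 480), (nat_lit 3)), ((nat_lit 491), (nat_lit 3)), ((nat_lit 498), (nat_lit 1)), ((nat_lit 512), (nat_lit 3))]⟩,
  ⟨false, (nat_lit 0), [nat_lit 9], [nat_lit 5, nat_lit 3], [((nat_lit 295), (nat_lit 1)), ((nat_lit 375), (nat_lit 3)), ((nat_lit 380), (nat_lit 3)), ((nat_lit 478), (nat_lit 1)), ((nat_lit 506), (nat_lit 3)), ((nat_lit 510), (nat_lit 1)), ((nat_lit 515), (nat_lit 1))]⟩,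
  ⟨false, (nat_lit 0), [nat_lit 12], [nat_lit 9, nat_lit 3], [((nat_lit 382), (nat_lit 1)), ((nat_lit 457), (nat_lit 1)), ((nat_lit 468), (nat_lit 3)), ((nat_lit 484), (nat_lit 3)), ((nat_lit 489), (nat_lit 3)), ((nat_lit 494), (nat_lit 1)), ((nat_lit 505), (nat_lit 3)), ((nat_lit 510), (nat_lit 3)), ((nat_lit 514), (nat_lit 1)), ((nat_lit 515), (nat_lit 1))]⟩,
  ⟨false, (nat_lit 0), [nat_lit 16], [nat_lit 1, nat_lit 0], [((nat_lit 417), (nat_lit 3)), ((nat_lit 454), (nat_lit 1)), ((nat_lit 459), (nat_lit 3)), ((nat_lit 476), (nat_lit 3)), ((nat_lit 480), (nat_lit 3)), ((nat_lit 493), (nat_lit 1)), ((nat_lit 497), (nat_lit 3)), ((nat_lit 515), (nat_lit 3)), ((nat_lit 516), (nat_lit 3))]⟩,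
  ⟨false, (nat_lit 0), [nat_lit 17], [nat_lit 1, nat_lit 0], [((nat_lit 438), (nat_lit 3)), ((nat_lit 455), (nat_lit 3)), ((nat_lit 459), (nat_lit 3)), ((nat_lit 476), (nat_lit 3)), ((nat_lit 480), (nat_lit 3)), ((nat_lit 496), (nat_lit 1)), ((nat_lit 514), (nat_lit 2)), ((nat_lit 515), (nat_lit 2)), ((nat_lit 516), (nat_lit 3))]⟩,
  ⟨false, (nat_lit 0), [nat_lit 16], [nat_lit 3, nat_lit 3], [((nat_lit 415), (nat_lit 2)), ((nat_lit 417), (nat_lit 3)), ((nat_lit 418), (nat_lit 3)), ((nat_lit 420), (nat_lit 3)), ((nat_lit 457), (nat_lit 1)), ((nat_lit 472), (nat_lit 1)), ((nat_lit 478), (nat_lit 1)), ((nat_lit 493), (nat_lit 1)), ((nat_lit 494), (nat_lit 1)), ((nat_lit 502), (nat_lit 3)), ((nat_lit 504), (nat_lit 3)), ((nat_lit 516), (nat_lit 3))]⟩,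
  ⟨false, (nat_lit 0), [nat_lit 7], [nat_lit 5, nat_lit 5], [((nat_lit 228), (nat_lit 2)), ((nat_lit 354), (nat_lit 1)), ((nat_lit 362), (nat_lit 1)), ((nat_lit 417), (nat_lit 1)), ((nat_lit 425), (nat_lit 1)), ((nat_lit 428), (nat_lit 1)), ((nat_lit 459), (nat_lit 1)), ((nat_lit 461), (nat_lit 1)), ((nat_lit 467), (nat_lit 1)), ((nat_lit 470), (nat_lit 1)), ((nat_lit 472), (nat_lit 1)), ((nat_lit 509), (nat_lit 2)), ((nat_lit 512), (nat_lit 3)), ((nat_lit 514), (nat_lit 1)), ((nat_lit 516), (nat_lit 2))]⟩,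
  ⟨false, (nat_lit 0), [nat_lit 16], [nat_lit 2, nat_lit 1], [((nat_lit 419), (nat_lit 3)), ((nat_lit 456), (nat_lit 3)), ((nat_lit 461), (nat_lit 3)), ((nat_lit 476), (nat_lit 1)), ((nat_lit 493), (nat_lit 2)), ((nat_lit 494), (nat_lit 3)), ((nat_lit 497), (nat_lit 1)), ((nat_lit 503), (nat_lit 3)), ((nat_lit 514), (nat_lit 3)), ((nat_lit 515), (nat_lit 3))]⟩,
  ⟨false, (nat_lit 0), [nat_lit 17], [nat_lit 3, nat_lit 1], [((nat_lit 441), (nat_lit 3)), ((nat_lit 455), (nat_lit 1)), ((nat_lit 462), (nat_lit 3)), ((nat_lit 476), (nat_lit 1)), ((nat_lit 483), (nat_lit 3)), ((nat_lit 497), (nat_lit 1)), ((nat_lit 499), (nat_lit 3)), ((nat_lit 514), (nat_lit 1))]⟩,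
  ⟨false, (nat_lit 0), [nat_lit 11], [nat_lit 6, nat_lit 1], [((nat_lit 355), (nat_lit 3)), ((nat_lit 360), (nat_lit 3)), ((nat_lit 455), (nat_lit 1)), ((nat_lit 465), (nat_lit 3)), ((nat_lit 467), (nat_lit 3)), ((nat_lit 497), (nat_lit 1)), ((nat_lit 509), (nat_lit 3)), ((nat_lit 514), (nat_lit 1)), ((nat_lit 516), (nat_lit 3))]⟩,
  ⟨false, (nat_lit 0), [nat_lit 13], [nat_lit 7, nat_lit 3], [((nat_lit 361), (nat_lit 3)), ((nat_lit 457), (nat_lit 1)), ((nat_lit 461), (nat_lit 3)), ((nat_lit 499), (nat_lit 1)), ((nat_lit 503), (nat_lit 3)), ((nat_lit 508), (nat_lit 3)), ((nat_lit 515), (nat_lit 1)), ((nat_lit 516), (nat_lit 3))]⟩,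
  ⟨false, (nat_lit 0), [nat_lit 11], [nat_lit 9, nat_lit 3], [((nat_lit 381), (nat_lit 1)), ((nat_lit 457), (nat_lit 1)), ((nat_lit 468), (nat_lit 3)), ((nat_lit 484), (nat_lit 3)), ((nat_lit 489), (nat_lit 3)), ((nat_lit 494), (nat_lit 1)), ((nat_lit 499), (nat_lit 1)), ((nat_lit 505), (nat_lit 3)), ((nat_lit 514), (nat_lit 1))]⟩,
  ⟨false, (nat_lit 0), [nat_lit 8], [nat_lit 5, nat_lit 5], [((nat_lit 249), (nat_lit 2)), ((nat_lit 354), (nat_lit 1)), ((nat_lit 362), (nat_lit 1)), ((nat_lit 417), (nat_lit 1)), ((nat_lit 425), (nat_lit 1)), ((nat_lit 428), (nat_lit 1)), ((nat_lit 459), (nat_lit 1)), ((nat_lit 462), (nat_lit 1)), ((nat_lit 467), (nat_lit 1)), ((nat_lit 470), (nat_lit 1)), ((nat_lit 472), (nat_lit 1)), ((nat_lit 501), (nat_lit 1)), ((nat_lit 509), (nat_lit 1)), ((nat_lit 512), (nat_lit 2)), ((nat_lit 514), (nat_lit 2)), ((nat_lit 516), (nat_lit 3))]⟩,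
  ⟨false, (nat_lit 0), [nat_lit 15], [nat_lit 5, nat_lit 2], [((nat_lit 400), (nat_lit 3)), ((nat_lit 456), (nat_lit 1)), ((nat_lit 459), (nat_lit 3)), ((nat_lit 477), (nat_lit 1)), ((nat_lit 484), (nat_lit 3)), ((nat_lit 493), (nat_lit 3)), ((nat_lit 498), (nat_lit 1)), ((nat_lit 505), (nat_lit 3)), ((nat_lit 514), (nat_lit 3)), ((nat_lit 515), (nat_lit 3))]⟩,
  ⟨false, (nat_lit 0), [nat_lit 8], [nat_lit 6, nat_lit 6], [((nat_lit 250), (nat_lit 2)), ((nat_lit 355), (nat_lit 1)), ((nat_lit 362), (nat_lit 1)), ((nat_lit 420), (nat_lit 1)), ((nat_lit 425), (nat_lit 2)), ((nat_lit 439), (nat_lit 1)), ((nat_lit 446), (nat_lit 1)), ((nat_lit 450), (nat_lit 1)), ((nat_lit 488), (nat_lit 2)), ((nat_lit 492), (nat_lit 2)), ((nat_lit 494), (nat_lit 1)), ((nat_lit 504), (nat_lit 1)), ((nat_lit 512), (nat_lit 1)), ((nat_lit 513), (nat_lit 1)), ((nat_lit 515), (nat_lit 1)), ((nat_lit 516), (nat_lit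 2))]⟩,
  ⟨false, (nat_lit 0), [nat_lit 11], [nat_lit 1, nat_lit 0], [((nat_lit 312), (nat_lit 3)), ((nat_lit 349), (nat_lit 1)), ((nat_lit 350), (nat_lit 3)), ((nat_lit 455), (nat_lit 3)), ((nat_lit 467), (nat_lit 1)), ((nat_lit 501), (nat_lit 3)), ((nat_lit 515), (nat_lit 1))]⟩,
  ⟨false, (nat_lit 0), [nat_lit 13], [nat_lit 2, nat_lit 0], [((nat_lit 355), (nat_lit 3)), ((nat_lit 412), (nat_lit 1)), ((nat_lit 418), (nat_lit 3)), ((nat_lit 456), (nat_lit 3)), ((nat_lit 460), (nat_lit 3)), ((nat_lit 470), (nat_lit 1)), ((nat_lit 477), (nat_lit 3)), ((nat_lit 491), (nat_lit 1)), ((nat_lit 502), (nat_lit 3)), ((nat_lit 512), (nat_lit 3)), ((nat_lit 514), (nat_lit 3)), ((nat_lit 516), (nat_lit 3))]⟩,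
  ⟨false, (nat_lit 0), [nat_lit 14], [nat_lit 2, nat_lit 0], [((nat_lit 376), (nat_lit 3)), ((nat_lit 412), (nat_lit 1)), ((nat_lit 414), (nat_lit 3)), ((nat_lit 475), (nat_lit 1)), ((nat_lit 477), (nat_lit 3)), ((nat_lit 481), (nat_lit 3))]⟩,
  ⟨false, (nat_lit 0), [nat_lit 5], [nat_lit 5, nat_lit 0], [((nat_lit 181), (nat_lit 2)), ((nat_lit 417), (nat_lit 3)), ((nat_lit 428), (nat_lit 3)), ((nat_lit 438), (nat_lit 3)), ((nat_lit 449), (nat_lit 3)), ((nat_lit 450), (nat_lit 3)), ((nat_lit 454), (nat_lit 1)), ((nat_lit 470), (nat_lit 2)), ((nat_lit 471), (nat_lit 2)), ((nat_lit 480), (nat_lit 3)), ((nat_lit 491), (nat_lit 3)), ((nat_lit 492), (nat_lit 3)), ((nat_lit 494), (nat_lit 3)), ((nat_lit 501), (nat_lit 3)), ((nat_lit 512), (nat_lit 3)), ((nat_lit 513), (nat_lit 2)), ((nat_lit 515), (nat_lit 3)), ((nat_lit 516), (nat_lit 2))]⟩,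
  ⟨false, (nat_lit 0), [nat_lit 13], [nat_lit 2, nat_lit 1], [((nat_lit 356), (nat_lit 3)), ((nat_lit 413), (nat_lit 1)), ((nat_lit 419), (nat_lit 3)), ((nat_lit 456), (nat_lit 3)), ((nat_lit 461), (nat_lit 3)), ((nat_lit 482), (nat_lit 3)), ((nat_lit 493), (nat_lit 3)), ((nat_lit 494), (nat_lit 3)), ((nat_lit 512), (nat_lit 3)), ((nat_lit 514), (nat_lit 3)), ((nat_lit 515), (nat_lit 3)), ((nat_lit 516), (nat_lit 3))]⟩,
  ⟨false, (nat_lit 0), [nat_lit 14], [nat_lit 4, nat_lit 1], [((nat_lit 378), (nat_lit 3)), ((nat_lit 434), (nat_lit 1)), ((nat_lit 437), (nat_lit 3)), ((nat_lit 468), (nat_lit 1)), ((nat_lit 471), (nat_lit 2)), ((nat_lit 489), (nat_lit 1)), ((nat_lit 492), (nat_lit 2)), ((nat_lit 497), (nat_lit 1)), ((nat_lit 513), (nat_lit 3))]⟩,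
  ⟨false, (nat_lit 0), [nat_lit 5], [nat_lit 5, nat_lit 1], [((nat_lit 182), (nat_lit 2)), ((nat_lit 417), (nat_lit 3)), ((nat_lit 428), (nat_lit 3)), ((nat_lit 438), (nat_lit 3)), ((nat_lit 449), (nat_lit 3)), ((nat_lit 450), (nat_lit 3)), ((nat_lit 455), (nat_lit 1)), ((nat_lit 470), (nat_lit 2)), ((nat_lit 471), (nat_lit 2)), ((nat_lit 480), (nat_lit 3)), ((nat_lit 491), (nat_lit 3)), ((nat_lit 492), (nat_lit 3)), ((nat_lit 494), (nat_lit 3)), ((nat_lit 501), (nat_lit 3)), ((nat_lit 512), (nat_lit 3)), ((nat_lit 513), (nat_lit 2)), ((nat_lit 515), (nat_lit 3)), ((nat_lit 516), (nat_lit 2))]⟩,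
  ⟨false, (nat_lit 0), [nat_lit 15], [nat_lit 2, nat_lit 2], [((nat_lit 393), (nat_lit 2)), ((nat_lit 397), (nat_lit 3)), ((nat_lit 401), (nat_lit 3)), ((nat_lit 403), (nat_lit 3)), ((nat_lit 448), (nat_lit 1)), ((nat_lit 456), (nat_lit 1)), ((nat_lit 469), (nat_lit 1)), ((nat_lit 472), (nat_lit 1)), ((nat_lit 487), (nat_lit 3)), ((nat_lit 492), (nat_lit 3)), ((nat_lit 493), (nat_lit 1))]⟩,
  ⟨false, (nat_lit 0), [nat_lit 15], [nat_lit 3, nat_lit 3], [((nat_lit 394), (nat_lit 2)), ((nat_lit 396), (nat_lit 3)), ((nat_lit 397), (nat_lit 3)), ((nat_lit 399), (nat_lit 3)), ((nat_lit 427), (nat_lit 1)), ((nat_lit 460), (nat_lit 3)), ((nat_lit 462), (nat_lit 3)), ((nat_lit 472), (nat_lit 3)), ((nat_lit 481), (nat_lit 3)), ((nat_lit 483), (nat_lit 3)), ((nat_lit 490), (nat_lit 1)), ((nat_lit 493), (nat_lit 3)), ((nat_lit 494), (nat_lit 3)), ((nat_lit 502), (nat_lit 3)), ((nat_lit 514), (nat_lit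 3)), ((nat_lit 515), (nat_lit 3)), ((nat_lit 516), (nat_lit 2))]⟩,
  ⟨false, (nat_lit 0), [nat_lit 5], [nat_lit 5, nat_lit 4], [((nat_lit 185), (nat_lit 2)), ((nat_lit 291), (nat_lit 3)), ((nat_lit 296), (nat_lit 3)), ((nat_lit 354), (nat_lit 3)), ((nat_lit 359), (nat_lit 3)), ((nat_lit 362), (nat_lit 3)), ((nat_lit 458), (nat_lit 1)), ((nat_lit 459), (nat_lit 3)), ((nat_lit 464), (nat_lit 3)), ((nat_lit 467), (nat_lit 3)), ((nat_lit 472), (nat_lit 3)), ((nat_lit 480), (nat_lit 3)), ((nat_lit 485), (nat_lit 3)), ((nat_lit 488), (nat_lit 3)), ((nat_lit 494), (nat_lit 3)), ((nat_lit 509), (nat_lit 1)), ((nat_lit 515), (nat_lit 3)), ((nat_lit 516), (nat_lit 2))]⟩,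
  ⟨false, (nat_lit 0), [nat_lit 12], [nat_lit 12, nat_lit 5], [((nat_lit 333), (nat_lit 2)), ((nat_lit 424), (nat_lit 3)), ((nat_lit 428), (nat_lit 3)), ((nat_lit 445), (nat_lit 3)), ((nat_lit 449), (nat_lit 3)), ((nat_lit 450), (nat_lit 3)), ((nat_lit 466), (nat_lit 3)), ((nat_lit 470), (nat_lit 3)), ((nat_lit 471), (nat_lit 3)), ((nat_lit 472), (nat_lit 3)), ((nat_lit 487), (nat_lit 3)), ((nat_lit 491), (nat_lit 3)), ((nat_lit 492), (nat_lit 3)), ((nat_lit 493), (nat_lit 3)), ((nat_lit 494), (nat_lit 3)), ((nat_lit 501), (nat_lit 1)), ((nat_lit 508), (nat_lit 3)), ((nat_lit 512), (nat_lit 3)), ((nat_lit 514), (nat_lit 3)), ((nat_lit 515), (nat_lit 3)), ((nat_lit 516), (nat_lit 2))]⟩,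
  ⟨false, (nat_lit 0), [nat_lit 9], [nat_lit 1, nat_lit 0], [((nat_lit 270), (nat_lit 3)), ((nat_lit 349), (nat_lit 1)), ((nat_lit 350), (nat_lit 3)), ((nat_lit 454), (nat_lit 1)), ((nat_lit 467), (nat_lit 3)), ((nat_lit 493), (nat_lit 1)), ((nat_lit 501), (nat_lit 3)), ((nat_lit 515), (nat_lit 1))]⟩,
  ⟨false, (nat_lit 0), [nat_lit 15], [nat_lit 3, nat_lit 1], [((nat_lit 399), (nat_lit 3)), ((nat_lit 415), (nat_lit 3)), ((nat_lit 420), (nat_lit 3)), ((nat_lit 457), (nat_lit 3)), ((nat_lit 470), (nat_lit 3)), ((nat_lit 472), (nat_lit 3)), ((nat_lit 478), (nat_lit 3)), ((nat_lit 483), (nat_lit 3)), ((nat_lit 491), (nat_lit 3)), ((nat_lit 493), (nat_lit 3)), ((nat_lit 494), (nat_lit 2)), ((nat_lit 512), (nat_lit 3)), ((nat_lit 515), (nat_lit 3)), ((nat_lit 516), (nat_lit 3))]⟩,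
  ⟨false, (nat_lit 0), [nat_lit 11], [nat_lit 5, nat_lit 2], [((nat_lit 316), (nat_lit 3)), ((nat_lit 396), (nat_lit 3)), ((nat_lit 400), (nat_lit 3)), ((nat_lit 463), (nat_lit 3)), ((nat_lit 469), (nat_lit 3)), ((nat_lit 472), (nat_lit 3)), ((nat_lit 477), (nat_lit 1)), ((nat_lit 490), (nat_lit 3)), ((nat_lit 493), (nat_lit 2)), ((nat_lit 494), (nat_lit 3)), ((nat_lit 505), (nat_lit 3)), ((nat_lit 511), (nat_lit 3)), ((nat_lit 515), (nat_lit 3)), ((nat_lit 516), (nat_lit 3))]⟩,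
  ⟨false, (nat_lit 0), [nat_lit 15], [nat_lit 2, nat_lit 0], [((nat_lit 397), (nat_lit 3)), ((nat_lit 414), (nat_lit 3)), ((nat_lit 418), (nat_lit 3)), ((nat_lit 454), (nat_lit 1)), ((nat_lit 456), (nat_lit 3)), ((nat_lit 470), (nat_lit 3)), ((nat_lit 477), (nat_lit 3)), ((nat_lit 481), (nat_lit 3)), ((nat_lit 494), (nat_lit 3)), ((nat_lit 514), (nat_lit 3)), ((nat_lit 515), (nat_lit 2)), ((nat_lit 516), (nat_lit 3))]⟩,
  ⟨false, (nat_lit 0), [nat_lit 16], [nat_lit 4, nat_lit 1], [((nat_lit 420), (nat_lit 3)), ((nat_lit 455), (nat_lit 1)), ((nat_lit 458), (nat_lit 3)), ((nat_lit 470), (nat_lit 1)), ((nat_lit 476), (nat_lit 1)), ((nat_lit 491), (nat_lit 1)), ((nat_lit 494), (nat_lit 3)), ((nat_lit 514), (nat_lit 3)), ((nat_lit 515), (nat_lit 3))]⟩,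
  ⟨false, (nat_lit 0), [nat_lit 10], [nat_lit 10, nat_lit 7], [((nat_lit 293), (nat_lit 2)), ((nat_lit 422), (nat_lit 3)), ((nat_lit 428), (nat_lit 3)), ((nat_lit 443), (nat_lit 3)), ((nat_lit 449), (nat_lit 3)), ((nat_lit 450), (nat_lit 3)), ((nat_lit 464), (nat_lit 3)), ((nat_lit 470), (nat_lit 3)), ((nat_lit 471), (nat_lit 3)), ((nat_lit 472), (nat_lit 3)), ((nat_lit 482), (nat_lit 1)), ((nat_lit 485), (nat_lit 3)), ((nat_lit 491), (nat_lit 3)), ((nat_lit 492), (nat_lit 3)), ((nat_lit 493), (nat_lit 3)), ((nat_lit 494), (nat_lit 3)), ((nat_lit 503), (nat_lit 1)), ((nat_lit 506), (nat_lit 3)), ((nat_lit 512), (nat_lit 3)), ((nat_lit 513), (nat_lit 3)), ((nat_lit 514), (nat_lit 3)), ((nat_lit 515), (nat_lit 3)), ((nat_lit 516), (nat_lit 3))]⟩,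
  ⟨false, (nat_lit 0), [nat_lit 6], [nat_lit 6, nat_lit 5], [((nat_lit 207), (nat_lit 2)), ((nat_lit 355), (nat_lit 3)), ((nat_lit 362), (nat_lit 3)), ((nat_lit 417), (nat_lit 1)), ((nat_lit 418), (nat_lit 3)), ((nat_lit 425), (nat_lit 3)), ((nat_lit 428), (nat_lit 3)), ((nat_lit 460), (nat_lit 3)), ((nat_lit 467), (nat_lit 3)), ((nat_lit 470), (nat_lit 3)), ((nat_lit 472), (nat_lit 3)), ((nat_lit 481), (nat_lit 3)), ((nat_lit 488), (nat_lit 3)), ((nat_lit 491), (nat_lit 3)), ((nat_lit 493), (nat_lit 3)), ((nat_lit 494), (nat_lit 3)), ((nat_lit 501), (nat_lit 1)), ((nat_lit 509), (nat_lit 2)), ((nat_lit 514), (nat_lit 3)), ((nat_lit 515), (nat_lit 2)), ((nat_lit 516), (nat_lit 3))]⟩,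
  ⟨false, (nat_lit 0), [nat_lit 9], [nat_lit 9, nat_lit 4], [((nat_lit 269), (nat_lit 2)), ((nat_lit 358), (nat_lit 3)), ((nat_lit 362), (nat_lit 3)), ((nat_lit 379), (nat_lit 3)), ((nat_lit 383), (nat_lit 3)), ((nat_lit 384), (nat_lit 3)), ((nat_lit 421), (nat_lit 3)), ((nat_lit 425), (nat_lit 3)), ((nat_lit 426), (nat_lit 3)), ((nat_lit 428), (nat_lit 3)), ((nat_lit 484), (nat_lit 3)), ((nat_lit 488), (nat_lit 3)), ((nat_lit 489), (nat_lit 3)), ((nat_lit 491), (nat_lit 3)), ((nat_lit 494), (nat_lit 3)), ((nat_lit 505), (nat_lit 3)), ((nat_lit 510), (nat_lit 1)), ((nat_lit 512), (nat_lit 1)), ((nat_lit 515), (nat_lit 1)), ((nat_lit 516), (nat_lit 2))]⟩,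
  ⟨false, (nat_lit 0), [nat_lit 10], [nat_lit 10, nat_lit 2], [((nat_lit 288), (nat_lit 2)), ((nat_lit 359), (nat_lit 3)), ((nat_lit 362), (nat_lit 3)), ((nat_lit 380), (nat_lit 3)), ((nat_lit 383), (nat_lit 3)), ((nat_lit 384), (nat_lit 3)), ((nat_lit 464), (nat_lit 3)), ((nat_lit 467), (nat_lit 3)), ((nat_lit 468), (nat_lit 3)), ((nat_lit 472), (nat_lit 3)), ((nat_lit 477), (nat_lit 1)), ((nat_lit 488), (nat_lit 2)), ((nat_lit 489), (nat_lit 2)), ((nat_lit 493), (nat_lit 2)), ((nat_lit 498), (nat_lit 1)), ((nat_lit 509), (nat_lit 2)), ((nat_lit 510), (nat_lit 2)), ((nat_lit 514), (nat_lit 2)), ((nat_lit 515), (nat_lit 3))]⟩,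
  ⟨false, (nat_lit 0), [nat_lit 14], [nat_lit 2, nat_lit 1], [((nat_lit 377), (nat_lit 3)), ((nat_lit 413), (nat_lit 1)), ((nat_lit 419), (nat_lit 3)), ((nat_lit 435), (nat_lit 3)), ((nat_lit 440), (nat_lit 3)), ((nat_lit 449), (nat_lit 1)), ((nat_lit 461), (nat_lit 3)), ((nat_lit 476), (nat_lit 1)), ((nat_lit 482), (nat_lit 3)), ((nat_lit 491), (nat_lit 3)), ((nat_lit 492), (nat_lit 3)), ((nat_lit 493), (nat_lit 3)), ((nat_lit 494), (nat_lit 3)), ((nat_lit 512), (nat_lit 3)), ((nat_lit 513), (nat_lit 3)), ((nat_lit 515), (nat_lit 2)), ((nat_lit 516), (nat_lit 3))]⟩,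
  ⟨false, (nat_lit 0), [nat_lit 11], [nat_lit 3, nat_lit 1], [((nat_lit 315), (nat_lit 3)), ((nat_lit 352), (nat_lit 3)), ((nat_lit 357), (nat_lit 3)), ((nat_lit 462), (nat_lit 3)), ((nat_lit 467), (nat_lit 3)), ((nat_lit 472), (nat_lit 3)), ((nat_lit 476), (nat_lit 1)), ((nat_lit 483), (nat_lit 3)), ((nat_lit 488), (nat_lit 2)), ((nat_lit 493), (nat_lit 3)), ((nat_lit 494), (nat_lit 3)), ((nat_lit 497), (nat_lit 1)), ((nat_lit 509), (nat_lit 2)), ((nat_lit 514), (nat_lit 2)), ((nat_lit 515), (nat_lit 3)), ((nat_lit 516), (nat_lit 3))]⟩,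
  ⟨false, (nat_lit 0), [nat_lit 14], [nat_lit 3, nat_lit 1], [((nat_lit 378), (nat_lit 3)), ((nat_lit 413), (nat_lit 1)), ((nat_lit 420), (nat_lit 3)), ((nat_lit 434), (nat_lit 1)), ((nat_lit 436), (nat_lit 3)), ((nat_lit 449), (nat_lit 1)), ((nat_lit 455), (nat_lit 1)), ((nat_lit 476), (nat_lit 1)), ((nat_lit 492), (nat_lit 3)), ((nat_lit 493), (nat_lit 3)), ((nat_lit 494), (nat_lit 3)), ((nat_lit 504), (nat_lit 3)), ((nat_lit 514), (nat_lit 1)), ((nat_lit 515), (nat_lit 1))]⟩,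
  ⟨false, (nat_lit 0), [nat_lit 11], [nat_lit 3, nat_lit 3], [((nat_lit 310), (nat_lit 2)), ((nat_lit 312), (nat_lit 3)), ((nat_lit 313), (nat_lit 3)), ((nat_lit 315), (nat_lit 3)), ((nat_lit 423), (nat_lit 1)), ((nat_lit 462), (nat_lit 3)), ((nat_lit 472), (nat_lit 3)), ((nat_lit 478), (nat_lit 1)), ((nat_lit 481), (nat_lit 3)), ((nat_lit 483), (nat_lit 3)), ((nat_lit 486), (nat_lit 1)), ((nat_lit 493), (nat_lit 3)), ((nat_lit 499), (nat_lit 1)), ((nat_lit 504), (nat_lit 3)), ((nat_lit 512), (nat_lit 3)), ((nat_lit 514), (nat_lit 3))]⟩,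
  ⟨false, (nat_lit 0), [nat_lit 0], [nat_lit 0, nat_lit 0], [((nat_lit 265), (nat_lit 1)), ((nat_lit 307), (nat_lit 1)), ((nat_lit 349), (nat_lit 1)), ((nat_lit 360), (nat_lit 1)), ((nat_lit 362), (nat_lit 1)), ((nat_lit 370), (nat_lit 1)), ((nat_lit 391), (nat_lit 1)), ((nat_lit 427), (nat_lit 1)), ((nat_lit 428), (nat_lit 1)), ((nat_lit 433), (nat_lit 1)), ((nat_lit 454), (nat_lit 1)), ((nat_lit 467), (nat_lit 1)), ((nat_lit 471), (nat_lit 1)), ((nat_lit 472), (nat_lit 2)), ((nat_lit 489), (nat_lit 1)), ((nat_lit 491), (nat_lit 1)), ((nat_lit 492), (nat_lit 1)), ((nat_lit 493), (nat_lit 1)), ((nat_lit 494), (nat_lit 2)), ((nat_lit 496), (nat_lit 1)), ((nat_lit 509), (nat_lit 1)), ((nat_lit 516), (nat_lit 1))]⟩,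
  ⟨false, (nat_lit 0), [nat_lit 14], [nat_lit 1, nat_lit 0], [((nat_lit 375), (nat_lit 3)), ((nat_lit 413), (nat_lit 3)), ((nat_lit 417), (nat_lit 3)), ((nat_lit 433), (nat_lit 1)), ((nat_lit 438), (nat_lit 3)), ((nat_lit 449), (nat_lit 3)), ((nat_lit 459), (nat_lit 3)), ((nat_lit 476), (nat_lit 3)), ((nat_lit 480), (nat_lit 3)), ((nat_lit 491), (nat_lit 3)), ((nat_lit 501), (nat_lit 3)), ((nat_lit 512), (nat_lit 3)), ((nat_lit 514), (nat_lit 3)), ((nat_lit 515), (nat_lit 3)), ((nat_lit 516), (nat_lit 2))]⟩,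
  ⟨false, (nat_lit 0), [nat_lit 11], [nat_lit 2, nat_lit 1], [((nat_lit 314), (nat_lit 3)), ((nat_lit 351), (nat_lit 3)), ((nat_lit 356), (nat_lit 3)), ((nat_lit 392), (nat_lit 1)), ((nat_lit 398), (nat_lit 3)), ((nat_lit 404), (nat_lit 3)), ((nat_lit 419), (nat_lit 3)), ((nat_lit 469), (nat_lit 3)), ((nat_lit 470), (nat_lit 3)), ((nat_lit 488), (nat_lit 3)), ((nat_lit 490), (nat_lit 3)), ((nat_lit 493), (nat_lit 3)), ((nat_lit 494), (nat_lit 3)), ((nat_lit 503), (nat_lit 3)), ((nat_lit 511), (nat_lit 3)), ((nat_lit 512), (nat_lit 2)), ((nat_lit 515), (nat_lit 2)), ((nat_lit 516), (nat_lit 3))]⟩,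
  ⟨false, (nat_lit 0), [nat_lit 10], [nat_lit 10, nat_lit 1], [((nat_lit 287), (nat_lit 2)), ((nat_lit 359), (nat_lit 3)), ((nat_lit 362), (nat_lit 3)), ((nat_lit 422), (nat_lit 3)), ((nat_lit 425), (nat_lit 3)), ((nat_lit 428), (nat_lit 3)), ((nat_lit 464), (nat_lit 3)), ((nat_lit 467), (nat_lit 3)), ((nat_lit 470), (nat_lit 3)), ((nat_lit 472), (nat_lit 3)), ((nat_lit 476), (nat_lit 1)), ((nat_lit 485), (nat_lit 3)), ((nat_lit 488), (nat_lit 3)), ((nat_lit 491), (nat_lit 3)), ((nat_lit 493), (nat_lit 3)), ((nat_lit 494), (nat_lit 3)), ((nat_lit 497), (nat_lit 1)), ((nat_lit 506), (nat_lit 3)), ((nat_lit 509), (nat_lit 3)), ((nat_lit 512), (nat_lit 1)), ((nat_lit 514), (nat_lit 1)), ((nat_lit 515), (nat_lit 2)), ((nat_lit 516), (nat_lit 3))]⟩,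
  ⟨false, (nat_lit 0), [nat_lit 14], [nat_lit 1, nat_lit 1], [((nat_lit 371), (nat_lit 2)), ((nat_lit 375), (nat_lit 3)), ((nat_lit 379), (nat_lit 3)), ((nat_lit 381), (nat_lit 3)), ((nat_lit 383), (nat_lit 3)), ((nat_lit 405), (nat_lit 1)), ((nat_lit 426), (nat_lit 1)), ((nat_lit 434), (nat_lit 1)), ((nat_lit 450), (nat_lit 1)), ((nat_lit 484), (nat_lit 3)), ((nat_lit 486), (nat_lit 3)), ((nat_lit 489), (nat_lit 1)), ((nat_lit 492), (nat_lit 2)), ((nat_lit 494), (nat_lit 3)), ((nat_lit 505), (nat_lit 3)), ((nat_lit 507), (nat_lit 3)), ((nat_lit 509), (nat_lit 3)), ((nat_lit 510), (nat_lit 3)), ((nat_lit 511), (nat_lit 3)), ((nat_lit 512), (nat_lit 3)), ((nat_lit 515), (nat_lit 3))]⟩,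
  ⟨false, (nat_lit 0), [nat_lit 6], [nat_lit 6, nat_lit 2], [((nat_lit 204), (nat_lit 2)), ((nat_lit 355), (nat_lit 3)), ((nat_lit 362), (nat_lit 3)), ((nat_lit 376), (nat_lit 3)), ((nat_lit 383), (nat_lit 3)), ((nat_lit 384), (nat_lit 3)), ((nat_lit 414), (nat_lit 1)), ((nat_lit 418), (nat_lit 3)), ((nat_lit 425), (nat_lit 3)), ((nat_lit 426), (nat_lit 3)), ((nat_lit 428), (nat_lit 3)), ((nat_lit 439), (nat_lit 3)), ((nat_lit 446), (nat_lit 3)), ((nat_lit 447), (nat_lit 3)), ((nat_lit 449), (nat_lit 3)), ((nat_lit 450), (nat_lit 3)), ((nat_lit 488), (nat_lit 3)), ((nat_lit 489), (nat_lit 3)), ((nat_lit 491), (nat_lit 3)), ((nat_lit 492), (nat_lit 3)), ((nat_lit 498), (nat_lit 1)), ((nat_lit 509), (nat_lit 2)), ((nat_lit 510), (nat_lit 3)), ((nat_lit 513), (nat_lit 3)), ((nat_lit 515), (nat_lit 3)), ((nat_lit 516), (nat_lit 3))]⟩,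
  ⟨false, (nat_lit 0), [nat_lit 6], [nat_lit 6, nat_lit 3], [((nat_lit 205), (nat_lit 2)), ((nat_lit 313), (nat_lit 3)), ((nat_lit 318), (nat_lit 3)), ((nat_lit 376), (nat_lit 3)), ((nat_lit 381), (nat_lit 3)), ((nat_lit 384), (nat_lit 3)), ((nat_lit 415), (nat_lit 1)), ((nat_lit 423), (nat_lit 2)), ((nat_lit 426), (nat_lit 2)), ((nat_lit 465), (nat_lit 3)), ((nat_lit 468), (nat_lit 2)), ((nat_lit 489), (nat_lit 3)), ((nat_lit 491), (nat_lit 3)), ((nat_lit 493), (nat_lit 3)), ((nat_lit 499), (nat_lit 1)), ((nat_lit 507), (nat_lit 2)), ((nat_lit 510), (nat_lit 1)), ((nat_lit 512), (nat_lit 3)), ((nat_lit 515), (nat_lit 3)), ((nat_lit 516), (nat_lit 2))]⟩,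
  ⟨false, (nat_lit 0), [nat_lit 9], [nat_lit 7, nat_lit 3], [((nat_lit 337), (nat_lit 1)), ((nat_lit 377), (nat_lit 3)), ((nat_lit 382), (nat_lit 3)), ((nat_lit 415), (nat_lit 1)), ((nat_lit 424), (nat_lit 3)), ((nat_lit 426), (nat_lit 3)), ((nat_lit 457), (nat_lit 1)), ((nat_lit 466), (nat_lit 3)), ((nat_lit 470), (nat_lit 1)), ((nat_lit 472), (nat_lit 1)), ((nat_lit 487), (nat_lit 3)), ((nat_lit 491), (nat_lit 3)), ((nat_lit 508), (nat_lit 3)), ((nat_lit 514), (nat_lit 3)), ((nat_lit 515), (nat_lit 3)), ((nat_lit 516), (nat_lit 3))]⟩]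
noncomputable def I2_0 : List Pc.Idn := [⟨false, (nat_lit 0), [nat_lit 20], [nat_lit 20, nat_lit 1], [((nat_lit 497), (nat_lit 2))]⟩,
  ⟨false, (nat_lit 0), [nat_lit 20], [nat_lit 20, nat_lit 2], [((nat_lit 498), (nat_lit 2))]⟩,
  ⟨false, (nat_lit 0), [nat_lit 15], [nat_lit 15, nat_lit 3], [((nat_lit 394), (nat_lit 2))]⟩,
  ⟨false, (nat_lit 0), [nat_lit 5], [nat_lit 5, nat_lit 5], [((nat_lit 459), (nat_lit 1))]⟩,
  ⟨false, (nat_lit 0), [nat_lit 19], [nat_lit 19, nat_lit 5], [((nat_lit 480), (nat_lit 2))]⟩,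
  ⟨false, (nat_lit 0), [nat_lit 20], [nat_lit 20, nat_lit 5], [((nat_lit 501), (nat_lit 2))]⟩,
  ⟨false, (nat_lit 0), [nat_lit 14], [nat_lit 14, nat_lit 6], [((nat_lit 376), (nat_lit 2))]⟩,
  ⟨false, (nat_lit 0), [nat_lit 15], [nat_lit 15, nat_lit 6], [((nat_lit 397), (nat_lit 2))]⟩,
  ⟨false, (nat_lit 0), [nat_lit 16], [nat_lit 16, nat_lit 6], [((nat_lit 418), (nat_lit 2))]⟩,
  ⟨false, (nat_lit 0), [nat_lit 19], [nat_lit 19, nat_lit 7], [((nat_lit 482), (nat_lit 2))]⟩,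
  ⟨false, (nat_lit 0), [nat_lit 20], [nat_lit 20, nat_lit 7], [((nat_lit 503), (nat_lit 2))]⟩,
  ⟨false, (nat_lit 0), [nat_lit 14], [nat_lit 14, nat_lit 8], [((nat_lit 378), (nat_lit 2))]⟩,
  ⟨false, (nat_lit 0), [nat_lit 20], [nat_lit 20, nat_lit 8], [((nat_lit 504), (nat_lit 2))]⟩,
  ⟨false, (nat_lit 0), [nat_lit 14], [nat_lit 14, nat_lit 9], [((nat_lit 379), (nat_lit 2))]⟩,
  ⟨false, (nat_lit 0), [nat_lit 16], [nat_lit 16, nat_lit 9], [((nat_lit 421), (nat_lit 2))]⟩,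
  ⟨false, (nat_lit 0), [nat_lit 17], [nat_lit 17, nat_lit 9], [((nat_lit 442), (nat_lit 2))]⟩,
  ⟨false, (nat_lit 0), [nat_lit 18], [nat_lit 18, nat_lit 9], [((nat_lit 463), (nat_lit 2))]⟩,
  ⟨false, (nat_lit 0), [nat_lit 19], [nat_lit 19, nat_lit 9], [((nat_lit 484), (nat_lit 2))]⟩,
  ⟨false, (nat_lit 0), [nat_lit 14], [nat_lit 14, nat_lit 10], [((nat_lit 380), (nat_lit 2))]⟩,
  ⟨false, (nat_lit 0), [nat_lit 17], [nat_lit 17, nat_lit 10], [((nat_lit 443), (nat_lit 2))]⟩,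
  ⟨false, (nat_lit 0), [nat_lit 19], [nat_lit 19, nat_lit 10], [((nat_lit 485), (nat_lit 2))]⟩,
  ⟨false, (nat_lit 0), [nat_lit 11], [nat_lit 11, nat_lit 11], [((nat_lit 507), (nat_lit 1))]⟩,
  ⟨false, (nat_lit 0), [nat_lit 15], [nat_lit 15, nat_lit 11], [((nat_lit 402), (nat_lit 2))]⟩,
  ⟨false, (nat_lit 0), [nat_lit 19], [nat_lit 19, nat_lit 11], [((nat_lit 486), (nat_lit 2))]⟩,
  ⟨false, (nat_lit 0), [nat_lit 12], [nat_lit 12, nat_lit 12], [((nat_lit 508), (nat_lit 1))]⟩,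
  ⟨false, (nat_lit 0), [nat_lit 15], [nat_lit 15, nat_lit 12], [((nat_lit 403), (nat_lit 2))]⟩,
  ⟨false, (nat_lit 0), [nat_lit 18], [nat_lit 18, nat_lit 12], [((nat_lit 466), (nat_lit 2))]⟩,
  ⟨false, (nat_lit 0), [nat_lit 19], [nat_lit 19, nat_lit 12], [((nat_lit 487), (nat_lit 2))]⟩,
  ⟨false, (nat_lit 0), [nat_lit 13], [nat_lit 13, nat_lit 13], [((nat_lit 509), (nat_lit 1))]⟩,
  ⟨false, (nat_lit 0), [nat_lit 14], [nat_lit 14, nat_lit 13], [((nat_lit 383), (nat_lit 2))]⟩,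
  ⟨false, (nat_lit 0), [nat_lit 16], [nat_lit 16, nat_lit 13], [((nat_lit 425), (nat_lit 2))]⟩,
  ⟨false, (nat_lit 0), [nat_lit 17], [nat_lit 17, nat_lit 13], [((nat_lit 446), (nat_lit 2))]⟩,
  ⟨false, (nat_lit 0), [nat_lit 15], [nat_lit 15, nat_lit 14], [((nat_lit 405), (nat_lit 2))]⟩,
  ⟨false, (nat_lit 0), [nat_lit 19], [nat_lit 19, nat_lit 14], [((nat_lit 489), (nat_lit 2))]⟩,
  ⟨false, (nat_lit 0), [nat_lit 17], [nat_lit 17, nat_lit 15], [((nat_lit 448), (nat_lit 2))]⟩,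
  ⟨false, (nat_lit 0), [nat_lit 18], [nat_lit 18, nat_lit 15], [((nat_lit 469), (nat_lit 2))]⟩,
  ⟨false, (nat_lit 0), [nat_lit 19], [nat_lit 19, nat_lit 15], [((nat_lit 490), (nat_lit 2))]⟩,
  ⟨false, (nat_lit 0), [nat_lit 19], [nat_lit 19, nat_lit 16], [((nat_lit 491), (nat_lit 2))]⟩,
  ⟨false, (nat_lit 0), [nat_lit 18], [nat_lit 18, nat_lit 17], [((nat_lit 471), (nat_lit 2))]⟩,
  ⟨false, (nat_lit 0), [nat_lit 20], [nat_lit 20, nat_lit 18], [((nat_lit 514), (nat_lit 2))]⟩,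
  ⟨false, (nat_lit 0), [nat_lit 19], [nat_lit 19, nat_lit 0], [((nat_lit 475), (nat_lit 2)), ((nat_lit 515), (nat_lit 3)), ((nat_lit 516), (nat_lit 3))]⟩,
  ⟨false, (nat_lit 0), [nat_lit 14], [nat_lit 14, nat_lit 1], [((nat_lit 371), (nat_lit 2)), ((nat_lit 447), (nat_lit 3)), ((nat_lit 450), (nat_lit 3))]⟩,
  ⟨false, (nat_lit 0), [nat_lit 16], [nat_lit 16, nat_lit 1], [((nat_lit 413), (nat_lit 2)), ((nat_lit 470), (nat_lit 3)), ((nat_lit 472), (nat_lit 3))]⟩,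
  ⟨false, (nat_lit 0), [nat_lit 17], [nat_lit 17, nat_lit 1], [((nat_lit 434), (nat_lit 2)), ((nat_lit 513), (nat_lit 3)), ((nat_lit 516), (nat_lit 3))]⟩,
  ⟨false, (nat_lit 0), [nat_lit 15], [nat_lit 15, nat_lit 2], [((nat_lit 393), (nat_lit 2)), ((nat_lit 469), (nat_lit 3)), ((nat_lit 472), (nat_lit 3))]⟩,
  ⟨false, (nat_lit 0), [nat_lit 17], [nat_lit 17, nat_lit 2], [((nat_lit 435), (nat_lit 2)), ((nat_lit 471), (nat_lit 3)), ((nat_lit 472), (nat_lit 3))]⟩,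
  ⟨false, (nat_lit 0), [nat_lit 18], [nat_lit 18, nat_lit 2], [((nat_lit 456), (nat_lit 2)), ((nat_lit 493), (nat_lit 3)), ((nat_lit 494), (nat_lit 3))]⟩,
  ⟨false, (nat_lit 0), [nat_lit 19], [nat_lit 19, nat_lit 2], [((nat_lit 477), (nat_lit 2)), ((nat_lit 515), (nat_lit 3)), ((nat_lit 516), (nat_lit 3))]⟩,
  ⟨false, (nat_lit 0), [nat_lit 9], [nat_lit 9, nat_lit 3], [((nat_lit 268), (nat_lit 2)), ((nat_lit 379), (nat_lit 3)), ((nat_lit 384), (nat_lit 3))]⟩,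
  ⟨false, (nat_lit 0), [nat_lit 18], [nat_lit 18, nat_lit 3], [((nat_lit 457), (nat_lit 2)), ((nat_lit 493), (nat_lit 3)), ((nat_lit 494), (nat_lit 3))]⟩,
  ⟨false, (nat_lit 0), [nat_lit 17], [nat_lit 17, nat_lit 4], [((nat_lit 437), (nat_lit 2)), ((nat_lit 513), (nat_lit 3)), ((nat_lit 516), (nat_lit 3))]⟩,
  ⟨false, (nat_lit 0), [nat_lit 9], [nat_lit 9, nat_lit 5], [((nat_lit 270), (nat_lit 2)), ((nat_lit 484), (nat_lit 3)), ((nat_lit 494), (nat_lit 3))]⟩,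
  ⟨false, (nat_lit 0), [nat_lit 16], [nat_lit 16, nat_lit 5], [((nat_lit 417), (nat_lit 2)), ((nat_lit 512), (nat_lit 3)), ((nat_lit 516), (nat_lit 3))]⟩,
  ⟨false, (nat_lit 0), [nat_lit 17], [nat_lit 17, nat_lit 5], [((nat_lit 438), (nat_lit 2)), ((nat_lit 513), (nat_lit 3)), ((nat_lit 516), (nat_lit 3))]⟩,
  ⟨false, (nat_lit 0), [nat_lit 19], [nat_lit 5, nat_lit 5], [((nat_lit 480), (nat_lit 2)), ((nat_lit 493), (nat_lit 3))]⟩,
  ⟨false, (nat_lit 0), [nat_lit 20], [nat_lit 5, nat_lit 5], [((nat_lit 501), (nat_lit 2)), ((nat_lit 514), (nat_lit 3))]⟩,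
  ⟨false, (nat_lit 0), [nat_lit 6], [nat_lit 6, nat_lit 6], [((nat_lit 418), (nat_lit 1)), ((nat_lit 502), (nat_lit 1))]⟩,
  ⟨false, (nat_lit 0), [nat_lit 18], [nat_lit 18, nat_lit 6], [((nat_lit 460), (nat_lit 2)), ((nat_lit 514), (nat_lit 3)), ((nat_lit 516), (nat_lit 3))]⟩,
  ⟨false, (nat_lit 0), [nat_lit 15], [nat_lit 15, nat_lit 7], [((nat_lit 398), (nat_lit 2)), ((nat_lit 490), (nat_lit 3)), ((nat_lit 494), (nat_lit 3))]⟩,
  ⟨false, (nat_lit 0), [nat_lit 16], [nat_lit 16, nat_lit 7], [((nat_lit 419), (nat_lit 2)), ((nat_lit 491), (nat_lit 3)), ((nat_lit 494), (nat_lit 3))]⟩,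
  ⟨false, (nat_lit 0), [nat_lit 18], [nat_lit 18, nat_lit 8], [((nat_lit 462), (nat_lit 2)), ((nat_lit 514), (nat_lit 3)), ((nat_lit 516), (nat_lit 3))]⟩,
  ⟨false, (nat_lit 0), [nat_lit 12], [nat_lit 9, nat_lit 9], [((nat_lit 337), (nat_lit 2)), ((nat_lit 463), (nat_lit 1)), ((nat_lit 472), (nat_lit 1))]⟩,
  ⟨false, (nat_lit 0), [nat_lit 13], [nat_lit 9, nat_lit 9], [((nat_lit 358), (nat_lit 2)), ((nat_lit 505), (nat_lit 1)), ((nat_lit 516), (nat_lit 1))]⟩,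
  ⟨false, (nat_lit 0), [nat_lit 10], [nat_lit 10, nat_lit 10], [((nat_lit 485), (nat_lit 1)), ((nat_lit 506), (nat_lit 1))]⟩,
  ⟨false, (nat_lit 0), [nat_lit 11], [nat_lit 11, nat_lit 10], [((nat_lit 317), (nat_lit 2)), ((nat_lit 506), (nat_lit 1))]⟩,
  ⟨false, (nat_lit 0), [nat_lit 13], [nat_lit 13, nat_lit 10], [((nat_lit 359), (nat_lit 2)), ((nat_lit 506), (nat_lit 1))]⟩,
  ⟨false, (nat_lit 0), [nat_lit 15], [nat_lit 15, nat_lit 10], [((nat_lit 401), (nat_lit 2)), ((nat_lit 490), (nat_lit 3)), ((nat_lit 494), (nat_lit 3))]⟩,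
  ⟨false, (nat_lit 0), [nat_lit 14], [nat_lit 14, nat_lit 11], [((nat_lit 381), (nat_lit 2)), ((nat_lit 489), (nat_lit 3)), ((nat_lit 494), (nat_lit 3))]⟩,
  ⟨false, (nat_lit 0), [nat_lit 15], [nat_lit 11, nat_lit 11], [((nat_lit 402), (nat_lit 2)), ((nat_lit 511), (nat_lit 1))]⟩,
  ⟨false, (nat_lit 0), [nat_lit 16], [nat_lit 16, nat_lit 11], [((nat_lit 423), (nat_lit 2)), ((nat_lit 512), (nat_lit 3)), ((nat_lit 516), (nat_lit 3))]⟩,
  ⟨false, (nat_lit 0), [nat_lit 17], [nat_lit 17, nat_lit 11], [((nat_lit 444), (nat_lit 2)), ((nat_lit 513), (nat_lit 3)), ((nat_lit 516), (nat_lit 3))]⟩,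
  ⟨false, (nat_lit 0), [nat_lit 19], [nat_lit 11, nat_lit 11], [((nat_lit 486), (nat_lit 2)), ((nat_lit 515), (nat_lit 1))]⟩,
  ⟨false, (nat_lit 0), [nat_lit 17], [nat_lit 17, nat_lit 12], [((nat_lit 445), (nat_lit 2)), ((nat_lit 513), (nat_lit 3)), ((nat_lit 516), (nat_lit 3))]⟩,
  ⟨false, (nat_lit 0), [nat_lit 14], [nat_lit 13, nat_lit 13], [((nat_lit 383), (nat_lit 2)), ((nat_lit 510), (nat_lit 1))]⟩,
  ⟨false, (nat_lit 0), [nat_lit 15], [nat_lit 15, nat_lit 13], [((nat_lit 404), (nat_lit 2)), ((nat_lit 511), (nat_lit 3)), ((nat_lit 516), (nat_lit 3))]⟩,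
  ⟨false, (nat_lit 0), [nat_lit 16], [nat_lit 13, nat_lit 13], [((nat_lit 425), (nat_lit 2)), ((nat_lit 512), (nat_lit 1))]⟩,
  ⟨false, (nat_lit 0), [nat_lit 17], [nat_lit 13, nat_lit 13], [((nat_lit 446), (nat_lit 2)), ((nat_lit 513), (nat_lit 1))]⟩,
  ⟨false, (nat_lit 0), [nat_lit 9], [nat_lit 9, nat_lit 0], [((nat_lit 265), (nat_lit 2)), ((nat_lit 358), (nat_lit 3)), ((nat_lit 362), (nat_lit 3)), ((nat_lit 509), (nat_lit 3)), ((nat_lit 516), (nat_lit 3))]⟩,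
  ⟨false, (nat_lit 0), [nat_lit 10], [nat_lit 10, nat_lit 3], [((nat_lit 289), (nat_lit 2)), ((nat_lit 478), (nat_lit 1)), ((nat_lit 499), (nat_lit 1))]⟩,
  ⟨false, (nat_lit 0), [nat_lit 9], [nat_lit 5, nat_lit 5], [((nat_lit 270), (nat_lit 2)), ((nat_lit 463), (nat_lit 1)), ((nat_lit 480), (nat_lit 1)), ((nat_lit 494), (nat_lit 1))]⟩,
  ⟨false, (nat_lit 0), [nat_lit 10], [nat_lit 5, nat_lit 5], [((nat_lit 291), (nat_lit 2)), ((nat_lit 464), (nat_lit 1)), ((nat_lit 501), (nat_lit 1)), ((nat_lit 516), (nat_lit 1))]⟩,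
  ⟨false, (nat_lit 0), [nat_lit 11], [nat_lit 5, nat_lit 5], [((nat_lit 312), (nat_lit 2)), ((nat_lit 465), (nat_lit 1)), ((nat_lit 480), (nat_lit 1)), ((nat_lit 494), (nat_lit 1))]⟩,
  ⟨false, (nat_lit 0), [nat_lit 13], [nat_lit 13, nat_lit 5], [((nat_lit 354), (nat_lit 2)), ((nat_lit 501), (nat_lit 1)), ((nat_lit 509), (nat_lit 3)), ((nat_lit 516), (nat_lit 3))]⟩,
  ⟨false, (nat_lit 0), [nat_lit 13], [nat_lit 5, nat_lit 5], [((nat_lit 354), (nat_lit 2)), ((nat_lit 467), (nat_lit 1)), ((nat_lit 501), (nat_lit 1)), ((nat_lit 516), (nat_lit 1))]⟩,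
  ⟨false, (nat_lit 0), [nat_lit 16], [nat_lit 5, nat_lit 5], [((nat_lit 417), (nat_lit 2)), ((nat_lit 470), (nat_lit 1)), ((nat_lit 501), (nat_lit 1)), ((nat_lit 516), (nat_lit 1))]⟩,
  ⟨false, (nat_lit 0), [nat_lit 17], [nat_lit 5, nat_lit 5], [((nat_lit 438), (nat_lit 2)), ((nat_lit 471), (nat_lit 1)), ((nat_lit 501), (nat_lit 1)), ((nat_lit 516), (nat_lit 1))]⟩,
  ⟨false, (nat_lit 0), [nat_lit 10], [nat_lit 10, nat_lit 6], [((nat_lit 292), (nat_lit 2)), ((nat_lit 481), (nat_lit 1)), ((nat_lit 502), (nat_lit 1))]⟩,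
  ⟨false, (nat_lit 0), [nat_lit 10], [nat_lit 6, nat_lit 6], [((nat_lit 292), (nat_lit 2)), ((nat_lit 422), (nat_lit 1)), ((nat_lit 506), (nat_lit 1))]⟩,
  ⟨false, (nat_lit 0), [nat_lit 13], [nat_lit 13, nat_lit 6], [((nat_lit 355), (nat_lit 2)), ((nat_lit 502), (nat_lit 1)), ((nat_lit 509), (nat_lit 3)), ((nat_lit 516), (nat_lit 3))]⟩,
  ⟨false, (nat_lit 0), [nat_lit 14], [nat_lit 6, nat_lit 6], [((nat_lit 376), (nat_lit 2)), ((nat_lit 426), (nat_lit 1)), ((nat_lit 510), (nat_lit 1))]⟩,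
  ⟨false, (nat_lit 0), [nat_lit 15], [nat_lit 6, nat_lit 6], [((nat_lit 397), (nat_lit 2)), ((nat_lit 427), (nat_lit 1)), ((nat_lit 511), (nat_lit 1))]⟩,
  ⟨false, (nat_lit 0), [nat_lit 19], [nat_lit 6, nat_lit 6], [((nat_lit 481), (nat_lit 2)), ((nat_lit 491), (nat_lit 3)), ((nat_lit 515), (nat_lit 1))]⟩,
  ⟨false, (nat_lit 0), [nat_lit 11], [nat_lit 10, nat_lit 10], [((nat_lit 317), (nat_lit 2)), ((nat_lit 486), (nat_lit 1)), ((nat_lit 507), (nat_lit 1))]⟩,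
  ⟨false, (nat_lit 0), [nat_lit 13], [nat_lit 10, nat_lit 10], [((nat_lit 359), (nat_lit 2)), ((nat_lit 488), (nat_lit 1)), ((nat_lit 509), (nat_lit 1))]⟩,
  ⟨false, (nat_lit 0), [nat_lit 14], [nat_lit 10, nat_lit 10], [((nat_lit 380), (nat_lit 2)), ((nat_lit 489), (nat_lit 1)), ((nat_lit 510), (nat_lit 1))]⟩,
  ⟨false, (nat_lit 0), [nat_lit 17], [nat_lit 10, nat_lit 10], [((nat_lit 443), (nat_lit 2)), ((nat_lit 492), (nat_lit 1)), ((nat_lit 513), (nat_lit 1))]⟩,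
  ⟨false, (nat_lit 0), [nat_lit 13], [nat_lit 13, nat_lit 11], [((nat_lit 360), (nat_lit 2)), ((nat_lit 507), (nat_lit 1)), ((nat_lit 509), (nat_lit 3)), ((nat_lit 516), (nat_lit 3))]⟩,
  ⟨false, (nat_lit 0), [nat_lit 14], [nat_lit 14, nat_lit 0], [((nat_lit 370), (nat_lit 2)), ((nat_lit 426), (nat_lit 3)), ((nat_lit 428), (nat_lit 3)), ((nat_lit 489), (nat_lit 3)), ((nat_lit 491), (nat_lit 3)), ((nat_lit 494), (nat_lit 3))]⟩,
  ⟨false, (nat_lit 0), [nat_lit 14], [nat_lit 14, nat_lit 2], [((nat_lit 372), (nat_lit 2)), ((nat_lit 426), (nat_lit 3)), ((nat_lit 428), (nat_lit 3)), ((nat_lit 489), (nat_lit 3)), ((nat_lit 491), (nat_lit 3)), ((nat_lit 494), (nat_lit 3))]⟩,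
  ⟨false, (nat_lit 0), [nat_lit 16], [nat_lit 16, nat_lit 2], [((nat_lit 414), (nat_lit 2)), ((nat_lit 491), (nat_lit 3)), ((nat_lit 494), (nat_lit 3)), ((nat_lit 512), (nat_lit 3)), ((nat_lit 515), (nat_lit 3)), ((nat_lit 516), (nat_lit 3))]⟩,
  ⟨false, (nat_lit 0), [nat_lit 16], [nat_lit 16, nat_lit 3], [((nat_lit 415), (nat_lit 2)), ((nat_lit 470), (nat_lit 3)), ((nat_lit 472), (nat_lit 3)), ((nat_lit 491), (nat_lit 3)), ((nat_lit 493), (nat_lit 3)), ((nat_lit 494), (nat_lit 3))]⟩,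
  ⟨false, (nat_lit 0), [nat_lit 14], [nat_lit 14, nat_lit 4], [((nat_lit 374), (nat_lit 2)), ((nat_lit 447), (nat_lit 3)), ((nat_lit 450), (nat_lit 3)), ((nat_lit 510), (nat_lit 3)), ((nat_lit 513), (nat_lit 3)), ((nat_lit 516), (nat_lit 3))]⟩,
  ⟨false, (nat_lit 0), [nat_lit 15], [nat_lit 15, nat_lit 4], [((nat_lit 395), (nat_lit 2)), ((nat_lit 490), (nat_lit 3)), ((nat_lit 494), (nat_lit 3)), ((nat_lit 511), (nat_lit 3)), ((nat_lit 515), (nat_lit 3)), ((nat_lit 516), (nat_lit 3))]⟩,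
  ⟨false, (nat_lit 0), [nat_lit 14], [nat_lit 14, nat_lit 5], [((nat_lit 375), (nat_lit 2)), ((nat_lit 489), (nat_lit 3)), ((nat_lit 494), (nat_lit 3)), ((nat_lit 510), (nat_lit 3)), ((nat_lit 515), (nat_lit 3)), ((nat_lit 516), (nat_lit 3))]⟩,
  ⟨false, (nat_lit 0), [nat_lit 9], [nat_lit 9, nat_lit 6], [((nat_lit 271), (nat_lit 2)), ((nat_lit 421), (nat_lit 3)), ((nat_lit 428), (nat_lit 3)), ((nat_lit 484), (nat_lit 3)), ((nat_lit 491), (nat_lit 3)), ((nat_lit 494), (nat_lit 3))]⟩,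
  ⟨false, (nat_lit 0), [nat_lit 17], [nat_lit 17, nat_lit 6], [((nat_lit 439), (nat_lit 2)), ((nat_lit 492), (nat_lit 3)), ((nat_lit 494), (nat_lit 3)), ((nat_lit 513), (nat_lit 3)), ((nat_lit 515), (nat_lit 3)), ((nat_lit 516), (nat_lit 3))]⟩,
  ⟨false, (nat_lit 0), [nat_lit 9], [nat_lit 9, nat_lit 7], [((nat_lit 272), (nat_lit 2)), ((nat_lit 421), (nat_lit 3)), ((nat_lit 428), (nat_lit 3)), ((nat_lit 463), (nat_lit 3)), ((nat_lit 470), (nat_lit 3)), ((nat_lit 472), (nat_lit 3))]⟩,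
  ⟨false, (nat_lit 0), [nat_lit 14], [nat_lit 14, nat_lit 7], [((nat_lit 377), (nat_lit 2)), ((nat_lit 489), (nat_lit 3)), ((nat_lit 494), (nat_lit 3)), ((nat_lit 510), (nat_lit 3)), ((nat_lit 515), (nat_lit 3)), ((nat_lit 516), (nat_lit 3))]⟩,
  ⟨false, (nat_lit 0), [nat_lit 10], [nat_lit 9, nat_lit 9], [((nat_lit 295), (nat_lit 2)), ((nat_lit 484), (nat_lit 1)), ((nat_lit 494), (nat_lit 1)), ((nat_lit 505), (nat_lit 1)), ((nat_lit 515), (nat_lit 1)), ((nat_lit 516), (nat_lit 1))]⟩,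
  ⟨false, (nat_lit 0), [nat_lit 11], [nat_lit 9, nat_lit 9], [((nat_lit 316), (nat_lit 2)), ((nat_lit 463), (nat_lit 1)), ((nat_lit 472), (nat_lit 1)), ((nat_lit 505), (nat_lit 1)), ((nat_lit 514), (nat_lit 1)), ((nat_lit 516), (nat_lit 1))]⟩,
  ⟨false, (nat_lit 0), [nat_lit 15], [nat_lit 15, nat_lit 9], [((nat_lit 400), (nat_lit 2)), ((nat_lit 490), (nat_lit 3)), ((nat_lit 494), (nat_lit 3)), ((nat_lit 511), (nat_lit 3)), ((nat_lit 515), (nat_lit 3)), ((nat_lit 516), (nat_lit 3))]⟩,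
  ⟨false, (nat_lit 0), [nat_lit 15], [nat_lit 9, nat_lit 9], [((nat_lit 400), (nat_lit 2)), ((nat_lit 484), (nat_lit 1)), ((nat_lit 494), (nat_lit 1)), ((nat_lit 505), (nat_lit 1)), ((nat_lit 515), (nat_lit 1)), ((nat_lit 516), (nat_lit 1))]⟩,
  ⟨false, (nat_lit 0), [nat_lit 20], [nat_lit 1, nat_lit 0], [((nat_lit 501), (nat_lit 3))]⟩,
  ⟨false, (nat_lit 0), [nat_lit 20], [nat_lit 2, nat_lit 0], [((nat_lit 502), (nat_lit 3))]⟩,
  ⟨false, (nat_lit 0), [nat_lit 20], [nat_lit 2, nat_lit 1], [((nat_lit 503), (nat_lit 3))]⟩,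
  ⟨false, (nat_lit 0), [nat_lit 20], [nat_lit 3, nat_lit 1], [((nat_lit 504), (nat_lit 3))]⟩,
  ⟨false, (nat_lit 0), [nat_lit 11], [nat_lit 11, nat_lit 1], [((nat_lit 308), (nat_lit 2)), ((nat_lit 360), (nat_lit 3)), ((nat_lit 362), (nat_lit 3)), ((nat_lit 497), (nat_lit 1)), ((nat_lit 509), (nat_lit 3)), ((nat_lit 516), (nat_lit 3))]⟩,
  ⟨false, (nat_lit 0), [nat_lit 13], [nat_lit 13, nat_lit 1], [((nat_lit 350), (nat_lit 2)), ((nat_lit 467), (nat_lit 3)), ((nat_lit 472), (nat_lit 3)), ((nat_lit 497), (nat_lit 1)), ((nat_lit 514), (nat_lit 2))]⟩,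
  ⟨false, (nat_lit 0), [nat_lit 11], [nat_lit 11, nat_lit 2], [((nat_lit 309), (nat_lit 2)), ((nat_lit 402), (nat_lit 3)), ((nat_lit 406), (nat_lit 3)), ((nat_lit 498), (nat_lit 1)), ((nat_lit 511), (nat_lit 2))]⟩,
  ⟨false, (nat_lit 0), [nat_lit 13], [nat_lit 13, nat_lit 2], [((nat_lit 351), (nat_lit 2)), ((nat_lit 425), (nat_lit 3)), ((nat_lit 428), (nat_lit 3)), ((nat_lit 498), (nat_lit 1)), ((nat_lit 512), (nat_lit 2))]⟩,
  ⟨false, (nat_lit 0), [nat_lit 19], [nat_lit 5, nat_lit 3], [((nat_lit 485), (nat_lit 3))]⟩,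
  ⟨false, (nat_lit 0), [nat_lit 19], [nat_lit 7, nat_lit 3], [((nat_lit 487), (nat_lit 3))]⟩,
  ⟨false, (nat_lit 0), [nat_lit 15], [nat_lit 10, nat_lit 3], [((nat_lit 478), (nat_lit 1))]⟩,
  ⟨false, (nat_lit 0), [nat_lit 18], [nat_lit 15, nat_lit 3], [((nat_lit 490), (nat_lit 3))]⟩,
  ⟨false, (nat_lit 0), [nat_lit 11], [nat_lit 11, nat_lit 4], [((nat_lit 311), (nat_lit 2)), ((nat_lit 486), (nat_lit 3)), ((nat_lit 494), (nat_lit 3)), ((nat_lit 500), (nat_lit 1)), ((nat_lit 515), (nat_lit 2))]⟩,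
  ⟨false, (nat_lit 0), [nat_lit 10], [nat_lit 10, nat_lit 5], [((nat_lit 291), (nat_lit 2)), ((nat_lit 480), (nat_lit 1)), ((nat_lit 501), (nat_lit 1)), ((nat_lit 506), (nat_lit 3)), ((nat_lit 516), (nat_lit 3))]⟩,
  ⟨false, (nat_lit 0), [nat_lit 11], [nat_lit 11, nat_lit 5], [((nat_lit 312), (nat_lit 2)), ((nat_lit 486), (nat_lit 3)), ((nat_lit 494), (nat_lit 3)), ((nat_lit 501), (nat_lit 1)), ((nat_lit 515), (nat_lit 2))]⟩,
  ⟨false, (nat_lit 0), [nat_lit 15], [nat_lit 10, nat_lit 6], [((nat_lit 481), (nat_lit 1))]⟩,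
  ⟨false, (nat_lit 0), [nat_lit 13], [nat_lit 6, nat_lit 6], [((nat_lit 355), (nat_lit 2)), ((nat_lit 425), (nat_lit 1)), ((nat_lit 502), (nat_lit 1)), ((nat_lit 509), (nat_lit 1)), ((nat_lit 516), (nat_lit 1))]⟩,
  ⟨false, (nat_lit 0), [nat_lit 11], [nat_lit 11, nat_lit 7], [((nat_lit 314), (nat_lit 2)), ((nat_lit 486), (nat_lit 3)), ((nat_lit 494), (nat_lit 3)), ((nat_lit 503), (nat_lit 1)), ((nat_lit 515), (nat_lit 2))]⟩,
  ⟨false, (nat_lit 0), [nat_lit 12], [nat_lit 12, nat_lit 7], [((nat_lit 335), (nat_lit 2)), ((nat_lit 487), (nat_lit 3)), ((nat_lit 494), (nat_lit 3)), ((nat_lit 503), (nat_lit 1)), ((nat_lit 515), (nat_lit 2))]⟩,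
  ⟨false, (nat_lit 0), [nat_lit 10], [nat_lit 10, nat_lit 8], [((nat_lit 294), (nat_lit 2)), ((nat_lit 483), (nat_lit 1)), ((nat_lit 504), (nat_lit 1)), ((nat_lit 506), (nat_lit 3)), ((nat_lit 516), (nat_lit 3))]⟩,
  ⟨false, (nat_lit 0), [nat_lit 12], [nat_lit 12, nat_lit 9], [((nat_lit 337), (nat_lit 2)), ((nat_lit 466), (nat_lit 3)), ((nat_lit 472), (nat_lit 3)), ((nat_lit 505), (nat_lit 1)), ((nat_lit 514), (nat_lit 2))]⟩,
  ⟨false, (nat_lit 0), [nat_lit 11], [nat_lit 11, nat_lit 3], [((nat_lit 310), (nat_lit 2)), ((nat_lit 486), (nat_lit 3)), ((nat_lit 494), (nat_lit 3)), ((nat_lit 499), (nat_lit 1)), ((nat_lit 507), (nat_lit 3)), ((nat_lit 515), (nat_lit 3)), ((nat_lit 516), (nat_lit 3))]⟩,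
  ⟨false, (nat_lit 0), [nat_lit 12], [nat_lit 12, nat_lit 3], [((nat_lit 331), (nat_lit 2)), ((nat_lit 487), (nat_lit 3)), ((nat_lit 494), (nat_lit 3)), ((nat_lit 499), (nat_lit 1)), ((nat_lit 508), (nat_lit 3)), ((nat_lit 515), (nat_lit 3)), ((nat_lit 516), (nat_lit 3))]⟩,
  ⟨false, (nat_lit 0), [nat_lit 13], [nat_lit 13, nat_lit 3], [((nat_lit 352), (nat_lit 2)), ((nat_lit 467), (nat_lit 3)), ((nat_lit 472), (nat_lit 3)), ((nat_lit 499), (nat_lit 1)), ((nat_lit 509), (nat_lit 3)), ((nat_lit 514), (nat_lit 3)), ((nat_lit 516), (nat_lit 3))]⟩,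
  ⟨false, (nat_lit 0), [nat_lit 13], [nat_lit 13, nat_lit 4], [((nat_lit 353), (nat_lit 2)), ((nat_lit 467), (nat_lit 3)), ((nat_lit 472), (nat_lit 3)), ((nat_lit 500), (nat_lit 1)), ((nat_lit 509), (nat_lit 3)), ((nat_lit 514), (nat_lit 3)), ((nat_lit 516), (nat_lit 3))]⟩]
noncomputable def Ds2 : List (List (ℕ × ℕ)) := I2_0.map Pc.Idn.D ++ (I2_1.map Pc.Idn.D ++ (I2_2.map Pc.Idn.D ++ (I2_3.map Pc.Idn.D ++ (I2_4.map Pc.Idn.D))))
noncomputable def S2 : List (List (ℕ × ℕ)) := [[],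
  [],
  [],
  [],
  [],
  [((nat_lit 97), (nat_lit 1))],
  [((nat_lit 118), (nat_lit 1))],
  [((nat_lit 119), (nat_lit 1))],
  [((nat_lit 140), (nat_lit 1))],
  [((nat_lit 183), (nat_lit 1))],
  [((nat_lit 184), (nat_lit 1))],
  [((nat_lit 203), (nat_lit 1))],
  [((nat_lit 226), (nat_lit 1))],
  [((nat_lit 265), (nat_lit 1))],
  [((nat_lit 268), (nat_lit 1))],
  [((nat_lit 309), (nat_lit 1))],
  [((nat_lit 351), (nat_lit 1))],
  [((nat_lit 371), (nat_lit 1))],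
  [((nat_lit 413), (nat_lit 1))],
  [((nat_lit 456), (nat_lit 1))],
  [((nat_lit 475), (nat_lit 1))]]
noncomputable def Yo2 : List (List (ℕ × ℕ) × ℕ × ℕ) := [([((nat_lit 181), (nat_lit 3)), ((nat_lit 182), (nat_lit 1))], (nat_lit 2), nat_lit 0xc10808204402008a3808820820023208b00023001c020000038728641022a830b8f280d80a908240f0add67009081c7806a002d2b23008641)]
noncomputable def La2 : List ℕ := [nat_lit 0,
  nat_lit 0,
  nat_lit 0,
  nat_lit 0,
  nat_lit 0,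
  nat_lit 0,
  nat_lit 0,
  nat_lit 0,
  nat_lit 0,
  nat_lit 0,
  nat_lit 0,
  nat_lit 0,
  nat_lit 0,
  nat_lit 0,
  nat_lit 0,
  nat_lit 0,
  nat_lit 0,
  nat_lit 0,
  nat_lit 0,
  nat_lit 0,
  nat_lit 0,
  nat_lit 0,
  nat_lit 0,
  nat_lit 0,
  nat_lit 0,
  nat_lit 0,
  nat_lit 0,
  nat_lit 0,
  nat_lit 0,
  nat_lit 0,
  nat_lit 0,
  nat_lit 0,
  nat_lit 0,
  nat_lit 0,
  nat_lit 0,
  nat_lit 0,
  nat_lit 0,
  nat_lit 0,
  nat_lit 0,
  nat_lit 0,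
  nat_lit 0,
  nat_lit 0,
  nat_lit 0,
  nat_lit 0,
  nat_lit 0,
  nat_lit 0,
  nat_lit 0,
  nat_lit 0,
  nat_lit 0,
  nat_lit 0,
  nat_lit 0,
  nat_lit 0,
  nat_lit 0,
  nat_lit 0,
  nat_lit 0,
  nat_lit 0,
  nat_lit 0,
  nat_lit 0,
  nat_lit 0,
  nat_lit 0,
  nat_lit 0,
  nat_lit 0,
  nat_lit 0,
  nat_lit 0x290922b820d1232168b501090017b3d3ca580489be21dbfee873387a3171fa5a87ad3b26a8bd0e3a486880f6eba0cfeb5ad3443a85fe4b250b97c87eb6a22f07720181e0c2b176576b20f4ea6246a39aaced6a5eeceb64210e91d03eb8e154,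
  nat_lit 0,
  nat_lit 0x3b6d5fe636dd5f8ed7da7cb55afc5a234a4a1a7c98bbafd0b970b619598224a358cc6025a8228eae598f9449659adcae6eabdacbc6016eae38f6e52e80fc1db799c5f4ffe94e422b7b37f8b0094adc05a8436fd504f826fb43153eaf78e155,
  nat_lit 0,
  nat_lit 0,
  nat_lit 0,
  nat_lit 0,
  nat_lit 0,
  nat_lit 0,
  nat_lit 0,
  nat_lit 0,
  nat_lit 0,
  nat_lit 0,
  nat_lit 0,
  nat_lit 0,
  nat_lit 0,
  nat_lit 0,
  nat_lit 0,
  nat_lit 0,
  nat_lit 0,
  nat_lit 0,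
  nat_lit 0x9a28a224e092ba9a0bbc60bfa8d4cabc00d4ab255a6c3f682d92e541ae746cea0b75dc4090e0a6784e0b34e4ed67f304355ebd5821c8ee39f9d73924d8232ec46889f6764e263eee31355cac5dfa928adf3a773874adf14231ad1d3a0bd8d,
  nat_lit 0xa3920f145d212e144364d0c75878763536b1b78b2ccf99ffe2cda16bc86c247442599d1aa274681af253b7224180e5bf968fa93b2c755eb38dd28028660ef2dc59b72010a4ccd5a5f3da9936831a4aafeb1c32d2aa6f220004c2584f4df56,
  nat_lit 0x23ced4c868d5072744118a33b0b03ef5a5a76ce6bb14cdef168710ae4352a663e8f987b715dc0ebfa2dbb78084c6374175d7a6bd45bfe0b4556a1ddedb28db334c05ea246c61ef4864e3dcc5293f298e0f13649a09e052e4b3ea824f5c626c,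
  nat_lit 0x2d534d7b2b843c7d7c468b159fd847f008a04544337faf119330e49ec69dfca3029a34c3ae1244290a6e9ff1794134835226ca191b00da55ff9855f077eb6a1fbe989742730666621122b890f921c053a2b5e85f32dbfd9d9b03230190d0e4,
  nat_lit 0,
  nat_lit 0,
  nat_lit 0,
  nat_lit 0,
  nat_lit 0,
  nat_lit 0,
  nat_lit 0,
  nat_lit 0,
  nat_lit 0,
  nat_lit 0,
  nat_lit 0,
  nat_lit 0,
  nat_lit 0,
  nat_lit 0,
  nat_lit 0,
  nat_lit 0,
  nat_lit 0,
  nat_lit 0x2200a206a060828b087eaa6a108ba22992862360a88ce62e592a7d08370607a5ca4ab60c2504b6e7aafb31ec9edbc42c79f1c135ab5718f96a31a0923f90a9a1d9aa366c151c0a9062fcadfe52f6538e04d7f1425b238e566d004fb3a0cd,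
  nat_lit 0x2200a206a060828b087eaa6a108ba22992862360a88ce62e592a7d08370607a5ca4ab60c2504b6e7aafb31ec9edbc42c79f1c135ab5718f96a31a0923f90a9a1d9aa366c151c0a9062fcadfe52f6538e04d7f1425b238e566d004fb3a0ce,
  nat_lit 0,
  nat_lit 0,
  nat_lit 0x2202028a02828222a2a810aa2a1b04a0b6aa2b82ab0cd7bb279407881602f1d50ae2413bbe4534e74a5ba955d807725aa2545390d04aeefc7856bf605d770e7d476c864d5101008ffcf6301132f84ab471ff91a8e8edf5576af564f47938,
  nat_lit 0x4000a0020230202900020008282808980223bc0e8213fe81329a0cc0d4f5224073ca81b3203a38a8a170614ae55dfc1c6067cec2b67c2a8bf0b2572f0581a0868d8925ed0bbbea6ce3e71aedd8360126a0b6d0c02198496d99b9f0,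
  nat_lit 0,
  nat_lit 0,
  nat_lit 0,
  nat_lit 0,
  nat_lit 0,
  nat_lit 0,
  nat_lit 0,
  nat_lit 0,
  nat_lit 0,
  nat_lit 0,
  nat_lit 0,
  nat_lit 0,
  nat_lit 0,
  nat_lit 0,
  nat_lit 0,
  nat_lit 0xaa288928adaaaa84a2eab18aaaea0067b88460249a1695ca25357668b1cc4b51d9a5b526362c8174c57e4b70318d8b9f2aa6cdb02113203192a07b8566213148f4c0b5d496fdea4c5d9576bf15d5521dd6b9f999bf6f0880b2e38b30f8586,
  nat_lit 0,
  nat_lit 0x220202ce00d0832190d48dea108988698a262962a89eb654704ed07896750841214a339b118c2765101a6a78cd530391bfbbe0a7920f2070f3a684eecbafcf049de96eb9b2bf62e6dd5ca7d6c1985a449f4c09782fbb40b268e4af4d229b,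
  nat_lit 0x22002286a0708183287e846a1083b6a9229aab6aa311e22e762f96297cb52119a8fa7661674e7327c80a81355e57a6321d7262ef524d05be990c1e8a205168e2a53a0be0ddd2fe0b72ad3d88d2d0e66f7e43ee8daea2522870f00f390e42,
  nat_lit 0x22003246d27283c3367da76a1a931ae3062e23caa0f7b531b0b08339c885385b9707190177ce9ff6c116a684adf4fcac183104c95775c04e8ec6d27b55bf7909aed7b5bc5b588ed51654fdec50a476752642575bed0698f84ccd7b7c92d1,
  nat_lit 0x2a008a22200a88a8a38800002aa8038a0822021b4f1b0891c2e2015f8ed4aa4b045c0d6ca369aa8eea767884ddce6c9a4bb68749a49474f65ae142c1f46c5fa23130c6922f0a3ef936440e457fca0ff9cfc28494ef4704d977a210458,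
  nat_lit 0xaa28a120ad808a8608c8b02aa86a0a45bb0b6826b803f8e0ad8696869599668dd1620d495664a28a7caf69ad04d741733d23500a34ed67ad0bce55e384ec2a4df2b7fc1fee2631a0953a0fc9dcbb7597e62989feeff154f573d3367d9b00c,
  nat_lit 0,
  nat_lit 0,
  nat_lit 0,
  nat_lit 0,
  nat_lit 0,
  nat_lit 0,
  nat_lit 0,
  nat_lit 0,
  nat_lit 0,
  nat_lit 0,
  nat_lit 0,
  nat_lit 0,
  nat_lit 0,
  nat_lit 0,
  nat_lit 0x2200024600c08001305c836a1a29822b120e69ec89092f24d878a9fa41ae0b5fe994569a9b8cb7b96e6b5247cddd84a8580f950e07112f62da1770dbf4f652d43e0c7afb31f4e729c27269d565a371a2e474bb3679f2cfffb110890bfb39,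
  nat_lit 0xaa289b2867b89a9fa656d304aa482fdb18c86c8f5906366f9996f5389482ee311148efd21378a2d0a2a3c9630a7101c725e19907f8c45ccb2fd9d029194eebcf53325ce56027b9c2385cf4d8f03babc2f9586759141d9b1e1e8adf533c792,
  nat_lit 0xa80899008da1a29784e8b1c80b42baf9e6a00612c28b1d248937bc6d18e405ea86ea0e0921f4d27dc4b5c1cdc446deaca4eed83df03894eeaf424f3bc6e3867c238cf1b4cb6db38cfd12bfe7cda20c579807082073c23145890a3506757a2,
  nat_lit 0,
  nat_lit 0x2200020600908302006c0e7a1b0d96d5fa22616ab59bd1c649112a8a540369dfac5f3cc8cf41ae0938eb1bbb002c022af4aada528fd9eb5dc5a40f11a4cdf22a15bf42cdfa40060170cb973a0c60ff80721069ac99c8def231b16c90775e,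
  nat_lit 0x220222cea0e082a198d689ea102988a9ba06a160a9aa2f1cf26a09ca89aca341411eff13da4e1e375055569fef5f57f8f1c9198d563a4f43916d325973790a77f14ad2dc738255ac5e44543de7bf3804e572d504c1df613766977dc583ef,
  nat_lit 0xa088a282028a2aaa12802a02880090a04a2a039d69228b8e85624590465b003646f8f80bb5b282c2a575f9f6e538f55c14f7b9c869ffa35225eb333b4ae31c2ec7fee1f062e59ecb06a348c7e63a3299d94ae2ccde11fe47701f27e2,
  nat_lit 0xaa28bb2c679aba9dad76d194a8e825739ec9ec0dc91b55beb828b5979b2ea1264ef61fef36849a19a833f18674640caf62600d7ae7e500202a4f22b7435f8882d2aa337e7caf5ae5c6306f040ef14ab78ba88bb985ed4d6ccbde0eab5baed,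
  nat_lit 0,
  nat_lit 0,
  nat_lit 0,
  nat_lit 0,
  nat_lit 0,
  nat_lit 0,
  nat_lit 0,
  nat_lit 0,
  nat_lit 0,
  nat_lit 0,
  nat_lit 0,
  nat_lit 0,
  nat_lit 0,
  nat_lit 0x2040a3c101813912a1200a6a4082248802901ab73d07e15a9d81c45714c6eb352c82348911209ba35fc24a5df9ce1ed535a5a068c962c91febeff5a937aba813e624a378dc6c2847a74dca62fb036da470815163b6f3c279d33574ef,
  nat_lit 0x282821da2e7222a0f46cc728ca2f48a90fac3aee439b02e6466b82cd68c72b24e44e8e9c7a558a38d31681551d106c35cc44319d3132f36859a6800e417dd5039e5c70f20f29bb37c36d5adccceec0e28b2baf0da12aebaf70e14772d139f6,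
  nat_lit 0xa808b9080d8d82b59ec139e00bda721eefa24e1073e399c920a48b450d62c45959a11af22aac9363007fd659e15f93788ce3d19e227724b09691243b0c1f6b85a4de39430fdfd5e687d20168e4cd3c540a397db9cfcc1170240e73d798078,
  nat_lit 0x2202a286a0d083a9a85e8c6a32239c030212a3ea83bb20a474a4f0497c37d71ac29cde83eb4ef54f4901252db645ca783550a3b2c31503b8405f361181f2e72cb5169fa0554496bf635cf722fccb4bb1aa41d3c7d88d4e22cb603f0741c2,
  nat_lit 0x22a8aa8aeaa8d88ba9b2989f8a81a3283fb62e47e893ab0ba04f419a09be8125edadcfdef8ff87774a96f52321f0b1431e705b7c618561a0d9a6bf6179e4e38535dda8344c15799f3fae455344a968fce09bd91384c57a21d43b664cb52dcf,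
  nat_lit 0x228aa808e8aaca0a81309891a083203c3c841ce42230981cb2496de3a04ffa2b6257560da96f4827e71935a950643a32e78c73f9b87d81a3ae1e294437d143c87107249d42423c2d4b2b9147350ee44b77938288251c601927edea262bbe83,
  nat_lit 0x2000800300120808834800a0a1a0aa01082882ab198200b305241ffd3bbca2811a297c40335b030942abe93d879f5f5e01516ef3437d069370d74e779cd310fc11551a1cc903642627a1073b0911efb27c21a33d265d80010244c196c,
  nat_lit 0x22a8aa8a2ea95b8aaba1f4bceab32bcc1f860247d88b9cdc83933da288ebcab943848a5028acc5b3faf81dc441319cc8a610bab1103e0ce8964c6597c62b55aa78fae84b7b5d243df604464ccbb82202585ccd860c2c4c05a5433dba4de8bc,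
  nat_lit 0x2828215a2e7232a3fc6cc724ca2f40b58f1c02664b92b7ea466e2404c9beb29aca0ed05c8214c04183e65067ce814455adbdb2776b9974439cf44a9c98ca1117cd3272a2f4e47c6d0f2933829ade616f4de8300e8b1e6d44a2521bf8f5a608,
  nat_lit 0,
  nat_lit 0,
  nat_lit 0,
  nat_lit 0,
  nat_lit 0,
  nat_lit 0,
  nat_lit 0,
  nat_lit 0,
  nat_lit 0,
  nat_lit 0,
  nat_lit 0,
  nat_lit 0,
  nat_lit 0,
  nat_lit 0x2200a24ea2c282893ad693ea322b0a838aaeabc0aa9664a6e9660c1a0e9e67b2eb0a12d1aa868127d2bff70a04d8c12a84ef21119dbe08268a049e1a4d6013f826655f821083be3056f8f6a66d5f11a2c5e4a1debbb2854ec61c39e0c38d,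
  nat_lit 0x2a040a02002a8b802290020a202022898828101947712b1e42cb03c64855599b5638f12cb8150a8b8250788d08233768aa7c6344e9db8aba46def8b94a9941748cb0368068c46a34f960b76d565c10fa8672fb6a9b3a15e4237ff263b,
  nat_lit 0,
  nat_lit 0x8022200000288188020b280823c0802a02184be288310f2c219b6b279d442e6b5eb4930581256c1bf093ee8ed3628df8e89e5bc878c2887b8eea8d85b6f266f39a9064be82e86b3e22af21ab3d4bce331abe3a76a1356871a4b24,
  nat_lit 0x2080a0000080280222000002008020280200008030088282a26010e0a3ba22240882440a8b2a80a18a78708809f69f2203082eb4029ca08aa2472b2e218a8ab63a0e20356453806639fab4a3f35d41a9e0e39d0b40aa51f068a34892,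
  nat_lit 0x400020020030000900000020002020000101b4aea8b37c0a72908eea5f7108ca51ca83b8281a1e0403eba182a7defa2ca0c276040ec326095a217a586d02f942d6893c71bb2ebaacbb8e2c1b7879027a045fa2da016674f97a09e3,
  nat_lit 0x20c0a0a0028218220b00020208a808208a03233c968a915c29022864c9ce5f0448534c0b318a99a3a0b990646ab34352054e53a80c8ea587212fb976d48fb50e9c062d1e7be616c54819eb178edd7cabca9b241b48a3bdbccf2dccf5,
  nat_lit 0x28008000000288088008002a202a820a80a0022886a80aa224c6222386e21e228006f8dc804d10f01abf2a38645f9a06c32dbf06b1e7e429b0cf283052ebe8df275d62405d1012ec1b502bf7c05376c8e4ced30587536e534ee72dcf8,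
  nat_lit 0x2080a0000080280222000002008020280200008030088282a26010e0a3ba22240882440a8b2a82a18a78708809f69f2203282e34029ca08a62472b2621888a363a0e201567730866395bbea3d07d42a9e0638f2bc8a951f8680358b2,
  nat_lit 0,
  nat_lit 0,
  nat_lit 0,
  nat_lit 0,
  nat_lit 0,
  nat_lit 0,
  nat_lit 0,
  nat_lit 0,
  nat_lit 0,
  nat_lit 0,
  nat_lit 0,
  nat_lit 0x2080a28202822a220200008280800928022220a2b820222a4222a8d0911805620aac07ca8919ac0e84d0009e4af5abcad0ce86399a4e9cf22a74aaa233ee4ee4e7cb60a11054c57e4478b936f5831b8ca755b9f4b6b83e0eb84f798a,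
  nat_lit 0x228aaa8820aaea08a9a0109a2081821e948494ee231384589090b3ac70675c879fe0c4c7b5aa03981f022fa2e12fbb7e51ea6765ee98b2386a103441bf49a8f14c166f0458e71691758ab6a7159f8217819106ba935b916cb3b1a889ed486a,
  nat_lit 0x220202ce0040802390f481ea122b8841b22e2b628b08bc3cdac883f81bceb000e9bc7d884dc62aa74949c5d1750af0f8ffbb92e582d7a53d38a732a555393cd0462bfb78122854624677aa2525d8d6c8a6f5095827fbafc3fb2eb910446f,
  nat_lit 0x228aaa8820a8e80aa9a2108a208320963cbc946401103afb8ed38f8ef0e84607652ec8803a7d0b22fc0751a8a4c5b2870193034cdb24c76443647849ae65aa1e1cf5e0603b86a6c18b96cd1ef4ba2416ce72bcf8ca672daff41d3faf59cf2a,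
  nat_lit 0x228aa828680aea0801189abba083021cbd8c34e620323a2e90cbcf43627d78badaf572bf0f8dc0ce7c991881420bde9c658f2dda38751b15adaed6649cd04ee8508230711220a8b7c02e14264e62fbb0a2420cc4ea09e4bb265a740a017217,
  nat_lit 0x20c0a020028018020b000002208020080201031c148233d661f2386ce147578448536e891b209233a6513aa1022cdfd4af88127284847e14a37f3876f72f9d522427ab02b4b1f51ec311b594092ddc891487f0b39aabaddefdf2d97d,
  nat_lit 0xc0000000001000030000000000000000030196a488917ceb90b08e7a755784c0de6343b9bb3692af639849a9a3621e942ef3491c686ecf019b905cf5a0241f94450585e9d37fac1daae16803c1552b61c794f7e63af974d133029d,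
  nat_lit 0x280c8020202289288338000008a0018a880212080cd00b8f28cd29f34ae8ffd3f8c33b0c30eb813f023b412cf761d8ec8365ffa6ccd4f466e0d910e490d29da3c63a948310adb0005f19245727fb60117cf1a197d9e7af0418b3a7c21,
  nat_lit 0x2000a0200280080208000002208020080202028ab00aa2aa8a6288e2bb12000088850f4aa2b9aca10b32a268a98ebdca1bae6b39b86c0059a2e4ab2a20c39a75186aa68ddde988b0b73bc4740a7f81a2f7416cccbcb15caaa8cbe3ec,
  nat_lit 0x4000200200300029000000200000200001039c248ab1540312b88c627d752240d1ea8391081881b429680da32dd4b62428a9468638ef8f01581358ef8ba5480e0a0f3f5ef1761a9b180f1d81b49b2a82a03898bc00f4aebdf30a6b,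
  nat_lit 0x2040a0a0028238220900020208a808208a012114be8ab374eb7298ec4b67f50cc8db460939abbe828cbba14f40be5cfe0e02adfa248a9f1e232593d655091460a0b5a5038553d57627f9d111a01b7ca2f4854231242371fcd1d35973,
  nat_lit 0,
  nat_lit 0,
  nat_lit 0,
  nat_lit 0,
  nat_lit 0,
  nat_lit 0,
  nat_lit 0,
  nat_lit 0,
  nat_lit 0,
  nat_lit 0,
  nat_lit 0x2a0c0a28202aa9a22130020008282188080a32200f710b03a6e5227df070f78fe27011c412eba06de0fc6fab2d24d0b525d4ab258856de8518745a4ed3f2d6edd3ca64a05e0583a89dc1986605d23a21962b9b3eefaf3a1aad97a5f19,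
  nat_lit 0x2a040a28202aaba22110020008282188080a12028db1292c22c72a462a535d5fca7b354430fba00e3ab4449f6f6d5bd725feeb25ccd694e69856d874da88dc7f3a2b64c0296a23329c6794752e72d1a1c9ee7d2dd5cf37301e4731e9f,
  nat_lit 0,
  nat_lit 0x2004802b20322b2a825800aa8ba8ab03880a90ab1319899d290b1e9fdeb561fe7af7e128a084209fcac1af97e21dfff127b037cbe5ed325be8647c81b6128dbea903cccd98a42ca4cdbbadf09027a1991616eac5a7e9e180b55613063,
  nat_lit 0x200c802b2032292a827800aa8ba8ab03880ab0899b99bbb7a1a11c9f9c37e35ed2f5c1a8820c021fe2418dbf62b7777ba7b01169e5ed32d348c55e0b9e3a2f262b81ec6f0bac26bc5fb2a5629306a7b9b9966cd62d616ba3b7ae39ee9,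
  nat_lit 0x2080a0000080280222000002008020280200008030088282226030e0a3ba22240882040a8a2888b0aaf8520689fc35aa03048690029442a8a2472926104ab1bc9e262c175cd98e5411f90c9912808cab086c2b0b6cab6964eca951ba,
  nat_lit 0x880020020020880a802202002a28088a80202a2202288822820a8ab8b0a268283f23889c90b282a6e0f2f44962a8cac864a8991a82c071a80aa10a1948bc14df21a78b790e5d68d07844947ea934add383e90c10284e04322780ea,
  nat_lit 0x2808000200228a0002a0020a0028228a08080009249b282265fe02f92e610ce32a16ed54098f07b3cc718b3d25dad9e4e1ec4d4d39d324657b8a8dc97b81f81cbb15ccfa112a14863536a5146046d900574974cfc874a2faa7c5297f6,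
  nat_lit 0x2088a080008228aa2280200008820028008000a8b2222aa0aac038c8b10aaa0c2a1fa7803cb21a10049008d2009617c223e02809181e88538065a306a9ee270862c0011ea4f70fa787c8540ec4bbc304e389888cde0007d4360ec47e,
  nat_lit 0x8800a0020220a80a802002280200200282000a80088a82a802aa0aa21aa2aa28358b8ab4189a088e4899744b08818080023c1db20483232aa2080a186a05b32076ada93904bd833030e286d311f98f6ac3932392806f56de8d1462,
  nat_lit 0x80000200200000020028282828880220208208a20a0820a00808aa08880020220202a80aa000a82a2008aa08428aa220a288aa8a9082a28808292482a9602a08264aa02282ea2a04074a80612ae088a808b6aafcf28aa00a20,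
  nat_lit 0x800200200008828802202002a08088a82202aa82208282a2220a2903a08c22237810a9690900224c8506e6348aae2684ca83330284851a208a38813ea2e94f50127a95b047cb1d9dae41cec239e875329c28c5e0ac6a4388fbc68,
  nat_lit 0,
  nat_lit 0,
  nat_lit 0,
  nat_lit 0,
  nat_lit 0,
  nat_lit 0,
  nat_lit 0,
  nat_lit 0,
  nat_lit 0,
  nat_lit 0x2200a286a0f08189285eb46a1a098be3b15621e3885c587460ae35a8c9f216f6f3b95d1d7bcf8aac959168f8a95c25fa829eb74c7795550913abe966f72a9b3bd04fc0b9f82d1a5b262fb949d72abc92e76a48ca095819c3899fa0ead42c,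
  nat_lit 0x22a8a82a6e0b5988031bf68dea912b4eb5ba82c7798bbc8889aae79c9a4e86a416f396fc8ea9063548804f0d2582d27ceb9295b60fb897df592218a68b85daa6ad771eb324d93ffa889f83622f7fc3b06386f85229cd526af96365d72816e3,
  nat_lit 0x2a0c8a29201aa9aaa1f8002a0a22800a08021039cf7329a54ddd0606d0d4697a6c18551c33d61f71007298ba55770cf83b52477277a0a6e00116f30b3f42075de375b49091429244a54159f7dd0736404a3b18f510203f77fbd4ab88d,
  nat_lit 0x228aaa8868a91b0aa891882f80aba04e9cac0c28322358f10d61d31b6162c69afa09f4c80cf141148f5b1c953196564abb59a978d65227d13a19653bd71e22f374de4422a6cf22648dda65742fe5d7666a870b571aee7d3141bda9fbc58c05,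
  nat_lit 0x228aa828e80b290b003b8a09a08982343e34bcee90207a3c9ec3f56e906b195569a318274a23061f8e27e3b1c0e51eb5c2cf2a2ae2d585ef7df0c40a4261e6c88ffc59c9bd23b2549f9ebea3782ce7a71b72d68be51285a83ceeb542e5bbff,
  nat_lit 0x80020202002200120002a288a818008a2001960028a1a449a02392aa70e2a7c6af4d0a93e1c6e322c3e8a2b13f437aac748bd756d7c0f91a1bb2dc5a89e48482c46f82c81b673cca4ba79a8cbbab9a96d5c8954c199bafc0999152,
  nat_lit 0x800222000022003a0002a288a818008a2001b68b38a0044360ab9a12f26022c520d6cab153a5d0898f1a0f51a9f73834f1d5e2ce0f018c22a812325c8d7b833cec6dac959779e6e9f10ce7b7c2d09bca02154b880bae19669f2a46,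
  nat_lit 0x2a048a00000a8b88a218002a00aa80088080123dd7e209156ad9244669776b7d7c28b62c0a3c307102681c8f3159e3a2f67419672e3e2ad4f844f3255d062c73a868b02edee3633dfb1e566923e28dd0cd10ce1ac7a1f7111b73c9577,
  nat_lit 0x2a200020220080000008000200088202028893001201040802a32202a070105b1c20233e5992940d3ebe0bebc771ccd7f4b701a2a579e738de8a2701487b09d881ed730f01b6ff44cc6366ef72bce422dcf5d483d5362b237a4,
  nat_lit 0x2a0c0a22200a89a023b0022008aaa308808a102027d181270067087d40fc7773127313c4138122b5ae766c09557cb9dfc3358fcf005fb8d690fc4a143a47946eb3807498bb718c0930a10a9771db8ad381434fb7c4510dca0fb5bc501,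
  nat_lit 0x2a048a08000aab8aa218000a02a0028a8800103bef62819766732a466b7c597b0ca1b6a031749158b282141e14628c36d875335266928afe50dcc9ef5e8a714d02dba0789b05d98b3cc7d6015bedfd6241971e5075e47afdba3453777,
  nat_lit 0x2000000000002000000002288220020808202a20a80208228a8a220002022888a82a022a3882a8800820a2fe22222a0808a0022299e2aa79cc66882c212ace22a3020c0c30a06d206a0c8900fe0654b4e8da1a08,
  nat_lit 0x2800800a0022a80a8088000a222002888820000796bba232a3fc1e51ac6b1cc748174f70b9059f4170fb8bbfdd6c16f8efeec844db5fe253c91e35f9b9227d3db32516fd2d6f4f4706aeb726977734481b5b55d63c651fbbe167dc260,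
  nat_lit 0,
  nat_lit 0,
  nat_lit 0,
  nat_lit 0,
  nat_lit 0,
  nat_lit 0,
  nat_lit 0,
  nat_lit 0,
  nat_lit 0x800080000220200200020028282828880022088208808208e0a2288880aa8a80a2a28023a828a98aca9b88c90803aeaaeaa41e003a8a28809281a0a3c2b4b22a55022cc0c6a6f85e1b81b8165d062b41e32fb330096b4ce28d9082,
  nat_lit 0x2000a080008208222000020228a808008a0022889a0002202820b06029b8802c8820ae8a8280a023a0326b8009b69e802386903a828e6122224d8182a32018b5f4142839ef1b6a7477118d35d9b2638a23c6bbb07e236e7ac08af000,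
  nat_lit 0,
  nat_lit 0x2008a0a0028208aa28802000288220080082008a980008200a42b8421300800820bd050016111eb9aef03bb48b723e622922bd0b103863fb881e28201681811a6e1a839052bbb11f3fbbb181d258392d2b00afb72489f3409c097544,
  nat_lit 0x2008a0000080088a2080220020aa2800888022a0302aaa22a0e09a2019a80806aa970700343936b3aefa1136815236680982950938304b7b001302aa0a6998bac632093468993fadd7b339adda5ad32783462f3f22096754108b7f6c,
  nat_lit 0x80000000002000220000000000200000020000aa2020a008200aa80a8aaa220a22a882222022b18a38a224e080aaa822e8c8a80a82a8020a8801821ba89380a8aa8e06aa2e49c1aa63048a1576c822e226bf82a6213a18a6a4ac0a,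
  nat_lit 0x8000000000200022000000000020000002000082202080888008000808aaa00a22a0820a2032920aa82224692aa828a8486a288aaa8a800aa0098e208baf13c8ea842a082e6b7998830e844fc6612a406614a860a16cbaa406ad12,
  nat_lit 0x8080000020000008000a82810220030222008280caaa2800204062762080220003020300124212a8a4a20808e822040a80508d80cea88f00a084a8b0a420a26c08b21b88,
  nat_lit 0xa002020020280002000828280888022002020aa02aa2a22a2aa02880a200a0a8000a2b0e812840b96629c40b0aa2003f888a2e638880d021a4b7af9cba0c3e00a877ec1fd879daed27a2dafd210a4226bb16026e1662a7313c,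
  nat_lit 0x800000000020000200000000000000000202280000228882202220a00aaa8280a882820a220a2282a2220808ea8220a028e282a8a08a0a022028a8802a2c2a00200824a026ced910c126aa102a000a0a6a03a0aea33886002e9e22,
  nat_lit 0x200000000080008022200000000a0a800022280002000080008a368022080a22208820a20088000800082aaa2000080eaa87826c872098a320910200a8038a896820b100088e90a0,
  nat_lit 0x80200020000008000a8280022228020200828088e200002088ea0a208022020002000813803a83c0200808800ecff8204182a66a00030028c8a2a028236c04088622a0,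
  nat_lit 0x80000000002000020000000000000000020228080022a88220000880aaaa0080a2000220016e332862b3ce80b08b280850ddfc082ce9a832d022a89b8c09534c180e23c3ca84e8a69245296d8783014a0d3a389c0ab8ecaed913ae,
  nat_lit 0x800000000020000200000000000000000202280000228882202220a00aaa8280a882820a220a2282a2220808ea8220a028e282a8a08a0a022028a8a22a042880200820a026cc5b20c12ea2b008020a0a6801a0aea38086002e8622,
  nat_lit 0,
  nat_lit 0,
  nat_lit 0,
  nat_lit 0,
  nat_lit 0,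
  nat_lit 0,
  nat_lit 0,
  nat_lit 0x2a008a28202aa8aaa10800202a2a810a80a2201b673b829e64782bff8f560a89e45c5f78a02039040ae0762afd75077e2a92606ad3b212a8e267517b5cbe6f479c3af6c9616eb0f9e031badbe930ac8b62e9a93b8eec9f49452e8bbb4,
  nat_lit 0,
  nat_lit 0x2a000a08000aa8822000022a202aa00880a802260daa0880804a2b4c8479a4a1c2a4d034a8cd1af882242c8e62eb9ad511b5f85e5576629a8ae250da38c89b15cd5c7ac1dc7a50c91a46d6d9dde2028a8f81863fad87fa587cedc3fc4,
  nat_lit 0x2a0c8a02002a8988a2b8002a0222820a0080123bcf4209b5c6470a35687643186c23409c137f2b3bd83a929638eba4b34b5dbe70b30606097a71f825d55be278c493c851a33f124bc0c70ea52b668342a5fa0ed69bd3c108c47831395,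
  nat_lit 0x20c8a22200801a8a0b802022808208288ba1213ab5ba905c13b0a284537ee541e9c95a0ca51241b28f4bc17839b543c3e8e9db0a6c30ce403c0819325139314b2fbd52afe4096d2dd8c6e865a68de46cc3b32a8ec18a6e575fc8de81,
  nat_lit 0xc000a0020210202b00020008282808880121948e8231f60992180ce85dd7a2c053c083b3a03221ac236227aba55edca48aa344069aed2581f0bbf86d6d254886290d11f451f4925183253e8b25db02622f90b2a2a9661c9df398e9,
  nat_lit 0x8000020020000002002828282888022020a208a20a8a00a0882aa80000001a28423489368821a81b42c27aa282382a5920a8fe41a28268a900338e9249eede092875286c65c4e9eae6e2d380232e69a668909b7ea64ac96d8c,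
  nat_lit 0x2a0c8a28202aa9aaa33800202a2a830a80a2100207d10b8fa26d207fe8537f7398f293c09aeb9bf79026c68a71fb19f742f505feca5836dc12f16aee31ea74422f5cce2121510d1de8ff1a1b3dd03dfbe72f973b5866381d24110fb0d,
  nat_lit 0x2a000a08000aa8822000022a20a2a00800a822220f282a022e6a210685da1620a20d800ca18e011822daa3a382ddf940a3359755c24e2036a8e4e22838e9f2953e56da3329c36ccadb48822c19ea0c4a985602b6f7b1c70145effbe08,
  nat_lit 0x800080000220202200020028280828880020202028828a0080a88822a0a2a00a28088022a80a000ec02aa8234021a2a0aa2420222000208828808a0a280e0082a082260ee48c72d33aa1a08a3a8a0a2a46a0b0660a50241a0f28aa,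
  nat_lit 0x80000200200000020028282828880220208208a20a0820a00808aa08880020220202a80aa000a82a2008aa08c28aa220a288aa8a8082a288082b2c82abe02a082ecaa022826a2a0c0dca80e32a6088a8089eaa54528aa00a20,
  nat_lit 0x80000200202000020028280828880222080828a0220020a800a02a00a88a8a808202a8082b02621968a1620b82aa023c282a2c01088a22822eaa2936296ab480079a4e9b905109cf82e0cb5c0b48010691960b31b8c8059118,
  nat_lit 0x80000200202000020028280828880222082028a00202a0aaa8a28a08a28aaa080202a92633e0429bc46ab2a902802ab700aa8ccb8a8ac8a92aaa0c099224908c293b4a0c6bec5b4d2153a5010ba8ef9b3a34a970060e899624,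
  nat_lit 0x800020000000000000008000020000220000000800aa288000003a000000210200b000003388080b6000080488220800a2b10c06e2088b002808a200b403fca800001208,
  nat_lit 0x800080000220202200020028280828880020202028828a0080a88822a0a2a00a28088022a80a0006402aa821c023a2a0aa2c20222000208828808a0a28060082a0822e066c84d2711aa3a08a1a8a062acea090ee0af02c3a0528aa,
  nat_lit 0,
  nat_lit 0,
  nat_lit 0,
  nat_lit 0,
  nat_lit 0,
  nat_lit 0,
  nat_lit 0x800200200008828802202002a08088a82202aa02208082a82028bb0980840221d03ca94b18c218728c33ce4728362f004510590dc29d3a268a9841aad087c7153278f80243455ee48217a72a5da8c17efe97642983ade32cffff4,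
  nat_lit 0x28000002002288000080020a0028208a080820092cb92a2a655c02792ee3a7c1aab6cf5c3bad252a4ed3093d7f2cdf4e6364450871798e476b1aaf61182dc34aa7f5a49a7eb67a4c140b872e82e5913279e57ee6e2be86b4c90ac2fcc,
  nat_lit 0x8800a0020220a82a8020022802202002820222022a880a2282c0223a38a2c2a29f290a9e1abaaa0ce2f97e11420008488ef8ef90ae616a22002c249acddce7137d2f9f241eebad1f10eb39bb92c1a521c2991e2c60295a50552f72,
  nat_lit 0x28008002002288088088002a202a800a80a002098e192a98a5562293ae602ec318bc45f4804d34eac033830ed87ddb45d3e7c1f397d28841d30e0ffbb9b8a29325140680faba5e3ec95fc5f62ac1eb8a1482e0251544863e30e0e70e0,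
  nat_lit 0x28000002002288000280020a0028228a0808202be61b0a08edd408f12749a647821ccdd82bac05a2fcd5a431f67e7f76ec428348b958a8e9dba32f53f308b1b940055098b8ae13a985c0819f2410b2004ec55b03b74e0b10ad4a22354,
  nat_lit 0x800a0020200a808802002280200200280020a2a28a8a280a2a0a2a8108008aa392b889e88300084eabb76c32883200a2a9e9da02c0303088a888cb04b0511ea5cef9530bab149b080e92ec3a81a8d82a01831588015c27c2b9fd8,
  nat_lit 0x800000000020002200000000002000000200008a2020a088202a2828aaaa220a28a24222010e91a9e8b36e601081a830889f022a56eb020ae00182084cabd80c988e0a3942840faec3ecca3b77c221c4e91d409831fa1ca642068e,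
  nat_lit 0x8000000000200002000000000000000002022820002288002022a0a22aa28a80a88a820822293882028007496a40a8a27882caa8a0800a022a09acaaab2debc80e04282b042c53b9c328867ee78e0882e525820ea14e264c5e0712,
  nat_lit 0x800a0020200a82880200228022020028000020a28a8aa20a22822aa1008802211aac8be0bb6bb2d8088b0cb98800ab802839608d2e82320600a8c30470c436ec4e1b98bbad5449ec8a5e8f2ee52a4288ea571c49019fcd0e9a0d4,
  nat_lit 0x800080000220202200020028280828880020200828822a00808a202080a2200a08800022ba082008e0a888220009aa028a4ca0a2a802208800828e2021282108008a38adfe64404a2baa0a899b220ac06938206e29e80e2025139a,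
  nat_lit 0x80000000002000020000000000000000020228080022a882202008a0aaaa0880a8828222212c112bc21344ca3021a82808bd82288c6b8a025223a8aa040b3204980e0b3368020e2642cc40834c8a0340001c88982252a0a629182e,
  nat_lit 0x8000020020000002002828282888022020a208a20a08a080880a8a08800020aa0200a80aa00088a8a00882210288a2008a888a88e082288a080a2a8280800a080aa28a02284a98a300080a482ae002801402a860328aa88020,
  nat_lit 0x4000000000000000d0000000000000000000000000000000000000000000000330000000000000,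
  nat_lit 0x80000000002000220000000000200000020000aa20202008200aa82a0aaaa00a282a82220008a20a2822a0a6222a28aa0866aa2a8a08200aa80a860a8b8880002a8a36a1f46c4088d08b8880ab282228e9889060a08884a2acb2b2,
  nat_lit 0x8000020020000002002828282888022020a208a20a08a080880a8a08800020aa0200a80aa00088a8a00882210288a2008a888a882082288a080a2a8280800a080aa28a02284a98a300080a482ae002801002a860328aa88020,
  nat_lit 0x80000200202000020028280828880222080028a08282a0aa28a00a08a88a8a008228a802220a0228aa20028b82aaaaa280aa280a688a22a22e88abe2a08a808230039c222ae229a2a8aa006a0260a0a2aeea0b6a322aa41a10,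
  nat_lit 0,
  nat_lit 0,
  nat_lit 0,
  nat_lit 0,
  nat_lit 0,
  nat_lit 0x800080000220202200020028280828880020200028828a80a0a8082082a2a80a28808024a83a3002408a2eeb80232aa2426e28220882a28802838e2a292532026a862406e2e379d0790facaf93ae08a0a99a9aea0b76a08e01bd92,
  nat_lit 0,
  nat_lit 0x800080000220202200020028280828880020202028828a0280a88822a0aaa00a3888c00aa9061a2ba01be623d00a2a90427388225ccba288e8a28e110d3df8a61c8c081c0e21dcdf1b6b600c10050b2e8c80da1c3990806e65f29e,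
  nat_lit 0x800a0020200a82880200228022020028000022228a88aa2a22a8aa89000022212a2c894099c83a5a00ab04a50008a3222c19e88fa622320c8218012e6004006e0eb99821097dd27ca8be4018a78ac28e2b851ea12fd7e32e3acc4,
  nat_lit 0x2088a0000080288a0280222228aa00008a822280a2088222a8a082280908a280a81222c83ea1b60125a202ba6a5228209aaa4b0a88d0c20a28e081acbf8518e0a4e22909cd02feadc5e087e689a2528c864238d380100db632434c1e,
  nat_lit 0x28000020820022a82280088a000a8a8028222a088a00000a03480280aa286202a0800882000a280422a32ca0a0840a2e892a4ef1b9a000a0903baf08aa61838a0ea092a6e2880cb0,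
  nat_lit 0x2020000000088a00020000800800000000800000020000000a228080082802a40aa2a04204088aa40200000828080c020808080c3a00,
  nat_lit 0x200000000000200000000228a22002888a002aa0aa8000288aaaaa8028000b820a8a800a2880a8802218a24a22a28208080a28268281a0e00a8a8a3aa116280028b109a8822be028402120b2e8a38a18a07c9230,
  nat_lit 0x80000200200000020028282828880220208a08a22a8aa08220080a00020020a2022aa924aba8c81964437a810202825d8208aec18082f0a1040ac7a4bbc4340a0bd9c8e2f3dd79e1095be206232262973a302bb880e0a9963c,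
  nat_lit 0x800000000020002200000000002000000200008a2020208a202a28280aa2200a08a2820a0028a80228a2082a222a2028082a8a2a8200000a20288a2008a0aaaa2e881888baa82a02122ba2222a892a202aa29088a2a02842aa28a2,
  nat_lit 0x80000000002000020000000000000000020228080022a882202008a0aaaa0880a88282222228200a822082020280a82808a282288088aa022220a8a8080828a88a0a0202a3aa08aa008a8c82822802028a28aaa0200608a222002a,
  nat_lit 0x80000000002000020000000000000000020228080022a882202008808aaa88808280820a02080202228022020280a8a800e6a008800828022220a0aa820a028280080822aa46e8a8a10aa8802b0808a0c980a2a4231a8c0a28308a,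
  nat_lit 0x200000000000200000000228022000088280022020a080008a00a88022a20a82022a20022082aa202c22ea80880a0208000022288a088802288082082822a468a023008a00282a22404400820c0d080e002210a8,
  nat_lit 0xc0002000000000020022c000000a20a00002a0000000200208002000000040010,
  nat_lit 0x200080280228000200228080a000002000820000a8800000a002000008208008a80208aa10888a8890888000a2020208820880082000088082aa08,
  nat_lit 0x8000020822028022888020000020002a0000a8828000800200008802a00820080022c0080a88a2868022aa000208822aa82022200808800808,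
  nat_lit 0x200000000000200000000228a22002888a002aa0aa8000288aaaaa80280008820a8a800a2880a8802208a20a22a28208080a28228282a0200a8a8a1aa3322002281303a8a202aa2800a22292a8a18a20a0009a00,
  nat_lit 0,
  nat_lit 0,
  nat_lit 0,
  nat_lit 0,
  nat_lit 0xc000a0020210202b0002000828280888012194ae8231768912388eea5ddb22c07348839ba01815a4a3c081e107dc5c26ea63e806a24b048148baf85ee73ee96c0b03059c253f885c81af3c47c1000878e754914aab5404b95eb1e1,
  nat_lit 0x4000200200300029000000200000200001039c248ab1540112b88c627e7d2240f16a03b90a12a8aaa95947a10d7f7e048091ee8694e58d01f8335cc7449f49c6b705126ec3eb583128c594ab67022b2afd9e3bdc20ef8ae5d1a153,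
  nat_lit 0x2a048a28202aabaaa11800202a2a810a80a230020ff3098faac720ffe8d9f5598852b9c0b8c99b6e182c44aa23cf93d5cafe81d642f914fc325868c61274ddb0a77e06c299f0e3a2530a18cb547ce1e9ca39a9484cc630fc805365d0f,
  nat_lit 0x2a0c0a02002a898022b0020a202022888828303b47c0091d4ed300864155f3db2e021c2c989612fbb2749fa374ec0605ebfd35b1a09e825ef0f5cb277c35f368085e8a02900b71976e7db0056a5c19ea194dbf6459f154e28bb8fbb75,
  nat_lit 0x2a0c0a0a002aa98222b0022a22a2a00a00a812394fe0833de6590a86c3d573520e02b62cfa1ea032a878141750ed06b5c3d514692a25eccef8d8c3377dad384396bf2ae0252ff02dd0f81e059dd4daf40e77fbf46af3fdba231248df1,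
  nat_lit 0x80000200200222820020880002a02000222083e08a0822e8b4a80008080e806a008aa000020200c334935222a2e0c000b2a7f103560040e0964e700b1007c01ac00a6166e08a398,
  nat_lit 0x8000020020000002002828282888022020aa08a22a0aa082a02a08008a000a2802008a008988681a88c3c8a30280c2e48028a22220828aa30c39c9b68a8a240820afe861b9777a8d02b548052b49c03d332c2a6200e8ab0e98,
  nat_lit 0x800000000020000200000000000000000202280000228800200220a0aaa280808882022022283a08a220a709402aa88810cac2a820200a028000a4b9411f60a204062083a8ddb01fe0862e03ddd7021027d42104002416e4daa23a,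
  nat_lit 0x800020020020000a0000002000202000020022222222a0a0a2a2a2820a2a880a882080288228aa8aa0a20a82908a208a2a8808a80a2a0a08aa8a2a9fa8ba09c2a28aa304208fcb8a200cac7228612a7be861008e8854b6280224a2,
  nat_lit 0x80000000002000020000000000000000020228880022a80aa00028080a2a0280080a0200a000208882a0a8802280a0000212226000a8aa0a1028a2b30020a948000806a222244808f1aa0e10892902915bcb2a188b560f22808002,
  nat_lit 0x200000000080008022200000000a0a800022082002000088820a2e8022880222208820a200880200220a008a20800002aa8982e6a8a0a0a12a2082002a88a288a4208320008a9a80,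
  nat_lit 0x200000000000200000000228a22002080a802aa08a2200228a80a880022208a08a8a2320602aa2002ac050a8028e230808a8212a91eaa8a16098882cb92c708304f10888f5101122c34c31809a23f900a0a4b7a0,
  nat_lit 0x82200080a8802800a8a28028028028002282a20088a080208a882a8b0c00d2080a3822a820020a823b8a2b89c882021e03b82c0900a42d26d0b3a700d3fdcb3ab480fe24248a0c80,
  nat_lit 0x80000000002000020000000000000000020228280022a802a00088822aaa0a8082088208020a0082822028028282a822a00888088c0a0a029a28a8a8a2022aa280080020208ac1a00320aa3aa0020a1288e98186a1a8080a22bcaa,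
  nat_lit 0x800020000000000000008000020000220000000800aa288000003a000000220200b000003388080b6000080488220800a2b10c06e2088b002808a200b403fca800001208,
  nat_lit 0x800000000020002200000000002000000200008a2020a008202a2808a8aa2a0a22a08222200280822802a0a82a02a8308080080a920a820a12008228208ae8802a8a2282a28429aa01a2a0baa00a208140296aaa23208c8a403c02,
  nat_lit 0x80000000002000020000000000000000020228280022a802a00088822aaa0a8082088208020a0082822028028282a822a0088808980a0a02ba28a8a8a2022aa280080020208a43a00120aa1aa0020a32886b828ea3a8080a2294aa,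
  nat_lit 0x800020000000000000008000020000220000000800aa288000001a00000022020090000011880809e000080c88220800a293040e620889002838a2009c0154a800003208,
  nat_lit 0,
  nat_lit 0,
  nat_lit 0,
  nat_lit 0x80000000002000220000000000200000020000822020808a20280028aaa2aa0a08228222022aab8aa88082eb482828a0e08a82aa8aa2000aa2218e3b6996834a8c8a2e812c1bf9352186a8f4899e20b84349a18a237a2a68a48e9a,
  nat_lit 0x8000000000200002000000000000000002022820002288002022a0a22aa28a80a88a8208222a188202800ecbea00a8a2e8828aa8a0800a022a0bacaaab272948060c082b242c739b632a8ef56f440842ed3da28ea1c636c42e2512,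
  nat_lit 0,
  nat_lit 0x80000200200000020028282828880220208208a20a0820800828aa0880002aa082008b0cb122c89bec429a2b02aa8a3f28a80ec90282508b080a2ca1b004980c09b9c8024a664846a90924482b488830a09e887a328e890aac,
  nat_lit 0x800002002020000222202800288a022228002aa80202208aa088800882820884080001ae00a852bb62a2f8b7a281423f88a08ec9aaa85828a239a414300c90a003a3e7869be94af40bbec0c0892268a50bf6a2db1e202da78c,
  nat_lit 0x100,
  nat_lit 0x80000000002000020000000000000000020228080022a882202008a0aaaa0880a88282222208000a82208a8802822828886a822880880a022222a8aa000208a80a0222800e602a8ac38e888822a802828a00a28421aaa0aa260a2a,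
  nat_lit 0x200000000000200000000228822002888a000a20a80000228a8aa20000000aa0802a20a0ea2a828008d0eac22222220808a02326b3e9b8a9e08880320bb2f341a490a708548b132272694b13e200680080903d38,
  nat_lit 0x200000000000200000000228a22002088a802aa0aa8000288aaaaa802a0228820aaa820a6880a8802288620a22aa8008088a2a2282c083280aaa8a028a265ae2a60302a02a193028f26362a1a0a1a008a40c8b08,
  nat_lit 0x80000000002000220000000000200000020000aa2020a008a00aa80a8aaa220a222882202002828aa8802228022aa82220a8a00aa20a820a88008a2aa0a28220028a0228288ec222a20aaa10888020a0e08ba88622a8242aaa8a22,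
  nat_lit 0x80000000002000020000000000000000020228280022a882a02088828aaa0880a28802220020000882200a8008aaa80a80a0a00808a82802aa22a8880a08a0080a0a08282a28ee82a0222828a22802a8028a222c002a88a2a89aaa,
  nat_lit 0x80000000002000220000000000200000020000aa2020a008a00aa80a8aaa220a22a882222002a08aa8802a28022aa82228a8a80aa28a820a88008a082080822802820208288e7322a02a8ab2228a20a06aa1a88620882422aaa422,
  nat_lit 0x80000000002000220000000000200000020000aa2020a008a00aa80a8aaa220a222882202002828aa8802228822aa82220a8a00aa20a820a88048a2aa0aa8220028a0a282886e002a20aaae09b8020a8618aa88ee2882c2aaaa222,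
  nat_lit 0x1c00000000000220000000200000c00000000000000,
  nat_lit 0x200000000000200000000228822002080a000a208800002a8a802080002022a0822aa020a8a0a80028a0220002aa808808b22222802a8a2a080888020820aca9a2812080ba80a022a0e0a98a0a23a2a488023e80,
  nat_lit 0x800020200080002a02002820202208a0a2a0a00000008088a08a2008828000000a000288828a22a2022a0a20846a08a28a220888080a8ec808280c82028c28a20a80,
  nat_lit 0x22002000088280000000800000000000000000020822022a000008080002080660228208002aa88a0080082a000402002c88080020,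
  nat_lit 0x80000000002000220000000000200000020000aa2020a008a00aa80a2aaa200a022802082228a000a88008aa222aa80a002a880a228a820a080a8a28888800aa88800228002eea0280002aa020a22892e8c20884800aa48220aa2a,
  nat_lit 0x22002000088280000000800000000000000000020822022a000008080002080ee0228208002aa88a0080c82a000c02002488080020,
  nat_lit 0,
  nat_lit 0,
  nat_lit 0,
  nat_lit 0x200000000000200000000228822002088a002a2088a000288aa0a0002a202080088a828aea88828000c0e0280222808a0802292280caa080aa2a8200a0a47a4204a18a0ca6a19028786f6a2ba883a4a8a08e0b80,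
  nat_lit 0x80008000022020220002002828082888002020282882aa8080aaa002a2a2200a020a8022880a0202c0aa02a280892a20a2e602822880a08828808202a02a29c0288a2e2c60d0e2e2990fa24b70390a918cdc9aaa0b300288039a02,
  nat_lit 0x40000000000000000000000000000000000000000000000000000000000000,
  nat_lit 0x200000000000200000000228a22002080a802aa08a2200228a80a880022208a28a0a41a062aaa0002ac0f8a80286210808a8212291e880a3e0b0882699acdaa1a671898855a37b2083c13bb2ba23eb3820a69d80,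
  nat_lit 0x800000000020002200000000002000000200008a2020a008202a2808aaaa2a0a22a082222002808a0820222aaa00a82020a0880a8a0a820a02028228a0a2aa000a8a28a08a86cb000222a892224022e0e2a3aa0e220abcaaa80602,
  nat_lit 0x80000000002000020000000000000000020228080022a882202008a0aaaa0880a88282222208000a82208a880282282888aa822880880a022222a8aa000208a80a02228006e0aa8a4286888822a802828200a28422aaa0aa2e3a2a,
  nat_lit 0x800000200020a0000a002a02002a202a2088a0a22a00a2000008208a6a2000a28200a20a0c1121382bcaa20212a93e0b81a0932f04523b810a0a092318ca814ca820361e98,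
  nat_lit 0x200000000080008022200000000a0a80002208020220008002082a00220802222088008200880300028a23a8a08008022a8a80a0aaa088ac80bb80002a818888002004a0048a8288,
  nat_lit 0x200000000080208002200008000088000200000200a0a00002a82a000200082800280000008a0208020000282008002a88a2080a22a0280282aa4302c00228028800a2b880028820,
  nat_lit 0x800000000000000020000000000208000280000008800000008000080d80008200800000002800a4a000000000,
  nat_lit 0x800000000000000020000000000208000280000008840000008000080a8000820080000000280098a000000000,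
  nat_lit 0x10000000000000000000000000000000000000000000000300000000000000,
  nat_lit 0x28000000000000000000000000000000000000000008100a00880a00200200220000000200028c00220000082000,
  nat_lit 0x20080228002800200000028000008020000000008000228028028000a20882aa2a2028b00a082ea0240820a1220022218800a2a20,
  nat_lit 0x2200000000a8280800000a00080000000000000020800020a8280080800020800202282000888ca4a00c00a04000002883088a80220,
  nat_lit 0x2000000000000000000002000800000000000000008000200800000002002280882002202002102c200408232208802001800a82820,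
  nat_lit 0x80000000002000020000000000000000020228080022a80220200880a8aa0080a28002220020000002a28a020aa2a80800a28808288a0a02a022a88a882a82882a0a21888802a82282822a029b000201a92822a00288008aaa22a2,
  nat_lit 0x882000000002000c200008002000800001800000800,
  nat_lit 0x8820000000020004200c08002000800003800000800,
  nat_lit 0,
  nat_lit 0x80000000002000020000000000000000020228280022a882202088828aaa0880a2080220002022082202020288a8280a0888ac08282a0802aa20a899001aa340220200a8a2af4888200c0ce2316100ea4ba2002c0044342aa282aa,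
  nat_lit 0x200000000000200000000228a22002088a000aa08a2000228a80a880022022a2822a22202822a8802a28282002a2208a08a8222ab1a0b809402888280828298188222ea4501321220aa903aa22224e88800a8ca8,
  nat_lit 0x200000000000200000000228a22002888a002aa0aa8000288aaaaa80280008820a8a800a2880a8802208a20a22a28208080a28268281a0200a8a8a3aa116200228b109a8a20aa22800a222b2e8a38a20a00c9a30,
  nat_lit 0x8000020020000002002828282888022020a208a20a08a080880a8a08800020aa0200a80aa200088a200a02220288a2088a888288a082088a0028e8aa80802208088202288a68a820082888a028a0808a0a0aa82a2a0aa28a00,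
  nat_lit 0x800020020020000a0000002000202000020022222222a0202282a282a82a8a0aa82000008002a80820a2a802aaaaa0a2022828a8a20a0808aa80228408a082a02888a8a4808a082200a00880a26222620288808828b8baa0822082,
  nat_lit 0x220020000880000000008000000000000000000200220022000000080800000242000000002ab98000800b2a000c00202008000800,
  nat_lit 0x2020000000088a00020000800800000000800000020000000a228080082802ac0aa2a0c20c088aa00200000828080402080808041a00,
  nat_lit 0x4000000000000000000000000000000000000000000000000000c00000,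
  nat_lit 0x1000000000000000000000000000000000000000000000000000c000000,
  nat_lit 0x8000000000000000000000000000000000080000000008000008222000000060330000008102000800200800002800,
  nat_lit 0x800000000000000020000000000208000280000008800000008000080480008200800000002800aca000000000,
  nat_lit 0x100000000000,
  nat_lit 0x4000000000000,
  nat_lit 0x400000000000000,
  nat_lit 0x200000000200002000002200000280000008000000000032080880000200000000002802a80000002000,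
  nat_lit 0x2000000000000000080000000000000000000000000000000008020060000008000800000280000802000000000,
  nat_lit 0x28000000000000000000000000000080002080000080008020808222282080020110600008302000802200880080820,
  nat_lit 0x80000000002000020000000000000000020228080022a80220200880a8aa0080a28002220020000002a28a020aaaa80800a28808288a0a02a022a88a882a82882a0a20888a02202282822802b9000203ab2822a8028a008aaa02a2,
  nat_lit 0x800000000000230000000100000800000000000000,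
  nat_lit 0x800000000000000000000000000000000000000880800082080000330000000d00000002000000080000,
  nat_lit 0x800000000000000000000000000000000000000880800082080000110000000300000002000000080000]
noncomputable def Wsx2 : List (List ℕ) := [[nat_lit 15, nat_lit 20],
  [nat_lit 16, nat_lit 20],
  [nat_lit 18, nat_lit 20],
  [nat_lit 15],
  [nat_lit 3, nat_lit 4, nat_lit 5, nat_lit 8, nat_lit 10, nat_lit 11, nat_lit 17],
  [nat_lit 13],
  [nat_lit 19],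
  [nat_lit 11, nat_lit 17],
  [nat_lit 6, nat_lit 9, nat_lit 10, nat_lit 14, nat_lit 17],
  [nat_lit 9, nat_lit 10, nat_lit 12],
  [nat_lit 14],
  [nat_lit 0, nat_lit 2, nat_lit 5, nat_lit 7, nat_lit 8, nat_lit 10, nat_lit 12, nat_lit 17],
  [nat_lit 9],
  [nat_lit 11],
  [nat_lit 5, nat_lit 7, nat_lit 12],
  [nat_lit 0, nat_lit 2],
  [nat_lit 1, nat_lit 2, nat_lit 12],
  [nat_lit 1, nat_lit 4],
  [nat_lit 0]]
noncomputable def LDx2_10d : ℕ := nat_lit 0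
noncomputable def LDx2_10 (u : ℕ) : ℕ := Nat.land (Nat.shiftRight LDx2_10d (Nat.mul u (nat_lit 1))) (nat_lit 1)
noncomputable def Ptx2_10d : ℕ := nat_lit 0xf9
noncomputable def Ptx2_10 (u : ℕ) : ℕ := Nat.land (Nat.shiftRight Ptx2_10d (Nat.mul u (nat_lit 4))) (nat_lit 15)
noncomputable def Qx2_10d : ℕ := nat_lit 0x8000
noncomputable def Qx2_10 (u : ℕ) : ℕ := Nat.land (Nat.shiftRight Qx2_10d (Nat.mul u (nat_lit 1))) (nat_lit 1)
noncomputable def lx2_10 : Lev := ⟨2, 1, LDx2_10, Ptx2_10, Qx2_10⟩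
noncomputable def LDx2_9d : ℕ := nat_lit 2
noncomputable def LDx2_9 (u : ℕ) : ℕ := Nat.land (Nat.shiftRight LDx2_9d (Nat.mul u (nat_lit 1))) (nat_lit 1)
noncomputable def Ptx2_9d : ℕ := nat_lit 0xd7
noncomputable def Ptx2_9 (u : ℕ) : ℕ := Nat.land (Nat.shiftRight Ptx2_9d (Nat.mul u (nat_lit 4))) (nat_lit 15)
noncomputable def Qx2_9d : ℕ := nat_lit 0x2000
noncomputable def Qx2_9 (u : ℕ) : ℕ := Nat.land (Nat.shiftRight Qx2_9d (Nat.mul u (nat_lit 1))) (nat_lit 1)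
noncomputable def lx2_9 : Lev := ⟨2, 2, LDx2_9, Ptx2_9, Qx2_9⟩
noncomputable def LDx2_8d : ℕ := nat_lit 8
noncomputable def LDx2_8 (u : ℕ) : ℕ := Nat.land (Nat.shiftRight LDx2_8d (Nat.mul u (nat_lit 2))) (nat_lit 3)
noncomputable def Ptx2_8d : ℕ := nat_lit 0x23
noncomputable def Ptx2_8 (u : ℕ) : ℕ := Nat.land (Nat.shiftRight Ptx2_8d (Nat.mul u (nat_lit 3))) (nat_lit 7)
noncomputable def Qx2_8d : ℕ := nat_lit 0x10
noncomputable def Qx2_8 (u : ℕ) : ℕ := Nat.land (Nat.shiftRight Qx2_8d (Nat.mul u (nat_lit 1))) (nat_lit 1)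
noncomputable def lx2_8 : Lev := ⟨2, 3, LDx2_8, Ptx2_8, Qx2_8⟩
noncomputable def LDx2_7d : ℕ := nat_lit 0x9430
noncomputable def LDx2_7 (u : ℕ) : ℕ := Nat.land (Nat.shiftRight LDx2_7d (Nat.mul u (nat_lit 4))) (nat_lit 15)
noncomputable def Ptx2_7d : ℕ := nat_lit 0xb3ea0201
noncomputable def Ptx2_7 (u : ℕ) : ℕ := Nat.land (Nat.shiftRight Ptx2_7d (Nat.mul u (nat_lit 8))) (nat_lit 255)
noncomputable def Qx2_7d : ℕ := nat_lit 0x2000000000000000000000000000c00000000000000000000000000000000000000000000000000000000000000000000000000000000000000010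
noncomputable def Qx2_7 (u : ℕ) : ℕ := Nat.land (Nat.shiftRight Qx2_7d (Nat.mul u (nat_lit 2))) (nat_lit 3)
noncomputable def lx2_7 : Lev := ⟨4, 5, LDx2_7, Ptx2_7, Qx2_7⟩
noncomputable def LDx2_6d : ℕ := nat_lit 0xd741f35688cd1922407880e18280
noncomputable def LDx2_6 (u : ℕ) : ℕ := Nat.land (Nat.shiftRight LDx2_6d (Nat.mul u (nat_lit 7))) (nat_lit 127)
noncomputable def Ptx2_6d : ℕ := nat_lit 0x339ba2e56c711cd530314fe0a4619306c055f400
noncomputable def Ptx2_6 (u : ℕ) : ℕ := Nat.land (Nat.shiftRight Ptx2_6d (Nat.mul u (nat_lit 10))) (nat_lit 1023)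
noncomputable def Qx2_6d : ℕ := nat_lit 0x6000000000000000000000000000000000000000000000000000000000000a00000000b000000000e00000000000000000000000000000000000000400000000000000000000010000000000000000c0000000000000000000000000000000900000000000070000000000000000000000000000000000000050000000000000000000000000000000000000000000000000000000000000000000000000f00000000000000000000d00000000000000000000000000000000000000000000000000000000000000000000000000000000000000000000000000000000000000000000000000000000000000080000000000000000000003000000000000000000000200000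
noncomputable def Qx2_6 (u : ℕ) : ℕ := Nat.land (Nat.shiftRight Qx2_6d (Nat.mul u (nat_lit 4))) (nat_lit 15)
noncomputable def lx2_6 : Lev := ⟨16, 9, LDx2_6, Ptx2_6, Qx2_6⟩
noncomputable def LDx2_5d : ℕ := nat_lit 0x90
noncomputable def LDx2_5 (u : ℕ) : ℕ := Nat.land (Nat.shiftRight LDx2_5d (Nat.mul u (nat_lit 4))) (nat_lit 15)
noncomputable def Ptx2_5d : ℕ := nat_lit 0x3d50
noncomputable def Ptx2_5 (u : ℕ) : ℕ := Nat.land (Nat.shiftRight Ptx2_5d (Nat.mul u (nat_lit 7))) (nat_lit 127)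
noncomputable def Qx2_5d : ℕ := nat_lit 0x4000000000000000000000000000000
noncomputable def Qx2_5 (u : ℕ) : ℕ := Nat.land (Nat.shiftRight Qx2_5d (Nat.mul u (nat_lit 1))) (nat_lit 1)
noncomputable def lx2_5 : Lev := ⟨2, 10, LDx2_5, Ptx2_5, Qx2_5⟩
noncomputable def LDx2_4d : ℕ := nat_lit 0xbad40
noncomputable def LDx2_4 (u : ℕ) : ℕ := Nat.land (Nat.shiftRight LDx2_4d (Nat.mul u (nat_lit 5))) (nat_lit 31)
noncomputable def Ptx2_4d : ℕ := nat_lit 0x9b4d4ec4c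
noncomputable def Ptx2_4 (u : ℕ) : ℕ := Nat.land (Nat.shiftRight Ptx2_4d (Nat.mul u (nat_lit 9))) (nat_lit 511)
noncomputable def Qx2_4d : ℕ := nat_lit 0x380000000000000000000000000000000000000000000000000000000000000000000000000000000000000000000000100000000000000000000000000000000000000000000000000000000000
noncomputable def Qx2_4 (u : ℕ) : ℕ := Nat.land (Nat.shiftRight Qx2_4d (Nat.mul u (nat_lit 2))) (nat_lit 3)
noncomputable def lx2_4 : Lev := ⟨4, 12, LDx2_4, Ptx2_4, Qx2_4⟩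
noncomputable def LDx2_3d : ℕ := nat_lit 0x94b0e9c1c34600
noncomputable def LDx2_3 (u : ℕ) : ℕ := Nat.land (Nat.shiftRight LDx2_3d (Nat.mul u (nat_lit 7))) (nat_lit 127)
noncomputable def Ptx2_3d : ℕ := nat_lit 0x6488df74d1c8ca0a1c
noncomputable def Ptx2_3 (u : ℕ) : ℕ := Nat.land (Nat.shiftRight Ptx2_3d (Nat.mul u (nat_lit 9))) (nat_lit 511)
noncomputable def Qx2_3d : ℕ := nat_lit 0x20000000000000000000000000000000000000000000000000000008000000a00000000000000000000000000000000000038000000000000000000000000000000000000000000000000000000000000000000000000000000000000000000000000000000000018000080000000000c00000000000000000000000000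
noncomputable def Qx2_3 (u : ℕ) : ℕ := Nat.land (Nat.shiftRight Qx2_3d (Nat.mul u (nat_lit 3))) (nat_lit 7)
noncomputable def lx2_3 : Lev := ⟨8, 15, LDx2_3, Ptx2_3, Qx2_3⟩
noncomputable def LDx2_2d : ℕ := nat_lit 0x8503c0
noncomputable def LDx2_2 (u : ℕ) : ℕ := Nat.land (Nat.shiftRight LDx2_2d (Nat.mul u (nat_lit 6))) (nat_lit 63)
noncomputable def Ptx2_2d : ℕ := nat_lit 0x816195b540
noncomputable def Ptx2_2 (u : ℕ) : ℕ := Nat.land (Nat.shiftRight Ptx2_2d (Nat.mul u (nat_lit 10))) (nat_lit 1023)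
noncomputable def Qx2_2d : ℕ := nat_lit 0x8000000000c000000000000000000000000000000000000000000000000000000000000000000000000000400000000000000000000000000000000000000000000000000000000000000000000000000000000000000000000000000000000000000000000000000000000000000000000000000000000000000000000000000000000000000
noncomputable def Qx2_2 (u : ℕ) : ℕ := Nat.land (Nat.shiftRight Qx2_2d (Nat.mul u (nat_lit 2))) (nat_lit 3)
noncomputable def lx2_2 : Lev := ⟨4, 17, LDx2_2, Ptx2_2, Qx2_2⟩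
noncomputable def LDx2_1d : ℕ := nat_lit 0x220
noncomputable def LDx2_1 (u : ℕ) : ℕ := Nat.land (Nat.shiftRight LDx2_1d (Nat.mul u (nat_lit 5))) (nat_lit 31)
noncomputable def Ptx2_1d : ℕ := nat_lit 0x3ebd5
noncomputable def Ptx2_1 (u : ℕ) : ℕ := Nat.land (Nat.shiftRight Ptx2_1d (Nat.mul u (nat_lit 9))) (nat_lit 511)
noncomputable def Qx2_1d : ℕ := nat_lit 0x200000000000000000000000000000000000000000000000000000000000000000000000000000000000000000000000000000000000000000000000000000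
noncomputable def Qx2_1 (u : ℕ) : ℕ := Nat.land (Nat.shiftRight Qx2_1d (Nat.mul u (nat_lit 1))) (nat_lit 1)
noncomputable def lx2_1 : Lev := ⟨2, 18, LDx2_1, Ptx2_1, Qx2_1⟩
noncomputable def LDx2_0d : ℕ := nat_lit 0xbd2dc364688900
noncomputable def LDx2_0 (u : ℕ) : ℕ := Nat.land (Nat.shiftRight LDx2_0d (Nat.mul u (nat_lit 7))) (nat_lit 127)
noncomputable def Ptx2_0d : ℕ := nat_lit 0x755f504219815405b40a
noncomputable def Ptx2_0 (u : ℕ) : ℕ := Nat.land (Nat.shiftRight Ptx2_0d (Nat.mul u (nat_lit 10))) (nat_lit 1023)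
noncomputable def Qx2_0d : ℕ := nat_lit 0x20000000000000018000000000030000000000000000000000038000000000000000000000000000000000000000000000000000000000000000000000000000008000000000000000000000000000000002000000000000000000000000000000000000000000000000000000000000000000000000000000000000000000000000000000000000000000000000000000000000000000000000000000000000000000000000000000000000000000000000000000000000000000000000000000000005000000000000
noncomputable def Qx2_0 (u : ℕ) : ℕ := Nat.land (Nat.shiftRight Qx2_0d (Nat.mul u (nat_lit 3))) (nat_lit 7)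
noncomputable def lx2_0 : Lev := ⟨8, 19, LDx2_0, Ptx2_0, Qx2_0⟩
noncomputable def Lx2 : List Lev := [lx2_0, lx2_1, lx2_2, lx2_3, lx2_4, lx2_5, lx2_6, lx2_7, lx2_8, lx2_9, lx2_10]
noncomputable def Bx2 : List ℕ := [nat_lit 10, nat_lit 469, nat_lit 320, nat_lit 28, nat_lit 76, nat_lit 80, nat_lit 0, nat_lit 1, nat_lit 3, nat_lit 7, nat_lit 9]

theorem id3_0 : c3.idnChk (nat_lit 21) I3_0 = true := by decide +kernel
theorem rw3_0 : c3.rowChk S3 (Yo3.map (·.1) ++ Ds3) La3 (nat_lit 0) (nat_lit 9) = true := by decide +kernel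
theorem ord3 : c3.ordChk Yo3 Ds3 = true := by decide +kernel
theorem rule3_0 : allZ (c3.ruleEnt (wdsP H16.CoA.P Us3) H16.CoA.B) (nat_lit 0) (nat_lit 9) = true := by decide +kernel
theorem fus3_0 : allZ (c3.fusEnt (wdsP H16.CoA.P Us3) (wdsP H16.CoA.P Fs3) H16.CoA.B) (nat_lit 0) (nat_lit 4) = true := by decide +kernel
theorem lvx3_2e_0 : allZ (lx3_2.ent (wdsP (wdsP H16.CoA.P Us3) Wsx3)) (nat_lit 0) (nat_lit 2) = true := by decide +kernel
theorem lvx3_2b : 0 < lx3_2.n ∧ 0 < lx3_2.K ∧ lx3_2.Pt 0 < 552 ∧ lx3_2.Q (lx3_2.Pt 0) = 0 ∧ 0 ≤ lx3_2.K ∧ fixLetters (wdsP (wdsP H16.CoA.P Us3) Wsx3) (nat_lit 0) (lx3_2.Pt 0) = true := by decide +kernel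
theorem lvx3_1e_0 : allZ (lx3_1.ent (wdsP (wdsP H16.CoA.P Us3) Wsx3)) (nat_lit 0) (nat_lit 2) = true := by decide +kernel
theorem lvx3_1b : 0 < lx3_1.n ∧ 0 < lx3_1.K ∧ lx3_1.Pt 0 < 552 ∧ lx3_1.Q (lx3_1.Pt 0) = 0 ∧ 1 ≤ lx3_1.K ∧ fixLetters (wdsP (wdsP H16.CoA.P Us3) Wsx3) (nat_lit 1) (lx3_1.Pt 0) = true := by decide +kernel
theorem lvx3_0e_0 : allZ (lx3_0.ent (wdsP (wdsP H16.CoA.P Us3) Wsx3)) (nat_lit 0) (nat_lit 2) = true := by decide +kernel
theorem lvx3_0b : 0 < lx3_0.n ∧ 0 < lx3_0.K ∧ lx3_0.Pt 0 < 552 ∧ lx3_0.Q (lx3_0.Pt 0) = 0 ∧ 2 ≤ lx3_0.K ∧ fixLetters (wdsP (wdsP H16.CoA.P Us3) Wsx3) (nat_lit 2) (lx3_0.Pt 0) = true := by decide +kernel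
theorem basex3 : chainBase Lx3 = Bx3 ∧ ltAll (nat_lit 552) Bx3 = 0 ∧ topK Lx3 = 3 := by decide +kernel
theorem h0_3 : allL (ltAll 13) Us3 = true ∧ allL (ltAll 13) Fs3 = true ∧ Us3.length ≤ c3.n ∧ 0 < 501397585920 := by decide +kernel
theorem h1_3 : allL (ltAll c3.n) Wsx3 = true ∧ chainCard Lx3 = (c3.p1 + 1) ^ c3.n ∧ c3.n * c3.n = 9 := by decide +kernel
theorem h2_3 : c3.Fmt ∧ c3.p1 + 1 = 3 ∧ c3.N1 + 1 = 3 ^ (0 + 1) ∧ 501397585920 = 3 ^ c3.n * (501397585920 / 3 ^ c3.n) ∧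
    Nat.Coprime (501397585920 / 3 ^ c3.n) (c3.N1 + 1) ∧ (Yo3.map (·.2.1)).prod ≤ 3 ^ 0 ∧ c3.n * c3.n = 9 := by decide +kernel
theorem h3_3 : c3.C = 4 := by decide +kernel
theorem id2_4 : c2.idnChk (nat_lit 1685) I2_4 = true := by decide +kernel
theorem id2_3 : c2.idnChk (nat_lit 1685) I2_3 = true := by decide +kernel
theorem id2_2 : c2.idnChk (nat_lit 1685) I2_2 = true := by decide +kernel
theorem id2_1 : c2.idnChk (nat_lit 1685) I2_1 = true := by decide +kernel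
theorem id2_0 : c2.idnChk (nat_lit 1685) I2_0 = true := by decide +kernel
theorem rw2_0 : c2.rowChk S2 (Yo2.map (·.1) ++ Ds2) La2 (nat_lit 0) (nat_lit 165) = true := by decide +kernel
theorem rw2_165 : c2.rowChk S2 (Yo2.map (·.1) ++ Ds2) La2 (nat_lit 165) (nat_lit 165) = true := by decide +kernel
theorem rw2_330 : c2.rowChk S2 (Yo2.map (·.1) ++ Ds2) La2 (nat_lit 330) (nat_lit 111) = true := by decide +kernel
theorem ord2 : c2.ordChk Yo2 Ds2 = true := by decide +kernel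
theorem rule2_0 : allZ (c2.ruleEnt (wdsP H16.CoA.P Us2) H16.CoA.B) (nat_lit 0) (nat_lit 128) = true := by decide +kernel
theorem rule2_1 : allZ (c2.ruleEnt (wdsP H16.CoA.P Us2) H16.CoA.B) (nat_lit 128) (nat_lit 128) = true := by decide +kernel
theorem rule2_2 : allZ (c2.ruleEnt (wdsP H16.CoA.P Us2) H16.CoA.B) (nat_lit 256) (nat_lit 128) = true := by decide +kernel
theorem rule2_3 : allZ (c2.ruleEnt (wdsP H16.CoA.P Us2) H16.CoA.B) (nat_lit 384) (nat_lit 57) = true := by decide +kernel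
theorem fus2_0 : allZ (c2.fusEnt (wdsP H16.CoA.P Us2) (wdsP H16.CoA.P Fs2) H16.CoA.B) (nat_lit 0) (nat_lit 46) = true := by decide +kernel
theorem fus2_1 : allZ (c2.fusEnt (wdsP H16.CoA.P Us2) (wdsP H16.CoA.P Fs2) H16.CoA.B) (nat_lit 46) (nat_lit 30) = true := by decide +kernel
theorem lvx2_10e_0 : allZ (lx2_10.ent (wdsP (wdsP H16.CoA.P Us2) Wsx2)) (nat_lit 0) (nat_lit 1) = true := by decide +kernel
theorem lvx2_10b : 0 < lx2_10.n ∧ 0 < lx2_10.K ∧ lx2_10.Pt 0 < 552 ∧ lx2_10.Q (lx2_10.Pt 0) = 0 ∧ 0 ≤ lx2_10.K ∧ fixLetters (wdsP (wdsP H16.CoA.P Us2) Wsx2) (nat_lit 0) (lx2_10.Pt 0) = true := by decide +kernel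
theorem lvx2_9e_0 : allZ (lx2_9.ent (wdsP (wdsP H16.CoA.P Us2) Wsx2)) (nat_lit 0) (nat_lit 1) = true := by decide +kernel
theorem lvx2_9b : 0 < lx2_9.n ∧ 0 < lx2_9.K ∧ lx2_9.Pt 0 < 552 ∧ lx2_9.Q (lx2_9.Pt 0) = 0 ∧ 1 ≤ lx2_9.K ∧ fixLetters (wdsP (wdsP H16.CoA.P Us2) Wsx2) (nat_lit 1) (lx2_9.Pt 0) = true := by decide +kernel
theorem lvx2_8e_0 : allZ (lx2_8.ent (wdsP (wdsP H16.CoA.P Us2) Wsx2)) (nat_lit 0) (nat_lit 1) = true := by decide +kernel
theorem lvx2_8b : 0 < lx2_8.n ∧ 0 < lx2_8.K ∧ lx2_8.Pt 0 < 552 ∧ lx2_8.Q (lx2_8.Pt 0) = 0 ∧ 2 ≤ lx2_8.K ∧ fixLetters (wdsP (wdsP H16.CoA.P Us2) Wsx2) (nat_lit 2) (lx2_8.Pt 0) = true := by decide +kernel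
theorem lvx2_7e_0 : allZ (lx2_7.ent (wdsP (wdsP H16.CoA.P Us2) Wsx2)) (nat_lit 0) (nat_lit 3) = true := by decide +kernel
theorem lvx2_7b : 0 < lx2_7.n ∧ 0 < lx2_7.K ∧ lx2_7.Pt 0 < 552 ∧ lx2_7.Q (lx2_7.Pt 0) = 0 ∧ 3 ≤ lx2_7.K ∧ fixLetters (wdsP (wdsP H16.CoA.P Us2) Wsx2) (nat_lit 3) (lx2_7.Pt 0) = true := by decide +kernel
theorem lvx2_6e_0 : allZ (lx2_6.ent (wdsP (wdsP H16.CoA.P Us2) Wsx2)) (nat_lit 0) (nat_lit 15) = true := by decide +kernel
theorem lvx2_6b : 0 < lx2_6.n ∧ 0 < lx2_6.K ∧ lx2_6.Pt 0 < 552 ∧ lx2_6.Q (lx2_6.Pt 0) = 0 ∧ 5 ≤ lx2_6.K ∧ fixLetters (wdsP (wdsP H16.CoA.P Us2) Wsx2) (nat_lit 5) (lx2_6.Pt 0) = true := by decide +kernel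
theorem lvx2_5e_0 : allZ (lx2_5.ent (wdsP (wdsP H16.CoA.P Us2) Wsx2)) (nat_lit 0) (nat_lit 1) = true := by decide +kernel
theorem lvx2_5b : 0 < lx2_5.n ∧ 0 < lx2_5.K ∧ lx2_5.Pt 0 < 552 ∧ lx2_5.Q (lx2_5.Pt 0) = 0 ∧ 9 ≤ lx2_5.K ∧ fixLetters (wdsP (wdsP H16.CoA.P Us2) Wsx2) (nat_lit 9) (lx2_5.Pt 0) = true := by decide +kernel
theorem lvx2_4e_0 : allZ (lx2_4.ent (wdsP (wdsP H16.CoA.P Us2) Wsx2)) (nat_lit 0) (nat_lit 3) = true := by decide +kernel
theorem lvx2_4b : 0 < lx2_4.n ∧ 0 < lx2_4.K ∧ lx2_4.Pt 0 < 552 ∧ lx2_4.Q (lx2_4.Pt 0) = 0 ∧ 10 ≤ lx2_4.K ∧ fixLetters (wdsP (wdsP H16.CoA.P Us2) Wsx2) (nat_lit 10) (lx2_4.Pt 0) = true := by decide +kernel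
theorem lvx2_3e_0 : allZ (lx2_3.ent (wdsP (wdsP H16.CoA.P Us2) Wsx2)) (nat_lit 0) (nat_lit 7) = true := by decide +kernel
theorem lvx2_3b : 0 < lx2_3.n ∧ 0 < lx2_3.K ∧ lx2_3.Pt 0 < 552 ∧ lx2_3.Q (lx2_3.Pt 0) = 0 ∧ 12 ≤ lx2_3.K ∧ fixLetters (wdsP (wdsP H16.CoA.P Us2) Wsx2) (nat_lit 12) (lx2_3.Pt 0) = true := by decide +kernel
theorem lvx2_2e_0 : allZ (lx2_2.ent (wdsP (wdsP H16.CoA.P Us2) Wsx2)) (nat_lit 0) (nat_lit 3) = true := by decide +kernel
theorem lvx2_2b : 0 < lx2_2.n ∧ 0 < lx2_2.K ∧ lx2_2.Pt 0 < 552 ∧ lx2_2.Q (lx2_2.Pt 0) = 0 ∧ 15 ≤ lx2_2.K ∧ fixLetters (wdsP (wdsP H16.CoA.P Us2) Wsx2) (nat_lit 15) (lx2_2.Pt 0) = true := by decide +kernel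
theorem lvx2_1e_0 : allZ (lx2_1.ent (wdsP (wdsP H16.CoA.P Us2) Wsx2)) (nat_lit 0) (nat_lit 1) = true := by decide +kernel
theorem lvx2_1b : 0 < lx2_1.n ∧ 0 < lx2_1.K ∧ lx2_1.Pt 0 < 552 ∧ lx2_1.Q (lx2_1.Pt 0) = 0 ∧ 17 ≤ lx2_1.K ∧ fixLetters (wdsP (wdsP H16.CoA.P Us2) Wsx2) (nat_lit 17) (lx2_1.Pt 0) = true := by decide +kernel
theorem lvx2_0e_0 : allZ (lx2_0.ent (wdsP (wdsP H16.CoA.P Us2) Wsx2)) (nat_lit 0) (nat_lit 7) = true := by decide +kernel
theorem lvx2_0b : 0 < lx2_0.n ∧ 0 < lx2_0.K ∧ lx2_0.Pt 0 < 552 ∧ lx2_0.Q (lx2_0.Pt 0) = 0 ∧ 18 ≤ lx2_0.K ∧ fixLetters (wdsP (wdsP H16.CoA.P Us2) Wsx2) (nat_lit 18) (lx2_0.Pt 0) = true := by decide +kernel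
theorem basex2 : chainBase Lx2 = Bx2 ∧ ltAll (nat_lit 552) Bx2 = 0 ∧ topK Lx2 = 19 := by decide +kernel
theorem h0_2 : allL (ltAll 13) Us2 = true ∧ allL (ltAll 13) Fs2 = true ∧ Us2.length ≤ c2.n ∧ 0 < 501397585920 := by decide +kernel
theorem h1_2 : allL (ltAll c2.n) Wsx2 = true ∧ chainCard Lx2 = (c2.p1 + 1) ^ c2.n ∧ c2.n * c2.n = 441 := by decide +kernel
theorem h2_2 : c2.Fmt ∧ c2.p1 + 1 = 2 ∧ c2.N1 + 1 = 2 ^ (1 + 1) ∧ 501397585920 = 2 ^ c2.n * (501397585920 / 2 ^ c2.n) ∧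
    Nat.Coprime (501397585920 / 2 ^ c2.n) (c2.N1 + 1) ∧ (Yo2.map (·.2.1)).prod ≤ 2 ^ 1 ∧ c2.n * c2.n = 441 := by decide +kernel
theorem h3_2 : c2.C = 76 := by decide +kernel

instance fin : Finite (gen H16.CoA.g 13) := Nat.finite_of_card_ne_zero (by rw [H16.CoA.card]; decide)
theorem zero3 : ∀ D ∈ Ds3, c3.Zero D := (Pc.zero_of_chk id3_0)
theorem rows3 : ∀ r < 9, c3.Row S3 (Yo3.map (·.1)) r :=
  (Pc.rows_glue zero3 Pc.rows_zero rw3_0)
theorem rule3 : ∀ i < 9, (c3.ruleEnt (wdsP H16.CoA.P Us3) H16.CoA.B) i = 0 := allZ_sound0 rule3_0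
theorem fus3 : ∀ i < 4, (c3.fusEnt (wdsP H16.CoA.P Us3) (wdsP H16.CoA.P Fs3) H16.CoA.B) i = 0 := allZ_sound0 fus3_0
theorem lvx3_2e : ∀ i < 2, (lx3_2.ent (wdsP (wdsP H16.CoA.P Us3) Wsx3)) i = 0 := allZ_sound0 lvx3_2e_0
theorem lvx3_1e : ∀ i < 2, (lx3_1.ent (wdsP (wdsP H16.CoA.P Us3) Wsx3)) i = 0 := allZ_sound0 lvx3_1e_0
theorem lvx3_0e : ∀ i < 2, (lx3_0.ent (wdsP (wdsP H16.CoA.P Us3) Wsx3)) i = 0 := allZ_sound0 lvx3_0e_0
theorem lowx3 : LowChain (wdsP (wdsP H16.CoA.P Us3) Wsx3) 552 Lx3 :=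
  ⟨⟨lvx3_0b.1, lvx3_0b.2.1, lvx3_0b.2.2.1, lvx3_0b.2.2.2.1, lvx3_0e⟩, lvx3_0b.2.2.2.2.1, lvx3_0b.2.2.2.2.2, ⟨⟨lvx3_1b.1, lvx3_1b.2.1, lvx3_1b.2.2.1, lvx3_1b.2.2.2.1, lvx3_1e⟩, lvx3_1b.2.2.2.2.1, lvx3_1b.2.2.2.2.2, ⟨⟨lvx3_2b.1, lvx3_2b.2.1, lvx3_2b.2.2.1, lvx3_2b.2.2.2.1, lvx3_2e⟩, lvx3_2b.2.2.2.2.1, lvx3_2b.2.2.2.2.2, trivial⟩⟩⟩
open scoped Pointwise in
theorem pb3 : PB (gen H16.CoA.g 13) (3 ^ (0 + 1)) :=
  (Pc.gok_wds H16.CoA.act H16.CoA.card (ptF_inj 552) H16.CoA.Blt H16.CoA.isBase h0_3 h1_3 rule3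
    (fun r h => fus3 r (h.trans_eq h3_3)) lowx3).pb (by norm_num) H16.CoA.card zero3 rows3 ord3 h2_3
theorem zero2 : ∀ D ∈ Ds2, c2.Zero D := (Pc.zero_app (Pc.zero_of_chk id2_0) (Pc.zero_app (Pc.zero_of_chk id2_1) (Pc.zero_app (Pc.zero_of_chk id2_2) (Pc.zero_app (Pc.zero_of_chk id2_3) (Pc.zero_of_chk id2_4)))))
theorem rows2 : ∀ r < 441, c2.Row S2 (Yo2.map (·.1)) r :=
  (Pc.rows_glue zero2 (Pc.rows_glue zero2 (Pc.rows_glue zero2 Pc.rows_zero rw2_0) rw2_165) rw2_330)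
theorem rule2_g0 : ∀ i < 128, (c2.ruleEnt (wdsP H16.CoA.P Us2) H16.CoA.B) i = 0 := allZ_sound0 rule2_0
theorem rule2_g1 : ∀ i < 256, (c2.ruleEnt (wdsP H16.CoA.P Us2) H16.CoA.B) i = 0 := range_glue rule2_g0 rule2_1
theorem rule2_g2 : ∀ i < 384, (c2.ruleEnt (wdsP H16.CoA.P Us2) H16.CoA.B) i = 0 := range_glue rule2_g1 rule2_2
theorem rule2 : ∀ i < 441, (c2.ruleEnt (wdsP H16.CoA.P Us2) H16.CoA.B) i = 0 := range_glue rule2_g2 rule2_3
theorem fus2_g0 : ∀ i < 46, (c2.fusEnt (wdsP H16.CoA.P Us2) (wdsP H16.CoA.P Fs2) H16.CoA.B) i = 0 := allZ_sound0 fus2_0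
theorem fus2 : ∀ i < 76, (c2.fusEnt (wdsP H16.CoA.P Us2) (wdsP H16.CoA.P Fs2) H16.CoA.B) i = 0 := range_glue fus2_g0 fus2_1
theorem lvx2_10e : ∀ i < 1, (lx2_10.ent (wdsP (wdsP H16.CoA.P Us2) Wsx2)) i = 0 := allZ_sound0 lvx2_10e_0
theorem lvx2_9e : ∀ i < 1, (lx2_9.ent (wdsP (wdsP H16.CoA.P Us2) Wsx2)) i = 0 := allZ_sound0 lvx2_9e_0
theorem lvx2_8e : ∀ i < 1, (lx2_8.ent (wdsP (wdsP H16.CoA.P Us2) Wsx2)) i = 0 := allZ_sound0 lvx2_8e_0
theorem lvx2_7e : ∀ i < 3, (lx2_7.ent (wdsP (wdsP H16.CoA.P Us2) Wsx2)) i = 0 := allZ_sound0 lvx2_7e_0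
theorem lvx2_6e : ∀ i < 15, (lx2_6.ent (wdsP (wdsP H16.CoA.P Us2) Wsx2)) i = 0 := allZ_sound0 lvx2_6e_0
theorem lvx2_5e : ∀ i < 1, (lx2_5.ent (wdsP (wdsP H16.CoA.P Us2) Wsx2)) i = 0 := allZ_sound0 lvx2_5e_0
theorem lvx2_4e : ∀ i < 3, (lx2_4.ent (wdsP (wdsP H16.CoA.P Us2) Wsx2)) i = 0 := allZ_sound0 lvx2_4e_0
theorem lvx2_3e : ∀ i < 7, (lx2_3.ent (wdsP (wdsP H16.CoA.P Us2) Wsx2)) i = 0 := allZ_sound0 lvx2_3e_0
theorem lvx2_2e : ∀ i < 3, (lx2_2.ent (wdsP (wdsP H16.CoA.P Us2) Wsx2)) i = 0 := allZ_sound0 lvx2_2e_0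
theorem lvx2_1e : ∀ i < 1, (lx2_1.ent (wdsP (wdsP H16.CoA.P Us2) Wsx2)) i = 0 := allZ_sound0 lvx2_1e_0
theorem lvx2_0e : ∀ i < 7, (lx2_0.ent (wdsP (wdsP H16.CoA.P Us2) Wsx2)) i = 0 := allZ_sound0 lvx2_0e_0
theorem lowx2 : LowChain (wdsP (wdsP H16.CoA.P Us2) Wsx2) 552 Lx2 :=
  ⟨⟨lvx2_0b.1, lvx2_0b.2.1, lvx2_0b.2.2.1, lvx2_0b.2.2.2.1, lvx2_0e⟩, lvx2_0b.2.2.2.2.1, lvx2_0b.2.2.2.2.2, ⟨⟨lvx2_1b.1, lvx2_1b.2.1, lvx2_1b.2.2.1, lvx2_1b.2.2.2.1, lvx2_1e⟩, lvx2_1b.2.2.2.2.1, lvx2_1b.2.2.2.2.2, ⟨⟨lvx2_2b.1, lvx2_2b.2.1, lvx2_2b.2.2.1, lvx2_2b.2.2.2.1, lvx2_2e⟩, lvx2_2b.2.2.2.2.1, lvx2_2b.2.2.2.2.2, ⟨⟨lvx2_3b.1, lvx2_3b.2.1, lvx2_3b.2.2.1, lvx2_3b.2.2.2.1, lvx2_3e⟩, lvx2_3b.2.2.2.2.1, lvx2_3b.2.2.2.2.2, ⟨⟨lvx2_4b.1, lvx2_4b.2.1, lvx2_4b.2.2.1, lvx2_4b.2.2.2.1, lvx2_4e⟩, lvx2_4b.2.2.2.2.1, lvx2_4b.2.2.2.2.2, ⟨⟨lvx2_5b.1, lvx2_5b.2.1, lvx2_5b.2.2.1, lvx2_5b.2.2.2.1, lvx2_5e⟩, lvx2_5b.2.2.2.2.1, lvx2_5b.2.2.2.2.2,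 ⟨⟨lvx2_6b.1, lvx2_6b.2.1, lvx2_6b.2.2.1, lvx2_6b.2.2.2.1, lvx2_6e⟩, lvx2_6b.2.2.2.2.1, lvx2_6b.2.2.2.2.2, ⟨⟨lvx2_7b.1, lvx2_7b.2.1, lvx2_7b.2.2.1, lvx2_7b.2.2.2.1, lvx2_7e⟩, lvx2_7b.2.2.2.2.1, lvx2_7b.2.2.2.2.2, ⟨⟨lvx2_8b.1, lvx2_8b.2.1, lvx2_8b.2.2.1, lvx2_8b.2.2.2.1, lvx2_8e⟩, lvx2_8b.2.2.2.2.1, lvx2_8b.2.2.2.2.2, ⟨⟨lvx2_9b.1, lvx2_9b.2.1, lvx2_9b.2.2.1, lvx2_9b.2.2.2.1, lvx2_9e⟩, lvx2_9b.2.2.2.2.1, lvx2_9b.2.2.2.2.2, ⟨⟨lvx2_10b.1, lvx2_10b.2.1, lvx2_10b.2.2.1, lvx2_10b.2.2.2.1, lvx2_10e⟩, lvx2_10b.2.2.2.2.1, lvx2_10b.2.2.2.2.2, trivial⟩⟩⟩⟩⟩⟩⟩⟩⟩⟩⟩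
open scoped Pointwise in
theorem pb2 : PB (gen H16.CoA.g 13) (2 ^ (1 + 1)) :=
  (Pc.gok_wds H16.CoA.act H16.CoA.card (ptF_inj 552) H16.CoA.Blt H16.CoA.isBase h0_2 h1_2 rule2
    (fun r h => fus2 r (h.trans_eq h3_2)) lowx2).pb (by norm_num) H16.CoA.card zero2 rows2 ord2 h2_2
theorem ker_le (Δ : Type) [Group Δ] [Finite Δ] (τ : Δ →* (gen H16.CoA.g 13)) (h : Cfsg.IsStemExtension τ) :
    Nat.card τ.ker ≤ 2 :=
  card_ker_le (L := [(2, 21, 1), (3, 3, 0), (5, 1, 0), (7, 1, 0), (11, 1, 0), (23, 1, 0)]) ⟨H16.CoA.card.trans (by decide +kernel), by decide +kernel⟩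
    (all_cons ⟨by norm_num, pb2⟩
    (all_cons ⟨by norm_num, pb3⟩
    (all_cons ⟨by norm_num, PB.of_not_sq (by norm_num) (by rw [H16.CoA.card]; decide)⟩
    (all_cons ⟨by norm_num, PB.of_not_sq (by norm_num) (by rw [H16.CoA.card]; decide)⟩
    (all_cons ⟨by norm_num, PB.of_not_sq (by norm_num) (by rw [H16.CoA.card]; decide)⟩
    (all_cons ⟨by norm_num, PB.of_not_sq (by norm_num) (by rw [H16.CoA.card]; decide)⟩
    all_nil)))))) Δ τ h

end H16.ScCoA
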