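import Cfsg.Agent.H16.Sch3
import Cfsg.Agent.H16.T.Fi23
import Cfsg.Agent.H16.Sc.Fi22
import Cfsg.Agent.H26.Fi23C

/-! Generated by tools/h16 (computation kit). -/

set_option maxRecDepth 100000
set_option maxHeartbeats 0

namespace H16.ScFi23

noncomputable def Us3 : List (List ℕ) := [[nat_lit 10, nat_lit 14, nat_lit 11, nat_lit 3, nat_lit 14, nat_lit 10, nat_lit 6, nat_lit 1, nat_lit 3, nat_lit 2, nat_lit 9, nat_lit 5, nat_lit 6, nat_lit 0, nat_lit 3, nat_lit 5, nat_lit 10, nat_lit 1, nat_lit 8, nat_lit 6, nat_lit 5, nat_lit 4, nat_lit 3, nat_lit 7, nat_lit 5, nat_lit 4, nat_lit 3, nat_lit 6, nat_lit 5, nat_lit 9, nat_lit 1, nat_lit 4, nat_lit 2, nat_lit 3, nat_lit 9, nat_lit 8, nat_lit 10, nat_lit 8, nat_lit 9, nat_lit 1, nat_lit 2, nat_lit 7, nat_lit 9, nat_lit 0, nat_lit 6, nat_lit 1, nat_lit 3, nat_lit 10, nat_lit 8, nat_lit 7, nat_lit 3, nat_lit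 9, nat_lit 8, nat_lit 4, nat_lit 3, nat_lit 7, nat_lit 3, nat_lit 5, nat_lit 4, nat_lit 10, nat_lit 9, nat_lit 7, nat_lit 5, nat_lit 3, nat_lit 1, nat_lit 7, nat_lit 8, nat_lit 9, nat_lit 8, nat_lit 7, nat_lit 3, nat_lit 2, nat_lit 7, nat_lit 1, nat_lit 10, nat_lit 1, nat_lit 2, nat_lit 0, nat_lit 4, nat_lit 3, nat_lit 1, nat_lit 0, nat_lit 5, nat_lit 4, nat_lit 6],
  [nat_lit 8, nat_lit 9, nat_lit 0, nat_lit 14, nat_lit 12, nat_lit 5, nat_lit 9, nat_lit 8, nat_lit 3, nat_lit 4, nat_lit 7, nat_lit 3, nat_lit 8, nat_lit 9, nat_lit 4, nat_lit 5, nat_lit 3, nat_lit 1, nat_lit 0, nat_lit 2, nat_lit 1, nat_lit 0, nat_lit 7, nat_lit 3, nat_lit 2, nat_lit 8, nat_lit 5, nat_lit 7, nat_lit 3, nat_lit 4, nat_lit 6, nat_lit 5, nat_lit 2, nat_lit 3, nat_lit 1, nat_lit 10, nat_lit 9, nat_lit 5, nat_lit 1, nat_lit 8, nat_lit 10, nat_lit 9, nat_lit 6, nat_lit 5, nat_lit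 7, nat_lit 10, nat_lit 8, nat_lit 9, nat_lit 5, nat_lit 0, nat_lit 3, nat_lit 2, nat_lit 1, nat_lit 4, nat_lit 3, nat_lit 4, nat_lit 10, nat_lit 1, nat_lit 5, nat_lit 4, nat_lit 10, nat_lit 8, nat_lit 2, nat_lit 3, nat_lit 9, nat_lit 5, nat_lit 1],
  [nat_lit 2, nat_lit 13, nat_lit 13, nat_lit 11, nat_lit 10, nat_lit 12, nat_lit 2, nat_lit 4, nat_lit 9, nat_lit 1, nat_lit 0, nat_lit 10, nat_lit 1, nat_lit 8, nat_lit 7, nat_lit 10, nat_lit 8, nat_lit 7, nat_lit 0, nat_lit 9, nat_lit 8, nat_lit 10, nat_lit 5, nat_lit 3, nat_lit 0, nat_lit 6, nat_lit 5, nat_lit 3, nat_lit 7, nat_lit 4, nat_lit 3, nat_lit 8, nat_lit 5, nat_lit 9, nat_lit 3, nat_lit 0, nat_lit 1, nat_lit 2, nat_lit 3, nat_lit 4, nat_lit 5, nat_lit 4, nat_lit 3, nat_lit 2, nat_lit 0, nat_lit 3, nat_lit 5, nat_lit 4, nat_lit 6, nat_lit 7, nat_lit 3, nat_lit 2, nat_lit 1, nat_lit 4, nat_lit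 5, nat_lit 9, nat_lit 5, nat_lit 9, nat_lit 5, nat_lit 4, nat_lit 0, nat_lit 3, nat_lit 5, nat_lit 9, nat_lit 10, nat_lit 8, nat_lit 4, nat_lit 3, nat_lit 7, nat_lit 4, nat_lit 3, nat_lit 0, nat_lit 8, nat_lit 10, nat_lit 8, nat_lit 9, nat_lit 5, nat_lit 1, nat_lit 3, nat_lit 5, nat_lit 6, nat_lit 7, nat_lit 8, nat_lit 11],
  [nat_lit 0, nat_lit 14, nat_lit 4, nat_lit 3, nat_lit 13, nat_lit 14, nat_lit 4, nat_lit 9, nat_lit 1, nat_lit 3, nat_lit 2, nat_lit 0, nat_lit 2, nat_lit 10, nat_lit 1, nat_lit 8, nat_lit 7, nat_lit 8, nat_lit 5, nat_lit 9, nat_lit 5, nat_lit 4, nat_lit 3, nat_lit 7, nat_lit 3, nat_lit 2, nat_lit 5, nat_lit 4, nat_lit 9, nat_lit 1, nat_lit 5, nat_lit 4, nat_lit 3, nat_lit 10, nat_lit 0, nat_lit 6, nat_lit 1, nat_lit 0, nat_lit 7, nat_lit 8, nat_lit 7, nat_lit 8, nat_lit 7, nat_lit 8, nat_lit 0, nat_lit 1, nat_lit 4, nat_lit 0,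 nat_lit 3, nat_lit 9, nat_lit 5, nat_lit 4, nat_lit 10, nat_lit 7, nat_lit 8, nat_lit 9, nat_lit 3, nat_lit 1, nat_lit 5, nat_lit 4, nat_lit 3, nat_lit 10, nat_lit 2, nat_lit 3, nat_lit 7, nat_lit 8, nat_lit 10, nat_lit 8, nat_lit 7, nat_lit 3, nat_lit 1, nat_lit 2, nat_lit 1, nat_lit 3, nat_lit 2, nat_lit 1, nat_lit 0, nat_lit 10],
  [nat_lit 11, nat_lit 9, nat_lit 14, nat_lit 2, nat_lit 14, nat_lit 1, nat_lit 7, nat_lit 3, nat_lit 7, nat_lit 4, nat_lit 3, nat_lit 8, nat_lit 10, nat_lit 4, nat_lit 5, nat_lit 0, nat_lit 8, nat_lit 9, nat_lit 4, nat_lit 5, nat_lit 7, nat_lit 8, nat_lit 10, nat_lit 3, nat_lit 7, nat_lit 4, nat_lit 2, nat_lit 4, nat_lit 3, nat_lit 7, nat_lit 10, nat_lit 1, nat_lit 2, nat_lit 0, nat_lit 1, nat_lit 5, nat_lit 9, nat_lit 5, nat_lit 4, nat_lit 8, nat_lit 10, nat_lit 9, nat_lit 5, nat_lit 6, nat_lit 1, nat_lit 5, nat_lit 9,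 nat_lit 7, nat_lit 8, nat_lit 1, nat_lit 7, nat_lit 3, nat_lit 2, nat_lit 7, nat_lit 3, nat_lit 10, nat_lit 4, nat_lit 2, nat_lit 3, nat_lit 8, nat_lit 1],
  [nat_lit 7, nat_lit 10, nat_lit 13, nat_lit 7, nat_lit 2, nat_lit 13, nat_lit 7, nat_lit 8, nat_lit 9, nat_lit 8, nat_lit 7, nat_lit 3, nat_lit 4, nat_lit 5, nat_lit 10, nat_lit 8, nat_lit 9, nat_lit 8, nat_lit 10, nat_lit 5, nat_lit 4, nat_lit 3, nat_lit 7, nat_lit 8, nat_lit 9, nat_lit 8, nat_lit 7, nat_lit 1, nat_lit 5, nat_lit 4, nat_lit 9, nat_lit 10, nat_lit 8, nat_lit 5, nat_lit 9, nat_lit 5, nat_lit 2, nat_lit 3, nat_lit 4, nat_lit 5, nat_lit 8, nat_lit 7, nat_lit 3, nat_lit 2, nat_lit 0, nat_lit 3, nat_lit 5, nat_lit 10, nat_lit 8, nat_lit 7, nat_lit 3, nat_lit 7, nat_lit 2, nat_lit 3, nat_lit 1, nat_lit 9, nat_lit 10, nat_lit 1, nat_lit 8, nat_lit 7, nat_lit 2, nat_lit 1, nat_lit 10,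 nat_lit 9, nat_lit 5, nat_lit 4, nat_lit 9, nat_lit 10, nat_lit 1, nat_lit 3, nat_lit 4, nat_lit 7, nat_lit 3, nat_lit 8, nat_lit 10, nat_lit 5, nat_lit 0, nat_lit 3, nat_lit 2, nat_lit 5, nat_lit 4, nat_lit 7, nat_lit 9, nat_lit 1],
  [nat_lit 10, nat_lit 14, nat_lit 14, nat_lit 4, nat_lit 13, nat_lit 6, nat_lit 4, nat_lit 2, nat_lit 7, nat_lit 9, nat_lit 0, nat_lit 6, nat_lit 1, nat_lit 3, nat_lit 4, nat_lit 5, nat_lit 6, nat_lit 7, nat_lit 1, nat_lit 5, nat_lit 4, nat_lit 3, nat_lit 9, nat_lit 5, nat_lit 6, nat_lit 9, nat_lit 8, nat_lit 4, nat_lit 5, nat_lit 9, nat_lit 4, nat_lit 5, nat_lit 1, nat_lit 7, nat_lit 3, nat_lit 2, nat_lit 10, nat_lit 0, nat_lit 1, nat_lit 10, nat_lit 2, nat_lit 0, nat_lit 1, nat_lit 3, nat_lit 7, nat_lit 10, nat_lit 5, nat_lit 3, nat_lit 1, nat_lit 9, nat_lit 6, nat_lit 5, nat_lit 10, nat_lit 8, nat_lit 7, nat_lit 10,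 nat_lit 4, nat_lit 5, nat_lit 9, nat_lit 0, nat_lit 3, nat_lit 2, nat_lit 1, nat_lit 5, nat_lit 10, nat_lit 3, nat_lit 2, nat_lit 0, nat_lit 1, nat_lit 3, nat_lit 5, nat_lit 6, nat_lit 9, nat_lit 8, nat_lit 10, nat_lit 4, nat_lit 7, nat_lit 3, nat_lit 8],
  [nat_lit 5, nat_lit 14, nat_lit 9, nat_lit 2, nat_lit 1, nat_lit 14, nat_lit 10, nat_lit 12, nat_lit 10, nat_lit 7, nat_lit 1, nat_lit 9, nat_lit 8, nat_lit 10, nat_lit 8, nat_lit 9, nat_lit 1, nat_lit 5, nat_lit 4, nat_lit 9, nat_lit 8, nat_lit 3, nat_lit 4, nat_lit 7, nat_lit 3, nat_lit 8, nat_lit 9, nat_lit 4, nat_lit 5, nat_lit 3, nat_lit 8, nat_lit 1, nat_lit 9, nat_lit 10, nat_lit 8, nat_lit 7, nat_lit 10, nat_lit 1, nat_lit 2, nat_lit 0, nat_lit 6, nat_lit 5, nat_lit 6, nat_lit 4, nat_lit 5, nat_lit 0, nat_lit 10, nat_lit 1, nat_lit 2, nat_lit 3, nat_lit 1, nat_lit 0, nat_lit 5, nat_lit 9,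 nat_lit 8, nat_lit 3, nat_lit 4, nat_lit 9, nat_lit 8, nat_lit 2, nat_lit 5, nat_lit 6, nat_lit 10, nat_lit 8, nat_lit 9, nat_lit 4, nat_lit 5, nat_lit 0, nat_lit 3, nat_lit 5, nat_lit 6, nat_lit 9, nat_lit 2, nat_lit 3, nat_lit 7, nat_lit 8, nat_lit 9, nat_lit 3, nat_lit 5, nat_lit 6, nat_lit 7],
  [nat_lit 13, nat_lit 1, nat_lit 14, nat_lit 9, nat_lit 14, nat_lit 12, nat_lit 2, nat_lit 7, nat_lit 9, nat_lit 0, nat_lit 6, nat_lit 8, nat_lit 1, nat_lit 2, nat_lit 6, nat_lit 1, nat_lit 3, nat_lit 5, nat_lit 4, nat_lit 9, nat_lit 8, nat_lit 3, nat_lit 7, nat_lit 4, nat_lit 3, nat_lit 8, nat_lit 9, nat_lit 4, nat_lit 5, nat_lit 8, nat_lit 7, nat_lit 2, nat_lit 3, nat_lit 1, nat_lit 9, nat_lit 3, nat_lit 0, nat_lit 2, nat_lit 5, nat_lit 4, nat_lit 9, nat_lit 8, nat_lit 1, nat_lit 5, nat_lit 10, nat_lit 0, nat_lit 3, nat_lit 5, nat_lit 4, nat_lit 6, nat_lit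 7, nat_lit 10, nat_lit 8, nat_lit 9, nat_lit 5, nat_lit 2, nat_lit 3, nat_lit 7, nat_lit 8, nat_lit 10, nat_lit 8, nat_lit 7, nat_lit 3, nat_lit 1, nat_lit 2, nat_lit 1, nat_lit 6, nat_lit 5, nat_lit 10, nat_lit 1, nat_lit 2, nat_lit 6, nat_lit 4, nat_lit 5, nat_lit 9, nat_lit 5, nat_lit 4, nat_lit 3, nat_lit 9, nat_lit 8, nat_lit 10, nat_lit 8, nat_lit 9, nat_lit 5],
  [nat_lit 8, nat_lit 11, nat_lit 3, nat_lit 13, nat_lit 13, nat_lit 12, nat_lit 2, nat_lit 0, nat_lit 10, nat_lit 3, nat_lit 7, nat_lit 1, nat_lit 0, nat_lit 3, nat_lit 5, nat_lit 6, nat_lit 9, nat_lit 8, nat_lit 10, nat_lit 4, nat_lit 5, nat_lit 3, nat_lit 1, nat_lit 10, nat_lit 0, nat_lit 1, nat_lit 5, nat_lit 10, nat_lit 2, nat_lit 3, nat_lit 7, nat_lit 1, nat_lit 9, nat_lit 4, nat_lit 5, nat_lit 3, nat_lit 1, nat_lit 9, nat_lit 10, nat_lit 8, nat_lit 7, nat_lit 10, nat_lit 1, nat_lit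 2, nat_lit 0, nat_lit 6, nat_lit 1, nat_lit 9, nat_lit 5, nat_lit 4, nat_lit 8, nat_lit 7, nat_lit 5, nat_lit 9, nat_lit 8, nat_lit 10, nat_lit 0, nat_lit 2, nat_lit 1, nat_lit 5, nat_lit 1, nat_lit 3, nat_lit 9, nat_lit 5, nat_lit 4, nat_lit 8, nat_lit 7, nat_lit 10, nat_lit 11],
  [nat_lit 13, nat_lit 5, nat_lit 6, nat_lit 12, nat_lit 14, nat_lit 2, nat_lit 7, nat_lit 9, nat_lit 0, nat_lit 6, nat_lit 0, nat_lit 1, nat_lit 6, nat_lit 0, nat_lit 10, nat_lit 3, nat_lit 4, nat_lit 5, nat_lit 1, nat_lit 9, nat_lit 4, nat_lit 5, nat_lit 2, nat_lit 3, nat_lit 8, nat_lit 5, nat_lit 10, nat_lit 7, nat_lit 8, nat_lit 9, nat_lit 3, nat_lit 4, nat_lit 2, nat_lit 3, nat_lit 7, nat_lit 5, nat_lit 2, nat_lit 3, nat_lit 2, nat_lit 5, nat_lit 10, nat_lit 8, nat_lit 0, nat_lit 5, nat_lit 4, nat_lit 7, nat_lit 1, nat_lit 3, nat_lit 2, nat_lit 4, nat_lit 5, nat_lit 3,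 nat_lit 6, nat_lit 7],
  [nat_lit 11, nat_lit 7, nat_lit 3, nat_lit 2, nat_lit 1, nat_lit 10, nat_lit 12, nat_lit 3, nat_lit 8, nat_lit 10, nat_lit 0, nat_lit 3, nat_lit 9, nat_lit 1, nat_lit 3, nat_lit 2, nat_lit 7, nat_lit 8, nat_lit 5, nat_lit 4, nat_lit 9, nat_lit 8, nat_lit 3, nat_lit 4, nat_lit 7, nat_lit 3, nat_lit 8, nat_lit 9, nat_lit 4, nat_lit 5, nat_lit 3, nat_lit 1, nat_lit 6, nat_lit 2, nat_lit 3, nat_lit 2, nat_lit 4, nat_lit 1, nat_lit 9, nat_lit 5, nat_lit 6, nat_lit 3, nat_lit 4, nat_lit 5, nat_lit 7, nat_lit 5, nat_lit 4, nat_lit 3, nat_lit 9, nat_lit 10, nat_lit 4, nat_lit 2, nat_lit 3, nat_lit 5, nat_lit 9, nat_lit 1, nat_lit 2, nat_lit 3, nat_lit 2, nat_lit 5, nat_lit 4, nat_lit 6, nat_lit 1, nat_lit 3, nat_lit 2, nat_lit 10, nat_lit 8, nat_lit 0, nat_lit 5, nat_lit 7, nat_lit 8, nat_lit 10, nat_lit 0, nat_lit 5, nat_lit 7, nat_lit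 3, nat_lit 9, nat_lit 10],
  [nat_lit 3, nat_lit 0, nat_lit 11, nat_lit 14, nat_lit 11, nat_lit 7, nat_lit 0, nat_lit 13, nat_lit 2, nat_lit 4, nat_lit 3, nat_lit 7, nat_lit 8, nat_lit 10, nat_lit 8, nat_lit 7, nat_lit 3, nat_lit 2, nat_lit 1, nat_lit 3, nat_lit 7, nat_lit 3, nat_lit 2, nat_lit 0, nat_lit 1, nat_lit 10, nat_lit 3, nat_lit 8, nat_lit 7, nat_lit 3, nat_lit 2, nat_lit 0, nat_lit 4, nat_lit 7, nat_lit 8, nat_lit 9, nat_lit 8, nat_lit 7, nat_lit 2, nat_lit 10, nat_lit 3, nat_lit 4, nat_lit 5, nat_lit 9, nat_lit 8, nat_lit 1, nat_lit 10, nat_lit 4, nat_lit 3, nat_lit 2, nat_lit 5, nat_lit 9, nat_lit 8, nat_lit 10, nat_lit 7, nat_lit 8, nat_lit 7, nat_lit 9, nat_lit 8, nat_lit 7, nat_lit 6, nat_lit 10, nat_lit 3]]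
noncomputable def Fs3 : List (List ℕ) := [[nat_lit 3, nat_lit 6, nat_lit 5, nat_lit 13, nat_lit 12, nat_lit 10, nat_lit 6, nat_lit 12, nat_lit 5, nat_lit 1, nat_lit 9, nat_lit 2, nat_lit 7, nat_lit 9, nat_lit 0, nat_lit 6, nat_lit 10, nat_lit 1, nat_lit 2, nat_lit 0, nat_lit 8, nat_lit 10, nat_lit 9, nat_lit 1, nat_lit 0, nat_lit 4, nat_lit 3, nat_lit 7, nat_lit 9, nat_lit 2, nat_lit 3, nat_lit 1, nat_lit 2, nat_lit 0, nat_lit 8, nat_lit 10, nat_lit 7, nat_lit 4, nat_lit 1, nat_lit 2, nat_lit 3, nat_lit 4, nat_lit 9, nat_lit 5, nat_lit 4, nat_lit 3, nat_lit 7, nat_lit 2, nat_lit 3, nat_lit 1, nat_lit 9, nat_lit 8, nat_lit 10, nat_lit 5, nat_lit 2, nat_lit 1, nat_lit 5, nat_lit 9, nat_lit 5, nat_lit 4],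
  [nat_lit 6, nat_lit 12, nat_lit 13, nat_lit 4, nat_lit 14, nat_lit 8, nat_lit 7, nat_lit 8, nat_lit 7, nat_lit 9, nat_lit 8, nat_lit 7, nat_lit 1, nat_lit 9, nat_lit 8, nat_lit 10, nat_lit 8, nat_lit 9, nat_lit 1, nat_lit 5, nat_lit 4, nat_lit 9, nat_lit 8, nat_lit 3, nat_lit 4, nat_lit 7, nat_lit 3, nat_lit 8, nat_lit 9, nat_lit 4, nat_lit 5, nat_lit 3, nat_lit 7, nat_lit 8, nat_lit 9, nat_lit 8, nat_lit 7, nat_lit 1, nat_lit 3, nat_lit 2, nat_lit 0, nat_lit 2, nat_lit 10, nat_lit 1, nat_lit 8, nat_lit 7, nat_lit 8, nat_lit 5, nat_lit 9, nat_lit 5, nat_lit 4, nat_lit 3, nat_lit 7, nat_lit 3, nat_lit 5, nat_lit 4, nat_lit 3, nat_lit 9, nat_lit 3, nat_lit 2, nat_lit 5, nat_lit 9, nat_lit 3, nat_lit 7, nat_lit 4, nat_lit 1, nat_lit 2, nat_lit 3, nat_lit 0, nat_lit 4, nat_lit 1, nat_lit 0, nat_lit 1, nat_lit 3, nat_lit 4, nat_lit 9, nat_lit 10, nat_lit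 2, nat_lit 3, nat_lit 10, nat_lit 8],
  [nat_lit 0, nat_lit 14, nat_lit 3, nat_lit 4, nat_lit 2, nat_lit 0, nat_lit 13, nat_lit 7, nat_lit 4, nat_lit 9, nat_lit 2, nat_lit 7, nat_lit 9, nat_lit 0, nat_lit 6, nat_lit 3, nat_lit 5, nat_lit 9, nat_lit 10, nat_lit 8, nat_lit 5, nat_lit 4, nat_lit 9, nat_lit 8, nat_lit 0, nat_lit 2, nat_lit 5, nat_lit 9, nat_lit 0, nat_lit 3, nat_lit 4, nat_lit 5, nat_lit 9, nat_lit 5, nat_lit 3, nat_lit 2, nat_lit 7, nat_lit 8, nat_lit 3, nat_lit 2, nat_lit 1, nat_lit 10, nat_lit 0, nat_lit 1, nat_lit 0, nat_lit 5, nat_lit 7, nat_lit 3, nat_lit 2, nat_lit 1, nat_lit 9, nat_lit 8, nat_lit 10, nat_lit 6, nat_lit 4, nat_lit 5, nat_lit 3, nat_lit 1, nat_lit 8, nat_lit 9, nat_lit 8, nat_lit 10, nat_lit 8, nat_lit 9, nat_lit 1, nat_lit 0, nat_lit 5, nat_lit 4, nat_lit 9, nat_lit 5, nat_lit 6]]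
noncomputable def c3 : Pc := ⟨(nat_lit 2), (nat_lit 2), (nat_lit 13), (nat_lit 3), (nat_lit 14), (nat_lit 15),
  [[[nat_lit 5, nat_lit 7, nat_lit 8, nat_lit 8, nat_lit 10, nat_lit 10, nat_lit 11, nat_lit 12, nat_lit 12]],
  [[nat_lit 1, nat_lit 3], [nat_lit 7, nat_lit 7, nat_lit 10, nat_lit 10, nat_lit 11]],
  [[nat_lit 2, nat_lit 4], [nat_lit 2, nat_lit 8, nat_lit 10, nat_lit 11, nat_lit 11, nat_lit 12], [nat_lit 10, nat_lit 10, nat_lit 12]],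
  [[nat_lit 3, nat_lit 5], [nat_lit 3, nat_lit 5, nat_lit 5, nat_lit 8, nat_lit 8, nat_lit 9, nat_lit 11, nat_lit 11], [nat_lit 3, nat_lit 6], []],
  [[nat_lit 4, nat_lit 6, nat_lit 6, nat_lit 7, nat_lit 7, nat_lit 11, nat_lit 12], [nat_lit 4, nat_lit 6, nat_lit 8, nat_lit 8, nat_lit 9, nat_lit 10, nat_lit 10, nat_lit 11], [nat_lit 4, nat_lit 8, nat_lit 8, nat_lit 11, nat_lit 11, nat_lit 12], [nat_lit 4, nat_lit 8, nat_lit 8, nat_lit 9, nat_lit 10], []],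
  [[nat_lit 5, nat_lit 8, nat_lit 8, nat_lit 9, nat_lit 11, nat_lit 12], [nat_lit 5, nat_lit 8, nat_lit 9, nat_lit 10, nat_lit 11], [nat_lit 5, nat_lit 7], [nat_lit 5, nat_lit 11, nat_lit 11, nat_lit 12], [nat_lit 5, nat_lit 8, nat_lit 11, nat_lit 12, nat_lit 12], []],
  [[nat_lit 6, nat_lit 7, nat_lit 8, nat_lit 8, nat_lit 10, nat_lit 11, nat_lit 11, nat_lit 12], [nat_lit 6, nat_lit 7, nat_lit 7, nat_lit 9, nat_lit 9, nat_lit 10, nat_lit 10, nat_lit 11, nat_lit 11, nat_lit 12], [nat_lit 6, nat_lit 9, nat_lit 10, nat_lit 10, nat_lit 12], [nat_lit 6, nat_lit 8, nat_lit 8, nat_lit 9, nat_lit 9, nat_lit 11], [nat_lit 6], [nat_lit 6, nat_lit 9, nat_lit 10, nat_lit 10, nat_lit 12, nat_lit 12], []],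
  [[nat_lit 7, nat_lit 8], [nat_lit 7, nat_lit 12], [nat_lit 7, nat_lit 10, nat_lit 12, nat_lit 12], [nat_lit 7, nat_lit 9, nat_lit 10, nat_lit 10], [nat_lit 7], [nat_lit 7, nat_lit 10, nat_lit 12, nat_lit 12], [nat_lit 7, nat_lit 12, nat_lit 12], []],
  [[nat_lit 8, nat_lit 9], [nat_lit 8, nat_lit 9, nat_lit 9, nat_lit 10, nat_lit 11, nat_lit 12, nat_lit 12], [nat_lit 8, nat_lit 11], [nat_lit 8, nat_lit 11, nat_lit 12, nat_lit 12], [nat_lit 8, nat_lit 12], [nat_lit 8, nat_lit 11, nat_lit 12, nat_lit 12], [nat_lit 8, nat_lit 12], [nat_lit 8, nat_lit 12], []],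
  [[nat_lit 9, nat_lit 10], [nat_lit 9, nat_lit 10, nat_lit 10, nat_lit 12], [nat_lit 9, nat_lit 12], [nat_lit 9, nat_lit 11, nat_lit 11, nat_lit 12], [nat_lit 9, nat_lit 12], [nat_lit 9], [nat_lit 9, nat_lit 12, nat_lit 12], [nat_lit 9], [nat_lit 9], []],
  [[nat_lit 10, nat_lit 11], [nat_lit 10, nat_lit 12, nat_lit 12], [nat_lit 10], [nat_lit 10], [nat_lit 10, nat_lit 12, nat_lit 12], [nat_lit 10], [nat_lit 10], [nat_lit 10], [nat_lit 10], [nat_lit 10], []],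
  [[nat_lit 11], [nat_lit 11], [nat_lit 11, nat_lit 12], [nat_lit 11], [nat_lit 11], [nat_lit 11], [nat_lit 11], [nat_lit 11], [nat_lit 11], [nat_lit 11], [nat_lit 11], []],
  [[nat_lit 12], [nat_lit 12], [nat_lit 12], [nat_lit 12], [nat_lit 12], [nat_lit 12], [nat_lit 12], [nat_lit 12], [nat_lit 12], [nat_lit 12], [nat_lit 12], [nat_lit 12], []]],
  [((nat_lit 0), [nat_lit 11], [nat_lit 11, nat_lit 12]),
  ((nat_lit 0), [nat_lit 2], [nat_lit 2, nat_lit 4, nat_lit 4, nat_lit 8, nat_lit 10]),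
  ((nat_lit 0), [nat_lit 12], [nat_lit 12]),
  ((nat_lit 0), [nat_lit 8], [nat_lit 8, nat_lit 9, nat_lit 11, nat_lit 11]),
  ((nat_lit 0), [nat_lit 7], [nat_lit 7, nat_lit 8, nat_lit 8, nat_lit 10, nat_lit 11]),
  ((nat_lit 0), [nat_lit 10], [nat_lit 10, nat_lit 11, nat_lit 11]),
  ((nat_lit 2), [nat_lit 10], [nat_lit 2, nat_lit 2, nat_lit 5, nat_lit 6, nat_lit 7, nat_lit 7, nat_lit 11, nat_lit 11, nat_lit 12, nat_lit 12]),
  ((nat_lit 2), [nat_lit 2, nat_lit 5, nat_lit 5], [nat_lit 4, nat_lit 8, nat_lit 8, nat_lit 10, nat_lit 11, nat_lit 12]),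
  ((nat_lit 0), [nat_lit 0], [nat_lit 0, nat_lit 1, nat_lit 1, nat_lit 3, nat_lit 3, nat_lit 7, nat_lit 7, nat_lit 8, nat_lit 8, nat_lit 9, nat_lit 9, nat_lit 11, nat_lit 11, nat_lit 12]),
  ((nat_lit 1), [nat_lit 6], [nat_lit 3, nat_lit 5, nat_lit 5, nat_lit 10, nat_lit 12, nat_lit 12]),
  ((nat_lit 1), [nat_lit 4], [nat_lit 0, nat_lit 1, nat_lit 3, nat_lit 3, nat_lit 5, nat_lit 7, nat_lit 7, nat_lit 8, nat_lit 9, nat_lit 9, nat_lit 10, nat_lit 10, nat_lit 11]),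
  ((nat_lit 2), [nat_lit 11], [nat_lit 4, nat_lit 4, nat_lit 7, nat_lit 7, nat_lit 8]),
  ((nat_lit 2), [nat_lit 0, nat_lit 1, nat_lit 3, nat_lit 5, nat_lit 5], [nat_lit 0, nat_lit 1, nat_lit 2, nat_lit 3, nat_lit 5, nat_lit 7, nat_lit 7, nat_lit 8, nat_lit 8, nat_lit 11]),
  ((nat_lit 0), [nat_lit 1], [nat_lit 1, nat_lit 1, nat_lit 3, nat_lit 4, nat_lit 4, nat_lit 5, nat_lit 6, nat_lit 6, nat_lit 7, nat_lit 7, nat_lit 8, nat_lit 10, nat_lit 11, nat_lit 11, nat_lit 12, nat_lit 12])]⟩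
noncomputable def I3_0 : List Pc.Idn := [⟨false, (nat_lit 0), [nat_lit 2], [nat_lit 2, nat_lit 2], [((nat_lit 146), (nat_lit 2)), ((nat_lit 172), (nat_lit 1))]⟩,
  ⟨false, (nat_lit 0), [nat_lit 10], [nat_lit 2, nat_lit 2], [((nat_lit 180), (nat_lit 1))]⟩,
  ⟨false, (nat_lit 0), [nat_lit 11], [nat_lit 1, nat_lit 0], [((nat_lit 160), (nat_lit 2))]⟩,
  ⟨false, (nat_lit 0), [nat_lit 12], [nat_lit 1, nat_lit 0], [((nat_lit 173), (nat_lit 2))]⟩,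
  ⟨false, (nat_lit 0), [nat_lit 12], [nat_lit 2, nat_lit 0], [((nat_lit 174), (nat_lit 2))]⟩,
  ⟨false, (nat_lit 0), [nat_lit 11], [nat_lit 3, nat_lit 0], [((nat_lit 162), (nat_lit 2))]⟩,
  ⟨false, (nat_lit 0), [nat_lit 12], [nat_lit 3, nat_lit 0], [((nat_lit 175), (nat_lit 2))]⟩,
  ⟨false, (nat_lit 0), [nat_lit 11], [nat_lit 7, nat_lit 0], [((nat_lit 165), (nat_lit 2))]⟩,
  ⟨false, (nat_lit 0), [nat_lit 12], [nat_lit 7, nat_lit 0], [((nat_lit 178), (nat_lit 2))]⟩,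
  ⟨false, (nat_lit 0), [nat_lit 11], [nat_lit 8, nat_lit 0], [((nat_lit 166), (nat_lit 2))]⟩,
  ⟨false, (nat_lit 0), [nat_lit 12], [nat_lit 8, nat_lit 0], [((nat_lit 179), (nat_lit 2))]⟩,
  ⟨false, (nat_lit 0), [nat_lit 11], [nat_lit 9, nat_lit 0], [((nat_lit 167), (nat_lit 2))]⟩,
  ⟨false, (nat_lit 0), [nat_lit 12], [nat_lit 10, nat_lit 0], [((nat_lit 181), (nat_lit 2))]⟩,
  ⟨false, (nat_lit 0), [nat_lit 10], [nat_lit 3, nat_lit 2], [((nat_lit 150), (nat_lit 2))]⟩,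
  ⟨false, (nat_lit 0), [nat_lit 12], [nat_lit 3, nat_lit 2], [((nat_lit 176), (nat_lit 2))]⟩,
  ⟨false, (nat_lit 0), [nat_lit 10], [nat_lit 5, nat_lit 2], [((nat_lit 151), (nat_lit 2))]⟩,
  ⟨false, (nat_lit 0), [nat_lit 12], [nat_lit 5, nat_lit 2], [((nat_lit 177), (nat_lit 2))]⟩,
  ⟨false, (nat_lit 0), [nat_lit 8], [nat_lit 4, nat_lit 4], [((nat_lit 182), (nat_lit 1))]⟩,
  ⟨false, (nat_lit 0), [nat_lit 8, nat_lit 8], [nat_lit 8, nat_lit 0], [((nat_lit 140), (nat_lit 2))]⟩,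
  ⟨false, (nat_lit 0), [nat_lit 9, nat_lit 9], [nat_lit 9, nat_lit 0], [((nat_lit 154), (nat_lit 2))]⟩,
  ⟨false, (nat_lit 0), [nat_lit 10, nat_lit 10], [nat_lit 10, nat_lit 0], [((nat_lit 168), (nat_lit 2))]⟩,
  ⟨false, (nat_lit 0), [nat_lit 9], [nat_lit 8, nat_lit 0], [((nat_lit 152), (nat_lit 2)), ((nat_lit 153), (nat_lit 2))]⟩,
  ⟨false, (nat_lit 0), [nat_lit 10], [nat_lit 7, nat_lit 3], [((nat_lit 153), (nat_lit 2))]⟩,
  ⟨false, (nat_lit 0), [nat_lit 11], [nat_lit 2, nat_lit 0], [((nat_lit 161), (nat_lit 2)), ((nat_lit 170), (nat_lit 1)), ((nat_lit 174), (nat_lit 2))]⟩,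
  ⟨false, (nat_lit 0), [nat_lit 10], [nat_lit 3, nat_lit 0], [((nat_lit 149), (nat_lit 2)), ((nat_lit 160), (nat_lit 2)), ((nat_lit 162), (nat_lit 2))]⟩,
  ⟨false, (nat_lit 0), [nat_lit 9], [nat_lit 7, nat_lit 0], [((nat_lit 139), (nat_lit 2)), ((nat_lit 151), (nat_lit 2)), ((nat_lit 152), (nat_lit 2))]⟩,
  ⟨false, (nat_lit 0), [nat_lit 10], [nat_lit 7, nat_lit 0], [((nat_lit 152), (nat_lit 2)), ((nat_lit 164), (nat_lit 2)), ((nat_lit 165), (nat_lit 2))]⟩,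
  ⟨false, (nat_lit 0), [nat_lit 11], [nat_lit 3, nat_lit 2], [((nat_lit 163), (nat_lit 2)), ((nat_lit 173), (nat_lit 2)), ((nat_lit 176), (nat_lit 2))]⟩,
  ⟨false, (nat_lit 0), [nat_lit 9], [nat_lit 5, nat_lit 2], [((nat_lit 138), (nat_lit 2)), ((nat_lit 175), (nat_lit 2)), ((nat_lit 177), (nat_lit 2))]⟩,
  ⟨false, (nat_lit 0), [nat_lit 7, nat_lit 7], [nat_lit 7, nat_lit 0], [((nat_lit 126), (nat_lit 2)), ((nat_lit 177), (nat_lit 2)), ((nat_lit 178), (nat_lit 1)), ((nat_lit 182), (nat_lit 2))]⟩,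
  ⟨false, (nat_lit 0), [nat_lit 8], [nat_lit 7, nat_lit 0], [((nat_lit 138), (nat_lit 2)), ((nat_lit 139), (nat_lit 2)), ((nat_lit 170), (nat_lit 1)), ((nat_lit 178), (nat_lit 2)), ((nat_lit 179), (nat_lit 2))]⟩,
  ⟨false, (nat_lit 0), [nat_lit 10], [nat_lit 2, nat_lit 0], [((nat_lit 148), (nat_lit 2)), ((nat_lit 159), (nat_lit 2)), ((nat_lit 161), (nat_lit 2)), ((nat_lit 174), (nat_lit 2)), ((nat_lit 181), (nat_lit 1)), ((nat_lit 182), (nat_lit 2))]⟩,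
  ⟨false, (nat_lit 0), [nat_lit 9], [nat_lit 2, nat_lit 0], [((nat_lit 135), (nat_lit 2)), ((nat_lit 146), (nat_lit 2)), ((nat_lit 148), (nat_lit 2)), ((nat_lit 170), (nat_lit 1)), ((nat_lit 174), (nat_lit 2)), ((nat_lit 180), (nat_lit 1)), ((nat_lit 182), (nat_lit 2))]⟩,
  ⟨false, (nat_lit 0), [nat_lit 1], [nat_lit 1, nat_lit 1], [((nat_lit 106), (nat_lit 2)), ((nat_lit 145), (nat_lit 2)), ((nat_lit 158), (nat_lit 1)), ((nat_lit 177), (nat_lit 1)), ((nat_lit 182), (nat_lit 2))]⟩,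
  ⟨false, (nat_lit 0), [nat_lit 10], [nat_lit 1, nat_lit 0], [((nat_lit 147), (nat_lit 2)), ((nat_lit 158), (nat_lit 2)), ((nat_lit 160), (nat_lit 2)), ((nat_lit 170), (nat_lit 2)), ((nat_lit 173), (nat_lit 1)), ((nat_lit 181), (nat_lit 1))]⟩,
  ⟨false, (nat_lit 0), [nat_lit 9], [nat_lit 6, nat_lit 2], [((nat_lit 153), (nat_lit 2)), ((nat_lit 172), (nat_lit 2)), ((nat_lit 176), (nat_lit 2)), ((nat_lit 179), (nat_lit 1))]⟩,
  ⟨false, (nat_lit 0), [nat_lit 11], [nat_lit 2, nat_lit 1], [((nat_lit 165), (nat_lit 2)), ((nat_lit 167), (nat_lit 2)), ((nat_lit 171), (nat_lit 1)), ((nat_lit 178), (nat_lit 2)), ((nat_lit 180), (nat_lit 2)), ((nat_lit 181), (nat_lit 2))]⟩,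
  ⟨false, (nat_lit 0), [nat_lit 8], [nat_lit 2, nat_lit 0], [((nat_lit 122), (nat_lit 2)), ((nat_lit 133), (nat_lit 2)), ((nat_lit 135), (nat_lit 2)), ((nat_lit 157), (nat_lit 1)), ((nat_lit 161), (nat_lit 2)), ((nat_lit 166), (nat_lit 2)), ((nat_lit 174), (nat_lit 2)), ((nat_lit 179), (nat_lit 2)), ((nat_lit 181), (nat_lit 1)), ((nat_lit 182), (nat_lit 2))]⟩,
  ⟨false, (nat_lit 0), [nat_lit 9], [nat_lit 1, nat_lit 0], [((nat_lit 134), (nat_lit 2)), ((nat_lit 144), (nat_lit 2)), ((nat_lit 145), (nat_lit 2)), ((nat_lit 167), (nat_lit 1)), ((nat_lit 170), (nat_lit 1)), ((nat_lit 180), (nat_lit 2)), ((nat_lit 182), (nat_lit 2))]⟩,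
  ⟨false, (nat_lit 0), [nat_lit 9], [nat_lit 3, nat_lit 0], [((nat_lit 136), (nat_lit 2)), ((nat_lit 147), (nat_lit 2)), ((nat_lit 149), (nat_lit 2)), ((nat_lit 157), (nat_lit 2)), ((nat_lit 162), (nat_lit 1)), ((nat_lit 167), (nat_lit 1)), ((nat_lit 170), (nat_lit 1)), ((nat_lit 175), (nat_lit 2)), ((nat_lit 180), (nat_lit 2))]⟩,
  ⟨false, (nat_lit 0), [nat_lit 8], [nat_lit 3, nat_lit 2], [((nat_lit 124), (nat_lit 2)), ((nat_lit 159), (nat_lit 1)), ((nat_lit 160), (nat_lit 2)), ((nat_lit 163), (nat_lit 1)), ((nat_lit 172), (nat_lit 2)), ((nat_lit 176), (nat_lit 1)), ((nat_lit 181), (nat_lit 2))]⟩,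
  ⟨false, (nat_lit 0), [nat_lit 5, nat_lit 5], [nat_lit 5, nat_lit 2], [((nat_lit 112), (nat_lit 2)), ((nat_lit 149), (nat_lit 2)), ((nat_lit 151), (nat_lit 1)), ((nat_lit 154), (nat_lit 2)), ((nat_lit 175), (nat_lit 1)), ((nat_lit 177), (nat_lit 2)), ((nat_lit 182), (nat_lit 1))]⟩,
  ⟨false, (nat_lit 0), [nat_lit 8], [nat_lit 5, nat_lit 2], [((nat_lit 125), (nat_lit 2)), ((nat_lit 159), (nat_lit 1)), ((nat_lit 162), (nat_lit 2)), ((nat_lit 164), (nat_lit 1)), ((nat_lit 172), (nat_lit 2)), ((nat_lit 177), (nat_lit 1)), ((nat_lit 181), (nat_lit 2))]⟩,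
  ⟨false, (nat_lit 0), [nat_lit 3, nat_lit 3], [nat_lit 3, nat_lit 0], [((nat_lit 84), (nat_lit 2)), ((nat_lit 160), (nat_lit 1)), ((nat_lit 162), (nat_lit 2)), ((nat_lit 168), (nat_lit 1)), ((nat_lit 173), (nat_lit 2)), ((nat_lit 175), (nat_lit 1)), ((nat_lit 182), (nat_lit 2))]⟩,
  ⟨false, (nat_lit 0), [nat_lit 9], [nat_lit 3, nat_lit 2], [((nat_lit 137), (nat_lit 2)), ((nat_lit 159), (nat_lit 2)), ((nat_lit 163), (nat_lit 1)), ((nat_lit 172), (nat_lit 1)), ((nat_lit 173), (nat_lit 2)), ((nat_lit 176), (nat_lit 1)), ((nat_lit 181), (nat_lit 2))]⟩,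
  ⟨false, (nat_lit 0), [nat_lit 7], [nat_lit 2, nat_lit 0], [((nat_lit 109), (nat_lit 2)), ((nat_lit 120), (nat_lit 2)), ((nat_lit 122), (nat_lit 2)), ((nat_lit 144), (nat_lit 1)), ((nat_lit 148), (nat_lit 2)), ((nat_lit 152), (nat_lit 2)), ((nat_lit 161), (nat_lit 2)), ((nat_lit 170), (nat_lit 2)), ((nat_lit 174), (nat_lit 1)), ((nat_lit 178), (nat_lit 1)), ((nat_lit 180), (nat_lit 2)), ((nat_lit 181), (nat_lit 1)), ((nat_lit 182), (nat_lit 2))]⟩,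
  ⟨false, (nat_lit 0), [nat_lit 8], [nat_lit 3, nat_lit 0], [((nat_lit 123), (nat_lit 2)), ((nat_lit 134), (nat_lit 2)), ((nat_lit 136), (nat_lit 2)), ((nat_lit 157), (nat_lit 1)), ((nat_lit 166), (nat_lit 1)), ((nat_lit 168), (nat_lit 2)), ((nat_lit 170), (nat_lit 2)), ((nat_lit 179), (nat_lit 2)), ((nat_lit 181), (nat_lit 2)), ((nat_lit 182), (nat_lit 2))]⟩,
  ⟨false, (nat_lit 0), [nat_lit 7], [nat_lit 3, nat_lit 2], [((nat_lit 111), (nat_lit 2)), ((nat_lit 133), (nat_lit 1)), ((nat_lit 137), (nat_lit 2)), ((nat_lit 146), (nat_lit 2)), ((nat_lit 147), (nat_lit 2)), ((nat_lit 153), (nat_lit 1)), ((nat_lit 173), (nat_lit 1)), ((nat_lit 176), (nat_lit 1)), ((nat_lit 182), (nat_lit 2))]⟩,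
  ⟨false, (nat_lit 0), [nat_lit 7], [nat_lit 2, nat_lit 1], [((nat_lit 125), (nat_lit 1)), ((nat_lit 145), (nat_lit 1)), ((nat_lit 151), (nat_lit 1)), ((nat_lit 152), (nat_lit 2)), ((nat_lit 164), (nat_lit 2)), ((nat_lit 167), (nat_lit 2)), ((nat_lit 171), (nat_lit 2)), ((nat_lit 172), (nat_lit 2)), ((nat_lit 177), (nat_lit 1)), ((nat_lit 180), (nat_lit 1)), ((nat_lit 181), (nat_lit 2)), ((nat_lit 182), (nat_lit 1))]⟩,
  ⟨false, (nat_lit 0), [nat_lit 7], [nat_lit 4, nat_lit 1], [((nat_lit 111), (nat_lit 2)), ((nat_lit 125), (nat_lit 2)), ((nat_lit 138), (nat_lit 1)), ((nat_lit 151), (nat_lit 2)), ((nat_lit 164), (nat_lit 1)), ((nat_lit 174), (nat_lit 2)), ((nat_lit 176), (nat_lit 2)), ((nat_lit 178), (nat_lit 1)), ((nat_lit 179), (nat_lit 2)), ((nat_lit 180), (nat_lit 1)), ((nat_lit 181), (nat_lit 2))]⟩,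
  ⟨false, (nat_lit 0), [nat_lit 7], [nat_lit 4, nat_lit 0], [((nat_lit 111), (nat_lit 1)), ((nat_lit 122), (nat_lit 2)), ((nat_lit 124), (nat_lit 1)), ((nat_lit 125), (nat_lit 1)), ((nat_lit 164), (nat_lit 1)), ((nat_lit 165), (nat_lit 1)), ((nat_lit 176), (nat_lit 1)), ((nat_lit 177), (nat_lit 1))]⟩,
  ⟨false, (nat_lit 0), [nat_lit 8], [nat_lit 1, nat_lit 0], [((nat_lit 121), (nat_lit 2)), ((nat_lit 131), (nat_lit 2)), ((nat_lit 132), (nat_lit 2)), ((nat_lit 144), (nat_lit 1)), ((nat_lit 157), (nat_lit 1)), ((nat_lit 160), (nat_lit 2)), ((nat_lit 166), (nat_lit 2)), ((nat_lit 167), (nat_lit 1)), ((nat_lit 170), (nat_lit 2)), ((nat_lit 179), (nat_lit 1)), ((nat_lit 180), (nat_lit 2)), ((nat_lit 181), (nat_lit 1)), ((nat_lit 182), (nat_lit 2))]⟩,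
  ⟨false, (nat_lit 0), [nat_lit 7], [nat_lit 3, nat_lit 0], [((nat_lit 110), (nat_lit 2)), ((nat_lit 121), (nat_lit 2)), ((nat_lit 123), (nat_lit 2)), ((nat_lit 131), (nat_lit 1)), ((nat_lit 136), (nat_lit 2)), ((nat_lit 139), (nat_lit 2)), ((nat_lit 144), (nat_lit 2)), ((nat_lit 149), (nat_lit 1)), ((nat_lit 153), (nat_lit 2)), ((nat_lit 162), (nat_lit 2)), ((nat_lit 166), (nat_lit 2)), ((nat_lit 167), (nat_lit 2)), ((nat_lit 175), (nat_lit 1)), ((nat_lit 178), (nat_lit 1)), ((nat_lit 179), (nat_lit 2)), ((nat_lit 180), (nat_lit 1)), ((nat_lit 182), (nat_lit 1))]⟩,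
  ⟨false, (nat_lit 0), [nat_lit 0], [nat_lit 0, nat_lit 0], [((nat_lit 79), (nat_lit 1)), ((nat_lit 105), (nat_lit 1)), ((nat_lit 118), (nat_lit 2)), ((nat_lit 125), (nat_lit 2)), ((nat_lit 126), (nat_lit 1)), ((nat_lit 138), (nat_lit 1)), ((nat_lit 139), (nat_lit 1)), ((nat_lit 140), (nat_lit 1)), ((nat_lit 144), (nat_lit 2)), ((nat_lit 157), (nat_lit 1)), ((nat_lit 164), (nat_lit 1)), ((nat_lit 166), (nat_lit 2)), ((nat_lit 168), (nat_lit 1)), ((nat_lit 170), (nat_lit 2)), ((nat_lit 177), (nat_lit 1)), ((nat_lit 178), (nat_lit 1)), ((nat_lit 179), (nat_lit 2)), ((nat_lit 181), (nat_lit 2)), ((nat_lit 182), (nat_lit 1))]⟩,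
  ⟨false, (nat_lit 0), [nat_lit 3], [nat_lit 2, nat_lit 2], [((nat_lit 98), (nat_lit 1)), ((nat_lit 133), (nat_lit 1)), ((nat_lit 137), (nat_lit 1)), ((nat_lit 140), (nat_lit 1)), ((nat_lit 146), (nat_lit 2)), ((nat_lit 147), (nat_lit 2)), ((nat_lit 150), (nat_lit 2)), ((nat_lit 154), (nat_lit 2)), ((nat_lit 172), (nat_lit 1)), ((nat_lit 173), (nat_lit 1)), ((nat_lit 176), (nat_lit 1)), ((nat_lit 179), (nat_lit 1)), ((nat_lit 182), (nat_lit 2))]⟩,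
  ⟨false, (nat_lit 0), [nat_lit 7], [nat_lit 1, nat_lit 0], [((nat_lit 108), (nat_lit 2)), ((nat_lit 119), (nat_lit 2)), ((nat_lit 121), (nat_lit 2)), ((nat_lit 134), (nat_lit 1)), ((nat_lit 139), (nat_lit 2)), ((nat_lit 140), (nat_lit 2)), ((nat_lit 147), (nat_lit 2)), ((nat_lit 152), (nat_lit 1)), ((nat_lit 153), (nat_lit 2)), ((nat_lit 154), (nat_lit 2)), ((nat_lit 160), (nat_lit 2)), ((nat_lit 166), (nat_lit 2)), ((nat_lit 167), (nat_lit 1)), ((nat_lit 168), (nat_lit 1)), ((nat_lit 170), (nat_lit 1)), ((nat_lit 178), (nat_lit 2)), ((nat_lit 179), (nat_lit 2)), ((nat_lit 180), (nat_lit 1)), ((nat_lit 182), (nat_lit 1))]⟩,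
  ⟨false, (nat_lit 0), [nat_lit 5], [nat_lit 3, nat_lit 2], [((nat_lit 97), (nat_lit 1)), ((nat_lit 108), (nat_lit 2)), ((nat_lit 111), (nat_lit 2)), ((nat_lit 137), (nat_lit 2)), ((nat_lit 138), (nat_lit 1)), ((nat_lit 150), (nat_lit 1)), ((nat_lit 151), (nat_lit 2)), ((nat_lit 159), (nat_lit 2)), ((nat_lit 163), (nat_lit 1)), ((nat_lit 164), (nat_lit 1)), ((nat_lit 166), (nat_lit 1)), ((nat_lit 167), (nat_lit 2)), ((nat_lit 172), (nat_lit 1)), ((nat_lit 176), (nat_lit 2)), ((nat_lit 177), (nat_lit 1)), ((nat_lit 180), (nat_lit 2))]⟩,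
  ⟨false, (nat_lit 0), [nat_lit 5], [nat_lit 3, nat_lit 0], [((nat_lit 121), (nat_lit 1)), ((nat_lit 123), (nat_lit 1)), ((nat_lit 134), (nat_lit 2)), ((nat_lit 136), (nat_lit 2)), ((nat_lit 157), (nat_lit 2)), ((nat_lit 160), (nat_lit 2)), ((nat_lit 162), (nat_lit 2)), ((nat_lit 168), (nat_lit 1)), ((nat_lit 170), (nat_lit 1)), ((nat_lit 173), (nat_lit 2)), ((nat_lit 175), (nat_lit 2))]⟩,
  ⟨false, (nat_lit 0), [nat_lit 5], [nat_lit 4, nat_lit 2], [((nat_lit 109), (nat_lit 2)), ((nat_lit 120), (nat_lit 1)), ((nat_lit 123), (nat_lit 2)), ((nat_lit 125), (nat_lit 1)), ((nat_lit 159), (nat_lit 1)), ((nat_lit 162), (nat_lit 2)), ((nat_lit 168), (nat_lit 1)), ((nat_lit 172), (nat_lit 2)), ((nat_lit 175), (nat_lit 1)), ((nat_lit 178), (nat_lit 1)), ((nat_lit 181), (nat_lit 1)), ((nat_lit 182), (nat_lit 2))]⟩,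
  ⟨false, (nat_lit 0), [nat_lit 5], [nat_lit 2, nat_lit 0], [((nat_lit 83), (nat_lit 2)), ((nat_lit 105), (nat_lit 1)), ((nat_lit 109), (nat_lit 2)), ((nat_lit 120), (nat_lit 1)), ((nat_lit 122), (nat_lit 1)), ((nat_lit 125), (nat_lit 1)), ((nat_lit 133), (nat_lit 2)), ((nat_lit 135), (nat_lit 2)), ((nat_lit 138), (nat_lit 1)), ((nat_lit 139), (nat_lit 1)), ((nat_lit 159), (nat_lit 2)), ((nat_lit 165), (nat_lit 1)), ((nat_lit 168), (nat_lit 2)), ((nat_lit 172), (nat_lit 2)), ((nat_lit 177), (nat_lit 2)), ((nat_lit 182), (nat_lit 1))]⟩,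
  ⟨false, (nat_lit 0), [nat_lit 4], [nat_lit 3, nat_lit 2], [((nat_lit 96), (nat_lit 1)), ((nat_lit 120), (nat_lit 2)), ((nat_lit 121), (nat_lit 1)), ((nat_lit 124), (nat_lit 2)), ((nat_lit 133), (nat_lit 1)), ((nat_lit 137), (nat_lit 2)), ((nat_lit 139), (nat_lit 1)), ((nat_lit 146), (nat_lit 1)), ((nat_lit 150), (nat_lit 2)), ((nat_lit 152), (nat_lit 1)), ((nat_lit 160), (nat_lit 1)), ((nat_lit 163), (nat_lit 2)), ((nat_lit 165), (nat_lit 1)), ((nat_lit 166), (nat_lit 1)), ((nat_lit 167), (nat_lit 1)), ((nat_lit 173), (nat_lit 2)), ((nat_lit 176), (nat_lit 1)), ((nat_lit 180), (nat_lit 2)), ((nat_lit 181), (nat_lit 1)), ((nat_lit 182), (nat_lit 1))]⟩,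
  ⟨false, (nat_lit 0), [nat_lit 6], [nat_lit 2, nat_lit 0], [((nat_lit 96), (nat_lit 2)), ((nat_lit 107), (nat_lit 2)), ((nat_lit 109), (nat_lit 2)), ((nat_lit 120), (nat_lit 1)), ((nat_lit 122), (nat_lit 1)), ((nat_lit 131), (nat_lit 1)), ((nat_lit 135), (nat_lit 2)), ((nat_lit 138), (nat_lit 2)), ((nat_lit 139), (nat_lit 1)), ((nat_lit 144), (nat_lit 2)), ((nat_lit 146), (nat_lit 2)), ((nat_lit 148), (nat_lit 2)), ((nat_lit 151), (nat_lit 1)), ((nat_lit 153), (nat_lit 1)), ((nat_lit 159), (nat_lit 1)), ((nat_lit 161), (nat_lit 2)), ((nat_lit 165), (nat_lit 2)), ((nat_lit 166), (nat_lit 2)), ((nat_lit 167), (nat_lit 2)), ((nat_lit 170), (nat_lit 1)), ((nat_lit 172), (nat_lit 2)), ((nat_lit 177), (nat_lit 2)), ((nat_lit 178), (nat_lit 2)), ((nat_lit 179), (nat_lit 2)), ((nat_lit 180), (nat_lit 2)), ((nat_lit 181), (nat_lit 2))]⟩,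
  ⟨false, (nat_lit 0), [nat_lit 5], [nat_lit 2, nat_lit 1], [((nat_lit 106), (nat_lit 1)), ((nat_lit 120), (nat_lit 2)), ((nat_lit 123), (nat_lit 1)), ((nat_lit 125), (nat_lit 2)), ((nat_lit 133), (nat_lit 2)), ((nat_lit 138), (nat_lit 1)), ((nat_lit 139), (nat_lit 2)), ((nat_lit 146), (nat_lit 2)), ((nat_lit 149), (nat_lit 1)), ((nat_lit 151), (nat_lit 2)), ((nat_lit 153), (nat_lit 1)), ((nat_lit 159), (nat_lit 2)), ((nat_lit 162), (nat_lit 2)), ((nat_lit 164), (nat_lit 1)), ((nat_lit 165), (nat_lit 1)), ((nat_lit 166), (nat_lit 2)), ((nat_lit 167), (nat_lit 1)), ((nat_lit 175), (nat_lit 1)), ((nat_lit 178), (nat_lit 2)), ((nat_lit 179), (nat_lit 2)), ((nat_lit 181), (nat_lit 1)), ((nat_lit 182), (nat_lit 1))]⟩,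
  ⟨false, (nat_lit 0), [nat_lit 5], [nat_lit 1, nat_lit 0], [((nat_lit 82), (nat_lit 2)), ((nat_lit 118), (nat_lit 1)), ((nat_lit 119), (nat_lit 1)), ((nat_lit 131), (nat_lit 1)), ((nat_lit 132), (nat_lit 2)), ((nat_lit 140), (nat_lit 2)), ((nat_lit 144), (nat_lit 1)), ((nat_lit 147), (nat_lit 1)), ((nat_lit 154), (nat_lit 2)), ((nat_lit 157), (nat_lit 1)), ((nat_lit 158), (nat_lit 2)), ((nat_lit 160), (nat_lit 2)), ((nat_lit 165), (nat_lit 1)), ((nat_lit 166), (nat_lit 2)), ((nat_lit 167), (nat_lit 1)), ((nat_lit 168), (nat_lit 2)), ((nat_lit 171), (nat_lit 2)), ((nat_lit 178), (nat_lit 2)), ((nat_lit 180), (nat_lit 2)), ((nat_lit 182), (nat_lit 1))]⟩,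
  ⟨false, (nat_lit 0), [nat_lit 2], [nat_lit 1, nat_lit 0], [((nat_lit 55), (nat_lit 1)), ((nat_lit 67), (nat_lit 2)), ((nat_lit 69), (nat_lit 2)), ((nat_lit 95), (nat_lit 2)), ((nat_lit 96), (nat_lit 1)), ((nat_lit 118), (nat_lit 1)), ((nat_lit 122), (nat_lit 2)), ((nat_lit 126), (nat_lit 1)), ((nat_lit 134), (nat_lit 2)), ((nat_lit 137), (nat_lit 2)), ((nat_lit 139), (nat_lit 1)), ((nat_lit 140), (nat_lit 2)), ((nat_lit 144), (nat_lit 1)), ((nat_lit 148), (nat_lit 2)), ((nat_lit 150), (nat_lit 1)), ((nat_lit 152), (nat_lit 2)), ((nat_lit 153), (nat_lit 2)), ((nat_lit 154), (nat_lit 2)), ((nat_lit 157), (nat_lit 2)), ((nat_lit 161), (nat_lit 1)), ((nat_lit 163), (nat_lit 1)), ((nat_lit 165), (nat_lit 2)), ((nat_lit 167), (nat_lit 2)), ((nat_lit 168), (nat_lit 2)), ((nat_lit 170), (nat_lit 1)), ((nat_lit 173), (nat_lit 1)), ((nat_lit 174), (nat_lit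 2)), ((nat_lit 176), (nat_lit 2)), ((nat_lit 178), (nat_lit 2)), ((nat_lit 179), (nat_lit 2)), ((nat_lit 180), (nat_lit 2)), ((nat_lit 181), (nat_lit 2))]⟩,
  ⟨false, (nat_lit 0), [nat_lit 2, nat_lit 2], [nat_lit 2, nat_lit 0], [((nat_lit 70), (nat_lit 2)), ((nat_lit 120), (nat_lit 1)), ((nat_lit 122), (nat_lit 2)), ((nat_lit 126), (nat_lit 1)), ((nat_lit 144), (nat_lit 2)), ((nat_lit 159), (nat_lit 1)), ((nat_lit 165), (nat_lit 2)), ((nat_lit 167), (nat_lit 1)), ((nat_lit 168), (nat_lit 1)), ((nat_lit 170), (nat_lit 1)), ((nat_lit 174), (nat_lit 1)), ((nat_lit 178), (nat_lit 1)), ((nat_lit 180), (nat_lit 2)), ((nat_lit 182), (nat_lit 2))]⟩,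
  ⟨false, (nat_lit 0), [nat_lit 3], [nat_lit 1, nat_lit 0], [((nat_lit 79), (nat_lit 2)), ((nat_lit 80), (nat_lit 2)), ((nat_lit 118), (nat_lit 2)), ((nat_lit 126), (nat_lit 1)), ((nat_lit 131), (nat_lit 1)), ((nat_lit 134), (nat_lit 1)), ((nat_lit 140), (nat_lit 1)), ((nat_lit 147), (nat_lit 2)), ((nat_lit 157), (nat_lit 2)), ((nat_lit 160), (nat_lit 1)), ((nat_lit 162), (nat_lit 2)), ((nat_lit 165), (nat_lit 1)), ((nat_lit 167), (nat_lit 2)), ((nat_lit 168), (nat_lit 2)), ((nat_lit 173), (nat_lit 2)), ((nat_lit 175), (nat_lit 1))]⟩,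
  ⟨false, (nat_lit 0), [nat_lit 3], [nat_lit 2, nat_lit 0], [((nat_lit 69), (nat_lit 1)), ((nat_lit 81), (nat_lit 2)), ((nat_lit 83), (nat_lit 2)), ((nat_lit 92), (nat_lit 1)), ((nat_lit 96), (nat_lit 2)), ((nat_lit 97), (nat_lit 2)), ((nat_lit 109), (nat_lit 2)), ((nat_lit 123), (nat_lit 2)), ((nat_lit 124), (nat_lit 1)), ((nat_lit 125), (nat_lit 1)), ((nat_lit 126), (nat_lit 1)), ((nat_lit 135), (nat_lit 2)), ((nat_lit 136), (nat_lit 1)), ((nat_lit 137), (nat_lit 1)), ((nat_lit 139), (nat_lit 2)), ((nat_lit 148), (nat_lit 1)), ((nat_lit 149), (nat_lit 1)), ((nat_lit 150), (nat_lit 1)), ((nat_lit 151), (nat_lit 2)), ((nat_lit 152), (nat_lit 2)), ((nat_lit 163), (nat_lit 1)), ((nat_lit 164), (nat_lit 1)), ((nat_lit 165), (nat_lit 2)), ((nat_lit 166), (nat_lit 1)), ((nat_lit 167), (nat_lit 2)), ((nat_lit 168), (nat_lit 1)), ((nat_lit 174), (nat_lit 1)),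 ((nat_lit 176), (nat_lit 2)), ((nat_lit 179), (nat_lit 1)), ((nat_lit 180), (nat_lit 2)), ((nat_lit 181), (nat_lit 2))]⟩,
  ⟨false, (nat_lit 0), [nat_lit 6], [nat_lit 3, nat_lit 0], [((nat_lit 97), (nat_lit 2)), ((nat_lit 108), (nat_lit 2)), ((nat_lit 110), (nat_lit 2)), ((nat_lit 118), (nat_lit 2)), ((nat_lit 121), (nat_lit 1)), ((nat_lit 123), (nat_lit 2)), ((nat_lit 125), (nat_lit 1)), ((nat_lit 131), (nat_lit 2)), ((nat_lit 147), (nat_lit 2)), ((nat_lit 151), (nat_lit 1)), ((nat_lit 152), (nat_lit 1)), ((nat_lit 153), (nat_lit 2)), ((nat_lit 154), (nat_lit 2)), ((nat_lit 157), (nat_lit 1)), ((nat_lit 160), (nat_lit 1)), ((nat_lit 162), (nat_lit 1)), ((nat_lit 164), (nat_lit 2)), ((nat_lit 165), (nat_lit 1)), ((nat_lit 166), (nat_lit 1)), ((nat_lit 167), (nat_lit 2)), ((nat_lit 168), (nat_lit 2)), ((nat_lit 173), (nat_lit 2)), ((nat_lit 175), (nat_lit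 2)), ((nat_lit 177), (nat_lit 1)), ((nat_lit 179), (nat_lit 1)), ((nat_lit 180), (nat_lit 2)), ((nat_lit 181), (nat_lit 1)), ((nat_lit 182), (nat_lit 2))]⟩,
  ⟨false, (nat_lit 0), [nat_lit 6], [nat_lit 1, nat_lit 0], [((nat_lit 95), (nat_lit 2)), ((nat_lit 105), (nat_lit 2)), ((nat_lit 106), (nat_lit 2)), ((nat_lit 119), (nat_lit 1)), ((nat_lit 121), (nat_lit 1)), ((nat_lit 125), (nat_lit 2)), ((nat_lit 131), (nat_lit 2)), ((nat_lit 138), (nat_lit 1)), ((nat_lit 139), (nat_lit 2)), ((nat_lit 140), (nat_lit 1)), ((nat_lit 144), (nat_lit 2)), ((nat_lit 145), (nat_lit 2)), ((nat_lit 147), (nat_lit 1)), ((nat_lit 153), (nat_lit 2)), ((nat_lit 157), (nat_lit 2)), ((nat_lit 158), (nat_lit 1)), ((nat_lit 164), (nat_lit 2)), ((nat_lit 165), (nat_lit 2)), ((nat_lit 168), (nat_lit 2)), ((nat_lit 170), (nat_lit 1)), ((nat_lit 171), (nat_lit 2)), ((nat_lit 178),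 (nat_lit 2)), ((nat_lit 181), (nat_lit 1))]⟩,
  ⟨false, (nat_lit 0), [nat_lit 3], [nat_lit 2, nat_lit 1], [((nat_lit 81), (nat_lit 1)), ((nat_lit 93), (nat_lit 1)), ((nat_lit 97), (nat_lit 1)), ((nat_lit 110), (nat_lit 2)), ((nat_lit 120), (nat_lit 1)), ((nat_lit 121), (nat_lit 1)), ((nat_lit 123), (nat_lit 2)), ((nat_lit 133), (nat_lit 2)), ((nat_lit 136), (nat_lit 2)), ((nat_lit 137), (nat_lit 1)), ((nat_lit 138), (nat_lit 1)), ((nat_lit 139), (nat_lit 2)), ((nat_lit 147), (nat_lit 1)), ((nat_lit 150), (nat_lit 1)), ((nat_lit 151), (nat_lit 2)), ((nat_lit 152), (nat_lit 2)), ((nat_lit 153), (nat_lit 1)), ((nat_lit 154), (nat_lit 2)), ((nat_lit 159), (nat_lit 1)), ((nat_lit 160), (nat_lit 2)), ((nat_lit 162), (nat_lit 1)), ((nat_lit 163), (nat_lit 1)), ((nat_lit 164), (nat_lit 2)), ((nat_lit 165), (nat_lit 2)), ((nat_lit 166), (nat_lit 2)), ((nat_lit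 167), (nat_lit 1)), ((nat_lit 168), (nat_lit 1)), ((nat_lit 173), (nat_lit 1)), ((nat_lit 176), (nat_lit 1)), ((nat_lit 177), (nat_lit 2)), ((nat_lit 178), (nat_lit 2)), ((nat_lit 180), (nat_lit 1)), ((nat_lit 181), (nat_lit 1))]⟩,
  ⟨false, (nat_lit 0), [nat_lit 4], [nat_lit 2, nat_lit 1], [((nat_lit 94), (nat_lit 2)), ((nat_lit 119), (nat_lit 2)), ((nat_lit 120), (nat_lit 1)), ((nat_lit 122), (nat_lit 1)), ((nat_lit 124), (nat_lit 2)), ((nat_lit 133), (nat_lit 2)), ((nat_lit 140), (nat_lit 1)), ((nat_lit 146), (nat_lit 1)), ((nat_lit 148), (nat_lit 1)), ((nat_lit 150), (nat_lit 1)), ((nat_lit 152), (nat_lit 1)), ((nat_lit 153), (nat_lit 1)), ((nat_lit 158), (nat_lit 2)), ((nat_lit 159), (nat_lit 2)), ((nat_lit 161), (nat_lit 2)), ((nat_lit 165), (nat_lit 1)), ((nat_lit 166), (nat_lit 1)), ((nat_lit 171), (nat_lit 1)), ((nat_lit 174), (nat_lit 1)),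 ((nat_lit 178), (nat_lit 1)), ((nat_lit 179), (nat_lit 1)), ((nat_lit 180), (nat_lit 2)), ((nat_lit 181), (nat_lit 2)), ((nat_lit 182), (nat_lit 1))]⟩,
  ⟨false, (nat_lit 0), [nat_lit 1], [nat_lit 0, nat_lit 0], [((nat_lit 56), (nat_lit 1)), ((nat_lit 79), (nat_lit 1)), ((nat_lit 80), (nat_lit 1)), ((nat_lit 82), (nat_lit 1)), ((nat_lit 84), (nat_lit 1)), ((nat_lit 106), (nat_lit 1)), ((nat_lit 119), (nat_lit 2)), ((nat_lit 125), (nat_lit 1)), ((nat_lit 126), (nat_lit 1)), ((nat_lit 136), (nat_lit 2)), ((nat_lit 138), (nat_lit 1)), ((nat_lit 139), (nat_lit 2)), ((nat_lit 145), (nat_lit 2)), ((nat_lit 147), (nat_lit 1)), ((nat_lit 149), (nat_lit 1)), ((nat_lit 151), (nat_lit 1)), ((nat_lit 152), (nat_lit 1)), ((nat_lit 153), (nat_lit 1)), ((nat_lit 154), (nat_lit 1)), ((nat_lit 158), (nat_lit 1)), ((nat_lit 160), (nat_lit 2)), ((nat_lit 162), (nat_lit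 2)), ((nat_lit 171), (nat_lit 2)), ((nat_lit 175), (nat_lit 1)), ((nat_lit 177), (nat_lit 1)), ((nat_lit 178), (nat_lit 2)), ((nat_lit 180), (nat_lit 2)), ((nat_lit 181), (nat_lit 1)), ((nat_lit 182), (nat_lit 2))]⟩,
  ⟨false, (nat_lit 0), [nat_lit 4], [nat_lit 1, nat_lit 0], [((nat_lit 69), (nat_lit 2)), ((nat_lit 92), (nat_lit 1)), ((nat_lit 93), (nat_lit 1)), ((nat_lit 106), (nat_lit 1)), ((nat_lit 112), (nat_lit 2)), ((nat_lit 118), (nat_lit 2)), ((nat_lit 121), (nat_lit 1)), ((nat_lit 124), (nat_lit 2)), ((nat_lit 131), (nat_lit 1)), ((nat_lit 134), (nat_lit 1)), ((nat_lit 137), (nat_lit 2)), ((nat_lit 139), (nat_lit 2)), ((nat_lit 140), (nat_lit 2)), ((nat_lit 144), (nat_lit 2)), ((nat_lit 153), (nat_lit 1)), ((nat_lit 154), (nat_lit 2)), ((nat_lit 157), (nat_lit 1)), ((nat_lit 158), (nat_lit 2)), ((nat_lit 164), (nat_lit 1)), ((nat_lit 165),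 (nat_lit 1)), ((nat_lit 166), (nat_lit 1)), ((nat_lit 168), (nat_lit 1)), ((nat_lit 171), (nat_lit 2)), ((nat_lit 176), (nat_lit 1)), ((nat_lit 177), (nat_lit 1)), ((nat_lit 178), (nat_lit 1)), ((nat_lit 179), (nat_lit 1))]⟩,
  ⟨true, (nat_lit 0), [nat_lit 0, nat_lit 1], [nat_lit 1, nat_lit 0, nat_lit 2], [((nat_lit 2), (nat_lit 1)), ((nat_lit 161), (nat_lit 1)), ((nat_lit 165), (nat_lit 2)), ((nat_lit 167), (nat_lit 2)), ((nat_lit 172), (nat_lit 2)), ((nat_lit 174), (nat_lit 2)), ((nat_lit 178), (nat_lit 1)), ((nat_lit 180), (nat_lit 1))]⟩,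
  ⟨true, (nat_lit 0), [nat_lit 3, nat_lit 1], [nat_lit 1, nat_lit 3, nat_lit 0], [((nat_lit 0), (nat_lit 1)), ((nat_lit 122), (nat_lit 1)), ((nat_lit 133), (nat_lit 2)), ((nat_lit 135), (nat_lit 1)), ((nat_lit 139), (nat_lit 2)), ((nat_lit 152), (nat_lit 1)), ((nat_lit 153), (nat_lit 1)), ((nat_lit 159), (nat_lit 1)), ((nat_lit 166), (nat_lit 2)), ((nat_lit 174), (nat_lit 1)), ((nat_lit 178), (nat_lit 2)), ((nat_lit 179), (nat_lit 1)), ((nat_lit 180), (nat_lit 2)), ((nat_lit 182), (nat_lit 1))]⟩,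
  ⟨true, (nat_lit 0), [nat_lit 4, nat_lit 1], [nat_lit 1, nat_lit 4, nat_lit 5, nat_lit 2, nat_lit 2], [((nat_lit 5), (nat_lit 1)), ((nat_lit 2), (nat_lit 2)), ((nat_lit 109), (nat_lit 1)), ((nat_lit 120), (nat_lit 1)), ((nat_lit 122), (nat_lit 2)), ((nat_lit 125), (nat_lit 1)), ((nat_lit 146), (nat_lit 2)), ((nat_lit 148), (nat_lit 2)), ((nat_lit 151), (nat_lit 1)), ((nat_lit 152), (nat_lit 1)), ((nat_lit 159), (nat_lit 2)), ((nat_lit 165), (nat_lit 2)), ((nat_lit 167), (nat_lit 2)), ((nat_lit 178), (nat_lit 2)), ((nat_lit 180), (nat_lit 1)), ((nat_lit 182), (nat_lit 2))]⟩,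
  ⟨true, (nat_lit 2), [nat_lit 6, nat_lit 7], [nat_lit 7, nat_lit 6], [((nat_lit 68), (nat_lit 2)), ((nat_lit 83), (nat_lit 2)), ((nat_lit 96), (nat_lit 2)), ((nat_lit 109), (nat_lit 1)), ((nat_lit 124), (nat_lit 2)), ((nat_lit 125), (nat_lit 1)), ((nat_lit 126), (nat_lit 1)), ((nat_lit 150), (nat_lit 1)), ((nat_lit 151), (nat_lit 2)), ((nat_lit 161), (nat_lit 1)), ((nat_lit 162), (nat_lit 2)), ((nat_lit 163), (nat_lit 1)), ((nat_lit 164), (nat_lit 2)), ((nat_lit 165), (nat_lit 1)), ((nat_lit 167), (nat_lit 1)), ((nat_lit 168), (nat_lit 2)), ((nat_lit 172), (nat_lit 1)), ((nat_lit 174), (nat_lit 1)), ((nat_lit 176), (nat_lit 1)), ((nat_lit 177), (nat_lit 2)), ((nat_lit 178), (nat_lit 1)), ((nat_lit 180), (nat_lit 1)), ((nat_lit 181), (nat_lit 2))]⟩,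
  ⟨true, (nat_lit 0), [nat_lit 4, nat_lit 8], [nat_lit 8, nat_lit 4, nat_lit 3], [((nat_lit 3), (nat_lit 1)), ((nat_lit 106), (nat_lit 1)), ((nat_lit 108), (nat_lit 1)), ((nat_lit 118), (nat_lit 1)), ((nat_lit 125), (nat_lit 2)), ((nat_lit 132), (nat_lit 2)), ((nat_lit 134), (nat_lit 1)), ((nat_lit 140), (nat_lit 2)), ((nat_lit 144), (nat_lit 2)), ((nat_lit 147), (nat_lit 1)), ((nat_lit 151), (nat_lit 1)), ((nat_lit 152), (nat_lit 2)), ((nat_lit 154), (nat_lit 2)), ((nat_lit 157), (nat_lit 2)), ((nat_lit 158), (nat_lit 2)), ((nat_lit 160), (nat_lit 1)), ((nat_lit 164), (nat_lit 2)), ((nat_lit 165), (nat_lit 1)), ((nat_lit 166), (nat_lit 1)), ((nat_lit 167), (nat_lit 2)), ((nat_lit 168), (nat_lit 2)), ((nat_lit 171), (nat_lit 1)), ((nat_lit 173), (nat_lit 1)), ((nat_lit 179), (nat_lit 2)), ((nat_lit 180), (nat_lit 1)), ((nat_lit 182), (nat_lit 2))]⟩,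
  ⟨true, (nat_lit 1), [nat_lit 9, nat_lit 10], [nat_lit 10, nat_lit 9], [((nat_lit 53), (nat_lit 2)), ((nat_lit 54), (nat_lit 2)), ((nat_lit 79), (nat_lit 1)), ((nat_lit 84), (nat_lit 2)), ((nat_lit 96), (nat_lit 1)), ((nat_lit 108), (nat_lit 2)), ((nat_lit 110), (nat_lit 1)), ((nat_lit 119), (nat_lit 2)), ((nat_lit 121), (nat_lit 1)), ((nat_lit 126), (nat_lit 1)), ((nat_lit 132), (nat_lit 1)), ((nat_lit 134), (nat_lit 1)), ((nat_lit 136), (nat_lit 2)), ((nat_lit 140), (nat_lit 2)), ((nat_lit 144), (nat_lit 2)), ((nat_lit 145), (nat_lit 2)), ((nat_lit 147), (nat_lit 2)), ((nat_lit 149), (nat_lit 2)), ((nat_lit 151), (nat_lit 1)), ((nat_lit 152), (nat_lit 2)), ((nat_lit 153), (nat_lit 1)), ((nat_lit 154), (nat_lit 1)), ((nat_lit 158), (nat_lit 1)), ((nat_lit 160), (nat_lit 1)), ((nat_lit 164), (nat_lit 1)), ((nat_lit 165), (nat_lit 2)), ((nat_lit 167),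 (nat_lit 1)), ((nat_lit 168), (nat_lit 1)), ((nat_lit 170), (nat_lit 1)), ((nat_lit 171), (nat_lit 1)), ((nat_lit 173), (nat_lit 1)), ((nat_lit 177), (nat_lit 1)), ((nat_lit 178), (nat_lit 2)), ((nat_lit 179), (nat_lit 1)), ((nat_lit 180), (nat_lit 1)), ((nat_lit 181), (nat_lit 1)), ((nat_lit 182), (nat_lit 2))]⟩,
  ⟨true, (nat_lit 2), [nat_lit 11, nat_lit 12], [nat_lit 12, nat_lit 11], [((nat_lit 66), (nat_lit 1)), ((nat_lit 67), (nat_lit 1)), ((nat_lit 68), (nat_lit 1)), ((nat_lit 69), (nat_lit 1)), ((nat_lit 83), (nat_lit 2)), ((nat_lit 93), (nat_lit 2)), ((nat_lit 98), (nat_lit 1)), ((nat_lit 105), (nat_lit 1)), ((nat_lit 107), (nat_lit 1)), ((nat_lit 108), (nat_lit 1)), ((nat_lit 109), (nat_lit 2)), ((nat_lit 110), (nat_lit 1)), ((nat_lit 111), (nat_lit 2)), ((nat_lit 112), (nat_lit 1)), ((nat_lit 118), (nat_lit 2)), ((nat_lit 120), (nat_lit 2)),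 ((nat_lit 121), (nat_lit 1)), ((nat_lit 122), (nat_lit 2)), ((nat_lit 125), (nat_lit 2)), ((nat_lit 126), (nat_lit 2)), ((nat_lit 132), (nat_lit 2)), ((nat_lit 133), (nat_lit 1)), ((nat_lit 134), (nat_lit 1)), ((nat_lit 135), (nat_lit 1)), ((nat_lit 146), (nat_lit 1)), ((nat_lit 147), (nat_lit 2)), ((nat_lit 149), (nat_lit 2)), ((nat_lit 151), (nat_lit 2)), ((nat_lit 152), (nat_lit 1)), ((nat_lit 157), (nat_lit 1)), ((nat_lit 158), (nat_lit 2)), ((nat_lit 160), (nat_lit 2)), ((nat_lit 161), (nat_lit 2)), ((nat_lit 163), (nat_lit 1)), ((nat_lit 165), (nat_lit 2)), ((nat_lit 167), (nat_lit 1)), ((nat_lit 168), (nat_lit 1)), ((nat_lit 171), (nat_lit 1)), ((nat_lit 172), (nat_lit 2)), ((nat_lit 173), (nat_lit 2)), ((nat_lit 174), (nat_lit 1)), ((nat_lit 175), (nat_lit 1)), ((nat_lit 177), (nat_lit 1)), ((nat_lit 178), (nat_lit 2)), ((nat_lit 179), (nat_lit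 1)), ((nat_lit 182), (nat_lit 2))]⟩,
  ⟨true, (nat_lit 0), [nat_lit 1, nat_lit 13], [nat_lit 13, nat_lit 1, nat_lit 3, nat_lit 5, nat_lit 0, nat_lit 0, nat_lit 2], [((nat_lit 3), (nat_lit 1)), ((nat_lit 5), (nat_lit 1)), ((nat_lit 0), (nat_lit 2)), ((nat_lit 2), (nat_lit 1)), ((nat_lit 41), (nat_lit 2)), ((nat_lit 55), (nat_lit 1)), ((nat_lit 67), (nat_lit 2)), ((nat_lit 68), (nat_lit 2)), ((nat_lit 69), (nat_lit 1)), ((nat_lit 81), (nat_lit 1)), ((nat_lit 83), (nat_lit 2)), ((nat_lit 93), (nat_lit 1)), ((nat_lit 94), (nat_lit 2)), ((nat_lit 95), (nat_lit 2)), ((nat_lit 96), (nat_lit 1)), ((nat_lit 98), (nat_lit 2)), ((nat_lit 107), (nat_lit 2)), ((nat_lit 108), (nat_lit 2)), ((nat_lit 109), (nat_lit 1)), ((nat_lit 110), (nat_lit 2)), ((nat_lit 111), (nat_lit 1)), ((nat_lit 112), (nat_lit 2)), ((nat_lit 119), (nat_lit 2)), ((nat_lit 120), (nat_lit 1)),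 ((nat_lit 121), (nat_lit 1)), ((nat_lit 122), (nat_lit 2)), ((nat_lit 123), (nat_lit 2)), ((nat_lit 132), (nat_lit 2)), ((nat_lit 134), (nat_lit 2)), ((nat_lit 140), (nat_lit 2)), ((nat_lit 145), (nat_lit 1)), ((nat_lit 146), (nat_lit 1)), ((nat_lit 148), (nat_lit 1)), ((nat_lit 149), (nat_lit 2)), ((nat_lit 152), (nat_lit 2)), ((nat_lit 153), (nat_lit 2)), ((nat_lit 154), (nat_lit 1)), ((nat_lit 158), (nat_lit 1)), ((nat_lit 159), (nat_lit 2)), ((nat_lit 160), (nat_lit 2)), ((nat_lit 162), (nat_lit 1)), ((nat_lit 163), (nat_lit 1)), ((nat_lit 164), (nat_lit 2)), ((nat_lit 165), (nat_lit 1)), ((nat_lit 168), (nat_lit 1)), ((nat_lit 172), (nat_lit 2)), ((nat_lit 173), (nat_lit 1)), ((nat_lit 176), (nat_lit 2)), ((nat_lit 179), (nat_lit 1))]⟩]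
noncomputable def Ds3 : List (List (ℕ × ℕ)) := I3_0.map Pc.Idn.D
noncomputable def S3 : List (List (ℕ × ℕ)) := [[],
  [],
  [],
  [((nat_lit 27), (nat_lit 1))],
  [((nat_lit 40), (nat_lit 1))],
  [((nat_lit 53), (nat_lit 1))],
  [((nat_lit 55), (nat_lit 1))],
  [((nat_lit 81), (nat_lit 1))],
  [((nat_lit 105), (nat_lit 1))],
  [((nat_lit 118), (nat_lit 1))],
  [((nat_lit 131), (nat_lit 1))],
  [((nat_lit 144), (nat_lit 1))],
  [((nat_lit 159), (nat_lit 1))]]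
noncomputable def Yo3 : List (List (ℕ × ℕ) × ℕ × ℕ) := []
noncomputable def La3 : List ℕ := [nat_lit 0,
  nat_lit 0,
  nat_lit 0,
  nat_lit 0,
  nat_lit 0,
  nat_lit 0,
  nat_lit 0,
  nat_lit 0,
  nat_lit 0,
  nat_lit 0,
  nat_lit 0,
  nat_lit 0,
  nat_lit 0,
  nat_lit 0,
  nat_lit 0,
  nat_lit 0,
  nat_lit 0,
  nat_lit 0,
  nat_lit 0,
  nat_lit 0,
  nat_lit 0,
  nat_lit 0,
  nat_lit 0,
  nat_lit 0,
  nat_lit 0,
  nat_lit 0,
  nat_lit 0,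
  nat_lit 0x2ae5f4bb036b84e491f2ea1e90f05b72b,
  nat_lit 0,
  nat_lit 0,
  nat_lit 0,
  nat_lit 0,
  nat_lit 0,
  nat_lit 0,
  nat_lit 0,
  nat_lit 0,
  nat_lit 0,
  nat_lit 0,
  nat_lit 0,
  nat_lit 0,
  nat_lit 0x4a21f6a0644f33609fe972be008cbf26,
  nat_lit 0,
  nat_lit 0x45850ead2a6f28f3d5959794eb0a9,
  nat_lit 0,
  nat_lit 0,
  nat_lit 0,
  nat_lit 0,
  nat_lit 0,
  nat_lit 0,
  nat_lit 0,
  nat_lit 0,
  nat_lit 0,
  nat_lit 0x735214a348d2b516cbf0b1c4d3712c00,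
  nat_lit 0x1abf9d89b957a6d979489441fd9abd,
  nat_lit 0x83ca9a60cc7f4488cc54cbbc22c9211,
  nat_lit 0xe042f53e23920e690f99f1802ad84,
  nat_lit 0x104276deb8f6ea9302ee03bc94f,
  nat_lit 0,
  nat_lit 0,
  nat_lit 0,
  nat_lit 0,
  nat_lit 0,
  nat_lit 0,
  nat_lit 0,
  nat_lit 0,
  nat_lit 0x9b0cddec92f8a616a63d84c87,
  nat_lit 0x315cbd125ae66688323e8ab64c4,
  nat_lit 0,
  nat_lit 0x1b89e5d48f46c77aa45eb0db8576,
  nat_lit 0xa1b462ba6929325b218bd4389,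
  nat_lit 0x2396f609565bc84070,
  nat_lit 0,
  nat_lit 0,
  nat_lit 0,
  nat_lit 0,
  nat_lit 0,
  nat_lit 0,
  nat_lit 0,
  nat_lit 0x1a9aba4c0fdebfa3560a9d9fd8938f,
  nat_lit 0x96dc08b3a09142c00148d58d2d55,
  nat_lit 0x2f238fba7d241ab45cd6df0fde422,
  nat_lit 0x6db8c83db9e3a7b4ee4900980d7b,
  nat_lit 0xb1901dee30f43bb9b5159cf5,
  nat_lit 0xdbb70fee9d1ba4fff67b2c3e31a,
  nat_lit 0x30581566ef42e2aefa9934,
  nat_lit 0,
  nat_lit 0,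
  nat_lit 0,
  nat_lit 0,
  nat_lit 0,
  nat_lit 0,
  nat_lit 0,
  nat_lit 0x9b0bcbc841c314c51a277c114,
  nat_lit 0x46b4cee08cf188489387805a2,
  nat_lit 0xdbb6f4d9d7c4373b64b2537f34f,
  nat_lit 0xf3873fc69527ce4735c66d6,
  nat_lit 0xa31951d3c03f33f2695c575,
  nat_lit 0x655ed2829181301a6194,
  nat_lit 0x3f4543a2f0a1c2706,
  nat_lit 0,
  nat_lit 0,
  nat_lit 0,
  nat_lit 0,
  nat_lit 0,
  nat_lit 0,
  nat_lit 0x1b76aceff9432a8ebd80f56420f4,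
  nat_lit 0x1e7103802a32edb9ae5f8675,
  nat_lit 0x9b5d0fe74fd1acd070aea8e31,
  nat_lit 0x19564dca5aa6128cbc2cb,
  nat_lit 0x11d7c724cb762eefcee6f,
  nat_lit 0x1522335febb045135,
  nat_lit 0xbddae71dd2721e617,
  nat_lit 0x7cd6947d112f,
  nat_lit 0,
  nat_lit 0,
  nat_lit 0,
  nat_lit 0,
  nat_lit 0,
  nat_lit 0x9bae5b5cb887180356f30f5a6,
  nat_lit 0x4ef331f1298dc8a022f81c86b,
  nat_lit 0x21d45394cc001b702853,
  nat_lit 0xc2a819def8233f,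
  nat_lit 0x4ef33bc8a45b7271a7b1f5546,
  nat_lit 0x6ac645a8bdf968f099,
  nat_lit 0x299cd8bdd87c,
  nat_lit 0x19b99ed8a96,
  nat_lit 0x2e2f2292,
  nat_lit 0,
  nat_lit 0,
  nat_lit 0,
  nat_lit 0,
  nat_lit 0x10ea170ac24bc68de703,
  nat_lit 0x1637ee10120f01c,
  nat_lit 0x4ef32b3a7a0ef1203be6203a0,
  nat_lit 0x5efc3fedad222,
  nat_lit 0x83843972be,
  nat_lit 0x30a7a6,
  nat_lit 0x1b5e4d6,
  nat_lit 0xc2d6d9d7f,
  nat_lit 0xe9ce9f032,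
  nat_lit 0x8a8d67b6,
  nat_lit 0,
  nat_lit 0,
  nat_lit 0x4ef341c7215bee50aefa2db96,
  nat_lit 0x9b0bccd5c65bf8b94c99a163e,
  nat_lit 0,
  nat_lit 0x12,
  nat_lit 0xe6a60d35ad46,
  nat_lit 0x1e6,
  nat_lit 0xddef257fb0a,
  nat_lit 0x4b0b26b4b42,
  nat_lit 0x1116,
  nat_lit 0x99c6,
  nat_lit 0x567f6,
  nat_lit 0x19fa83722,
  nat_lit 0,
  nat_lit 0xe67a3677dc5f,
  nat_lit 0x2153e468ba7ab04,
  nat_lit 0x1637ee10120f01a,
  nat_lit 0x36,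
  nat_lit 0xa2,
  nat_lit 0x5b2,
  nat_lit 0x91f6f2,
  nat_lit 0x521ae82,
  nat_lit 0x3342,
  nat_lit 0x1cd52,
  nat_lit 3,
  nat_lit 0x1037e2,
  nat_lit 0x7b285c3]
noncomputable def Wsx3 : List (List ℕ) := [[nat_lit 0, nat_lit 1, nat_lit 3, nat_lit 3, nat_lit 4, nat_lit 5, nat_lit 5, nat_lit 6, nat_lit 6, nat_lit 9, nat_lit 10, nat_lit 10, nat_lit 11, nat_lit 11, nat_lit 12, nat_lit 12],
  [nat_lit 8, nat_lit 9, nat_lit 11, nat_lit 11],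
  [nat_lit 4, nat_lit 6, nat_lit 6, nat_lit 7, nat_lit 9, nat_lit 9, nat_lit 10, nat_lit 12, nat_lit 12],
  [nat_lit 10],
  [nat_lit 4, nat_lit 6, nat_lit 6],
  [nat_lit 2, nat_lit 5, nat_lit 5, nat_lit 6, nat_lit 9, nat_lit 9],
  [nat_lit 5],
  [nat_lit 0]]
noncomputable def LDx3_5d : ℕ := nat_lit 4
noncomputable def LDx3_5 (u : ℕ) : ℕ := Nat.land (Nat.shiftRight LDx3_5d (Nat.mul u (nat_lit 1))) (nat_lit 1)
noncomputable def Ptx3_5d : ℕ := nat_lit 0x14293b001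
noncomputable def Ptx3_5 (u : ℕ) : ℕ := Nat.land (Nat.shiftRight Ptx3_5d (Nat.mul u (nat_lit 11))) (nat_lit 2047)
noncomputable def Qx3_5ad : ℕ := nat_lit 0
noncomputable def Qx3_5a (u : ℕ) : ℕ := Nat.land (Nat.shiftRight Qx3_5ad (Nat.mul u (nat_lit 1))) (nat_lit 1)
noncomputable def Qx3_5bd : ℕ := nat_lit 0x21
noncomputable def Qx3_5b (u : ℕ) : ℕ := Nat.land (Nat.shiftRight Qx3_5bd (Nat.mul u (nat_lit 2))) (nat_lit 3)
noncomputable def Qx3_5 (i : ℕ) : ℕ := force i fun i => force (Nat.mod (Nat.add i (Qx3_5a (Nat.mod i (nat_lit 1)))) (nat_lit 7)) Qx3_5b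
noncomputable def lx3_5 : Lev := ⟨3, 1, LDx3_5, Ptx3_5, Qx3_5⟩
noncomputable def LDx3_4d : ℕ := nat_lit 0x11720c520820
noncomputable def LDx3_4 (u : ℕ) : ℕ := Nat.land (Nat.shiftRight LDx3_4d (Nat.mul u (nat_lit 5))) (nat_lit 31)
noncomputable def Ptx3_4d : ℕ := nat_lit 0x1679892f2ae4969ba616b2fd161
noncomputable def Ptx3_4 (u : ℕ) : ℕ := Nat.land (Nat.shiftRight Ptx3_4d (Nat.mul u (nat_lit 12))) (nat_lit 4095)
noncomputable def Qx3_4ad : ℕ := nat_lit 0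
noncomputable def Qx3_4a (u : ℕ) : ℕ := Nat.land (Nat.shiftRight Qx3_4ad (Nat.mul u (nat_lit 1))) (nat_lit 1)
noncomputable def Qx3_4bd : ℕ := nat_lit 0x2170805340006
noncomputable def Qx3_4b (u : ℕ) : ℕ := Nat.land (Nat.shiftRight Qx3_4bd (Nat.mul u (nat_lit 4))) (nat_lit 15)
noncomputable def Qx3_4 (i : ℕ) : ℕ := force i fun i => force (Nat.mod (Nat.add i (Qx3_4a (Nat.mod i (nat_lit 3)))) (nat_lit 13)) Qx3_4b
noncomputable def lx3_4 : Lev := ⟨9, 3, LDx3_4, Ptx3_4, Qx3_4⟩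
noncomputable def LDx3_3d : ℕ := nat_lit 0x13e3bf76c97ab549d21f3c6cd16244078e16284070c10180
noncomputable def LDx3_3 (u : ℕ) : ℕ := Nat.land (Nat.shiftRight LDx3_3d (Nat.mul u (nat_lit 7))) (nat_lit 127)
noncomputable def Ptx3_3d : ℕ := nat_lit 0x1e3c894c9219f1f8220b7bd923519c1bdc043f12b51758064849a09771a1e25d456e8bb20592340c6730940033c2b8c16a8000
noncomputable def Ptx3_3 (u : ℕ) : ℕ := Nat.land (Nat.shiftRight Ptx3_3d (Nat.mul u (nat_lit 15))) (nat_lit 32767)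
noncomputable def Qx3_3ad : ℕ := nat_lit 0x14540a038120
noncomputable def Qx3_3a (u : ℕ) : ℕ := Nat.land (Nat.shiftRight Qx3_3ad (Nat.mul u (nat_lit 5))) (nat_lit 31)
noncomputable def Qx3_3bd : ℕ := nat_lit 0xf323c0048005a680dc2001102b25b98650ef08db20
noncomputable def Qx3_3b (u : ℕ) : ℕ := Nat.land (Nat.shiftRight Qx3_3bd (Nat.mul u (nat_lit 5))) (nat_lit 31)
noncomputable def Qx3_3 (i : ℕ) : ℕ := force i fun i => force (Nat.mod (Nat.add i (Qx3_3a (Nat.mod i (nat_lit 9)))) (nat_lit 34)) Qx3_3b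
noncomputable def lx3_3 : Lev := ⟨27, 4, LDx3_3, Ptx3_3, Qx3_3⟩
noncomputable def LDx3_2d : ℕ := nat_lit 0x2975744b285100
noncomputable def LDx3_2 (u : ℕ) : ℕ := Nat.land (Nat.shiftRight LDx3_2d (Nat.mul u (nat_lit 6))) (nat_lit 63)
noncomputable def Ptx3_2d : ℕ := nat_lit 0x9edb9bded8bcac86eba03f0caf6978597
noncomputable def Ptx3_2 (u : ℕ) : ℕ := Nat.land (Nat.shiftRight Ptx3_2d (Nat.mul u (nat_lit 15))) (nat_lit 32767)
noncomputable def Qx3_2ad : ℕ := nat_lit 0x30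
noncomputable def Qx3_2a (u : ℕ) : ℕ := Nat.land (Nat.shiftRight Qx3_2ad (Nat.mul u (nat_lit 2))) (nat_lit 3)
noncomputable def Qx3_2bd : ℕ := nat_lit 0x800630700042105
noncomputable def Qx3_2b (u : ℕ) : ℕ := Nat.land (Nat.shiftRight Qx3_2bd (Nat.mul u (nat_lit 4))) (nat_lit 15)
noncomputable def Qx3_2 (i : ℕ) : ℕ := force i fun i => force (Nat.mod (Nat.add i (Qx3_2a (Nat.mod i (nat_lit 3)))) (nat_lit 19)) Qx3_2b
noncomputable def lx3_2 : Lev := ⟨9, 6, LDx3_2, Ptx3_2, Qx3_2⟩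
noncomputable def LDx3_1d : ℕ := nat_lit 0xd60
noncomputable def LDx3_1 (u : ℕ) : ℕ := Nat.land (Nat.shiftRight LDx3_1d (Nat.mul u (nat_lit 4))) (nat_lit 15)
noncomputable def Ptx3_1d : ℕ := nat_lit 0x109b681d88b0
noncomputable def Ptx3_1 (u : ℕ) : ℕ := Nat.land (Nat.shiftRight Ptx3_1d (Nat.mul u (nat_lit 15))) (nat_lit 32767)
noncomputable def Qx3_1ad : ℕ := nat_lit 0
noncomputable def Qx3_1a (u : ℕ) : ℕ := Nat.land (Nat.shiftRight Qx3_1ad (Nat.mul u (nat_lit 1))) (nat_lit 1)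
noncomputable def Qx3_1bd : ℕ := nat_lit 0x24
noncomputable def Qx3_1b (u : ℕ) : ℕ := Nat.land (Nat.shiftRight Qx3_1bd (Nat.mul u (nat_lit 2))) (nat_lit 3)
noncomputable def Qx3_1 (i : ℕ) : ℕ := force i fun i => force (Nat.mod (Nat.add i (Qx3_1a (Nat.mod i (nat_lit 1)))) (nat_lit 7)) Qx3_1b
noncomputable def lx3_1 : Lev := ⟨3, 7, LDx3_1, Ptx3_1, Qx3_1⟩
noncomputable def LDx3_0d : ℕ := nat_lit 0x2277bdcf6bda767d8f61d7759d4f51d444f5374bd2a47d07408ea394d7340cf31cb72d0b22c4af2a09f25c902007f1e8771c87017c5a15c5013c4a120470f43c0e8390dc350d0320c4300bc2c0a027090220801f0681905c16048110400f0300a0240801c00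
noncomputable def LDx3_0 (u : ℕ) : ℕ := Nat.land (Nat.shiftRight LDx3_0d (Nat.mul u (nat_lit 10))) (nat_lit 1023)
noncomputable def Ptx3_0d : ℕ := nat_lit 0x6d7da5fb7d3694e89b8503d8dc37589f7f6c425242d59ed1a03e165ee6f44818657e5664a04935b34340ed70aedfab9a1eb4ca7022e65ea822c13ccc70584db46e25893261c6070cff163c46b13db81e4edf2ab3a3fca73990ec0eaa283b0ee6b9def0d13ebd68a995ebc9b6fa5d64af6be1bbe1665cf9cca54924e781174eddee52b48ccb0342a6d4f8baf37676c09ea27719c74c20223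
noncomputable def Ptx3_0 (u : ℕ) : ℕ := Nat.land (Nat.shiftRight Ptx3_0d (Nat.mul u (nat_lit 15))) (nat_lit 32767)
noncomputable def Qx3_0ad : ℕ := nat_lit 0x4ae07c2600c000008b098207240c00061
noncomputable def Qx3_0a (u : ℕ) : ℕ := Nat.land (Nat.shiftRight Qx3_0ad (Nat.mul u (nat_lit 5))) (nat_lit 31)
noncomputable def Qx3_0bd : ℕ := nat_lit 0x13474e00000033003d2600c0b00312892c81e00013dd3b8ac402f92b0b9b1ee174d6c0258010358105338a43a10a50e0049ac680462345470f0034cc33900016800104000047d4007e00c950601b8042ad20090002057c743b2468800a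
noncomputable def Qx3_0b (u : ℕ) : ℕ := Nat.land (Nat.shiftRight Qx3_0bd (Nat.mul u (nat_lit 7))) (nat_lit 127)
noncomputable def Qx3_0 (i : ℕ) : ℕ := force i fun i => force (Nat.mod (Nat.add i (Qx3_0a (Nat.mod i (nat_lit 27)))) (nat_lit 106)) Qx3_0b
noncomputable def lx3_0 : Lev := ⟨81, 8, LDx3_0, Ptx3_0, Qx3_0⟩
noncomputable def Lx3 : List Lev := [lx3_0, lx3_1, lx3_2, lx3_3, lx3_4, lx3_5]
noncomputable def Bx3 : List ℕ := [nat_lit 547, nat_lit 2224, nat_lit 1431, nat_lit 0, nat_lit 353, nat_lit 1]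

theorem id3_0 : c3.idnChk (nat_lit 1135) I3_0 = true := by decide +kernel
theorem rw3_0 : c3.rowChk S3 (Yo3.map (·.1) ++ Ds3) La3 (nat_lit 0) (nat_lit 169) = true := by decide +kernel
theorem ord3 : c3.ordChk Yo3 Ds3 = true := by decide +kernel
theorem rule3_0 : allZ (c3.ruleEnt (wdsP H16.TFi23.P Us3) H16.TFi23.B) (nat_lit 0) (nat_lit 32) = true := by decide +kernel
theorem rule3_1 : allZ (c3.ruleEnt (wdsP H16.TFi23.P Us3) H16.TFi23.B) (nat_lit 32) (nat_lit 32) = true := by decide +kernel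
theorem rule3_2 : allZ (c3.ruleEnt (wdsP H16.TFi23.P Us3) H16.TFi23.B) (nat_lit 64) (nat_lit 32) = true := by decide +kernel
theorem rule3_3 : allZ (c3.ruleEnt (wdsP H16.TFi23.P Us3) H16.TFi23.B) (nat_lit 96) (nat_lit 32) = true := by decide +kernel
theorem rule3_4 : allZ (c3.ruleEnt (wdsP H16.TFi23.P Us3) H16.TFi23.B) (nat_lit 128) (nat_lit 32) = true := by decide +kernel
theorem rule3_5 : allZ (c3.ruleEnt (wdsP H16.TFi23.P Us3) H16.TFi23.B) (nat_lit 160) (nat_lit 9) = true := by decide +kernel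
theorem fus3_0 : allZ (c3.fusEnt (wdsP H16.TFi23.P Us3) (wdsP H16.TFi23.P Fs3) H16.TFi23.B) (nat_lit 0) (nat_lit 9) = true := by decide +kernel
theorem fus3_1 : allZ (c3.fusEnt (wdsP H16.TFi23.P Us3) (wdsP H16.TFi23.P Fs3) H16.TFi23.B) (nat_lit 9) (nat_lit 5) = true := by decide +kernel
theorem lvx3_5e_0 : allZ (lx3_5.ent (wdsP (wdsP H16.TFi23.P Us3) Wsx3)) (nat_lit 0) (nat_lit 2) = true := by decide +kernel
theorem lvx3_5b : 0 < lx3_5.n ∧ 0 < lx3_5.K ∧ lx3_5.Pt 0 < 31671 ∧ lx3_5.Q (lx3_5.Pt 0) = 0 ∧ 0 ≤ lx3_5.K ∧ fixLetters (wdsP (wdsP H16.TFi23.P Us3) Wsx3) (nat_lit 0) (lx3_5.Pt 0) = true := by decide +kernel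
theorem lvx3_4e_0 : allZ (lx3_4.ent (wdsP (wdsP H16.TFi23.P Us3) Wsx3)) (nat_lit 0) (nat_lit 8) = true := by decide +kernel
theorem lvx3_4b : 0 < lx3_4.n ∧ 0 < lx3_4.K ∧ lx3_4.Pt 0 < 31671 ∧ lx3_4.Q (lx3_4.Pt 0) = 0 ∧ 1 ≤ lx3_4.K ∧ fixLetters (wdsP (wdsP H16.TFi23.P Us3) Wsx3) (nat_lit 1) (lx3_4.Pt 0) = true := by decide +kernel
theorem lvx3_3e_0 : allZ (lx3_3.ent (wdsP (wdsP H16.TFi23.P Us3) Wsx3)) (nat_lit 0) (nat_lit 26) = true := by decide +kernel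
theorem lvx3_3b : 0 < lx3_3.n ∧ 0 < lx3_3.K ∧ lx3_3.Pt 0 < 31671 ∧ lx3_3.Q (lx3_3.Pt 0) = 0 ∧ 3 ≤ lx3_3.K ∧ fixLetters (wdsP (wdsP H16.TFi23.P Us3) Wsx3) (nat_lit 3) (lx3_3.Pt 0) = true := by decide +kernel
theorem lvx3_2e_0 : allZ (lx3_2.ent (wdsP (wdsP H16.TFi23.P Us3) Wsx3)) (nat_lit 0) (nat_lit 8) = true := by decide +kernel
theorem lvx3_2b : 0 < lx3_2.n ∧ 0 < lx3_2.K ∧ lx3_2.Pt 0 < 31671 ∧ lx3_2.Q (lx3_2.Pt 0) = 0 ∧ 4 ≤ lx3_2.K ∧ fixLetters (wdsP (wdsP H16.TFi23.P Us3) Wsx3) (nat_lit 4) (lx3_2.Pt 0) = true := by decide +kernel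
theorem lvx3_1e_0 : allZ (lx3_1.ent (wdsP (wdsP H16.TFi23.P Us3) Wsx3)) (nat_lit 0) (nat_lit 2) = true := by decide +kernel
theorem lvx3_1b : 0 < lx3_1.n ∧ 0 < lx3_1.K ∧ lx3_1.Pt 0 < 31671 ∧ lx3_1.Q (lx3_1.Pt 0) = 0 ∧ 6 ≤ lx3_1.K ∧ fixLetters (wdsP (wdsP H16.TFi23.P Us3) Wsx3) (nat_lit 6) (lx3_1.Pt 0) = true := by decide +kernel
theorem lvx3_0e_0 : allZ (lx3_0.ent (wdsP (wdsP H16.TFi23.P Us3) Wsx3)) (nat_lit 0) (nat_lit 80) = true := by decide +kernel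
theorem lvx3_0b : 0 < lx3_0.n ∧ 0 < lx3_0.K ∧ lx3_0.Pt 0 < 31671 ∧ lx3_0.Q (lx3_0.Pt 0) = 0 ∧ 7 ≤ lx3_0.K ∧ fixLetters (wdsP (wdsP H16.TFi23.P Us3) Wsx3) (nat_lit 7) (lx3_0.Pt 0) = true := by decide +kernel
theorem basex3 : chainBase Lx3 = Bx3 ∧ ltAll (nat_lit 31671) Bx3 = 0 ∧ topK Lx3 = 8 := by decide +kernel
theorem h0_3 : allL (ltAll 15) Us3 = true ∧ allL (ltAll 15) Fs3 = true ∧ Us3.length ≤ c3.n ∧ 0 < 4089470473293004800 := by decide +kernel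
theorem h1_3 : allL (ltAll c3.n) Wsx3 = true ∧ chainCard Lx3 = (c3.p1 + 1) ^ c3.n ∧ c3.n * c3.n = 169 := by decide +kernel
theorem h2_3 : c3.Fmt ∧ c3.p1 + 1 = 3 ∧ c3.N1 + 1 = 3 ^ (0 + 1) ∧ 4089470473293004800 = 3 ^ c3.n * (4089470473293004800 / 3 ^ c3.n) ∧
    Nat.Coprime (4089470473293004800 / 3 ^ c3.n) (c3.N1 + 1) ∧ (Yo3.map (·.2.1)).prod ≤ 3 ^ 0 ∧ c3.n * c3.n = 169 := by decide +kernel
theorem h3_3 : c3.C = 14 := by decide +kernel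

theorem sub {p q : ℕ} (hp : p.Prime) (h : PB (gen PFi22.g 9) q) (e : q ∣ p ^ (0 + 1) * 2 ∧ ¬ p ∣ 31671) :
    PB (gen TFi23.g 15) (p ^ (0 + 1)) := by
  obtain ⟨ψ, hψ, -⟩ := H26.Fi23.exists_cext
  have h1 := Subgroup.card_eq_card_quotient_mul_card_subgroup ψ.ker
  rw [Nat.card_congr (QuotientGroup.quotientKerEquivOfSurjective ψ hψ.surj).toEquiv, H26.Fi22.card,
    H26.Fi23.card_H] at h1
  refine (PB.of_subgroup hp H26.Fi23.H (H26.Fi23.index_H ▸ e.2) (PB.cover ⟨H26.Fi23.perfect_H⟩ hψ.surj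
    (fun x hx => ?_) (h.congr PFi22.equiv) (by rw [show Nat.card ψ.ker = 2 by omega]; exact e.1))).congr
    ((MulEquiv.subgroupCongr TFi23.gen_eq).trans F23.equiv.symm)
  obtain ⟨k, hk⟩ := (hψ.ker x).1 hx
  exact Subgroup.mem_center_iff.2 fun y => Subtype.ext (by
    rw [Subgroup.coe_mul, Subgroup.coe_mul, ← hk]; exact ((hψ.comm y y.2).zpow_right k).eq)
instance fin : Finite (gen H16.TFi23.g 15) := Nat.finite_of_card_ne_zero (by rw [H16.TFi23.card]; decide)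
theorem zero3 : ∀ D ∈ Ds3, c3.Zero D := (Pc.zero_of_chk id3_0)
theorem rows3 : ∀ r < 169, c3.Row S3 (Yo3.map (·.1)) r :=
  (Pc.rows_glue zero3 Pc.rows_zero rw3_0)
theorem rule3_g0 : ∀ i < 32, (c3.ruleEnt (wdsP H16.TFi23.P Us3) H16.TFi23.B) i = 0 := allZ_sound0 rule3_0
theorem rule3_g1 : ∀ i < 64, (c3.ruleEnt (wdsP H16.TFi23.P Us3) H16.TFi23.B) i = 0 := range_glue rule3_g0 rule3_1
theorem rule3_g2 : ∀ i < 96, (c3.ruleEnt (wdsP H16.TFi23.P Us3) H16.TFi23.B) i = 0 := range_glue rule3_g1 rule3_2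
theorem rule3_g3 : ∀ i < 128, (c3.ruleEnt (wdsP H16.TFi23.P Us3) H16.TFi23.B) i = 0 := range_glue rule3_g2 rule3_3
theorem rule3_g4 : ∀ i < 160, (c3.ruleEnt (wdsP H16.TFi23.P Us3) H16.TFi23.B) i = 0 := range_glue rule3_g3 rule3_4
theorem rule3 : ∀ i < 169, (c3.ruleEnt (wdsP H16.TFi23.P Us3) H16.TFi23.B) i = 0 := range_glue rule3_g4 rule3_5
theorem fus3_g0 : ∀ i < 9, (c3.fusEnt (wdsP H16.TFi23.P Us3) (wdsP H16.TFi23.P Fs3) H16.TFi23.B) i = 0 := allZ_sound0 fus3_0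
theorem fus3 : ∀ i < 14, (c3.fusEnt (wdsP H16.TFi23.P Us3) (wdsP H16.TFi23.P Fs3) H16.TFi23.B) i = 0 := range_glue fus3_g0 fus3_1
theorem lvx3_5e : ∀ i < 2, (lx3_5.ent (wdsP (wdsP H16.TFi23.P Us3) Wsx3)) i = 0 := allZ_sound0 lvx3_5e_0
theorem lvx3_4e : ∀ i < 8, (lx3_4.ent (wdsP (wdsP H16.TFi23.P Us3) Wsx3)) i = 0 := allZ_sound0 lvx3_4e_0
theorem lvx3_3e : ∀ i < 26, (lx3_3.ent (wdsP (wdsP H16.TFi23.P Us3) Wsx3)) i = 0 := allZ_sound0 lvx3_3e_0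
theorem lvx3_2e : ∀ i < 8, (lx3_2.ent (wdsP (wdsP H16.TFi23.P Us3) Wsx3)) i = 0 := allZ_sound0 lvx3_2e_0
theorem lvx3_1e : ∀ i < 2, (lx3_1.ent (wdsP (wdsP H16.TFi23.P Us3) Wsx3)) i = 0 := allZ_sound0 lvx3_1e_0
theorem lvx3_0e : ∀ i < 80, (lx3_0.ent (wdsP (wdsP H16.TFi23.P Us3) Wsx3)) i = 0 := allZ_sound0 lvx3_0e_0
theorem lowx3 : LowChain (wdsP (wdsP H16.TFi23.P Us3) Wsx3) 31671 Lx3 :=
  ⟨⟨lvx3_0b.1, lvx3_0b.2.1, lvx3_0b.2.2.1, lvx3_0b.2.2.2.1, lvx3_0e⟩, lvx3_0b.2.2.2.2.1, lvx3_0b.2.2.2.2.2, ⟨⟨lvx3_1b.1, lvx3_1b.2.1, lvx3_1b.2.2.1, lvx3_1b.2.2.2.1, lvx3_1e⟩, lvx3_1b.2.2.2.2.1, lvx3_1b.2.2.2.2.2, ⟨⟨lvx3_2b.1, lvx3_2b.2.1, lvx3_2b.2.2.1, lvx3_2b.2.2.2.1, lvx3_2e⟩, lvx3_2b.2.2.2.2.1, lvx3_2b.2.2.2.2.2, ⟨⟨lvx3_3b.1, lvx3_3b.2.1, lvx3_3b.2.2.1, lvx3_3b.2.2.2.1, lvx3_3e⟩, lvx3_3b.2.2.2.2.1, lvx3_3b.2.2.2.2.2, ⟨⟨lvx3_4b.1, lvx3_4b.2.1, lvx3_4b.2.2.1, lvx3_4b.2.2.2.1,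 lvx3_4e⟩, lvx3_4b.2.2.2.2.1, lvx3_4b.2.2.2.2.2, ⟨⟨lvx3_5b.1, lvx3_5b.2.1, lvx3_5b.2.2.1, lvx3_5b.2.2.2.1, lvx3_5e⟩, lvx3_5b.2.2.2.2.1, lvx3_5b.2.2.2.2.2, trivial⟩⟩⟩⟩⟩⟩
open scoped Pointwise in
theorem pb3 : PB (gen H16.TFi23.g 15) (3 ^ (0 + 1)) :=
  (Pc.gok_wds H16.TFi23.act H16.TFi23.card H16.TFi23.inj H16.TFi23.Blt H16.TFi23.isBase h0_3 h1_3 rule3
    (fun r h => fus3 r (h.trans_eq h3_3)) lowx3).pb (by norm_num) H16.TFi23.card zero3 rows3 ord3 h2_3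
theorem ker_le (Δ : Type) [Group Δ] [Finite Δ] (τ : Δ →* (gen H16.TFi23.g 15)) (h : Cfsg.IsStemExtension τ) :
    Nat.card τ.ker ≤ 1 :=
  card_ker_le (L := [(2, 18, 0), (3, 13, 0), (5, 2, 0), (7, 1, 0), (11, 1, 0), (13, 1, 0), (17, 1, 0), (23, 1, 0)]) ⟨H16.TFi23.card.trans (by decide +kernel), by decide +kernel⟩
    (all_cons ⟨by norm_num, sub (by norm_num) ScFi22.pb2 (by decide)⟩
    (all_cons ⟨by norm_num, pb3⟩
    (all_cons ⟨by norm_num, sub (by norm_num) ScFi22.pb5 (by decide)⟩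
    (all_cons ⟨by norm_num, PB.of_not_sq (by norm_num) (by rw [H16.TFi23.card]; decide)⟩
    (all_cons ⟨by norm_num, PB.of_not_sq (by norm_num) (by rw [H16.TFi23.card]; decide)⟩
    (all_cons ⟨by norm_num, PB.of_not_sq (by norm_num) (by rw [H16.TFi23.card]; decide)⟩
    (all_cons ⟨by norm_num, PB.of_not_sq (by norm_num) (by rw [H16.TFi23.card]; decide)⟩
    (all_cons ⟨by norm_num, PB.of_not_sq (by norm_num) (by rw [H16.TFi23.card]; decide)⟩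
    all_nil)))))))) Δ τ h

end H16.ScFi23
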