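import Cfsg.Agent.H16.Sch3
import Cfsg.Agent.H16.M.G24

/-! Generated by tools/h16 (computation kit). -/

set_option maxRecDepth 100000
set_option maxHeartbeats 0

namespace H16.ScG24

noncomputable def Us5 : List (List ℕ) := [[nat_lit 4, nat_lit 2, nat_lit 4, nat_lit 2, nat_lit 0, nat_lit 4, nat_lit 3, nat_lit 5, nat_lit 4, nat_lit 2, nat_lit 4, nat_lit 3, nat_lit 4, nat_lit 1],
  [nat_lit 5, nat_lit 3, nat_lit 4, nat_lit 2, nat_lit 4, nat_lit 0, nat_lit 2, nat_lit 4, nat_lit 5, nat_lit 4, nat_lit 2, nat_lit 0, nat_lit 2]]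
noncomputable def Fs5 : List (List ℕ) := [[nat_lit 2, nat_lit 5, nat_lit 4, nat_lit 3, nat_lit 0, nat_lit 4, nat_lit 2, nat_lit 0, nat_lit 4, nat_lit 2, nat_lit 1, nat_lit 4, nat_lit 5, nat_lit 4, nat_lit 3, nat_lit 1]]
noncomputable def c5 : Pc := ⟨(nat_lit 4), (nat_lit 4), (nat_lit 2), (nat_lit 2), (nat_lit 2), (nat_lit 10),
  [[[]],
  [[nat_lit 1], []]],
  [((nat_lit 0), [nat_lit 1], [nat_lit 0, nat_lit 1, nat_lit 1, nat_lit 1, nat_lit 1]),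
  ((nat_lit 0), [nat_lit 0], [nat_lit 0])]⟩
noncomputable def I5_0 : List Pc.Idn := [⟨true, (nat_lit 0), [nat_lit 0, nat_lit 1], [nat_lit 1, nat_lit 0], [((nat_lit 4), (nat_lit 2))]⟩]
noncomputable def Ds5 : List (List (ℕ × ℕ)) := I5_0.map Pc.Idn.D
noncomputable def S5 : List (List (ℕ × ℕ)) := [[],
  []]
noncomputable def Yo5 : List (List (ℕ × ℕ) × ℕ × ℕ) := []
noncomputable def La5 : List ℕ := [nat_lit 0,
  nat_lit 0,
  nat_lit 3,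
  nat_lit 0]
noncomputable def Wsx5 : List (List ℕ) := [[nat_lit 1],
  [nat_lit 0]]
noncomputable def LDx5_1d : ℕ := nat_lit 0x390
noncomputable def LDx5_1 (u : ℕ) : ℕ := Nat.land (Nat.shiftRight LDx5_1d (Nat.mul u (nat_lit 2))) (nat_lit 3)
noncomputable def Ptx5_1d : ℕ := nat_lit 0x3ac39447601
noncomputable def Ptx5_1 (u : ℕ) : ℕ := Nat.land (Nat.shiftRight Ptx5_1d (Nat.mul u (nat_lit 9))) (nat_lit 511)
noncomputable def Qx5_1d : ℕ := nat_lit 0x600000000000000000000000000000000000000000000000000000000000000000000000000000000000000000000000000000000000000000000000000000000000000000000000000000000000000000000000000000000000000000000000000000000000000000000000000000000000000010000000000000000300000000000000000000000000000000000000000000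
noncomputable def Qx5_1 (u : ℕ) : ℕ := Nat.land (Nat.shiftRight Qx5_1d (Nat.mul u (nat_lit 3))) (nat_lit 7)
noncomputable def lx5_1 : Lev := ⟨5, 1, LDx5_1, Ptx5_1, Qx5_1⟩
noncomputable def LDx5_0d : ℕ := nat_lit 0x7ac8
noncomputable def LDx5_0 (u : ℕ) : ℕ := Nat.land (Nat.shiftRight LDx5_0d (Nat.mul u (nat_lit 3))) (nat_lit 7)
noncomputable def Ptx5_0d : ℕ := nat_lit 0x6a42c28f005
noncomputable def Ptx5_0 (u : ℕ) : ℕ := Nat.land (Nat.shiftRight Ptx5_0d (Nat.mul u (nat_lit 9))) (nat_lit 511)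
noncomputable def Qx5_0d : ℕ := nat_lit 0x80000000000000000000000000000000000000000000000000000000000000000000000000000000000000000000000000018000000001000000000100000000000000000000000000000000000000000000000000000000000000000000000000000000
noncomputable def Qx5_0 (u : ℕ) : ℕ := Nat.land (Nat.shiftRight Qx5_0d (Nat.mul u (nat_lit 3))) (nat_lit 7)
noncomputable def lx5_0 : Lev := ⟨5, 2, LDx5_0, Ptx5_0, Qx5_0⟩
noncomputable def Lx5 : List Lev := [lx5_0, lx5_1]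
noncomputable def Bx5 : List ℕ := [nat_lit 5, nat_lit 1]
noncomputable def Us3 : List (List ℕ) := [[nat_lit 1, nat_lit 4, nat_lit 2, nat_lit 4, nat_lit 3, nat_lit 1, nat_lit 5, nat_lit 4, nat_lit 3, nat_lit 0, nat_lit 5, nat_lit 4, nat_lit 2, nat_lit 4, nat_lit 2],
  [nat_lit 0, nat_lit 2, nat_lit 0, nat_lit 4, nat_lit 3, nat_lit 0, nat_lit 5, nat_lit 4, nat_lit 2, nat_lit 5, nat_lit 4, nat_lit 2, nat_lit 1, nat_lit 4, nat_lit 3, nat_lit 4, nat_lit 0],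
  [nat_lit 2, nat_lit 0, nat_lit 2, nat_lit 4, nat_lit 2, nat_lit 4, nat_lit 2, nat_lit 0, nat_lit 2, nat_lit 5, nat_lit 4, nat_lit 2, nat_lit 4, nat_lit 5]]
noncomputable def Fs3 : List (List ℕ) := [[nat_lit 5, nat_lit 2, nat_lit 0, nat_lit 4, nat_lit 3, nat_lit 4, nat_lit 2, nat_lit 1, nat_lit 4, nat_lit 3, nat_lit 5]]
noncomputable def c3 : Pc := ⟨(nat_lit 2), (nat_lit 2), (nat_lit 3), (nat_lit 2), (nat_lit 3), (nat_lit 9),
  [[[]],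
  [[nat_lit 1, nat_lit 2], []],
  [[nat_lit 2], [nat_lit 2], []]],
  [((nat_lit 0), [nat_lit 2], [nat_lit 2]),
  ((nat_lit 0), [nat_lit 0], [nat_lit 0, nat_lit 0]),
  ((nat_lit 0), [nat_lit 1], [nat_lit 1, nat_lit 1, nat_lit 2])]⟩
noncomputable def I3_0 : List Pc.Idn := [⟨false, (nat_lit 0), [nat_lit 1], [nat_lit 0, nat_lit 0], [((nat_lit 11), (nat_lit 1))]⟩,
  ⟨true, (nat_lit 0), [nat_lit 0, nat_lit 1], [nat_lit 1, nat_lit 0], [((nat_lit 9), (nat_lit 2))]⟩,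
  ⟨true, (nat_lit 0), [nat_lit 0, nat_lit 2], [nat_lit 2, nat_lit 0], [((nat_lit 10), (nat_lit 2))]⟩]
noncomputable def Ds3 : List (List (ℕ × ℕ)) := I3_0.map Pc.Idn.D
noncomputable def S3 : List (List (ℕ × ℕ)) := [[],
  [],
  [((nat_lit 6), (nat_lit 1))]]
noncomputable def Yo3 : List (List (ℕ × ℕ) × ℕ × ℕ) := []
noncomputable def La3 : List ℕ := [nat_lit 0,
  nat_lit 0,
  nat_lit 0,
  nat_lit 0,
  nat_lit 0,
  nat_lit 0,
  nat_lit 6,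
  nat_lit 0x12,
  nat_lit 1]
noncomputable def Wsx3 : List (List ℕ) := [[nat_lit 2],
  [nat_lit 0],
  [nat_lit 1]]
noncomputable def LDx3_1d : ℕ := nat_lit 4
noncomputable def LDx3_1 (u : ℕ) : ℕ := Nat.land (Nat.shiftRight LDx3_1d (Nat.mul u (nat_lit 1))) (nat_lit 1)
noncomputable def Ptx3_1d : ℕ := nat_lit 0xce6403
noncomputable def Ptx3_1 (u : ℕ) : ℕ := Nat.land (Nat.shiftRight Ptx3_1d (Nat.mul u (nat_lit 8))) (nat_lit 255)
noncomputable def Qx3_1d : ℕ := nat_lit 0x20000000000000000000000000000000000000000000000000000100000000000000000000000000000000000000000000000000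
noncomputable def Qx3_1 (u : ℕ) : ℕ := Nat.land (Nat.shiftRight Qx3_1d (Nat.mul u (nat_lit 2))) (nat_lit 3)
noncomputable def lx3_1 : Lev := ⟨3, 1, LDx3_1, Ptx3_1, Qx3_1⟩
noncomputable def LDx3_0d : ℕ := nat_lit 0x1472d0520820
noncomputable def LDx3_0 (u : ℕ) : ℕ := Nat.land (Nat.shiftRight LDx3_0d (Nat.mul u (nat_lit 5))) (nat_lit 31)
noncomputable def Ptx3_0d : ℕ := nat_lit 0x153015dd1752a25a89e01
noncomputable def Ptx3_0 (u : ℕ) : ℕ := Nat.land (Nat.shiftRight Ptx3_0d (Nat.mul u (nat_lit 9))) (nat_lit 511)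
noncomputable def Qx3_0d : ℕ := nat_lit 0x6000000000000200000000000000000000008400000000000003000000000000000000000000000000000000000000000000000000000000000000000000000000000000000000000000000000000000000000000000000000000000000000000000000000000000000000000000000000000000000050000000000000000000000000000000000000000000000000000000000010000000000000000000000000000000000000000000000000000000000000000000000000000700
noncomputable def Qx3_0 (u : ℕ) : ℕ := Nat.land (Nat.shiftRight Qx3_0d (Nat.mul u (nat_lit 4))) (nat_lit 15)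
noncomputable def lx3_0 : Lev := ⟨9, 3, LDx3_0, Ptx3_0, Qx3_0⟩
noncomputable def Lx3 : List Lev := [lx3_0, lx3_1]
noncomputable def Bx3 : List ℕ := [nat_lit 1, nat_lit 3]
noncomputable def Us2 : List (List ℕ) := [[nat_lit 6, nat_lit 5, nat_lit 3, nat_lit 4, nat_lit 3, nat_lit 0, nat_lit 4, nat_lit 3, nat_lit 1, nat_lit 4, nat_lit 3, nat_lit 5, nat_lit 4, nat_lit 2, nat_lit 1, nat_lit 6, nat_lit 4, nat_lit 2, nat_lit 4],
  [nat_lit 6, nat_lit 2, nat_lit 5, nat_lit 4, nat_lit 3, nat_lit 4, nat_lit 3, nat_lit 0, nat_lit 4, nat_lit 2, nat_lit 5, nat_lit 4, nat_lit 3, nat_lit 0, nat_lit 4, nat_lit 3, nat_lit 6, nat_lit 4, nat_lit 2, nat_lit 0],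
  [nat_lit 1, nat_lit 2, nat_lit 0, nat_lit 5, nat_lit 4, nat_lit 2, nat_lit 0, nat_lit 4, nat_lit 5, nat_lit 6, nat_lit 4, nat_lit 2, nat_lit 4, nat_lit 5, nat_lit 6, nat_lit 4, nat_lit 5, nat_lit 2, nat_lit 0, nat_lit 0],
  [nat_lit 2, nat_lit 4, nat_lit 2, nat_lit 4, nat_lit 5, nat_lit 4, nat_lit 2, nat_lit 0, nat_lit 4, nat_lit 6, nat_lit 4, nat_lit 2, nat_lit 4, nat_lit 2, nat_lit 4, nat_lit 2, nat_lit 6, nat_lit 5, nat_lit 4, nat_lit 3, nat_lit 5, nat_lit 0, nat_lit 2],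
  [nat_lit 5, nat_lit 1, nat_lit 3, nat_lit 1, nat_lit 4, nat_lit 2, nat_lit 4, nat_lit 2, nat_lit 4, nat_lit 5, nat_lit 4, nat_lit 3, nat_lit 4, nat_lit 6, nat_lit 4, nat_lit 2, nat_lit 4, nat_lit 2, nat_lit 4, nat_lit 6],
  [nat_lit 2, nat_lit 0, nat_lit 4, nat_lit 3, nat_lit 0, nat_lit 4, nat_lit 3, nat_lit 1, nat_lit 4, nat_lit 5, nat_lit 4, nat_lit 2, nat_lit 1, nat_lit 6, nat_lit 4, nat_lit 5, nat_lit 6, nat_lit 4, nat_lit 3, nat_lit 0, nat_lit 5],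
  [nat_lit 5, nat_lit 1, nat_lit 3, nat_lit 4, nat_lit 2, nat_lit 4, nat_lit 2, nat_lit 4, nat_lit 1, nat_lit 3, nat_lit 5, nat_lit 4, nat_lit 2, nat_lit 6, nat_lit 5, nat_lit 4, nat_lit 2, nat_lit 4],
  [nat_lit 6, nat_lit 4, nat_lit 2, nat_lit 6, nat_lit 0, nat_lit 4, nat_lit 2, nat_lit 4, nat_lit 2, nat_lit 4, nat_lit 1, nat_lit 3, nat_lit 6, nat_lit 5, nat_lit 6, nat_lit 4, nat_lit 3, nat_lit 6, nat_lit 4, nat_lit 2, nat_lit 1],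
  [nat_lit 0, nat_lit 3, nat_lit 0, nat_lit 4, nat_lit 2, nat_lit 1, nat_lit 4, nat_lit 2, nat_lit 4, nat_lit 3, nat_lit 5, nat_lit 6, nat_lit 5, nat_lit 6, nat_lit 4, nat_lit 2, nat_lit 0, nat_lit 4, nat_lit 2, nat_lit 0],
  [nat_lit 5, nat_lit 6, nat_lit 4, nat_lit 2, nat_lit 4, nat_lit 3, nat_lit 1, nat_lit 2, nat_lit 5, nat_lit 4, nat_lit 2, nat_lit 1, nat_lit 5, nat_lit 4, nat_lit 2, nat_lit 6, nat_lit 5],
  [nat_lit 0, nat_lit 2, nat_lit 0, nat_lit 2, nat_lit 4, nat_lit 2, nat_lit 4, nat_lit 3, nat_lit 4, nat_lit 2, nat_lit 4, nat_lit 6, nat_lit 5, nat_lit 4, nat_lit 3, nat_lit 0, nat_lit 6, nat_lit 5, nat_lit 6, nat_lit 4, nat_lit 2, nat_lit 4],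
  [nat_lit 4, nat_lit 3, nat_lit 0, nat_lit 4, nat_lit 3, nat_lit 5, nat_lit 4, nat_lit 2, nat_lit 0, nat_lit 2, nat_lit 6, nat_lit 4, nat_lit 3, nat_lit 0, nat_lit 6, nat_lit 5, nat_lit 4, nat_lit 2, nat_lit 4]]
noncomputable def Fs2 : List (List ℕ) := [[nat_lit 4, nat_lit 5, nat_lit 2, nat_lit 0, nat_lit 4, nat_lit 2, nat_lit 4, nat_lit 5, nat_lit 4, nat_lit 2, nat_lit 4, nat_lit 6, nat_lit 4, nat_lit 2, nat_lit 5, nat_lit 6, nat_lit 4, nat_lit 2, nat_lit 1],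
  [nat_lit 4, nat_lit 2, nat_lit 1, nat_lit 4, nat_lit 3, nat_lit 5, nat_lit 4, nat_lit 2, nat_lit 4, nat_lit 2, nat_lit 5, nat_lit 6, nat_lit 4, nat_lit 2, nat_lit 5, nat_lit 6, nat_lit 4, nat_lit 6, nat_lit 2, nat_lit 0],
  [nat_lit 5, nat_lit 4, nat_lit 3, nat_lit 6, nat_lit 0, nat_lit 4, nat_lit 3, nat_lit 0, nat_lit 4, nat_lit 3, nat_lit 4, nat_lit 3, nat_lit 0, nat_lit 5, nat_lit 4, nat_lit 2, nat_lit 1, nat_lit 6, nat_lit 4, nat_lit 2, nat_lit 4],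
  [nat_lit 5, nat_lit 6, nat_lit 2, nat_lit 4, nat_lit 3, nat_lit 1, nat_lit 5, nat_lit 4, nat_lit 3, nat_lit 4, nat_lit 2, nat_lit 5, nat_lit 6, nat_lit 4, nat_lit 3, nat_lit 1, nat_lit 4],
  [nat_lit 0, nat_lit 3, nat_lit 1, nat_lit 5, nat_lit 4, nat_lit 3, nat_lit 0, nat_lit 6, nat_lit 5, nat_lit 6, nat_lit 4, nat_lit 3, nat_lit 4, nat_lit 5, nat_lit 6, nat_lit 2, nat_lit 1]]
noncomputable def c2 : Pc := ⟨(nat_lit 1), (nat_lit 3), (nat_lit 12), (nat_lit 4), (nat_lit 22), (nat_lit 16),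
  [[[nat_lit 4, nat_lit 8, nat_lit 9, nat_lit 10, nat_lit 11]],
  [[nat_lit 1, nat_lit 4], [nat_lit 11]],
  [[nat_lit 2, nat_lit 5], [nat_lit 2, nat_lit 10], [nat_lit 11]],
  [[nat_lit 3, nat_lit 6], [nat_lit 3, nat_lit 4, nat_lit 6, nat_lit 11], [nat_lit 3, nat_lit 7], [nat_lit 4, nat_lit 6, nat_lit 10]],
  [[nat_lit 4, nat_lit 10, nat_lit 11], [nat_lit 4, nat_lit 10], [nat_lit 4, nat_lit 10, nat_lit 11], [nat_lit 4, nat_lit 8], [nat_lit 10]],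
  [[nat_lit 5, nat_lit 10], [nat_lit 5, nat_lit 10, nat_lit 11], [nat_lit 5, nat_lit 10, nat_lit 11], [nat_lit 5, nat_lit 9], [nat_lit 5], [nat_lit 10, nat_lit 11]],
  [[nat_lit 6, nat_lit 8, nat_lit 11], [nat_lit 6], [nat_lit 6], [nat_lit 6, nat_lit 8], [nat_lit 6, nat_lit 10], [nat_lit 6, nat_lit 11], [nat_lit 10]],
  [[nat_lit 7, nat_lit 9, nat_lit 10, nat_lit 11], [nat_lit 7, nat_lit 10, nat_lit 11], [nat_lit 7, nat_lit 10, nat_lit 11], [nat_lit 7], [nat_lit 7, nat_lit 11], [nat_lit 7, nat_lit 10, nat_lit 11], [nat_lit 7, nat_lit 11], [nat_lit 10, nat_lit 11]],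
  [[nat_lit 8, nat_lit 10], [nat_lit 8, nat_lit 10], [nat_lit 8, nat_lit 11], [nat_lit 8, nat_lit 10], [nat_lit 8], [nat_lit 8], [nat_lit 8], [nat_lit 8], []],
  [[nat_lit 9, nat_lit 11], [nat_lit 9, nat_lit 11], [nat_lit 9, nat_lit 10, nat_lit 11], [nat_lit 9, nat_lit 11], [nat_lit 9], [nat_lit 9], [nat_lit 9], [nat_lit 9], [nat_lit 9], []],
  [[nat_lit 10], [nat_lit 10], [nat_lit 10], [nat_lit 10], [nat_lit 10], [nat_lit 10], [nat_lit 10], [nat_lit 10], [nat_lit 10], [nat_lit 10], []],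
  [[nat_lit 11], [nat_lit 11], [nat_lit 11], [nat_lit 11], [nat_lit 11], [nat_lit 11], [nat_lit 11], [nat_lit 11], [nat_lit 11], [nat_lit 11], [nat_lit 11], []]],
  [((nat_lit 2), [nat_lit 9], [nat_lit 9]),
  ((nat_lit 2), [nat_lit 1], [nat_lit 1, nat_lit 11]),
  ((nat_lit 2), [nat_lit 11], [nat_lit 11]),
  ((nat_lit 2), [nat_lit 8], [nat_lit 8]),
  ((nat_lit 2), [nat_lit 10], [nat_lit 10]),
  ((nat_lit 1), [nat_lit 4], [nat_lit 4, nat_lit 6]),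
  ((nat_lit 1), [nat_lit 1], [nat_lit 1, nat_lit 11]),
  ((nat_lit 1), [nat_lit 10], [nat_lit 10]),
  ((nat_lit 1), [nat_lit 8], [nat_lit 8, nat_lit 10, nat_lit 11]),
  ((nat_lit 2), [nat_lit 6], [nat_lit 4, nat_lit 6, nat_lit 8]),
  ((nat_lit 2), [nat_lit 7], [nat_lit 5, nat_lit 10]),
  ((nat_lit 2), [nat_lit 3], [nat_lit 0, nat_lit 4, nat_lit 6, nat_lit 7, nat_lit 8]),
  ((nat_lit 0), [nat_lit 9], [nat_lit 8, nat_lit 11]),
  ((nat_lit 0), [nat_lit 2], [nat_lit 1, nat_lit 4, nat_lit 5, nat_lit 8]),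
  ((nat_lit 0), [nat_lit 10], [nat_lit 11]),
  ((nat_lit 0), [nat_lit 11], [nat_lit 10, nat_lit 11]),
  ((nat_lit 4), [nat_lit 7, nat_lit 8, nat_lit 9], [nat_lit 1, nat_lit 3, nat_lit 5]),
  ((nat_lit 4), [nat_lit 1, nat_lit 9], [nat_lit 8]),
  ((nat_lit 0), [nat_lit 7], [nat_lit 6, nat_lit 9]),
  ((nat_lit 4), [nat_lit 2, nat_lit 9], [nat_lit 0, nat_lit 3, nat_lit 4, nat_lit 5, nat_lit 6, nat_lit 7, nat_lit 9, nat_lit 10]),
  ((nat_lit 3), [nat_lit 5], [nat_lit 1, nat_lit 3, nat_lit 6, nat_lit 11]),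
  ((nat_lit 3), [nat_lit 4], [nat_lit 0, nat_lit 1, nat_lit 4, nat_lit 6, nat_lit 8, nat_lit 9, nat_lit 10])]⟩
noncomputable def I2_0 : List Pc.Idn := [⟨false, (nat_lit 0), [nat_lit 1], [nat_lit 1, nat_lit 1], [((nat_lit 155), (nat_lit 1))]⟩,
  ⟨false, (nat_lit 0), [nat_lit 2], [nat_lit 2, nat_lit 2], [((nat_lit 156), (nat_lit 1))]⟩,
  ⟨false, (nat_lit 0), [nat_lit 10], [nat_lit 10, nat_lit 3], [((nat_lit 145), (nat_lit 2))]⟩,
  ⟨false, (nat_lit 0), [nat_lit 4], [nat_lit 4, nat_lit 4], [((nat_lit 146), (nat_lit 1))]⟩,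
  ⟨false, (nat_lit 0), [nat_lit 8], [nat_lit 8, nat_lit 4], [((nat_lit 122), (nat_lit 2))]⟩,
  ⟨false, (nat_lit 0), [nat_lit 9], [nat_lit 9, nat_lit 4], [((nat_lit 134), (nat_lit 2))]⟩,
  ⟨false, (nat_lit 0), [nat_lit 8], [nat_lit 8, nat_lit 5], [((nat_lit 123), (nat_lit 2))]⟩,
  ⟨false, (nat_lit 0), [nat_lit 9], [nat_lit 9, nat_lit 5], [((nat_lit 135), (nat_lit 2))]⟩,
  ⟨false, (nat_lit 0), [nat_lit 6], [nat_lit 6, nat_lit 6], [((nat_lit 148), (nat_lit 1))]⟩,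
  ⟨false, (nat_lit 0), [nat_lit 8], [nat_lit 8, nat_lit 6], [((nat_lit 124), (nat_lit 2))]⟩,
  ⟨false, (nat_lit 0), [nat_lit 9], [nat_lit 9, nat_lit 6], [((nat_lit 136), (nat_lit 2))]⟩,
  ⟨false, (nat_lit 0), [nat_lit 10], [nat_lit 10, nat_lit 7], [((nat_lit 149), (nat_lit 2))]⟩,
  ⟨false, (nat_lit 0), [nat_lit 9], [nat_lit 9, nat_lit 8], [((nat_lit 138), (nat_lit 2))]⟩,
  ⟨false, (nat_lit 0), [nat_lit 11], [nat_lit 11, nat_lit 8], [((nat_lit 162), (nat_lit 2))]⟩,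
  ⟨false, (nat_lit 0), [nat_lit 8], [nat_lit 8, nat_lit 0], [((nat_lit 118), (nat_lit 2)), ((nat_lit 150), (nat_lit 3)), ((nat_lit 152), (nat_lit 3))]⟩,
  ⟨false, (nat_lit 0), [nat_lit 9], [nat_lit 9, nat_lit 0], [((nat_lit 130), (nat_lit 2)), ((nat_lit 163), (nat_lit 3)), ((nat_lit 165), (nat_lit 3))]⟩,
  ⟨false, (nat_lit 0), [nat_lit 6], [nat_lit 6, nat_lit 1], [((nat_lit 95), (nat_lit 2)), ((nat_lit 143), (nat_lit 1))]⟩,
  ⟨false, (nat_lit 0), [nat_lit 6], [nat_lit 1, nat_lit 1], [((nat_lit 95), (nat_lit 2)), ((nat_lit 160), (nat_lit 1))]⟩,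
  ⟨false, (nat_lit 0), [nat_lit 8], [nat_lit 8, nat_lit 1], [((nat_lit 119), (nat_lit 2)), ((nat_lit 150), (nat_lit 3)), ((nat_lit 152), (nat_lit 3))]⟩,
  ⟨false, (nat_lit 0), [nat_lit 9], [nat_lit 9, nat_lit 1], [((nat_lit 131), (nat_lit 2)), ((nat_lit 163), (nat_lit 3)), ((nat_lit 165), (nat_lit 3))]⟩,
  ⟨false, (nat_lit 0), [nat_lit 10], [nat_lit 1, nat_lit 1], [((nat_lit 143), (nat_lit 2)), ((nat_lit 164), (nat_lit 1))]⟩,
  ⟨false, (nat_lit 0), [nat_lit 6], [nat_lit 6, nat_lit 2], [((nat_lit 96), (nat_lit 2)), ((nat_lit 144), (nat_lit 1))]⟩,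
  ⟨false, (nat_lit 0), [nat_lit 6], [nat_lit 2, nat_lit 2], [((nat_lit 96), (nat_lit 2)), ((nat_lit 160), (nat_lit 1))]⟩,
  ⟨false, (nat_lit 0), [nat_lit 8], [nat_lit 8, nat_lit 2], [((nat_lit 120), (nat_lit 2)), ((nat_lit 162), (nat_lit 3)), ((nat_lit 165), (nat_lit 3))]⟩,
  ⟨false, (nat_lit 0), [nat_lit 8], [nat_lit 8, nat_lit 3], [((nat_lit 121), (nat_lit 2)), ((nat_lit 150), (nat_lit 3)), ((nat_lit 152), (nat_lit 3))]⟩,
  ⟨false, (nat_lit 0), [nat_lit 5], [nat_lit 4, nat_lit 4], [((nat_lit 86), (nat_lit 2)), ((nat_lit 147), (nat_lit 1))]⟩,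
  ⟨false, (nat_lit 0), [nat_lit 8], [nat_lit 4, nat_lit 4], [((nat_lit 122), (nat_lit 2)), ((nat_lit 150), (nat_lit 1))]⟩,
  ⟨false, (nat_lit 0), [nat_lit 9], [nat_lit 4, nat_lit 4], [((nat_lit 134), (nat_lit 2)), ((nat_lit 151), (nat_lit 1))]⟩,
  ⟨false, (nat_lit 0), [nat_lit 5], [nat_lit 5, nat_lit 5], [((nat_lit 147), (nat_lit 1)), ((nat_lit 159), (nat_lit 1))]⟩,
  ⟨false, (nat_lit 0), [nat_lit 7], [nat_lit 7, nat_lit 7], [((nat_lit 149), (nat_lit 1)), ((nat_lit 161), (nat_lit 1))]⟩,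
  ⟨false, (nat_lit 0), [nat_lit 4], [nat_lit 4, nat_lit 1], [((nat_lit 71), (nat_lit 2)), ((nat_lit 143), (nat_lit 1)), ((nat_lit 146), (nat_lit 3)), ((nat_lit 152), (nat_lit 3))]⟩,
  ⟨false, (nat_lit 0), [nat_lit 7], [nat_lit 7, nat_lit 3], [((nat_lit 109), (nat_lit 2)), ((nat_lit 145), (nat_lit 1)), ((nat_lit 157), (nat_lit 1))]⟩,
  ⟨false, (nat_lit 0), [nat_lit 5], [nat_lit 5, nat_lit 4], [((nat_lit 86), (nat_lit 2)), ((nat_lit 146), (nat_lit 1)), ((nat_lit 158), (nat_lit 1))]⟩,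
  ⟨false, (nat_lit 0), [nat_lit 7], [nat_lit 4, nat_lit 4], [((nat_lit 110), (nat_lit 2)), ((nat_lit 149), (nat_lit 1)), ((nat_lit 158), (nat_lit 1)), ((nat_lit 165), (nat_lit 1))]⟩,
  ⟨false, (nat_lit 0), [nat_lit 6], [nat_lit 6, nat_lit 5], [((nat_lit 99), (nat_lit 2)), ((nat_lit 147), (nat_lit 1)), ((nat_lit 160), (nat_lit 3)), ((nat_lit 165), (nat_lit 3))]⟩,
  ⟨false, (nat_lit 0), [nat_lit 8], [nat_lit 5, nat_lit 5], [((nat_lit 123), (nat_lit 2)), ((nat_lit 150), (nat_lit 1)), ((nat_lit 162), (nat_lit 1))]⟩,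
  ⟨false, (nat_lit 0), [nat_lit 9], [nat_lit 5, nat_lit 5], [((nat_lit 135), (nat_lit 2)), ((nat_lit 151), (nat_lit 1)), ((nat_lit 163), (nat_lit 1))]⟩,
  ⟨false, (nat_lit 0), [nat_lit 7], [nat_lit 6, nat_lit 6], [((nat_lit 112), (nat_lit 2)), ((nat_lit 149), (nat_lit 1)), ((nat_lit 160), (nat_lit 1)), ((nat_lit 165), (nat_lit 1))]⟩,
  ⟨false, (nat_lit 0), [nat_lit 11], [nat_lit 1, nat_lit 0], [((nat_lit 158), (nat_lit 3))]⟩,
  ⟨false, (nat_lit 0), [nat_lit 11], [nat_lit 3, nat_lit 0], [((nat_lit 160), (nat_lit 3))]⟩,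
  ⟨false, (nat_lit 0), [nat_lit 2], [nat_lit 2, nat_lit 1], [((nat_lit 47), (nat_lit 2)), ((nat_lit 144), (nat_lit 3)), ((nat_lit 152), (nat_lit 3)), ((nat_lit 155), (nat_lit 1)), ((nat_lit 164), (nat_lit 2))]⟩,
  ⟨false, (nat_lit 0), [nat_lit 10], [nat_lit 3, nat_lit 2], [((nat_lit 149), (nat_lit 3))]⟩,
  ⟨false, (nat_lit 0), [nat_lit 3], [nat_lit 3, nat_lit 3], [((nat_lit 73), (nat_lit 1)), ((nat_lit 97), (nat_lit 1)), ((nat_lit 124), (nat_lit 1)), ((nat_lit 126), (nat_lit 1)), ((nat_lit 145), (nat_lit 1))]⟩,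
  ⟨false, (nat_lit 0), [nat_lit 4], [nat_lit 4, nat_lit 3], [((nat_lit 73), (nat_lit 2)), ((nat_lit 122), (nat_lit 3)), ((nat_lit 126), (nat_lit 3)), ((nat_lit 145), (nat_lit 1)), ((nat_lit 150), (nat_lit 2))]⟩,
  ⟨false, (nat_lit 0), [nat_lit 6], [nat_lit 6, nat_lit 3], [((nat_lit 97), (nat_lit 2)), ((nat_lit 124), (nat_lit 3)), ((nat_lit 126), (nat_lit 3)), ((nat_lit 145), (nat_lit 1)), ((nat_lit 150), (nat_lit 2))]⟩,
  ⟨false, (nat_lit 0), [nat_lit 4], [nat_lit 4, nat_lit 0], [((nat_lit 70), (nat_lit 2)), ((nat_lit 142), (nat_lit 1)), ((nat_lit 146), (nat_lit 3)), ((nat_lit 152), (nat_lit 3)), ((nat_lit 158), (nat_lit 3)), ((nat_lit 164), (nat_lit 3)), ((nat_lit 165), (nat_lit 3))]⟩,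
  ⟨false, (nat_lit 0), [nat_lit 5], [nat_lit 1, nat_lit 1], [((nat_lit 83), (nat_lit 2)), ((nat_lit 143), (nat_lit 1)), ((nat_lit 152), (nat_lit 1)), ((nat_lit 155), (nat_lit 1)), ((nat_lit 159), (nat_lit 1)), ((nat_lit 164), (nat_lit 1)), ((nat_lit 165), (nat_lit 1))]⟩,
  ⟨false, (nat_lit 0), [nat_lit 4], [nat_lit 4, nat_lit 2], [((nat_lit 72), (nat_lit 2)), ((nat_lit 144), (nat_lit 1)), ((nat_lit 146), (nat_lit 3)), ((nat_lit 152), (nat_lit 3)), ((nat_lit 158), (nat_lit 3)), ((nat_lit 164), (nat_lit 3)), ((nat_lit 165), (nat_lit 3))]⟩,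
  ⟨false, (nat_lit 0), [nat_lit 5], [nat_lit 2, nat_lit 2], [((nat_lit 84), (nat_lit 2)), ((nat_lit 144), (nat_lit 1)), ((nat_lit 152), (nat_lit 1)), ((nat_lit 156), (nat_lit 1)), ((nat_lit 159), (nat_lit 1)), ((nat_lit 164), (nat_lit 1)), ((nat_lit 165), (nat_lit 1))]⟩,
  ⟨false, (nat_lit 0), [nat_lit 7], [nat_lit 2, nat_lit 2], [((nat_lit 108), (nat_lit 2)), ((nat_lit 144), (nat_lit 1)), ((nat_lit 152), (nat_lit 1)), ((nat_lit 156), (nat_lit 1)), ((nat_lit 161), (nat_lit 1)), ((nat_lit 164), (nat_lit 1)), ((nat_lit 165), (nat_lit 1))]⟩,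
  ⟨false, (nat_lit 0), [nat_lit 5], [nat_lit 5, nat_lit 0], [((nat_lit 82), (nat_lit 2)), ((nat_lit 142), (nat_lit 1)), ((nat_lit 147), (nat_lit 3)), ((nat_lit 152), (nat_lit 3)), ((nat_lit 154), (nat_lit 1)), ((nat_lit 164), (nat_lit 2))]⟩,
  ⟨false, (nat_lit 0), [nat_lit 3], [nat_lit 2, nat_lit 2], [((nat_lit 60), (nat_lit 2)), ((nat_lit 108), (nat_lit 1)), ((nat_lit 113), (nat_lit 1)), ((nat_lit 152), (nat_lit 1)), ((nat_lit 157), (nat_lit 1)), ((nat_lit 161), (nat_lit 2)), ((nat_lit 165), (nat_lit 1))]⟩,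
  ⟨false, (nat_lit 0), [nat_lit 7], [nat_lit 3, nat_lit 3], [((nat_lit 109), (nat_lit 2)), ((nat_lit 110), (nat_lit 3)), ((nat_lit 112), (nat_lit 3)), ((nat_lit 149), (nat_lit 1)), ((nat_lit 160), (nat_lit 3)), ((nat_lit 165), (nat_lit 3))]⟩,
  ⟨false, (nat_lit 0), [nat_lit 8], [nat_lit 3, nat_lit 3], [((nat_lit 121), (nat_lit 2)), ((nat_lit 122), (nat_lit 3)), ((nat_lit 124), (nat_lit 3)), ((nat_lit 145), (nat_lit 1)), ((nat_lit 150), (nat_lit 1)), ((nat_lit 152), (nat_lit 1))]⟩,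
  ⟨false, (nat_lit 0), [nat_lit 9], [nat_lit 3, nat_lit 3], [((nat_lit 133), (nat_lit 2)), ((nat_lit 134), (nat_lit 3)), ((nat_lit 136), (nat_lit 3)), ((nat_lit 151), (nat_lit 1)), ((nat_lit 157), (nat_lit 1)), ((nat_lit 165), (nat_lit 1))]⟩,
  ⟨false, (nat_lit 0), [nat_lit 1], [nat_lit 1, nat_lit 0], [((nat_lit 34), (nat_lit 2)), ((nat_lit 71), (nat_lit 3)), ((nat_lit 74), (nat_lit 3)), ((nat_lit 146), (nat_lit 3)), ((nat_lit 152), (nat_lit 3)), ((nat_lit 154), (nat_lit 1)), ((nat_lit 158), (nat_lit 2)), ((nat_lit 164), (nat_lit 3))]⟩,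
  ⟨false, (nat_lit 0), [nat_lit 6], [nat_lit 6, nat_lit 0], [((nat_lit 94), (nat_lit 2)), ((nat_lit 124), (nat_lit 3)), ((nat_lit 126), (nat_lit 3)), ((nat_lit 142), (nat_lit 1)), ((nat_lit 150), (nat_lit 2)), ((nat_lit 160), (nat_lit 3)), ((nat_lit 162), (nat_lit 3)), ((nat_lit 165), (nat_lit 3))]⟩,
  ⟨false, (nat_lit 0), [nat_lit 5], [nat_lit 4, nat_lit 3], [((nat_lit 123), (nat_lit 1)), ((nat_lit 134), (nat_lit 3)), ((nat_lit 138), (nat_lit 3))]⟩,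
  ⟨false, (nat_lit 0), [nat_lit 7], [nat_lit 4, nat_lit 3], [((nat_lit 125), (nat_lit 1)), ((nat_lit 157), (nat_lit 1)), ((nat_lit 162), (nat_lit 3))]⟩,
  ⟨false, (nat_lit 0), [nat_lit 9], [nat_lit 4, nat_lit 3], [((nat_lit 138), (nat_lit 3)), ((nat_lit 158), (nat_lit 3)), ((nat_lit 162), (nat_lit 3))]⟩,
  ⟨false, (nat_lit 0), [nat_lit 7], [nat_lit 7, nat_lit 5], [((nat_lit 111), (nat_lit 2)), ((nat_lit 147), (nat_lit 1)), ((nat_lit 149), (nat_lit 3)), ((nat_lit 152), (nat_lit 3)), ((nat_lit 159), (nat_lit 1)), ((nat_lit 161), (nat_lit 3)), ((nat_lit 164), (nat_lit 3)), ((nat_lit 165), (nat_lit 3))]⟩,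
  ⟨false, (nat_lit 0), [nat_lit 8], [nat_lit 1, nat_lit 0], [((nat_lit 122), (nat_lit 3)), ((nat_lit 142), (nat_lit 1)), ((nat_lit 143), (nat_lit 3))]⟩,
  ⟨false, (nat_lit 0), [nat_lit 9], [nat_lit 1, nat_lit 0], [((nat_lit 134), (nat_lit 3)), ((nat_lit 154), (nat_lit 1)), ((nat_lit 155), (nat_lit 3))]⟩,
  ⟨false, (nat_lit 0), [nat_lit 2], [nat_lit 2, nat_lit 0], [((nat_lit 46), (nat_lit 2)), ((nat_lit 84), (nat_lit 3)), ((nat_lit 87), (nat_lit 3)), ((nat_lit 147), (nat_lit 3)), ((nat_lit 152), (nat_lit 3)), ((nat_lit 154), (nat_lit 1)), ((nat_lit 159), (nat_lit 3)), ((nat_lit 164), (nat_lit 2)), ((nat_lit 165), (nat_lit 3))]⟩,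
  ⟨false, (nat_lit 0), [nat_lit 5], [nat_lit 5, nat_lit 3], [((nat_lit 85), (nat_lit 2)), ((nat_lit 135), (nat_lit 3)), ((nat_lit 139), (nat_lit 3)), ((nat_lit 145), (nat_lit 1)), ((nat_lit 151), (nat_lit 2)), ((nat_lit 157), (nat_lit 1)), ((nat_lit 163), (nat_lit 2))]⟩,
  ⟨false, (nat_lit 0), [nat_lit 6], [nat_lit 3, nat_lit 3], [((nat_lit 97), (nat_lit 2)), ((nat_lit 98), (nat_lit 3)), ((nat_lit 121), (nat_lit 1)), ((nat_lit 126), (nat_lit 1))]⟩,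
  ⟨false, (nat_lit 0), [nat_lit 6], [nat_lit 3, nat_lit 2], [((nat_lit 112), (nat_lit 1)), ((nat_lit 120), (nat_lit 1)), ((nat_lit 125), (nat_lit 3)), ((nat_lit 162), (nat_lit 1)), ((nat_lit 165), (nat_lit 1))]⟩,
  ⟨false, (nat_lit 0), [nat_lit 7], [nat_lit 5, nat_lit 3], [((nat_lit 137), (nat_lit 1)), ((nat_lit 145), (nat_lit 1)), ((nat_lit 151), (nat_lit 3)), ((nat_lit 157), (nat_lit 1)), ((nat_lit 163), (nat_lit 3))]⟩,
  ⟨false, (nat_lit 0), [nat_lit 6], [nat_lit 2, nat_lit 0], [((nat_lit 99), (nat_lit 3)), ((nat_lit 120), (nat_lit 3)), ((nat_lit 123), (nat_lit 3)), ((nat_lit 156), (nat_lit 3)), ((nat_lit 162), (nat_lit 3)), ((nat_lit 165), (nat_lit 3))]⟩,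
  ⟨false, (nat_lit 0), [nat_lit 7], [nat_lit 7, nat_lit 0], [((nat_lit 106), (nat_lit 2)), ((nat_lit 137), (nat_lit 3)), ((nat_lit 139), (nat_lit 3)), ((nat_lit 142), (nat_lit 1)), ((nat_lit 149), (nat_lit 3)), ((nat_lit 151), (nat_lit 3)), ((nat_lit 152), (nat_lit 3)), ((nat_lit 154), (nat_lit 1)), ((nat_lit 161), (nat_lit 3)), ((nat_lit 163), (nat_lit 3)), ((nat_lit 164), (nat_lit 3)), ((nat_lit 165), (nat_lit 3))]⟩,
  ⟨false, (nat_lit 0), [nat_lit 0], [nat_lit 0, nat_lit 0], [((nat_lit 70), (nat_lit 1)), ((nat_lit 118), (nat_lit 1)), ((nat_lit 130), (nat_lit 1)), ((nat_lit 142), (nat_lit 1)), ((nat_lit 150), (nat_lit 1)), ((nat_lit 152), (nat_lit 1)), ((nat_lit 154), (nat_lit 1)), ((nat_lit 162), (nat_lit 1)), ((nat_lit 163), (nat_lit 1)), ((nat_lit 164), (nat_lit 1)), ((nat_lit 165), (nat_lit 1))]⟩,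
  ⟨false, (nat_lit 0), [nat_lit 5], [nat_lit 1, nat_lit 0], [((nat_lit 86), (nat_lit 3)), ((nat_lit 142), (nat_lit 1)), ((nat_lit 143), (nat_lit 3)), ((nat_lit 154), (nat_lit 1)), ((nat_lit 158), (nat_lit 3)), ((nat_lit 164), (nat_lit 3))]⟩,
  ⟨false, (nat_lit 0), [nat_lit 9], [nat_lit 2, nat_lit 0], [((nat_lit 135), (nat_lit 3)), ((nat_lit 142), (nat_lit 1)), ((nat_lit 147), (nat_lit 3)), ((nat_lit 154), (nat_lit 1)), ((nat_lit 156), (nat_lit 3)), ((nat_lit 164), (nat_lit 1))]⟩,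
  ⟨false, (nat_lit 0), [nat_lit 5], [nat_lit 3, nat_lit 3], [((nat_lit 85), (nat_lit 2)), ((nat_lit 86), (nat_lit 3)), ((nat_lit 99), (nat_lit 1)), ((nat_lit 133), (nat_lit 1)), ((nat_lit 139), (nat_lit 1)), ((nat_lit 147), (nat_lit 1)), ((nat_lit 151), (nat_lit 2)), ((nat_lit 163), (nat_lit 2)), ((nat_lit 164), (nat_lit 1)), ((nat_lit 165), (nat_lit 1))]⟩,
  ⟨false, (nat_lit 0), [nat_lit 6], [nat_lit 1, nat_lit 0], [((nat_lit 98), (nat_lit 3)), ((nat_lit 119), (nat_lit 3)), ((nat_lit 122), (nat_lit 3)), ((nat_lit 146), (nat_lit 3)), ((nat_lit 150), (nat_lit 3)), ((nat_lit 152), (nat_lit 3)), ((nat_lit 155), (nat_lit 3)), ((nat_lit 158), (nat_lit 3))]⟩,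
  ⟨false, (nat_lit 0), [nat_lit 3], [nat_lit 1, nat_lit 1], [((nat_lit 59), (nat_lit 2)), ((nat_lit 71), (nat_lit 1)), ((nat_lit 74), (nat_lit 1)), ((nat_lit 95), (nat_lit 1)), ((nat_lit 98), (nat_lit 1)), ((nat_lit 100), (nat_lit 1)), ((nat_lit 148), (nat_lit 2)), ((nat_lit 152), (nat_lit 2)), ((nat_lit 155), (nat_lit 1)), ((nat_lit 157), (nat_lit 1)), ((nat_lit 158), (nat_lit 1)), ((nat_lit 160), (nat_lit 1)), ((nat_lit 165), (nat_lit 1))]⟩,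
  ⟨false, (nat_lit 0), [nat_lit 7], [nat_lit 3, nat_lit 2], [((nat_lit 145), (nat_lit 3)), ((nat_lit 149), (nat_lit 3)), ((nat_lit 157), (nat_lit 3)), ((nat_lit 161), (nat_lit 3))]⟩,
  ⟨false, (nat_lit 0), [nat_lit 5], [nat_lit 3, nat_lit 0], [((nat_lit 99), (nat_lit 1)), ((nat_lit 130), (nat_lit 1)), ((nat_lit 136), (nat_lit 3)), ((nat_lit 145), (nat_lit 3)), ((nat_lit 148), (nat_lit 3)), ((nat_lit 151), (nat_lit 1)), ((nat_lit 163), (nat_lit 1)), ((nat_lit 164), (nat_lit 1)), ((nat_lit 165), (nat_lit 1))]⟩,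
  ⟨false, (nat_lit 0), [nat_lit 3], [nat_lit 3, nat_lit 2], [((nat_lit 60), (nat_lit 2)), ((nat_lit 72), (nat_lit 1)), ((nat_lit 96), (nat_lit 1)), ((nat_lit 109), (nat_lit 3)), ((nat_lit 113), (nat_lit 3)), ((nat_lit 144), (nat_lit 1)), ((nat_lit 148), (nat_lit 1)), ((nat_lit 149), (nat_lit 2)), ((nat_lit 160), (nat_lit 1))]⟩,
  ⟨false, (nat_lit 0), [nat_lit 5], [nat_lit 2, nat_lit 0], [((nat_lit 142), (nat_lit 1)), ((nat_lit 144), (nat_lit 3)), ((nat_lit 154), (nat_lit 1)), ((nat_lit 159), (nat_lit 3)), ((nat_lit 164), (nat_lit 1))]⟩,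
  ⟨false, (nat_lit 0), [nat_lit 3], [nat_lit 3, nat_lit 0], [((nat_lit 58), (nat_lit 2)), ((nat_lit 70), (nat_lit 1)), ((nat_lit 94), (nat_lit 1)), ((nat_lit 97), (nat_lit 3)), ((nat_lit 100), (nat_lit 3)), ((nat_lit 124), (nat_lit 3)), ((nat_lit 142), (nat_lit 1)), ((nat_lit 150), (nat_lit 1)), ((nat_lit 160), (nat_lit 1)), ((nat_lit 162), (nat_lit 1)), ((nat_lit 165), (nat_lit 1))]⟩,
  ⟨false, (nat_lit 0), [nat_lit 2], [nat_lit 1, nat_lit 0], [((nat_lit 72), (nat_lit 1)), ((nat_lit 83), (nat_lit 3)), ((nat_lit 86), (nat_lit 3)), ((nat_lit 142), (nat_lit 1)), ((nat_lit 158), (nat_lit 3)), ((nat_lit 159), (nat_lit 1)), ((nat_lit 164), (nat_lit 1))]⟩,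
  ⟨false, (nat_lit 0), [nat_lit 4], [nat_lit 3, nat_lit 0], [((nat_lit 98), (nat_lit 1)), ((nat_lit 118), (nat_lit 1)), ((nat_lit 124), (nat_lit 3)), ((nat_lit 145), (nat_lit 3)), ((nat_lit 148), (nat_lit 3)), ((nat_lit 152), (nat_lit 1)), ((nat_lit 157), (nat_lit 3)), ((nat_lit 160), (nat_lit 3)), ((nat_lit 162), (nat_lit 1)), ((nat_lit 164), (nat_lit 1))]⟩,
  ⟨false, (nat_lit 0), [nat_lit 5], [nat_lit 3, nat_lit 2], [((nat_lit 111), (nat_lit 1)), ((nat_lit 132), (nat_lit 1)), ((nat_lit 137), (nat_lit 3)), ((nat_lit 145), (nat_lit 3)), ((nat_lit 149), (nat_lit 3)), ((nat_lit 152), (nat_lit 1)), ((nat_lit 157), (nat_lit 3)), ((nat_lit 161), (nat_lit 3)), ((nat_lit 164), (nat_lit 1)), ((nat_lit 165), (nat_lit 1))]⟩,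
  ⟨false, (nat_lit 0), [nat_lit 3], [nat_lit 2, nat_lit 0], [((nat_lit 85), (nat_lit 1)), ((nat_lit 96), (nat_lit 3)), ((nat_lit 99), (nat_lit 3)), ((nat_lit 106), (nat_lit 1)), ((nat_lit 111), (nat_lit 3)), ((nat_lit 112), (nat_lit 3)), ((nat_lit 136), (nat_lit 1)), ((nat_lit 137), (nat_lit 1)), ((nat_lit 139), (nat_lit 1)), ((nat_lit 159), (nat_lit 3)), ((nat_lit 161), (nat_lit 3)), ((nat_lit 164), (nat_lit 3)), ((nat_lit 165), (nat_lit 3))]⟩,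
  ⟨false, (nat_lit 0), [nat_lit 7], [nat_lit 1, nat_lit 0], [((nat_lit 110), (nat_lit 3)), ((nat_lit 131), (nat_lit 3)), ((nat_lit 134), (nat_lit 3)), ((nat_lit 142), (nat_lit 1)), ((nat_lit 143), (nat_lit 3)), ((nat_lit 151), (nat_lit 3)), ((nat_lit 154), (nat_lit 1)), ((nat_lit 155), (nat_lit 3)), ((nat_lit 158), (nat_lit 3)), ((nat_lit 163), (nat_lit 2)), ((nat_lit 164), (nat_lit 1)), ((nat_lit 165), (nat_lit 3))]⟩,
  ⟨false, (nat_lit 0), [nat_lit 3], [nat_lit 2, nat_lit 1], [((nat_lit 72), (nat_lit 3)), ((nat_lit 96), (nat_lit 3)), ((nat_lit 107), (nat_lit 1)), ((nat_lit 110), (nat_lit 3)), ((nat_lit 112), (nat_lit 3)), ((nat_lit 145), (nat_lit 1)), ((nat_lit 146), (nat_lit 1)), ((nat_lit 149), (nat_lit 1)), ((nat_lit 156), (nat_lit 3)), ((nat_lit 161), (nat_lit 1)), ((nat_lit 164), (nat_lit 3)), ((nat_lit 165), (nat_lit 3))]⟩,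
  ⟨false, (nat_lit 0), [nat_lit 3], [nat_lit 1, nat_lit 0], [((nat_lit 70), (nat_lit 1)), ((nat_lit 73), (nat_lit 1)), ((nat_lit 94), (nat_lit 1)), ((nat_lit 95), (nat_lit 3)), ((nat_lit 98), (nat_lit 1)), ((nat_lit 122), (nat_lit 1)), ((nat_lit 124), (nat_lit 2)), ((nat_lit 126), (nat_lit 1)), ((nat_lit 146), (nat_lit 3)), ((nat_lit 148), (nat_lit 2)), ((nat_lit 150), (nat_lit 1)), ((nat_lit 152), (nat_lit 1)), ((nat_lit 154), (nat_lit 1)), ((nat_lit 158), (nat_lit 3)), ((nat_lit 162), (nat_lit 1)), ((nat_lit 165), (nat_lit 1))]⟩,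
  ⟨false, (nat_lit 0), [nat_lit 2], [nat_lit 0, nat_lit 0], [((nat_lit 46), (nat_lit 2)), ((nat_lit 72), (nat_lit 1)), ((nat_lit 82), (nat_lit 1)), ((nat_lit 87), (nat_lit 1)), ((nat_lit 120), (nat_lit 1)), ((nat_lit 123), (nat_lit 2)), ((nat_lit 132), (nat_lit 1)), ((nat_lit 135), (nat_lit 2)), ((nat_lit 144), (nat_lit 1)), ((nat_lit 147), (nat_lit 2)), ((nat_lit 150), (nat_lit 2)), ((nat_lit 151), (nat_lit 2)), ((nat_lit 152), (nat_lit 2)), ((nat_lit 156), (nat_lit 1)), ((nat_lit 162), (nat_lit 2)), ((nat_lit 163), (nat_lit 1)), ((nat_lit 164), (nat_lit 3)), ((nat_lit 165), (nat_lit 2))]⟩,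
  ⟨true, (nat_lit 2), [nat_lit 0, nat_lit 1], [nat_lit 1, nat_lit 0, nat_lit 2], [((nat_lit 2), (nat_lit 1)), ((nat_lit 163), (nat_lit 1))]⟩,
  ⟨true, (nat_lit 2), [nat_lit 3, nat_lit 1], [nat_lit 1, nat_lit 3, nat_lit 4], [((nat_lit 4), (nat_lit 1)), ((nat_lit 162), (nat_lit 1)), ((nat_lit 164), (nat_lit 1))]⟩,
  ⟨true, (nat_lit 1), [nat_lit 5, nat_lit 6], [nat_lit 6, nat_lit 5, nat_lit 7], [((nat_lit 7), (nat_lit 1)), ((nat_lit 95), (nat_lit 3)), ((nat_lit 148), (nat_lit 3)), ((nat_lit 158), (nat_lit 1)), ((nat_lit 160), (nat_lit 1)), ((nat_lit 164), (nat_lit 1))]⟩,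
  ⟨true, (nat_lit 1), [nat_lit 8, nat_lit 6], [nat_lit 6, nat_lit 8, nat_lit 7], [((nat_lit 7), (nat_lit 1)), ((nat_lit 143), (nat_lit 3)), ((nat_lit 155), (nat_lit 3)), ((nat_lit 162), (nat_lit 1)), ((nat_lit 164), (nat_lit 1))]⟩,
  ⟨true, (nat_lit 2), [nat_lit 9, nat_lit 1], [nat_lit 1, nat_lit 9], [((nat_lit 71), (nat_lit 3)), ((nat_lit 119), (nat_lit 3)), ((nat_lit 148), (nat_lit 3)), ((nat_lit 150), (nat_lit 3)), ((nat_lit 152), (nat_lit 3)), ((nat_lit 158), (nat_lit 1)), ((nat_lit 160), (nat_lit 1)), ((nat_lit 162), (nat_lit 1))]⟩,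
  ⟨true, (nat_lit 2), [nat_lit 10, nat_lit 1], [nat_lit 1, nat_lit 10, nat_lit 4, nat_lit 2], [((nat_lit 4), (nat_lit 1)), ((nat_lit 2), (nat_lit 1)), ((nat_lit 83), (nat_lit 3)), ((nat_lit 107), (nat_lit 1)), ((nat_lit 143), (nat_lit 3)), ((nat_lit 159), (nat_lit 1)), ((nat_lit 164), (nat_lit 1))]⟩,
  ⟨true, (nat_lit 2), [nat_lit 10, nat_lit 11], [nat_lit 11, nat_lit 10], [((nat_lit 82), (nat_lit 3)), ((nat_lit 86), (nat_lit 3)), ((nat_lit 99), (nat_lit 1)), ((nat_lit 109), (nat_lit 1)), ((nat_lit 111), (nat_lit 1)), ((nat_lit 123), (nat_lit 1)), ((nat_lit 142), (nat_lit 3)), ((nat_lit 150), (nat_lit 1)), ((nat_lit 161), (nat_lit 1)), ((nat_lit 164), (nat_lit 1)), ((nat_lit 165), (nat_lit 1))]⟩,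
  ⟨true, (nat_lit 0), [nat_lit 12, nat_lit 13], [nat_lit 13, nat_lit 12, nat_lit 14, nat_lit 15], [((nat_lit 14), (nat_lit 1)), ((nat_lit 15), (nat_lit 1)), ((nat_lit 119), (nat_lit 3)), ((nat_lit 122), (nat_lit 3)), ((nat_lit 123), (nat_lit 3)), ((nat_lit 132), (nat_lit 1)), ((nat_lit 146), (nat_lit 3)), ((nat_lit 147), (nat_lit 3)), ((nat_lit 150), (nat_lit 3)), ((nat_lit 155), (nat_lit 3)), ((nat_lit 158), (nat_lit 3)), ((nat_lit 159), (nat_lit 3)), ((nat_lit 162), (nat_lit 3)), ((nat_lit 165), (nat_lit 1))]⟩,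
  ⟨true, (nat_lit 4), [nat_lit 16, nat_lit 17], [nat_lit 17, nat_lit 16], [((nat_lit 107), (nat_lit 1)), ((nat_lit 119), (nat_lit 2)), ((nat_lit 121), (nat_lit 1)), ((nat_lit 123), (nat_lit 1)), ((nat_lit 131), (nat_lit 1)), ((nat_lit 137), (nat_lit 3)), ((nat_lit 138), (nat_lit 3)), ((nat_lit 145), (nat_lit 1)), ((nat_lit 150), (nat_lit 1)), ((nat_lit 152), (nat_lit 2)), ((nat_lit 162), (nat_lit 1)), ((nat_lit 163), (nat_lit 1)), ((nat_lit 164), (nat_lit 1)), ((nat_lit 165), (nat_lit 1))]⟩,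
  ⟨true, (nat_lit 0), [nat_lit 18, nat_lit 13], [nat_lit 13, nat_lit 18, nat_lit 14, nat_lit 15], [((nat_lit 14), (nat_lit 1)), ((nat_lit 15), (nat_lit 1)), ((nat_lit 95), (nat_lit 3)), ((nat_lit 98), (nat_lit 3)), ((nat_lit 99), (nat_lit 3)), ((nat_lit 108), (nat_lit 1)), ((nat_lit 124), (nat_lit 1)), ((nat_lit 131), (nat_lit 3)), ((nat_lit 134), (nat_lit 3)), ((nat_lit 135), (nat_lit 3)), ((nat_lit 138), (nat_lit 3)), ((nat_lit 147), (nat_lit 3)), ((nat_lit 150), (nat_lit 3)), ((nat_lit 151), (nat_lit 3)), ((nat_lit 158), (nat_lit 3)), ((nat_lit 159), (nat_lit 3)), ((nat_lit 163), (nat_lit 3))]⟩,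
  ⟨true, (nat_lit 4), [nat_lit 19, nat_lit 17], [nat_lit 17, nat_lit 19], [((nat_lit 47), (nat_lit 1)), ((nat_lit 118), (nat_lit 1)), ((nat_lit 121), (nat_lit 1)), ((nat_lit 122), (nat_lit 1)), ((nat_lit 123), (nat_lit 1)), ((nat_lit 124), (nat_lit 1)), ((nat_lit 125), (nat_lit 1)), ((nat_lit 131), (nat_lit 1)), ((nat_lit 132), (nat_lit 3)), ((nat_lit 138), (nat_lit 3)), ((nat_lit 145), (nat_lit 1)), ((nat_lit 150), (nat_lit 3)), ((nat_lit 151), (nat_lit 1)), ((nat_lit 152), (nat_lit 1))]⟩,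
  ⟨true, (nat_lit 3), [nat_lit 20, nat_lit 21], [nat_lit 21, nat_lit 20], [((nat_lit 34), (nat_lit 3)), ((nat_lit 58), (nat_lit 3)), ((nat_lit 59), (nat_lit 3)), ((nat_lit 74), (nat_lit 3)), ((nat_lit 86), (nat_lit 1)), ((nat_lit 94), (nat_lit 3)), ((nat_lit 95), (nat_lit 1)), ((nat_lit 97), (nat_lit 1)), ((nat_lit 98), (nat_lit 2)), ((nat_lit 100), (nat_lit 3)), ((nat_lit 119), (nat_lit 1)), ((nat_lit 121), (nat_lit 1)), ((nat_lit 131), (nat_lit 1)), ((nat_lit 133), (nat_lit 1)), ((nat_lit 136), (nat_lit 1)), ((nat_lit 145), (nat_lit 1)), ((nat_lit 148), (nat_lit 3)), ((nat_lit 151), (nat_lit 2)), ((nat_lit 152), (nat_lit 3)), ((nat_lit 154), (nat_lit 3)), ((nat_lit 157), (nat_lit 3)), ((nat_lit 160), (nat_lit 1)), ((nat_lit 162), (nat_lit 1)), ((nat_lit 163), (nat_lit 1)), ((nat_lit 164), (nat_lit 3))]⟩]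
noncomputable def Ds2 : List (List (ℕ × ℕ)) := I2_0.map Pc.Idn.D
noncomputable def S2 : List (List (ℕ × ℕ)) := [[],
  [],
  [],
  [],
  [((nat_lit 34), (nat_lit 1))],
  [((nat_lit 46), (nat_lit 1))],
  [((nat_lit 58), (nat_lit 1))],
  [((nat_lit 60), (nat_lit 1))],
  [((nat_lit 73), (nat_lit 1))],
  [((nat_lit 85), (nat_lit 1))],
  [((nat_lit 118), (nat_lit 1))],
  [((nat_lit 120), (nat_lit 1))]]
noncomputable def Yo2 : List (List (ℕ × ℕ) × ℕ × ℕ) := [([((nat_lit 34), (nat_lit 1)), ((nat_lit 47), (nat_lit 3)), ((nat_lit 58), (nat_lit 1)), ((nat_lit 59), (nat_lit 3)), ((nat_lit 70), (nat_lit 1))], (nat_lit 2), nat_lit 0xc001014020000c0040208291e32024509f0b70884402)]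
noncomputable def La2 : List ℕ := [nat_lit 0,
  nat_lit 0,
  nat_lit 0,
  nat_lit 0,
  nat_lit 0,
  nat_lit 0,
  nat_lit 0,
  nat_lit 0,
  nat_lit 0,
  nat_lit 0,
  nat_lit 0,
  nat_lit 0,
  nat_lit 0,
  nat_lit 0,
  nat_lit 0,
  nat_lit 0,
  nat_lit 0,
  nat_lit 0,
  nat_lit 0,
  nat_lit 0,
  nat_lit 0,
  nat_lit 0,
  nat_lit 0,
  nat_lit 0,
  nat_lit 0,
  nat_lit 0x600bda09a6d2090b7d0d977c422a5ac7b2d5ea18fa8e4725d93,
  nat_lit 0,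
  nat_lit 0,
  nat_lit 0,
  nat_lit 0,
  nat_lit 0,
  nat_lit 0,
  nat_lit 0,
  nat_lit 0,
  nat_lit 0,
  nat_lit 0,
  nat_lit 0,
  nat_lit 0x40297a0b86d3030db70784f0c42a58e55829fb0ad0d0237fb82,
  nat_lit 0,
  nat_lit 0,
  nat_lit 0,
  nat_lit 0,
  nat_lit 0,
  nat_lit 0,
  nat_lit 0,
  nat_lit 0,
  nat_lit 0,
  nat_lit 0,
  nat_lit 0xa020000028a10804e0001b2c0600a2a8cafe91128a5e6650412,
  nat_lit 0xaa83a0080428ae2022880a4ba2034282b85eaa400560aba6cc6,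
  nat_lit 0xa10c05830d9002981faa252b4cdb188b4efcbc75539ad871ed6,
  nat_lit 0,
  nat_lit 0xaa83a008043aae2822820a73a20242963e72cc6d440e9304fce,
  nat_lit 0,
  nat_lit 0,
  nat_lit 0,
  nat_lit 0,
  nat_lit 0,
  nat_lit 0,
  nat_lit 0,
  nat_lit 0xaf52d0049cb60e131943b3aa56aabaa3635ae6be86fd4a782de,
  nat_lit 0xabaea58b2eba02823d2007a1e0ceb8b5629090f29056427bafa,
  nat_lit 0xfc57af4d937607c9ce1c8255905a405eb5e07bf8bfafbf668f5,
  nat_lit 0,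
  nat_lit 0xaa2a0082028003222802282a400a00eaa8489a840aaa2a8f20,
  nat_lit 0x5e5f05cf91f40d61e4a4827514f960c4bd0438d0d4ef9fe655f,
  nat_lit 0,
  nat_lit 0,
  nat_lit 0,
  nat_lit 0,
  nat_lit 0,
  nat_lit 0,
  nat_lit 0x8aa2700a2cf95826e88819bf2c0034a46401fb4f68f8f4fa558,
  nat_lit 0x700000000000800822000802003006c8091081cab0c292c,
  nat_lit 0x8ae05062b00003a8088028145977b17a4e4c1f4e138b32a704,
  nat_lit 0x6c000000080000000300440,
  nat_lit 0xaa8200080c8a0a28a28b28a0aa035a8a28500a1a894823ca6a2,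
  nat_lit 0xaa20008202a000a628e338aac01a02a2aaca788c04e6a89634,
  nat_lit 0x2a82700a041a502a888b209b2202820c267f4e4d61ce3a0a9aa,
  nat_lit 0,
  nat_lit 0,
  nat_lit 0,
  nat_lit 0,
  nat_lit 0,
  nat_lit 0xf8af7504537009308685eb514d973b733fc138e48ac15046d41,
  nat_lit 0xaba2008b2eb802a2bd2025a9e8ceb89d62b05bc290aeca79ad2,
  nat_lit 0x54c300830ad205800e660a7744ede0d73efce25d9fd29d04edb,
  nat_lit 0x57e1a0042ce605023bc405f6d523fbe152d2b6950d9acd3f483,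
  nat_lit 0x2000008000820840a2683c00278092e9405408bce930ab20,
  nat_lit 0xfaa9da02925a032bc087b6d4ae28e24e18acd530a1e4ad4d6d5,
  nat_lit 0xaa80000800880220a6822c2baa00da8a86342f6a81ee3920322,
  nat_lit 0x56c100890afa0da0a46e22f476653af79a4a491db69aac2c75b,
  nat_lit 0,
  nat_lit 0,
  nat_lit 0,
  nat_lit 0,
  nat_lit 0,
  nat_lit 0xaa8200080c880e00a28028a8a2005a82a678253a442e3b68eae,
  nat_lit 0,
  nat_lit 0xaa80a00804880220a382282baa001aaa86942b5a42e238e05ea,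
  nat_lit 0x2000800090008000100008ee02d2043e618a2208,
  nat_lit 0xaa0a008282a080aa2861108a401200a0280ab384882c80318c,
  nat_lit 0x20008000900080001f8008ee02d2043e619a2e88,
  nat_lit 0xaa80000800880220a2822c2baa00da8a86342f5a81ee3920322,
  nat_lit 0x2a00008020808000900890003c820a6cc23c04baa392a948,
  nat_lit 0,
  nat_lit 0,
  nat_lit 0,
  nat_lit 0xaa80a008008b000242801b24aa0282a2807e062ac05c4e6169a,
  nat_lit 0x2a00108000828840c2683c0017829ae143940bb3a93a8820,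
  nat_lit 0x5aab7a0282f80129d087bc74ae2862c6300d4310e1f00f45657,
  nat_lit 0x28aa088202013bd80699028c2ba006889ba4aa0264e221b14,
  nat_lit 0xaa00008282a080a22862208a401202a04c8a2284988b882aa4,
  nat_lit 0xaaaaaa008a880a03ba4082a226280280a62ba2804ba2b0aa20a,
  nat_lit 0xa020000028a20808200428270e01faa8825eb54248ee0da0ba6,
  nat_lit 0xaa82a008088a0a2032880aa0a202a2aaaeb83b0a09b2922a20a,
  nat_lit 0xa00000000000800012000000002006480b30010ab083928,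
  nat_lit 0x28aa0882000001b808880a842aa0020699a8aac1a23a80a08,
  nat_lit 0,
  nat_lit 0,
  nat_lit 0xa00000020008000a00080001002086602f0041a63822000,
  nat_lit 0xa0000000000000000000000000200880022002c02080208,
  nat_lit 0x80a0802000020000000028a2aa22a088882a982202200a08,
  nat_lit 0x2a00008000800000200830000782020a40c608ac40388900,
  nat_lit 0x100,
  nat_lit 0x2000000000080000080008030080000000a00,
  nat_lit 0x40000,
  nat_lit 0xa0000000000088082a028802a02207e001808181b282b20,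
  nat_lit 0x200000002000008800e0082882000000,
  nat_lit 0x80000080200000880100082002000008,
  nat_lit 0x20000000200000880060082842000000,
  nat_lit 0,
  nat_lit 0xaa00008282a080a228a2208a401202a04c8a2284988b882aa8,
  nat_lit 4,
  nat_lit 0x10,
  nat_lit 0xaa80a00800880200228a0a29aa027aa2801c2cca806c8ba2302,
  nat_lit 0x2000000000080000080048020080000000900,
  nat_lit 0x2000000000080000080008410080000000a00,
  nat_lit 0xa0000000000000000000000000200880022003802080208,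
  nat_lit 0xa0000000000088082a028802a0220d61038083839282920,
  nat_lit 0xa00000000020800822000002002806000b10010ab082220,
  nat_lit 0xa00000020020000800080002002806a8032081923800a00,
  nat_lit 0x40800000000,
  nat_lit 0xa0000000002080082200000200280e000920030a9082220]
noncomputable def Wsx2 : List (List ℕ) := [[nat_lit 9, nat_lit 10],
  [nat_lit 1, nat_lit 3, nat_lit 4, nat_lit 5, nat_lit 6, nat_lit 7, nat_lit 11],
  [nat_lit 9, nat_lit 11],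
  [nat_lit 7, nat_lit 8, nat_lit 11],
  [nat_lit 5, nat_lit 8],
  [nat_lit 0, nat_lit 3, nat_lit 11],
  [nat_lit 2, nat_lit 6, nat_lit 11],
  [nat_lit 0]]
noncomputable def LDx2_5d : ℕ := nat_lit 0
noncomputable def LDx2_5 (u : ℕ) : ℕ := Nat.land (Nat.shiftRight LDx2_5d (Nat.mul u (nat_lit 1))) (nat_lit 1)
noncomputable def Ptx2_5d : ℕ := nat_lit 0x2a0
noncomputable def Ptx2_5 (u : ℕ) : ℕ := Nat.land (Nat.shiftRight Ptx2_5d (Nat.mul u (nat_lit 5))) (nat_lit 31)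
noncomputable def Qx2_5d : ℕ := nat_lit 0x200000
noncomputable def Qx2_5 (u : ℕ) : ℕ := Nat.land (Nat.shiftRight Qx2_5d (Nat.mul u (nat_lit 1))) (nat_lit 1)
noncomputable def lx2_5 : Lev := ⟨2, 1, LDx2_5, Ptx2_5, Qx2_5⟩
noncomputable def LDx2_4d : ℕ := nat_lit 2
noncomputable def LDx2_4 (u : ℕ) : ℕ := Nat.land (Nat.shiftRight LDx2_4d (Nat.mul u (nat_lit 1))) (nat_lit 1)
noncomputable def Ptx2_4d : ℕ := nat_lit 0xf510
noncomputable def Ptx2_4 (u : ℕ) : ℕ := Nat.land (Nat.shiftRight Ptx2_4d (Nat.mul u (nat_lit 8))) (nat_lit 255)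
noncomputable def Qx2_4d : ℕ := nat_lit 0x20000000000000000000000000000000000000000000000000000000000000
noncomputable def Qx2_4 (u : ℕ) : ℕ := Nat.land (Nat.shiftRight Qx2_4d (Nat.mul u (nat_lit 1))) (nat_lit 1)
noncomputable def lx2_4 : Lev := ⟨2, 2, LDx2_4, Ptx2_4, Qx2_4⟩
noncomputable def LDx2_3d : ℕ := nat_lit 0xed0
noncomputable def LDx2_3 (u : ℕ) : ℕ := Nat.land (Nat.shiftRight LDx2_3d (Nat.mul u (nat_lit 3))) (nat_lit 7)
noncomputable def Ptx2_3d : ℕ := nat_lit 0x7184a0e0d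
noncomputable def Ptx2_3 (u : ℕ) : ℕ := Nat.land (Nat.shiftRight Ptx2_3d (Nat.mul u (nat_lit 9))) (nat_lit 511)
noncomputable def Qx2_3d : ℕ := nat_lit 0x400000000000000000c00000000000000000000000000000000000000000000000000000000000000000000000000000000000000000000000000000002000000000
noncomputable def Qx2_3 (u : ℕ) : ℕ := Nat.land (Nat.shiftRight Qx2_3d (Nat.mul u (nat_lit 2))) (nat_lit 3)
noncomputable def lx2_3 : Lev := ⟨4, 4, LDx2_3, Ptx2_3, Qx2_3⟩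
noncomputable def LDx2_2d : ℕ := nat_lit 0xb540
noncomputable def LDx2_2 (u : ℕ) : ℕ := Nat.land (Nat.shiftRight LDx2_2d (Nat.mul u (nat_lit 4))) (nat_lit 15)
noncomputable def Ptx2_2d : ℕ := nat_lit 0x513425e4b
noncomputable def Ptx2_2 (u : ℕ) : ℕ := Nat.land (Nat.shiftRight Ptx2_2d (Nat.mul u (nat_lit 9))) (nat_lit 511)
noncomputable def Qx2_2d : ℕ := nat_lit 0x40000000000000000000000000000000000000000000000200000000000000000000003000000000000000000000000000000000000000000000000000000000000000000000000000000000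
noncomputable def Qx2_2 (u : ℕ) : ℕ := Nat.land (Nat.shiftRight Qx2_2d (Nat.mul u (nat_lit 2))) (nat_lit 3)
noncomputable def lx2_2 : Lev := ⟨4, 6, LDx2_2, Ptx2_2, Qx2_2⟩
noncomputable def LDx2_1d : ℕ := nat_lit 0x30
noncomputable def LDx2_1 (u : ℕ) : ℕ := Nat.land (Nat.shiftRight LDx2_1d (Nat.mul u (nat_lit 3))) (nat_lit 7)
noncomputable def Ptx2_1d : ℕ := nat_lit 0xf878
noncomputable def Ptx2_1 (u : ℕ) : ℕ := Nat.land (Nat.shiftRight Ptx2_1d (Nat.mul u (nat_lit 8))) (nat_lit 255)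
noncomputable def Qx2_1d : ℕ := nat_lit 0x100000000000000000000000000000000000000000000000000000000000000
noncomputable def Qx2_1 (u : ℕ) : ℕ := Nat.land (Nat.shiftRight Qx2_1d (Nat.mul u (nat_lit 1))) (nat_lit 1)
noncomputable def lx2_1 : Lev := ⟨2, 7, LDx2_1, Ptx2_1, Qx2_1⟩
noncomputable def LDx2_0d : ℕ := nat_lit 0xb7afa19587857f79776f675f5d57513f372f2d29271f1d1715110f0d09080700
noncomputable def LDx2_0 (u : ℕ) : ℕ := Nat.land (Nat.shiftRight LDx2_0d (Nat.mul u (nat_lit 8))) (nat_lit 255)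
noncomputable def Ptx2_0d : ℕ := nat_lit 0x3c3e30c7a5e3409a50c4b4d015651254c44bb79e530e097ddaba9468ad94700b951dd804
noncomputable def Ptx2_0 (u : ℕ) : ℕ := Nat.land (Nat.shiftRight Ptx2_0d (Nat.mul u (nat_lit 9))) (nat_lit 511)
noncomputable def Qx2_0d : ℕ := nat_lit 0x2e0074000000000000000000280000c0078000000000000000000001200000005000000000000000000100000000000000000000000000000580000000000000000000000000000000000000000000000000000000004000000001e00000000000000100000000000000c000000000000000b00fa000000000000000000000001b0000001800000000000000000000002cc00000000000d00248000000000000000000000001500000071df000000000000000000000000004400000000000000000000180032080000000000000000000000000000000000000000000000000000000000000000000000000000000000000000000000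
noncomputable def Qx2_0 (u : ℕ) : ℕ := Nat.land (Nat.shiftRight Qx2_0d (Nat.mul u (nat_lit 5))) (nat_lit 31)
noncomputable def lx2_0 : Lev := ⟨32, 8, LDx2_0, Ptx2_0, Qx2_0⟩
noncomputable def Lx2 : List Lev := [lx2_0, lx2_1, lx2_2, lx2_3, lx2_4, lx2_5]
noncomputable def Bx2 : List ℕ := [nat_lit 4, nat_lit 120, nat_lit 75, nat_lit 13, nat_lit 16, nat_lit 0]

theorem id5_0 : c5.idnChk (nat_lit 16) I5_0 = true := by decide +kernel
theorem rw5_0 : c5.rowChk S5 (Yo5.map (·.1) ++ Ds5) La5 (nat_lit 0) (nat_lit 4) = true := by decide +kernel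
theorem ord5 : c5.ordChk Yo5 Ds5 = true := by decide +kernel
theorem rule5_0 : allZ (c5.ruleEnt (wdsP H16.G24.P Us5) H16.G24.B) (nat_lit 0) (nat_lit 4) = true := by decide +kernel
theorem fus5_0 : allZ (c5.fusEnt (wdsP H16.G24.P Us5) (wdsP H16.G24.P Fs5) H16.G24.B) (nat_lit 0) (nat_lit 2) = true := by decide +kernel
theorem lvx5_1e_0 : allZ (lx5_1.ent (wdsP (wdsP H16.G24.P Us5) Wsx5)) (nat_lit 0) (nat_lit 4) = true := by decide +kernel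
theorem lvx5_1b : 0 < lx5_1.n ∧ 0 < lx5_1.K ∧ lx5_1.Pt 0 < 416 ∧ lx5_1.Q (lx5_1.Pt 0) = 0 ∧ 0 ≤ lx5_1.K ∧ fixLetters (wdsP (wdsP H16.G24.P Us5) Wsx5) (nat_lit 0) (lx5_1.Pt 0) = true := by decide +kernel
theorem lvx5_0e_0 : allZ (lx5_0.ent (wdsP (wdsP H16.G24.P Us5) Wsx5)) (nat_lit 0) (nat_lit 4) = true := by decide +kernel
theorem lvx5_0b : 0 < lx5_0.n ∧ 0 < lx5_0.K ∧ lx5_0.Pt 0 < 416 ∧ lx5_0.Q (lx5_0.Pt 0) = 0 ∧ 1 ≤ lx5_0.K ∧ fixLetters (wdsP (wdsP H16.G24.P Us5) Wsx5) (nat_lit 1) (lx5_0.Pt 0) = true := by decide +kernel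
theorem basex5 : chainBase Lx5 = Bx5 ∧ ltAll (nat_lit 416) Bx5 = 0 ∧ topK Lx5 = 2 := by decide +kernel
theorem h0_5 : allL (ltAll 7) Us5 = true ∧ allL (ltAll 7) Fs5 = true ∧ Us5.length ≤ c5.n ∧ 0 < 251596800 := by decide +kernel
theorem h1_5 : allL (ltAll c5.n) Wsx5 = true ∧ chainCard Lx5 = (c5.p1 + 1) ^ c5.n ∧ c5.n * c5.n = 4 := by decide +kernel
theorem h2_5 : c5.Fmt ∧ c5.p1 + 1 = 5 ∧ c5.N1 + 1 = 5 ^ (0 + 1) ∧ 251596800 = 5 ^ c5.n * (251596800 / 5 ^ c5.n) ∧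
    Nat.Coprime (251596800 / 5 ^ c5.n) (c5.N1 + 1) ∧ (Yo5.map (·.2.1)).prod ≤ 5 ^ 0 ∧ c5.n * c5.n = 4 := by decide +kernel
theorem h3_5 : c5.C = 2 := by decide +kernel
theorem id3_0 : c3.idnChk (nat_lit 21) I3_0 = true := by decide +kernel
theorem rw3_0 : c3.rowChk S3 (Yo3.map (·.1) ++ Ds3) La3 (nat_lit 0) (nat_lit 9) = true := by decide +kernel
theorem ord3 : c3.ordChk Yo3 Ds3 = true := by decide +kernel
theorem rule3_0 : allZ (c3.ruleEnt (wdsP H16.G24.P Us3) H16.G24.B) (nat_lit 0) (nat_lit 9) = true := by decide +kernel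
theorem fus3_0 : allZ (c3.fusEnt (wdsP H16.G24.P Us3) (wdsP H16.G24.P Fs3) H16.G24.B) (nat_lit 0) (nat_lit 3) = true := by decide +kernel
theorem lvx3_1e_0 : allZ (lx3_1.ent (wdsP (wdsP H16.G24.P Us3) Wsx3)) (nat_lit 0) (nat_lit 2) = true := by decide +kernel
theorem lvx3_1b : 0 < lx3_1.n ∧ 0 < lx3_1.K ∧ lx3_1.Pt 0 < 416 ∧ lx3_1.Q (lx3_1.Pt 0) = 0 ∧ 0 ≤ lx3_1.K ∧ fixLetters (wdsP (wdsP H16.G24.P Us3) Wsx3) (nat_lit 0) (lx3_1.Pt 0) = true := by decide +kernel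
theorem lvx3_0e_0 : allZ (lx3_0.ent (wdsP (wdsP H16.G24.P Us3) Wsx3)) (nat_lit 0) (nat_lit 8) = true := by decide +kernel
theorem lvx3_0b : 0 < lx3_0.n ∧ 0 < lx3_0.K ∧ lx3_0.Pt 0 < 416 ∧ lx3_0.Q (lx3_0.Pt 0) = 0 ∧ 1 ≤ lx3_0.K ∧ fixLetters (wdsP (wdsP H16.G24.P Us3) Wsx3) (nat_lit 1) (lx3_0.Pt 0) = true := by decide +kernel
theorem basex3 : chainBase Lx3 = Bx3 ∧ ltAll (nat_lit 416) Bx3 = 0 ∧ topK Lx3 = 3 := by decide +kernel
theorem h0_3 : allL (ltAll 7) Us3 = true ∧ allL (ltAll 7) Fs3 = true ∧ Us3.length ≤ c3.n ∧ 0 < 251596800 := by decide +kernel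
theorem h1_3 : allL (ltAll c3.n) Wsx3 = true ∧ chainCard Lx3 = (c3.p1 + 1) ^ c3.n ∧ c3.n * c3.n = 9 := by decide +kernel
theorem h2_3 : c3.Fmt ∧ c3.p1 + 1 = 3 ∧ c3.N1 + 1 = 3 ^ (0 + 1) ∧ 251596800 = 3 ^ c3.n * (251596800 / 3 ^ c3.n) ∧
    Nat.Coprime (251596800 / 3 ^ c3.n) (c3.N1 + 1) ∧ (Yo3.map (·.2.1)).prod ≤ 3 ^ 0 ∧ c3.n * c3.n = 9 := by decide +kernel
theorem h3_3 : c3.C = 3 := by decide +kernel
theorem id2_0 : c2.idnChk (nat_lit 74) I2_0 = true := by decide +kernel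
theorem rw2_0 : c2.rowChk S2 (Yo2.map (·.1) ++ Ds2) La2 (nat_lit 0) (nat_lit 144) = true := by decide +kernel
theorem ord2 : c2.ordChk Yo2 Ds2 = true := by decide +kernel
theorem rule2_0 : allZ (c2.ruleEnt (wdsP H16.G24.P Us2) H16.G24.B) (nat_lit 0) (nat_lit 144) = true := by decide +kernel
theorem fus2_0 : allZ (c2.fusEnt (wdsP H16.G24.P Us2) (wdsP H16.G24.P Fs2) H16.G24.B) (nat_lit 0) (nat_lit 22) = true := by decide +kernel
theorem lvx2_5e_0 : allZ (lx2_5.ent (wdsP (wdsP H16.G24.P Us2) Wsx2)) (nat_lit 0) (nat_lit 1) = true := by decide +kernel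
theorem lvx2_5b : 0 < lx2_5.n ∧ 0 < lx2_5.K ∧ lx2_5.Pt 0 < 416 ∧ lx2_5.Q (lx2_5.Pt 0) = 0 ∧ 0 ≤ lx2_5.K ∧ fixLetters (wdsP (wdsP H16.G24.P Us2) Wsx2) (nat_lit 0) (lx2_5.Pt 0) = true := by decide +kernel
theorem lvx2_4e_0 : allZ (lx2_4.ent (wdsP (wdsP H16.G24.P Us2) Wsx2)) (nat_lit 0) (nat_lit 1) = true := by decide +kernel
theorem lvx2_4b : 0 < lx2_4.n ∧ 0 < lx2_4.K ∧ lx2_4.Pt 0 < 416 ∧ lx2_4.Q (lx2_4.Pt 0) = 0 ∧ 1 ≤ lx2_4.K ∧ fixLetters (wdsP (wdsP H16.G24.P Us2) Wsx2) (nat_lit 1) (lx2_4.Pt 0) = true := by decide +kernel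
theorem lvx2_3e_0 : allZ (lx2_3.ent (wdsP (wdsP H16.G24.P Us2) Wsx2)) (nat_lit 0) (nat_lit 3) = true := by decide +kernel
theorem lvx2_3b : 0 < lx2_3.n ∧ 0 < lx2_3.K ∧ lx2_3.Pt 0 < 416 ∧ lx2_3.Q (lx2_3.Pt 0) = 0 ∧ 2 ≤ lx2_3.K ∧ fixLetters (wdsP (wdsP H16.G24.P Us2) Wsx2) (nat_lit 2) (lx2_3.Pt 0) = true := by decide +kernel
theorem lvx2_2e_0 : allZ (lx2_2.ent (wdsP (wdsP H16.G24.P Us2) Wsx2)) (nat_lit 0) (nat_lit 3) = true := by decide +kernel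
theorem lvx2_2b : 0 < lx2_2.n ∧ 0 < lx2_2.K ∧ lx2_2.Pt 0 < 416 ∧ lx2_2.Q (lx2_2.Pt 0) = 0 ∧ 4 ≤ lx2_2.K ∧ fixLetters (wdsP (wdsP H16.G24.P Us2) Wsx2) (nat_lit 4) (lx2_2.Pt 0) = true := by decide +kernel
theorem lvx2_1e_0 : allZ (lx2_1.ent (wdsP (wdsP H16.G24.P Us2) Wsx2)) (nat_lit 0) (nat_lit 1) = true := by decide +kernel
theorem lvx2_1b : 0 < lx2_1.n ∧ 0 < lx2_1.K ∧ lx2_1.Pt 0 < 416 ∧ lx2_1.Q (lx2_1.Pt 0) = 0 ∧ 6 ≤ lx2_1.K ∧ fixLetters (wdsP (wdsP H16.G24.P Us2) Wsx2) (nat_lit 6) (lx2_1.Pt 0) = true := by decide +kernel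
theorem lvx2_0e_0 : allZ (lx2_0.ent (wdsP (wdsP H16.G24.P Us2) Wsx2)) (nat_lit 0) (nat_lit 31) = true := by decide +kernel
theorem lvx2_0b : 0 < lx2_0.n ∧ 0 < lx2_0.K ∧ lx2_0.Pt 0 < 416 ∧ lx2_0.Q (lx2_0.Pt 0) = 0 ∧ 7 ≤ lx2_0.K ∧ fixLetters (wdsP (wdsP H16.G24.P Us2) Wsx2) (nat_lit 7) (lx2_0.Pt 0) = true := by decide +kernel
theorem basex2 : chainBase Lx2 = Bx2 ∧ ltAll (nat_lit 416) Bx2 = 0 ∧ topK Lx2 = 8 := by decide +kernel
theorem h0_2 : allL (ltAll 7) Us2 = true ∧ allL (ltAll 7) Fs2 = true ∧ Us2.length ≤ c2.n ∧ 0 < 251596800 := by decide +kernel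
theorem h1_2 : allL (ltAll c2.n) Wsx2 = true ∧ chainCard Lx2 = (c2.p1 + 1) ^ c2.n ∧ c2.n * c2.n = 144 := by decide +kernel
theorem h2_2 : c2.Fmt ∧ c2.p1 + 1 = 2 ∧ c2.N1 + 1 = 2 ^ (1 + 1) ∧ 251596800 = 2 ^ c2.n * (251596800 / 2 ^ c2.n) ∧
    Nat.Coprime (251596800 / 2 ^ c2.n) (c2.N1 + 1) ∧ (Yo2.map (·.2.1)).prod ≤ 2 ^ 1 ∧ c2.n * c2.n = 144 := by decide +kernel
theorem h3_2 : c2.C = 22 := by decide +kernel

instance fin : Finite (gen H16.G24.g 7) := Nat.finite_of_card_ne_zero (by rw [H16.G24.card]; decide)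
theorem zero5 : ∀ D ∈ Ds5, c5.Zero D := (Pc.zero_of_chk id5_0)
theorem rows5 : ∀ r < 4, c5.Row S5 (Yo5.map (·.1)) r :=
  (Pc.rows_glue zero5 Pc.rows_zero rw5_0)
theorem rule5 : ∀ i < 4, (c5.ruleEnt (wdsP H16.G24.P Us5) H16.G24.B) i = 0 := allZ_sound0 rule5_0
theorem fus5 : ∀ i < 2, (c5.fusEnt (wdsP H16.G24.P Us5) (wdsP H16.G24.P Fs5) H16.G24.B) i = 0 := allZ_sound0 fus5_0
theorem lvx5_1e : ∀ i < 4, (lx5_1.ent (wdsP (wdsP H16.G24.P Us5) Wsx5)) i = 0 := allZ_sound0 lvx5_1e_0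
theorem lvx5_0e : ∀ i < 4, (lx5_0.ent (wdsP (wdsP H16.G24.P Us5) Wsx5)) i = 0 := allZ_sound0 lvx5_0e_0
theorem lowx5 : LowChain (wdsP (wdsP H16.G24.P Us5) Wsx5) 416 Lx5 :=
  ⟨⟨lvx5_0b.1, lvx5_0b.2.1, lvx5_0b.2.2.1, lvx5_0b.2.2.2.1, lvx5_0e⟩, lvx5_0b.2.2.2.2.1, lvx5_0b.2.2.2.2.2, ⟨⟨lvx5_1b.1, lvx5_1b.2.1, lvx5_1b.2.2.1, lvx5_1b.2.2.2.1, lvx5_1e⟩, lvx5_1b.2.2.2.2.1, lvx5_1b.2.2.2.2.2, trivial⟩⟩
open scoped Pointwise in
theorem pb5 : PB (gen H16.G24.g 7) (5 ^ (0 + 1)) :=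
  (Pc.gok_wds H16.G24.act H16.G24.card (ptF_inj 416) H16.G24.Blt H16.G24.isBase h0_5 h1_5 rule5
    (fun r h => fus5 r (h.trans_eq h3_5)) lowx5).pb (by norm_num) H16.G24.card zero5 rows5 ord5 h2_5
theorem zero3 : ∀ D ∈ Ds3, c3.Zero D := (Pc.zero_of_chk id3_0)
theorem rows3 : ∀ r < 9, c3.Row S3 (Yo3.map (·.1)) r :=
  (Pc.rows_glue zero3 Pc.rows_zero rw3_0)
theorem rule3 : ∀ i < 9, (c3.ruleEnt (wdsP H16.G24.P Us3) H16.G24.B) i = 0 := allZ_sound0 rule3_0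
theorem fus3 : ∀ i < 3, (c3.fusEnt (wdsP H16.G24.P Us3) (wdsP H16.G24.P Fs3) H16.G24.B) i = 0 := allZ_sound0 fus3_0
theorem lvx3_1e : ∀ i < 2, (lx3_1.ent (wdsP (wdsP H16.G24.P Us3) Wsx3)) i = 0 := allZ_sound0 lvx3_1e_0
theorem lvx3_0e : ∀ i < 8, (lx3_0.ent (wdsP (wdsP H16.G24.P Us3) Wsx3)) i = 0 := allZ_sound0 lvx3_0e_0
theorem lowx3 : LowChain (wdsP (wdsP H16.G24.P Us3) Wsx3) 416 Lx3 :=
  ⟨⟨lvx3_0b.1, lvx3_0b.2.1, lvx3_0b.2.2.1, lvx3_0b.2.2.2.1, lvx3_0e⟩, lvx3_0b.2.2.2.2.1, lvx3_0b.2.2.2.2.2, ⟨⟨lvx3_1b.1, lvx3_1b.2.1, lvx3_1b.2.2.1, lvx3_1b.2.2.2.1, lvx3_1e⟩, lvx3_1b.2.2.2.2.1, lvx3_1b.2.2.2.2.2, trivial⟩⟩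
open scoped Pointwise in
theorem pb3 : PB (gen H16.G24.g 7) (3 ^ (0 + 1)) :=
  (Pc.gok_wds H16.G24.act H16.G24.card (ptF_inj 416) H16.G24.Blt H16.G24.isBase h0_3 h1_3 rule3
    (fun r h => fus3 r (h.trans_eq h3_3)) lowx3).pb (by norm_num) H16.G24.card zero3 rows3 ord3 h2_3
theorem zero2 : ∀ D ∈ Ds2, c2.Zero D := (Pc.zero_of_chk id2_0)
theorem rows2 : ∀ r < 144, c2.Row S2 (Yo2.map (·.1)) r :=
  (Pc.rows_glue zero2 Pc.rows_zero rw2_0)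
theorem rule2 : ∀ i < 144, (c2.ruleEnt (wdsP H16.G24.P Us2) H16.G24.B) i = 0 := allZ_sound0 rule2_0
theorem fus2 : ∀ i < 22, (c2.fusEnt (wdsP H16.G24.P Us2) (wdsP H16.G24.P Fs2) H16.G24.B) i = 0 := allZ_sound0 fus2_0
theorem lvx2_5e : ∀ i < 1, (lx2_5.ent (wdsP (wdsP H16.G24.P Us2) Wsx2)) i = 0 := allZ_sound0 lvx2_5e_0
theorem lvx2_4e : ∀ i < 1, (lx2_4.ent (wdsP (wdsP H16.G24.P Us2) Wsx2)) i = 0 := allZ_sound0 lvx2_4e_0
theorem lvx2_3e : ∀ i < 3, (lx2_3.ent (wdsP (wdsP H16.G24.P Us2) Wsx2)) i = 0 := allZ_sound0 lvx2_3e_0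
theorem lvx2_2e : ∀ i < 3, (lx2_2.ent (wdsP (wdsP H16.G24.P Us2) Wsx2)) i = 0 := allZ_sound0 lvx2_2e_0
theorem lvx2_1e : ∀ i < 1, (lx2_1.ent (wdsP (wdsP H16.G24.P Us2) Wsx2)) i = 0 := allZ_sound0 lvx2_1e_0
theorem lvx2_0e : ∀ i < 31, (lx2_0.ent (wdsP (wdsP H16.G24.P Us2) Wsx2)) i = 0 := allZ_sound0 lvx2_0e_0
theorem lowx2 : LowChain (wdsP (wdsP H16.G24.P Us2) Wsx2) 416 Lx2 :=
  ⟨⟨lvx2_0b.1, lvx2_0b.2.1, lvx2_0b.2.2.1, lvx2_0b.2.2.2.1, lvx2_0e⟩, lvx2_0b.2.2.2.2.1, lvx2_0b.2.2.2.2.2, ⟨⟨lvx2_1b.1, lvx2_1b.2.1, lvx2_1b.2.2.1, lvx2_1b.2.2.2.1, lvx2_1e⟩, lvx2_1b.2.2.2.2.1, lvx2_1b.2.2.2.2.2, ⟨⟨lvx2_2b.1, lvx2_2b.2.1, lvx2_2b.2.2.1, lvx2_2b.2.2.2.1, lvx2_2e⟩, lvx2_2b.2.2.2.2.1, lvx2_2b.2.2.2.2.2, ⟨⟨lvx2_3b.1, lvx2_3b.2.1, lvx2_3b.2.2.1, lvx2_3b.2.2.2.1, lvx2_3e⟩, lvx2_3b.2.2.2.2.1, lvx2_3b.2.2.2.2.2, ⟨⟨lvx2_4b.1, lvx2_4b.2.1, lvx2_4b.2.2.1, lvx2_4b.2.2.2.1, lvx2_4e⟩,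 lvx2_4b.2.2.2.2.1, lvx2_4b.2.2.2.2.2, ⟨⟨lvx2_5b.1, lvx2_5b.2.1, lvx2_5b.2.2.1, lvx2_5b.2.2.2.1, lvx2_5e⟩, lvx2_5b.2.2.2.2.1, lvx2_5b.2.2.2.2.2, trivial⟩⟩⟩⟩⟩⟩
open scoped Pointwise in
theorem pb2 : PB (gen H16.G24.g 7) (2 ^ (1 + 1)) :=
  (Pc.gok_wds H16.G24.act H16.G24.card (ptF_inj 416) H16.G24.Blt H16.G24.isBase h0_2 h1_2 rule2
    (fun r h => fus2 r (h.trans_eq h3_2)) lowx2).pb (by norm_num) H16.G24.card zero2 rows2 ord2 h2_2
theorem ker_le (Δ : Type) [Group Δ] [Finite Δ] (τ : Δ →* (gen H16.G24.g 7)) (h : Cfsg.IsStemExtension τ) :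
    Nat.card τ.ker ≤ 2 :=
  card_ker_le (L := [(2, 12, 1), (3, 3, 0), (5, 2, 0), (7, 1, 0), (13, 1, 0)]) ⟨H16.G24.card.trans (by decide +kernel), by decide +kernel⟩
    (all_cons ⟨by norm_num, pb2⟩
    (all_cons ⟨by norm_num, pb3⟩
    (all_cons ⟨by norm_num, pb5⟩
    (all_cons ⟨by norm_num, PB.of_not_sq (by norm_num) (by rw [H16.G24.card]; decide)⟩
    (all_cons ⟨by norm_num, PB.of_not_sq (by norm_num) (by rw [H16.G24.card]; decide)⟩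
    all_nil))))) Δ τ h

end H16.ScG24
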