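import Cfsg.Agent.H16.Sch2
import Cfsg.Agent.H16.P.HeL

/-! Generated by tools/h16 (computation kit). -/

set_option maxRecDepth 100000
set_option maxHeartbeats 0

namespace H16.ScHe

noncomputable def Us7 : List (List ℕ) := [[nat_lit 5, nat_lit 4, nat_lit 5, nat_lit 3, nat_lit 1, nat_lit 0, nat_lit 3, nat_lit 0, nat_lit 3, nat_lit 0, nat_lit 4, nat_lit 6, nat_lit 3, nat_lit 0, nat_lit 4, nat_lit 6, nat_lit 3, nat_lit 0, nat_lit 4, nat_lit 6, nat_lit 3, nat_lit 0, nat_lit 4, nat_lit 6, nat_lit 3, nat_lit 0, nat_lit 4, nat_lit 6, nat_lit 3, nat_lit 0, nat_lit 4, nat_lit 6, nat_lit 3, nat_lit 0, nat_lit 4, nat_lit 6, nat_lit 4, nat_lit 1, nat_lit 0, nat_lit 3, nat_lit 0, nat_lit 4, nat_lit 0, nat_lit 6, nat_lit 5, nat_lit 6, nat_lit 5, nat_lit 3, nat_lit 4, nat_lit 1, nat_lit 0, nat_lit 6, nat_lit 4, nat_lit 0, nat_lit 4, nat_lit 0, nat_lit 2, nat_lit 1, nat_lit 0, nat_lit 3, nat_lit 6, nat_lit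 4, nat_lit 0, nat_lit 4, nat_lit 1, nat_lit 6, nat_lit 0, nat_lit 0, nat_lit 3],
  [nat_lit 2, nat_lit 5, nat_lit 3, nat_lit 1, nat_lit 0, nat_lit 5, nat_lit 3, nat_lit 1, nat_lit 0, nat_lit 3, nat_lit 5, nat_lit 6, nat_lit 5, nat_lit 6, nat_lit 0, nat_lit 4, nat_lit 0, nat_lit 3, nat_lit 0, nat_lit 1, nat_lit 4, nat_lit 6, nat_lit 4, nat_lit 0, nat_lit 3, nat_lit 6, nat_lit 4, nat_lit 0, nat_lit 3, nat_lit 6, nat_lit 4, nat_lit 0, nat_lit 3, nat_lit 6, nat_lit 4, nat_lit 0, nat_lit 3, nat_lit 6, nat_lit 4, nat_lit 0, nat_lit 3, nat_lit 6, nat_lit 4, nat_lit 0, nat_lit 3, nat_lit 6, nat_lit 4, nat_lit 0, nat_lit 3, nat_lit 0, nat_lit 3, nat_lit 5, nat_lit 3, nat_lit 1, nat_lit 4, nat_lit 1, nat_lit 0, nat_lit 4, nat_lit 0, nat_lit 3, nat_lit 1, nat_lit 6, nat_lit 4, nat_lit 0, nat_lit 4, nat_lit 0, nat_lit 1, nat_lit 6, nat_lit 4, nat_lit 0, nat_lit 3, nat_lit 6, nat_lit 5, nat_lit 2, nat_lit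 0],
  [nat_lit 2, nat_lit 4, nat_lit 3, nat_lit 6, nat_lit 3, nat_lit 0, nat_lit 3, nat_lit 0, nat_lit 4, nat_lit 6, nat_lit 3, nat_lit 0, nat_lit 4, nat_lit 6, nat_lit 3, nat_lit 0, nat_lit 4, nat_lit 6, nat_lit 3, nat_lit 0, nat_lit 4, nat_lit 6, nat_lit 3, nat_lit 0, nat_lit 4, nat_lit 6, nat_lit 3, nat_lit 0, nat_lit 4, nat_lit 6, nat_lit 3, nat_lit 0, nat_lit 4, nat_lit 6, nat_lit 4, nat_lit 1, nat_lit 0, nat_lit 3, nat_lit 0, nat_lit 4, nat_lit 0, nat_lit 6, nat_lit 5, nat_lit 6, nat_lit 5, nat_lit 3, nat_lit 0, nat_lit 5, nat_lit 3, nat_lit 1, nat_lit 0, nat_lit 5, nat_lit 4, nat_lit 0, nat_lit 4, nat_lit 0, nat_lit 6, nat_lit 4, nat_lit 0, nat_lit 4, nat_lit 0, nat_lit 1, nat_lit 2, nat_lit 6, nat_lit 4, nat_lit 0, nat_lit 3, nat_lit 1, nat_lit 0, nat_lit 3, nat_lit 5, nat_lit 4]]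
noncomputable def Fs7 : List (List ℕ) := [[nat_lit 5, nat_lit 1, nat_lit 4, nat_lit 5, nat_lit 3, nat_lit 0, nat_lit 4, nat_lit 0, nat_lit 1, nat_lit 0, nat_lit 4, nat_lit 6, nat_lit 4, nat_lit 0, nat_lit 3, nat_lit 6, nat_lit 4, nat_lit 0, nat_lit 3, nat_lit 6, nat_lit 4, nat_lit 0, nat_lit 3, nat_lit 6, nat_lit 4, nat_lit 0, nat_lit 3, nat_lit 6, nat_lit 4, nat_lit 0, nat_lit 3, nat_lit 6, nat_lit 4, nat_lit 0, nat_lit 3, nat_lit 6, nat_lit 4, nat_lit 0, nat_lit 3, nat_lit 0, nat_lit 1, nat_lit 3, nat_lit 0, nat_lit 6, nat_lit 4, nat_lit 0, nat_lit 3, nat_lit 6, nat_lit 4, nat_lit 0, nat_lit 3, nat_lit 6, nat_lit 4, nat_lit 0, nat_lit 3, nat_lit 6, nat_lit 4, nat_lit 0, nat_lit 3, nat_lit 6, nat_lit 4, nat_lit 0, nat_lit 3, nat_lit 6, nat_lit 4, nat_lit 0, nat_lit 3, nat_lit 6, nat_lit 4, nat_lit 0, nat_lit 3, nat_lit 1, nat_lit 4, nat_lit 0, nat_lit 4, nat_lit 0, nat_lit 1, nat_lit 0, nat_lit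 1, nat_lit 3, nat_lit 5, nat_lit 0, nat_lit 5, nat_lit 3, nat_lit 1, nat_lit 0, nat_lit 4, nat_lit 3, nat_lit 0, nat_lit 4, nat_lit 0, nat_lit 4, nat_lit 1, nat_lit 2, nat_lit 0, nat_lit 4, nat_lit 1, nat_lit 6, nat_lit 4, nat_lit 0, nat_lit 4, nat_lit 0, nat_lit 3, nat_lit 1, nat_lit 0, nat_lit 6, nat_lit 6, nat_lit 1, nat_lit 5, nat_lit 3, nat_lit 4],
  [nat_lit 6, nat_lit 5, nat_lit 3, nat_lit 1, nat_lit 3, nat_lit 0, nat_lit 3, nat_lit 0, nat_lit 4, nat_lit 6, nat_lit 3, nat_lit 0, nat_lit 4, nat_lit 6, nat_lit 3, nat_lit 0, nat_lit 4, nat_lit 6, nat_lit 3, nat_lit 0, nat_lit 4, nat_lit 6, nat_lit 3, nat_lit 0, nat_lit 4, nat_lit 6, nat_lit 3, nat_lit 0, nat_lit 4, nat_lit 6, nat_lit 3, nat_lit 0, nat_lit 4, nat_lit 6, nat_lit 4, nat_lit 1, nat_lit 0, nat_lit 3, nat_lit 0, nat_lit 4, nat_lit 0, nat_lit 6, nat_lit 5, nat_lit 6, nat_lit 5, nat_lit 3, nat_lit 0, nat_lit 5, nat_lit 4, nat_lit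 0, nat_lit 4, nat_lit 3, nat_lit 0, nat_lit 2, nat_lit 0, nat_lit 4, nat_lit 1, nat_lit 6, nat_lit 4, nat_lit 0, nat_lit 2, nat_lit 1, nat_lit 0, nat_lit 2, nat_lit 3, nat_lit 1]]
noncomputable def c7 : Pc := ⟨(nat_lit 6), (nat_lit 6), (nat_lit 3), (nat_lit 2), (nat_lit 4), (nat_lit 11),
  [[[]],
  [[nat_lit 1, nat_lit 2], []],
  [[nat_lit 2], [nat_lit 2], []]],
  [((nat_lit 0), [nat_lit 2], [nat_lit 2]),
  ((nat_lit 0), [nat_lit 1], [nat_lit 0, nat_lit 0, nat_lit 0]),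
  ((nat_lit 1), [nat_lit 2], [nat_lit 0, nat_lit 0, nat_lit 0, nat_lit 1, nat_lit 2]),
  ((nat_lit 1), [nat_lit 1], [nat_lit 2])]⟩
noncomputable def I7_0 : List Pc.Idn := [⟨false, (nat_lit 0), [nat_lit 1], [nat_lit 0, nat_lit 0], [((nat_lit 12), (nat_lit 1))]⟩,
  ⟨true, (nat_lit 0), [nat_lit 0, nat_lit 1], [nat_lit 1, nat_lit 0], [((nat_lit 10), (nat_lit 4)), ((nat_lit 11), (nat_lit 1))]⟩,
  ⟨true, (nat_lit 1), [nat_lit 2, nat_lit 3], [nat_lit 3, nat_lit 2], [((nat_lit 10), (nat_lit 3)), ((nat_lit 11), (nat_lit 2))]⟩]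
noncomputable def Ds7 : List (List (ℕ × ℕ)) := I7_0.map Pc.Idn.D
noncomputable def S7 : List (List (ℕ × ℕ)) := [[],
  [],
  [((nat_lit 7), (nat_lit 1))]]
noncomputable def Yo7 : List (List (ℕ × ℕ) × ℕ × ℕ) := []
noncomputable def La7 : List ℕ := [nat_lit 0,
  nat_lit 0,
  nat_lit 0,
  nat_lit 0,
  nat_lit 0,
  nat_lit 0,
  nat_lit 0xee,
  nat_lit 0x118,
  nat_lit 1]
noncomputable def Wsx7 : List (List ℕ) := [[nat_lit 0],
  [nat_lit 1]]
noncomputable def LDx7_0d : ℕ := nat_lit 0x295a4e91a3e8da2e799de759ce719be6899e6598e619765c9624b92647916439063a8e6378d6338be2e8aa298a227896218821b86a1481e0580e017fdfd7d9f57cdf17bdeb7a9e6795e478de1775dc75dd6741cf739cd731cb729c871dc6711c26d5b36c5af6b5ab691a36859f675996619464d926458f62d8a615845f97d5f17b5e9795e1765d5745c9705bd6e5b56c5ad6a5a15b56557555535454a52547515434fd3e4e9394e1374d5314c12b4a92448d224852047d1e4711b469184591545113449114410e4350c42d0a4250741503404ff3e0f73d4f33c4ed3b0e839ce6394e337cde364d8348d1340cf338cd330ca324c8318c430cc2304c02fcbe2f0bb2e8b92e0b72d8b42ccb12bcad2a4a8290a3288a127c9b268952508e2348c22c8a2248821885210822007f1f87d1f07b1e8781dc761d4741cc721c46f1b86d1ac67198611805a1645815c5615454148511404e1304b12849120471184410c42104400fc3e0f43c0ec3a0e4380dc360d0330c8300b82d0b02b0a8290a0260942408c220842007c1e0741c06c1a064180581505013048110400f0380d0300b028090200701805010030080100000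
noncomputable def LDx7_0 (u : ℕ) : ℕ := Nat.land (Nat.shiftRight LDx7_0d (Nat.mul u (nat_lit 10))) (nat_lit 1023)
noncomputable def Ptx7_0d : ℕ := nat_lit 0x79a51d0e908c69172a35d36241516f2d510279647f05255d2fd05945c7f33b61e94ca3ed6fd59a1fe3674c757f1602d94a10ac73c2536f54fe0076af7cb0ff4543a33730740737695a55672311ff5e520b24275854d5894756883202602a52c80ae1a106b0ee78a38a62a2390797f515a74e7cc4217bc09509d22b25408a35368921609748b5dd1616c06a75fe7327ca10175f10078d15040b39c7a207649c21552824b4072b040224519a37149e69a1d550a79b4e26563085457174bd2441723581c25ef3cd0611c62e75f063d06d00a2a349a4b37e275131675533a3417661a23ae2fb18609a2f12e857952342a3fc3635767161991bb0f259521f38b4d31c433961c43f5cf5d768748c4aa66c4470cd0b57f45464f16fb37c1cf52442037223579f15d25a11105a0ce4963e059d61b7ea7df64345710d4803be32d6427b60621b32174c071e25f6b02f26610b07c73bd56f1422622597e615465a2374fd25c4fc29d48f39f6577392126045046124052c649b5636ae0a93f614a7c23a93105a14126fa7c94c80103ac27205b68f2a86b58084d47ee0063ad1e84d804b65f5f400e2f371b3f757a3577ba12167f43b0378023912ab39926f1256117fc47b3696ab3cb17a4c417949f19d51a5882091d87de2884c37222416d854e0a221a0b35b75785bf4a75f57997e826526c62844f30967442e43a1745ed1f75c640f7ec5e2000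
noncomputable def Ptx7_0 (u : ℕ) : ℕ := Nat.land (Nat.shiftRight Ptx7_0d (Nat.mul u (nat_lit 12))) (nat_lit 4095)
noncomputable def Qx7_0d : BT := (.node (.node (.node (.node (.leaf (nat_lit 0x968000000000000000000000000002c400000044c000000002a8000000000000000000000000000000000000000000000000000000000024142000000000000000000000000000000000000000000000000000140000b800007800458013500000b800000000000000640000000020c00002f400007f8020e000000000000000001530040c0000000000000000000000000000000000021c00003b80129940000000000019a008a000000000000000000205a400000000000272468a000000000000052000000000000002180000000000000000000000000000000000000000001b00000000000000000000000000000000000000000000000000000000000000000000000000000000000000510010000000033000009811c0000000000000)) (.leaf (nat_lit 0x4a000000000000d40000))) (.leaf (nat_lit 0x4c4da6b000000000000000000000013a0000000000000000000000000000000378000000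00000000000000440000000495680000000000000000050000529d00000280f000007e00001b200000000000000000000648000000000000000002900000098000000000026c001338c00ed2fb2800000023c00000000000003480000a57f0000000000000000000000086a4800000016800000000002380000000000000000000000000000000000000000000000000000014400000000044000012c0000000000600000000000000005100000000000000005480000001b8200000000000000000000000000240000002e00000000000000000021298000000000000000000000029c0000154000001800000078800000074800c2000039c0000))) (.node (.leaf (nat_lit 0x28c005f80000000000000001f9e978000000000000000000bb680000000000000000000000000000026e000000298000000000000000000000000001170018000000000000000000000000000000000000000000000000e800000000019800004c00002300065800000000000d40000000000000000000000000000000000000000000001f0000000000000000000000000000000000000000000000013c000018800000e000000000000001e00001cc01193e000006c0024ce40000000010499800000000000000075000000000001ccd8004803800000000000000021e00370012c000000248000000000008280000000000000000000000005780000000006000003fc01d800001940000000000000908004400000000000000000000))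 (.leaf (nat_lit 0x27c004e150000000002640000000000000000000000000000000000000000000000000000000000000001b0000000000000000000000000000000000000000000000000000fb00000000000000000000000960000000007b9797400001580000007d000000000000000000000000000388000000000000000002a40026800000000002031b5300000000000000001c000000000000000000000000a0000000000000000a300000000000000000000000f200210000000001bc000033b74000000000000000000000000000000000000000044a0c0000000019c0000000000000000000000000000000000000000440000d0000000000000000000000000aa460000000000000000001885e00000000000000000000000000064000000000)))) (.node (.node (.leaf (nat_lit 0x91cf0000000000000002800000000000000000000000000002824500000000000000000000000000000000002100001c2000000000004d00000000000000000034400ac003540000000000000590000000000000000400000000000000000000000000000000000003062a00000004a00003956600000000000000000000000000000000000000002f80000000000000000000000000a44e000000000070035c0000a6800000000000000000000000000001f9380000128000043000000000000700000000f2000000000001680000000000000001d00000000000000000000000000000000000000000000000000000000000000006000000007200000000000000000000000000000000012400000010e000000000000000000000052decf4))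 (.leaf (nat_lit 0x3e400000000000000000024410000000cf6a0000c0000000000000002440000004000000001fa000000000005380000000000000005400000000000000000001000000000000000a00000000000000000b0000000000000000000000000000000000000024c0000000ac00000011a00004f40000000016000000000000000000000000023a230000000000000000009c8000000000f17415002d400000000000003a80000000000000009280000002f0000000000028e000000000000000000000000000000006a3c0000000000000279b6000000000000000000000000000000000000000000000000000000000000000eb0000000995c800000000002aa00000900000000000000000000000000000000003800000000000063000000000))) (.node (.leaf (nat_lit 0xb70000000001e96c0000000000000000027e0000000000000000000000000008e00000000000000000000000000000000000000001a60015000000000000000000000000000214ec00000000000005080000000000000003008c5000000b0000000000009580000003400000f000000640000000000000000680000000000057444000000000000000000000000000009b0000000000000000009525dc8000000000000000058009d80000005b53c000000002a0000000000d61d800000081000000000000000000000000000000000000001860000000000000311560000000000000000000000001080000000000000000000000000011a0000000000000000000031800000000000570000000000000016dc000000000000000000))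 (.leaf (nat_lit 0x2e000000000000021a9fa180000000012000020022c0010001c4000000320000045080000000000000000000000000000000000000010a973dca6003b8000000001640000000000108000e80000002080000000000000000000000000000000000000000003bc00004a80000006fd58220000528000000000000000001e600004480000000000000000000000000000000000000000000000000000000000000000000000024e000030800000000000007a800000000000011f000018a00000018e000042c000000000000000000000000000000000000013400000cc00000000000003e00000000000000005440000000000000000740000001f400001f00000006d2d00000000000000000000000000000000000000000000000000)))))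
noncomputable def Qx7_0 (u : ℕ) : ℕ := force (Nat.shiftRight u (nat_lit 8)) fun j => Nat.land (Nat.shiftRight (Qx7_0d.get j) (Nat.mul (Nat.land u (nat_lit 255)) (nat_lit 9))) (nat_lit 511)
noncomputable def lx7_0 : Lev := ⟨343, 2, LDx7_0, Ptx7_0, Qx7_0⟩
noncomputable def Lx7 : List Lev := [lx7_0]
noncomputable def Bx7 : List ℕ := [nat_lit 0]
noncomputable def Us5 : List (List ℕ) := [[nat_lit 5, nat_lit 2, nat_lit 1, nat_lit 6, nat_lit 4, nat_lit 0, nat_lit 3, nat_lit 6, nat_lit 4, nat_lit 0, nat_lit 3, nat_lit 6, nat_lit 4, nat_lit 0, nat_lit 3, nat_lit 6, nat_lit 4, nat_lit 0, nat_lit 3, nat_lit 6, nat_lit 4, nat_lit 0, nat_lit 3, nat_lit 6, nat_lit 4, nat_lit 0, nat_lit 3, nat_lit 6, nat_lit 4, nat_lit 0, nat_lit 3, nat_lit 1, nat_lit 0, nat_lit 5, nat_lit 4, nat_lit 0, nat_lit 1, nat_lit 3, nat_lit 0, nat_lit 4, nat_lit 0, nat_lit 1, nat_lit 3, nat_lit 0, nat_lit 4, nat_lit 6, nat_lit 3, nat_lit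 0, nat_lit 4, nat_lit 6, nat_lit 3, nat_lit 0, nat_lit 4, nat_lit 6, nat_lit 3, nat_lit 0, nat_lit 4, nat_lit 6, nat_lit 3, nat_lit 0, nat_lit 4, nat_lit 6, nat_lit 3, nat_lit 0, nat_lit 4, nat_lit 6, nat_lit 3, nat_lit 0, nat_lit 4, nat_lit 6, nat_lit 5, nat_lit 3, nat_lit 1, nat_lit 0, nat_lit 5, nat_lit 3, nat_lit 1, nat_lit 0, nat_lit 3, nat_lit 0, nat_lit 4, nat_lit 0, nat_lit 3, nat_lit 6, nat_lit 4, nat_lit 0, nat_lit 4, nat_lit 3, nat_lit 1, nat_lit 0, nat_lit 6, nat_lit 4, nat_lit 0, nat_lit 1],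
  [nat_lit 5, nat_lit 4, nat_lit 2, nat_lit 6, nat_lit 1, nat_lit 3, nat_lit 0, nat_lit 5, nat_lit 3, nat_lit 1, nat_lit 0, nat_lit 3, nat_lit 5, nat_lit 6, nat_lit 5, nat_lit 6, nat_lit 0, nat_lit 4, nat_lit 0, nat_lit 3, nat_lit 0, nat_lit 1, nat_lit 4, nat_lit 6, nat_lit 4, nat_lit 0, nat_lit 3, nat_lit 6, nat_lit 4, nat_lit 0, nat_lit 3, nat_lit 6, nat_lit 4, nat_lit 0, nat_lit 3, nat_lit 6, nat_lit 4, nat_lit 0, nat_lit 3, nat_lit 6, nat_lit 4, nat_lit 0, nat_lit 3, nat_lit 6, nat_lit 4, nat_lit 0, nat_lit 3, nat_lit 6, nat_lit 4, nat_lit 0, nat_lit 3, nat_lit 0, nat_lit 3, nat_lit 5, nat_lit 3, nat_lit 1, nat_lit 0, nat_lit 5, nat_lit 3, nat_lit 1, nat_lit 0, nat_lit 5, nat_lit 4, nat_lit 2, nat_lit 0, nat_lit 4, nat_lit 0, nat_lit 6, nat_lit 4, nat_lit 0, nat_lit 2, nat_lit 1, nat_lit 0, nat_lit 4, nat_lit 2, nat_lit 2]]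
noncomputable def Fs5 : List (List ℕ) := [[nat_lit 5, nat_lit 3, nat_lit 1, nat_lit 3, nat_lit 0, nat_lit 3, nat_lit 0, nat_lit 4, nat_lit 6, nat_lit 3, nat_lit 0, nat_lit 4, nat_lit 6, nat_lit 3, nat_lit 0, nat_lit 4, nat_lit 6, nat_lit 3, nat_lit 0, nat_lit 4, nat_lit 6, nat_lit 3, nat_lit 0, nat_lit 4, nat_lit 6, nat_lit 3, nat_lit 0, nat_lit 4, nat_lit 6, nat_lit 3, nat_lit 0, nat_lit 4, nat_lit 6, nat_lit 4, nat_lit 1, nat_lit 0, nat_lit 3, nat_lit 0, nat_lit 4, nat_lit 0, nat_lit 6, nat_lit 5, nat_lit 6, nat_lit 5, nat_lit 3, nat_lit 0, nat_lit 5, nat_lit 3, nat_lit 1, nat_lit 0]]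
noncomputable def c5 : Pc := ⟨(nat_lit 4), (nat_lit 4), (nat_lit 2), (nat_lit 2), (nat_lit 2), (nat_lit 10),
  [[[]],
  [[nat_lit 1], []]],
  [((nat_lit 0), [nat_lit 1], [nat_lit 1, nat_lit 1]),
  ((nat_lit 0), [nat_lit 0], [nat_lit 0, nat_lit 0])]⟩
noncomputable def I5_0 : List Pc.Idn := [⟨true, (nat_lit 0), [nat_lit 0, nat_lit 1], [nat_lit 1, nat_lit 0], [((nat_lit 4), (nat_lit 2))]⟩]
noncomputable def Ds5 : List (List (ℕ × ℕ)) := I5_0.map Pc.Idn.D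
noncomputable def S5 : List (List (ℕ × ℕ)) := [[],
  []]
noncomputable def Yo5 : List (List (ℕ × ℕ) × ℕ × ℕ) := []
noncomputable def La5 : List ℕ := [nat_lit 0,
  nat_lit 0,
  nat_lit 3,
  nat_lit 0]
noncomputable def Wsx5 : List (List ℕ) := [[nat_lit 0],
  [nat_lit 1]]
noncomputable def LDx5_1d : ℕ := nat_lit 0x390
noncomputable def LDx5_1 (u : ℕ) : ℕ := Nat.land (Nat.shiftRight LDx5_1d (Nat.mul u (nat_lit 2))) (nat_lit 3)
noncomputable def Ptx5_1d : ℕ := nat_lit 0x32354bd696a801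
noncomputable def Ptx5_1 (u : ℕ) : ℕ := Nat.land (Nat.shiftRight Ptx5_1d (Nat.mul u (nat_lit 11))) (nat_lit 2047)
noncomputable def Qx5_1d : ℕ := nat_lit 0x8000000000000000000000000000000000000000000000000000000000000000000000000000000000000000000000000000000000000000000000000000000000000000000000000000000000000000000000000000000000000000000000000000000000000000000000000000000000000000000000000000000000000000000000000000000000000000000000000000000000000000000000000000000000000000000000000000000000000000000000000000000000000000000000000000000000000000000000000000000000000000000000000000000000000000000000000000000000000000000000000000000000000000000000000000000000000000000000000000000000000000000000000000000000000000000000000000000000000000000000000000000000000000000000000000000000000000000000000000000000000000000000000000000000000000000000000000000000000000000000000000000000000000000000000000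0000000000000000000000000000000000000000000000000000000000000800000000000000000000000000000000000000000000000000000000008000000000000000000000000000000000018000000000000000000000000000000000000000000000000000000000000000000000000000000000000000000000000000000000000000000000000000000000000000000000000000000000000000000000000000000000000000000000000000000000000000000000000000000000000000000000000000000000000000000000000000000000000000000000000000000000000000000000000000000000000000000000000000000000000000000000000000000000000000000000000000000000000000000000000000000000000000000000000000000000000000000000000000000000000000000000000000000000000000000000000000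
noncomputable def Qx5_1 (u : ℕ) : ℕ := Nat.land (Nat.shiftRight Qx5_1d (Nat.mul u (nat_lit 3))) (nat_lit 7)
noncomputable def lx5_1 : Lev := ⟨5, 1, LDx5_1, Ptx5_1, Qx5_1⟩
noncomputable def LDx5_0d : ℕ := nat_lit 0x7ac8
noncomputable def LDx5_0 (u : ℕ) : ℕ := Nat.land (Nat.shiftRight LDx5_0d (Nat.mul u (nat_lit 3))) (nat_lit 7)
noncomputable def Ptx5_0d : ℕ := nat_lit 0x668c67d0b2f016
noncomputable def Ptx5_0 (u : ℕ) : ℕ := Nat.land (Nat.shiftRight Ptx5_0d (Nat.mul u (nat_lit 11))) (nat_lit 2047)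
noncomputable def Qx5_0d : ℕ := nat_lit 0x8000000000000000000000000000000000000000000000000000000000000000000000000000000000000000000000000000000000000000000000000000000000000000000000000000000000000000000400000004000000000000000000000000000000060000000000000000000000000000000000000000000000000000000000000000000000000000000000000000000000000000000000000000000000000000000000000000000000000000000000000000000000000000000000000000000000000000000000000000000000000000000000000000000000000000000000000000000000000000000000000000000000000000000000000000000000000000000000000000000000000000000000000000000000000000000000000000000000000000000000000000000000000000000000000000000000000000000000000000000000000000000000000000000000000000000000000000000000000000000000000000000000000000000000000000000000000000000000000000000000000000000000000000000000000000000000000000000000000000000000000000000000000000000000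0000000000000000000000000000000000000000000000000000000000000000000000000000000000000000000000000000000000000000000000000000000000000000000000000000000000000000000000000000000000000000000000000000000000000000000000000000000000000000000000000000000000000000000000000000000000000000000000000000000000000000000000000000000000000000000000000000000000000000000000000000000000000000000000000000000000000000000000000000000000000000000000000000000000000000000000000000000000000000000000000000000000000000000000000000000000000000000000000000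
noncomputable def Qx5_0 (u : ℕ) : ℕ := Nat.land (Nat.shiftRight Qx5_0d (Nat.mul u (nat_lit 3))) (nat_lit 7)
noncomputable def lx5_0 : Lev := ⟨5, 2, LDx5_0, Ptx5_0, Qx5_0⟩
noncomputable def Lx5 : List Lev := [lx5_0, lx5_1]
noncomputable def Bx5 : List ℕ := [nat_lit 22, nat_lit 1]
noncomputable def Us3 : List (List ℕ) := [[nat_lit 2, nat_lit 6, nat_lit 6, nat_lit 5, nat_lit 3, nat_lit 1, nat_lit 0, nat_lit 5, nat_lit 3, nat_lit 1, nat_lit 0, nat_lit 3, nat_lit 0, nat_lit 3, nat_lit 0, nat_lit 4, nat_lit 6, nat_lit 3, nat_lit 0, nat_lit 4, nat_lit 6, nat_lit 3, nat_lit 0, nat_lit 4, nat_lit 6, nat_lit 3, nat_lit 0, nat_lit 4, nat_lit 6, nat_lit 3, nat_lit 0, nat_lit 4, nat_lit 6, nat_lit 3, nat_lit 0, nat_lit 4, nat_lit 6, nat_lit 3, nat_lit 0, nat_lit 4, nat_lit 6, nat_lit 4, nat_lit 1, nat_lit 0, nat_lit 3, nat_lit 0, nat_lit 4, nat_lit 0, nat_lit 6, nat_lit 5, nat_lit 6, nat_lit 5, nat_lit 3,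 nat_lit 5, nat_lit 4, nat_lit 0, nat_lit 4, nat_lit 0, nat_lit 3, nat_lit 0, nat_lit 1, nat_lit 2, nat_lit 0, nat_lit 4, nat_lit 6, nat_lit 4, nat_lit 0, nat_lit 4, nat_lit 3, nat_lit 0, nat_lit 4, nat_lit 2, nat_lit 6, nat_lit 0, nat_lit 2, nat_lit 6, nat_lit 1, nat_lit 3],
  [nat_lit 3, nat_lit 6, nat_lit 4, nat_lit 0, nat_lit 5, nat_lit 3, nat_lit 1, nat_lit 0, nat_lit 5, nat_lit 3, nat_lit 1, nat_lit 3, nat_lit 5, nat_lit 6, nat_lit 5, nat_lit 6, nat_lit 0, nat_lit 4, nat_lit 0, nat_lit 3, nat_lit 0, nat_lit 1, nat_lit 4, nat_lit 6, nat_lit 4, nat_lit 0, nat_lit 3, nat_lit 6, nat_lit 4, nat_lit 0, nat_lit 3, nat_lit 6, nat_lit 4, nat_lit 0, nat_lit 3, nat_lit 6, nat_lit 4, nat_lit 0, nat_lit 3, nat_lit 6, nat_lit 4, nat_lit 0, nat_lit 3, nat_lit 6, nat_lit 4, nat_lit 0, nat_lit 3, nat_lit 6, nat_lit 4, nat_lit 0, nat_lit 3, nat_lit 0, nat_lit 3, nat_lit 0, nat_lit 5, nat_lit 4, nat_lit 0,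 nat_lit 4, nat_lit 3, nat_lit 1, nat_lit 0, nat_lit 2, nat_lit 0, nat_lit 4, nat_lit 0, nat_lit 4, nat_lit 6],
  [nat_lit 6, nat_lit 4, nat_lit 2, nat_lit 0, nat_lit 1, nat_lit 2, nat_lit 5, nat_lit 3, nat_lit 1, nat_lit 0, nat_lit 5, nat_lit 3, nat_lit 1, nat_lit 0, nat_lit 3, nat_lit 0, nat_lit 3, nat_lit 0, nat_lit 4, nat_lit 6, nat_lit 3, nat_lit 0, nat_lit 4, nat_lit 6, nat_lit 3, nat_lit 0, nat_lit 4, nat_lit 6, nat_lit 3, nat_lit 0, nat_lit 4, nat_lit 6, nat_lit 3, nat_lit 0, nat_lit 4, nat_lit 6, nat_lit 3, nat_lit 0, nat_lit 4, nat_lit 6, nat_lit 3, nat_lit 0, nat_lit 4, nat_lit 6, nat_lit 4, nat_lit 1, nat_lit 0, nat_lit 3, nat_lit 0, nat_lit 4, nat_lit 0, nat_lit 6, nat_lit 5, nat_lit 6, nat_lit 5, nat_lit 3, nat_lit 5, nat_lit 3, nat_lit 1, nat_lit 0, nat_lit 5, nat_lit 4, nat_lit 0, nat_lit 1, nat_lit 2, nat_lit 0, nat_lit 4, nat_lit 0, nat_lit 4, nat_lit 1, nat_lit 6, nat_lit 4,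 nat_lit 0, nat_lit 1, nat_lit 5, nat_lit 1, nat_lit 3, nat_lit 2, nat_lit 0]]
noncomputable def Fs3 : List (List ℕ) := [[nat_lit 4, nat_lit 3, nat_lit 0, nat_lit 3, nat_lit 0, nat_lit 4, nat_lit 6, nat_lit 3, nat_lit 0, nat_lit 4, nat_lit 6, nat_lit 3, nat_lit 0, nat_lit 4, nat_lit 6, nat_lit 3, nat_lit 0, nat_lit 4, nat_lit 6, nat_lit 3, nat_lit 0, nat_lit 4, nat_lit 6, nat_lit 3, nat_lit 0, nat_lit 4, nat_lit 6, nat_lit 3, nat_lit 0, nat_lit 4, nat_lit 6, nat_lit 4, nat_lit 1, nat_lit 0, nat_lit 3, nat_lit 0, nat_lit 4, nat_lit 0, nat_lit 6, nat_lit 5, nat_lit 6, nat_lit 5, nat_lit 3, nat_lit 5, nat_lit 3, nat_lit 1, nat_lit 0, nat_lit 3, nat_lit 0, nat_lit 3, nat_lit 0, nat_lit 4, nat_lit 6, nat_lit 3, nat_lit 0, nat_lit 4, nat_lit 6, nat_lit 3, nat_lit 0, nat_lit 4, nat_lit 6, nat_lit 3, nat_lit 0, nat_lit 4, nat_lit 6, nat_lit 3, nat_lit 0, nat_lit 4, nat_lit 6, nat_lit 3, nat_lit 0, nat_lit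 4, nat_lit 6, nat_lit 3, nat_lit 0, nat_lit 4, nat_lit 6, nat_lit 4, nat_lit 1, nat_lit 0, nat_lit 3, nat_lit 0, nat_lit 4, nat_lit 0, nat_lit 6, nat_lit 5, nat_lit 6, nat_lit 5, nat_lit 3, nat_lit 4, nat_lit 1, nat_lit 0, nat_lit 4, nat_lit 0, nat_lit 4, nat_lit 1, nat_lit 0, nat_lit 6, nat_lit 4, nat_lit 0, nat_lit 4, nat_lit 0, nat_lit 2, nat_lit 1, nat_lit 0, nat_lit 6, nat_lit 4, nat_lit 0, nat_lit 4, nat_lit 3, nat_lit 1, nat_lit 0, nat_lit 4, nat_lit 2, nat_lit 1]]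
noncomputable def c3 : Pc := ⟨(nat_lit 2), (nat_lit 2), (nat_lit 3), (nat_lit 2), (nat_lit 3), (nat_lit 9),
  [[[]],
  [[nat_lit 1, nat_lit 2], []],
  [[nat_lit 2], [nat_lit 2], []]],
  [((nat_lit 0), [nat_lit 2], [nat_lit 2]),
  ((nat_lit 0), [nat_lit 1], [nat_lit 1, nat_lit 1]),
  ((nat_lit 0), [nat_lit 0], [nat_lit 0, nat_lit 0, nat_lit 2, nat_lit 2])]⟩
noncomputable def I3_0 : List Pc.Idn := [⟨false, (nat_lit 0), [nat_lit 1], [nat_lit 0, nat_lit 0], [((nat_lit 11), (nat_lit 1))]⟩,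
  ⟨true, (nat_lit 0), [nat_lit 0, nat_lit 1], [nat_lit 1, nat_lit 0], [((nat_lit 10), (nat_lit 2))]⟩,
  ⟨true, (nat_lit 0), [nat_lit 0, nat_lit 2], [nat_lit 2, nat_lit 0], [((nat_lit 9), (nat_lit 2))]⟩]
noncomputable def Ds3 : List (List (ℕ × ℕ)) := I3_0.map Pc.Idn.D
noncomputable def S3 : List (List (ℕ × ℕ)) := [[],
  [],
  [((nat_lit 6), (nat_lit 1))]]
noncomputable def Yo3 : List (List (ℕ × ℕ) × ℕ × ℕ) := []
noncomputable def La3 : List ℕ := [nat_lit 0,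
  nat_lit 0,
  nat_lit 0,
  nat_lit 0,
  nat_lit 0,
  nat_lit 0,
  nat_lit 0x12,
  nat_lit 6,
  nat_lit 1]
noncomputable def Wsx3 : List (List ℕ) := [[nat_lit 0, nat_lit 1, nat_lit 2, nat_lit 2],
  [nat_lit 2],
  [nat_lit 0]]
noncomputable def LDx3_2d : ℕ := nat_lit 4
noncomputable def LDx3_2 (u : ℕ) : ℕ := Nat.land (Nat.shiftRight LDx3_2d (Nat.mul u (nat_lit 1))) (nat_lit 1)
noncomputable def Ptx3_2d : ℕ := nat_lit 0x1e691d801
noncomputable def Ptx3_2 (u : ℕ) : ℕ := Nat.land (Nat.shiftRight Ptx3_2d (Nat.mul u (nat_lit 11))) (nat_lit 2047)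
noncomputable def Qx3_2d : ℕ := nat_lit 0x20000000000000000000000000000000000000000000000000000000000000000000000000000000000000000000000000000000000000000000000000000000000000000000000000000000000000000000000000000000000000000000000000000000000000000000000000000000000000000000000000000000000000000000000000000000000000000000000000000000000000000000000000000000000000000000000000000000000000000000000000000000000000000000000000000000000000000000000000000000000000000000000000000000000000000000000000000000000000000000000000000000000000000000000000000000000000000000000000000000000000000000000000000000000000000000000000000000000000000000000000000000000000000000000000000000000000000000000000000000000000000000000000000000000000004000000000000000000000000000000000000000000000000000000000000000000000000000000000000000000000000000000000000000000000000000000000000000000000000000000000000000000000000000000000000000000000000000000000000000000000000000000000000000000000000000000000000000000000000000000000000000000000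
noncomputable def Qx3_2 (u : ℕ) : ℕ := Nat.land (Nat.shiftRight Qx3_2d (Nat.mul u (nat_lit 2))) (nat_lit 3)
noncomputable def lx3_2 : Lev := ⟨3, 1, LDx3_2, Ptx3_2, Qx3_2⟩
noncomputable def LDx3_1d : ℕ := nat_lit 0x34
noncomputable def LDx3_1 (u : ℕ) : ℕ := Nat.land (Nat.shiftRight LDx3_1d (Nat.mul u (nat_lit 2))) (nat_lit 3)
noncomputable def Ptx3_1d : ℕ := nat_lit 0x1bce1e000
noncomputable def Ptx3_1 (u : ℕ) : ℕ := Nat.land (Nat.shiftRight Ptx3_1d (Nat.mul u (nat_lit 11))) (nat_lit 2047)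
noncomputable def Qx3_1d : ℕ := nat_lit 0x80000000000000000000000000000000000000000000000000000000000000000000000000000000000000000000000000000000000000000000000000000000000000000000000000000000000000000000000000000000000000000000000000000000000000000000000000000000000000000000000000000000000000000000000000000000000000000000000000000000000000000000000000000000000000000000000000000000000100000000000000000000000000000000000000000000000000000000000000000000000000000000000000000000000000000000000000000000000000000000000000000000000000000000000000000000000000000000000000000000000000000000000000000000000000000000000000000000000000000000000000000000000000000000000000000000000000000000000000000000000000000000000000000000000000000000000000000000000000000000000000000000000000000000000000000000000000000000000000000000000000000000000000000000000000000000000000000000000000000000000000000000000000000000000000000000000000000000000000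
noncomputable def Qx3_1 (u : ℕ) : ℕ := Nat.land (Nat.shiftRight Qx3_1d (Nat.mul u (nat_lit 2))) (nat_lit 3)
noncomputable def lx3_1 : Lev := ⟨3, 2, LDx3_1, Ptx3_1, Qx3_1⟩
noncomputable def LDx3_0d : ℕ := nat_lit 0x150
noncomputable def LDx3_0 (u : ℕ) : ℕ := Nat.land (Nat.shiftRight LDx3_0d (Nat.mul u (nat_lit 3))) (nat_lit 7)
noncomputable def Ptx3_0d : ℕ := nat_lit 0x1258a4044
noncomputable def Ptx3_0 (u : ℕ) : ℕ := Nat.land (Nat.shiftRight Ptx3_0d (Nat.mul u (nat_lit 11))) (nat_lit 2047)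
noncomputable def Qx3_0d : ℕ := nat_lit 0x200000000000000000000000000000000000000000000000000000000000000000000000000000000000000000000000000000000000000000000000000000000000000000000000000000000000000000000000000000000000000000000000000000000000000000000000000000000000000000000000000000000000000000000000000000000000000000000000000000000000000000000000000000000000000000000000000000000000000000000000000000000000000000000000000000000000000000000000000000000000000100000000000000000000000000000000000000000000000000000000000000000000000000000000000000000000000000000000000000000000000000000000000000000000000000000000000000000000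
noncomputable def Qx3_0 (u : ℕ) : ℕ := Nat.land (Nat.shiftRight Qx3_0d (Nat.mul u (nat_lit 2))) (nat_lit 3)
noncomputable def lx3_0 : Lev := ⟨3, 3, LDx3_0, Ptx3_0, Qx3_0⟩
noncomputable def Lx3 : List Lev := [lx3_0, lx3_1, lx3_2]
noncomputable def Bx3 : List ℕ := [nat_lit 68, nat_lit 0, nat_lit 1]
noncomputable def Us2 : List (List ℕ) := [[nat_lit 0, nat_lit 3, nat_lit 1, nat_lit 6, nat_lit 6, nat_lit 3, nat_lit 0, nat_lit 3, nat_lit 0, nat_lit 4, nat_lit 6, nat_lit 3, nat_lit 0, nat_lit 4, nat_lit 6, nat_lit 3, nat_lit 0, nat_lit 4, nat_lit 6, nat_lit 3, nat_lit 0, nat_lit 4, nat_lit 6, nat_lit 3, nat_lit 0, nat_lit 4, nat_lit 6, nat_lit 3, nat_lit 0, nat_lit 4, nat_lit 6, nat_lit 3, nat_lit 0, nat_lit 4, nat_lit 6, nat_lit 4, nat_lit 1, nat_lit 0, nat_lit 3, nat_lit 0, nat_lit 4, nat_lit 0, nat_lit 6, nat_lit 5, nat_lit 6, nat_lit 5, nat_lit 3, nat_lit 5, nat_lit 3, nat_lit 1, nat_lit 0, nat_lit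 3, nat_lit 0, nat_lit 3, nat_lit 0, nat_lit 4, nat_lit 6, nat_lit 3, nat_lit 0, nat_lit 4, nat_lit 6, nat_lit 3, nat_lit 0, nat_lit 4, nat_lit 6, nat_lit 3, nat_lit 0, nat_lit 4, nat_lit 6, nat_lit 3, nat_lit 0, nat_lit 4, nat_lit 6, nat_lit 3, nat_lit 0, nat_lit 4, nat_lit 6, nat_lit 3, nat_lit 0, nat_lit 4, nat_lit 6, nat_lit 4, nat_lit 1, nat_lit 0, nat_lit 3, nat_lit 0, nat_lit 4, nat_lit 0, nat_lit 6, nat_lit 5, nat_lit 6, nat_lit 5, nat_lit 3, nat_lit 5, nat_lit 4, nat_lit 0, nat_lit 3, nat_lit 2, nat_lit 0, nat_lit 4, nat_lit 0, nat_lit 1, nat_lit 6, nat_lit 4, nat_lit 0, nat_lit 3, nat_lit 2, nat_lit 0, nat_lit 3, nat_lit 2, nat_lit 1],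
  [nat_lit 1, nat_lit 6, nat_lit 6, nat_lit 0, nat_lit 4, nat_lit 1, nat_lit 1, nat_lit 3, nat_lit 5, nat_lit 6, nat_lit 5, nat_lit 6, nat_lit 0, nat_lit 4, nat_lit 0, nat_lit 3, nat_lit 0, nat_lit 1, nat_lit 4, nat_lit 6, nat_lit 4, nat_lit 0, nat_lit 3, nat_lit 6, nat_lit 4, nat_lit 0, nat_lit 3, nat_lit 6, nat_lit 4, nat_lit 0, nat_lit 3, nat_lit 6, nat_lit 4, nat_lit 0, nat_lit 3, nat_lit 6, nat_lit 4, nat_lit 0, nat_lit 3, nat_lit 6, nat_lit 4, nat_lit 0, nat_lit 3, nat_lit 6, nat_lit 4, nat_lit 0, nat_lit 3, nat_lit 0, nat_lit 3, nat_lit 0, nat_lit 1, nat_lit 0, nat_lit 2, nat_lit 0, nat_lit 4, nat_lit 1, nat_lit 6, nat_lit 4, nat_lit 0, nat_lit 4, nat_lit 0, nat_lit 2, nat_lit 1, nat_lit 0, nat_lit 2],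
  [nat_lit 4, nat_lit 0, nat_lit 3, nat_lit 3, nat_lit 0, nat_lit 3, nat_lit 0, nat_lit 4, nat_lit 6, nat_lit 3, nat_lit 0, nat_lit 4, nat_lit 6, nat_lit 3, nat_lit 0, nat_lit 4, nat_lit 6, nat_lit 3, nat_lit 0, nat_lit 4, nat_lit 6, nat_lit 3, nat_lit 0, nat_lit 4, nat_lit 6, nat_lit 3, nat_lit 0, nat_lit 4, nat_lit 6, nat_lit 3, nat_lit 0, nat_lit 4, nat_lit 6, nat_lit 4, nat_lit 1, nat_lit 0, nat_lit 3, nat_lit 0, nat_lit 4, nat_lit 0, nat_lit 6, nat_lit 5, nat_lit 6, nat_lit 5, nat_lit 3, nat_lit 0, nat_lit 4, nat_lit 0, nat_lit 1, nat_lit 0, nat_lit 3, nat_lit 2, nat_lit 0, nat_lit 4, nat_lit 6, nat_lit 4, nat_lit 0, nat_lit 4, nat_lit 0, nat_lit 3, nat_lit 0, nat_lit 4, nat_lit 5],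
  [nat_lit 3, nat_lit 2, nat_lit 6, nat_lit 1, nat_lit 5, nat_lit 3, nat_lit 1, nat_lit 0, nat_lit 5, nat_lit 3, nat_lit 1, nat_lit 3, nat_lit 0, nat_lit 3, nat_lit 0, nat_lit 4, nat_lit 6, nat_lit 3, nat_lit 0, nat_lit 4, nat_lit 6, nat_lit 3, nat_lit 0, nat_lit 4, nat_lit 6, nat_lit 3, nat_lit 0, nat_lit 4, nat_lit 6, nat_lit 3, nat_lit 0, nat_lit 4, nat_lit 6, nat_lit 3, nat_lit 0, nat_lit 4, nat_lit 6, nat_lit 3, nat_lit 0, nat_lit 4, nat_lit 6, nat_lit 4, nat_lit 1, nat_lit 0, nat_lit 3, nat_lit 0, nat_lit 4, nat_lit 0, nat_lit 6, nat_lit 5, nat_lit 6, nat_lit 5, nat_lit 3, nat_lit 5, nat_lit 3, nat_lit 1, nat_lit 4, nat_lit 0, nat_lit 1, nat_lit 0, nat_lit 4, nat_lit 3, nat_lit 2, nat_lit 0, nat_lit 4, nat_lit 0, nat_lit 4, nat_lit 6, nat_lit 5, nat_lit 4, nat_lit 0, nat_lit 4, nat_lit 2, nat_lit 0, nat_lit 4, nat_lit 6],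
  [nat_lit 1, nat_lit 2, nat_lit 5, nat_lit 3, nat_lit 1, nat_lit 0, nat_lit 3, nat_lit 0, nat_lit 3, nat_lit 0, nat_lit 4, nat_lit 6, nat_lit 3, nat_lit 0, nat_lit 4, nat_lit 6, nat_lit 3, nat_lit 0, nat_lit 4, nat_lit 6, nat_lit 3, nat_lit 0, nat_lit 4, nat_lit 6, nat_lit 3, nat_lit 0, nat_lit 4, nat_lit 6, nat_lit 3, nat_lit 0, nat_lit 4, nat_lit 6, nat_lit 3, nat_lit 0, nat_lit 4, nat_lit 6, nat_lit 4, nat_lit 1, nat_lit 0, nat_lit 3, nat_lit 0, nat_lit 4, nat_lit 0, nat_lit 6, nat_lit 5, nat_lit 6, nat_lit 5, nat_lit 3, nat_lit 0, nat_lit 5, nat_lit 3, nat_lit 1, nat_lit 0, nat_lit 3, nat_lit 5, nat_lit 6, nat_lit 5, nat_lit 6, nat_lit 0, nat_lit 4, nat_lit 0, nat_lit 3, nat_lit 0, nat_lit 1, nat_lit 4, nat_lit 6, nat_lit 4, nat_lit 0, nat_lit 3, nat_lit 6, nat_lit 4, nat_lit 0, nat_lit 3, nat_lit 6, nat_lit 4, nat_lit 0, nat_lit 3, nat_lit 6, nat_lit 4, nat_lit 0, nat_lit 3, nat_lit 6,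 nat_lit 4, nat_lit 0, nat_lit 3, nat_lit 6, nat_lit 4, nat_lit 0, nat_lit 3, nat_lit 6, nat_lit 4, nat_lit 0, nat_lit 3, nat_lit 0, nat_lit 3, nat_lit 5, nat_lit 3, nat_lit 1, nat_lit 0, nat_lit 4, nat_lit 1, nat_lit 0, nat_lit 4, nat_lit 0, nat_lit 4, nat_lit 1, nat_lit 0, nat_lit 6, nat_lit 4, nat_lit 0, nat_lit 4, nat_lit 1, nat_lit 0, nat_lit 2, nat_lit 6, nat_lit 4, nat_lit 0, nat_lit 1, nat_lit 4],
  [nat_lit 4, nat_lit 6, nat_lit 3, nat_lit 0, nat_lit 3, nat_lit 0, nat_lit 4, nat_lit 6, nat_lit 3, nat_lit 0, nat_lit 4, nat_lit 6, nat_lit 3, nat_lit 0, nat_lit 4, nat_lit 6, nat_lit 3, nat_lit 0, nat_lit 4, nat_lit 6, nat_lit 3, nat_lit 0, nat_lit 4, nat_lit 6, nat_lit 3, nat_lit 0, nat_lit 4, nat_lit 6, nat_lit 3, nat_lit 0, nat_lit 4, nat_lit 6, nat_lit 4, nat_lit 1, nat_lit 0, nat_lit 3, nat_lit 0, nat_lit 4, nat_lit 0, nat_lit 6, nat_lit 5, nat_lit 6, nat_lit 5, nat_lit 3, nat_lit 5,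 nat_lit 3, nat_lit 1, nat_lit 0, nat_lit 3, nat_lit 5, nat_lit 6, nat_lit 5, nat_lit 6, nat_lit 0, nat_lit 4, nat_lit 0, nat_lit 3, nat_lit 0, nat_lit 1, nat_lit 4, nat_lit 6, nat_lit 4, nat_lit 0, nat_lit 3, nat_lit 6, nat_lit 4, nat_lit 0, nat_lit 3, nat_lit 6, nat_lit 4, nat_lit 0, nat_lit 3, nat_lit 6, nat_lit 4, nat_lit 0, nat_lit 3, nat_lit 6, nat_lit 4, nat_lit 0, nat_lit 3, nat_lit 6, nat_lit 4, nat_lit 0, nat_lit 3, nat_lit 6, nat_lit 4, nat_lit 0, nat_lit 3, nat_lit 0, nat_lit 3, nat_lit 4, nat_lit 3, nat_lit 0, nat_lit 4, nat_lit 0, nat_lit 3, nat_lit 1, nat_lit 2, nat_lit 0, nat_lit 4, nat_lit 0, nat_lit 4, nat_lit 6, nat_lit 4, nat_lit 0, nat_lit 4, nat_lit 3, nat_lit 0, nat_lit 1, nat_lit 0, nat_lit 6, nat_lit 4, nat_lit 2, nat_lit 0, nat_lit 3, nat_lit 4],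
  [nat_lit 1, nat_lit 6, nat_lit 2, nat_lit 4, nat_lit 4, nat_lit 3, nat_lit 0, nat_lit 3, nat_lit 0, nat_lit 4, nat_lit 6, nat_lit 3, nat_lit 0, nat_lit 4, nat_lit 6, nat_lit 3, nat_lit 0, nat_lit 4, nat_lit 6, nat_lit 3, nat_lit 0, nat_lit 4, nat_lit 6, nat_lit 3, nat_lit 0, nat_lit 4, nat_lit 6, nat_lit 3, nat_lit 0, nat_lit 4, nat_lit 6, nat_lit 3, nat_lit 0, nat_lit 4, nat_lit 6, nat_lit 4, nat_lit 1, nat_lit 0, nat_lit 3, nat_lit 0, nat_lit 4, nat_lit 0, nat_lit 6, nat_lit 5, nat_lit 6, nat_lit 5, nat_lit 3, nat_lit 0, nat_lit 5, nat_lit 3, nat_lit 1, nat_lit 0, nat_lit 5, nat_lit 3, nat_lit 1, nat_lit 3, nat_lit 0, nat_lit 4, nat_lit 0, nat_lit 3, nat_lit 6, nat_lit 4, nat_lit 0, nat_lit 4, nat_lit 1, nat_lit 0, nat_lit 6, nat_lit 4, nat_lit 0, nat_lit 2, nat_lit 1, nat_lit 0, nat_lit 4, nat_lit 0, nat_lit 2, nat_lit 1, nat_lit 2],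
  [nat_lit 5, nat_lit 2, nat_lit 4, nat_lit 5, nat_lit 6, nat_lit 5, nat_lit 5, nat_lit 3, nat_lit 1, nat_lit 0, nat_lit 5, nat_lit 3, nat_lit 1, nat_lit 3, nat_lit 5, nat_lit 6, nat_lit 5, nat_lit 6, nat_lit 0, nat_lit 4, nat_lit 0, nat_lit 3, nat_lit 0, nat_lit 1, nat_lit 4, nat_lit 6, nat_lit 4, nat_lit 0, nat_lit 3, nat_lit 6, nat_lit 4, nat_lit 0, nat_lit 3, nat_lit 6, nat_lit 4, nat_lit 0, nat_lit 3, nat_lit 6, nat_lit 4, nat_lit 0, nat_lit 3, nat_lit 6, nat_lit 4, nat_lit 0, nat_lit 3, nat_lit 6, nat_lit 4, nat_lit 0, nat_lit 3, nat_lit 6, nat_lit 4, nat_lit 0, nat_lit 3, nat_lit 0, nat_lit 3, nat_lit 5, nat_lit 4, nat_lit 0, nat_lit 3, nat_lit 1, nat_lit 0, nat_lit 2, nat_lit 0, nat_lit 4, nat_lit 0, nat_lit 4, nat_lit 1, nat_lit 6, nat_lit 4, nat_lit 0, nat_lit 4, nat_lit 0, nat_lit 2, nat_lit 4, nat_lit 4, nat_lit 2, nat_lit 4, nat_lit 0],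
  [nat_lit 4, nat_lit 5, nat_lit 3, nat_lit 1, nat_lit 3, nat_lit 0, nat_lit 3, nat_lit 0, nat_lit 4, nat_lit 6, nat_lit 3, nat_lit 0, nat_lit 4, nat_lit 6, nat_lit 3, nat_lit 0, nat_lit 4, nat_lit 6, nat_lit 3, nat_lit 0, nat_lit 4, nat_lit 6, nat_lit 3, nat_lit 0, nat_lit 4, nat_lit 6, nat_lit 3, nat_lit 0, nat_lit 4, nat_lit 6, nat_lit 3, nat_lit 0, nat_lit 4, nat_lit 6, nat_lit 4, nat_lit 1, nat_lit 0, nat_lit 3, nat_lit 0, nat_lit 4, nat_lit 0, nat_lit 6, nat_lit 5, nat_lit 6, nat_lit 5, nat_lit 0, nat_lit 3, nat_lit 0, nat_lit 4, nat_lit 6, nat_lit 3, nat_lit 0, nat_lit 4, nat_lit 6, nat_lit 3, nat_lit 0, nat_lit 4, nat_lit 6, nat_lit 3, nat_lit 0, nat_lit 4, nat_lit 6, nat_lit 3, nat_lit 0, nat_lit 4, nat_lit 6, nat_lit 3, nat_lit 0, nat_lit 4, nat_lit 6, nat_lit 3, nat_lit 0, nat_lit 4, nat_lit 6, nat_lit 4, nat_lit 1, nat_lit 0, nat_lit 3, nat_lit 0, nat_lit 4, nat_lit 0, nat_lit 6,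 nat_lit 5, nat_lit 6, nat_lit 5, nat_lit 3, nat_lit 5, nat_lit 3, nat_lit 1, nat_lit 0, nat_lit 5, nat_lit 4, nat_lit 0, nat_lit 4, nat_lit 3, nat_lit 1, nat_lit 6, nat_lit 4, nat_lit 0, nat_lit 4, nat_lit 0, nat_lit 1, nat_lit 2, nat_lit 0, nat_lit 6, nat_lit 4, nat_lit 0, nat_lit 2, nat_lit 6],
  [nat_lit 4, nat_lit 2, nat_lit 5, nat_lit 0, nat_lit 6, nat_lit 4, nat_lit 0, nat_lit 3, nat_lit 6, nat_lit 4, nat_lit 0, nat_lit 3, nat_lit 6, nat_lit 4, nat_lit 0, nat_lit 3, nat_lit 6, nat_lit 4, nat_lit 0, nat_lit 3, nat_lit 6, nat_lit 4, nat_lit 0, nat_lit 3, nat_lit 6, nat_lit 4, nat_lit 0, nat_lit 3, nat_lit 6, nat_lit 4, nat_lit 0, nat_lit 3, nat_lit 1, nat_lit 0, nat_lit 5, nat_lit 4, nat_lit 0, nat_lit 1, nat_lit 3, nat_lit 0, nat_lit 4, nat_lit 0, nat_lit 1, nat_lit 3, nat_lit 0, nat_lit 4, nat_lit 6, nat_lit 3, nat_lit 0, nat_lit 4, nat_lit 6, nat_lit 3, nat_lit 0, nat_lit 4, nat_lit 6,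 nat_lit 3, nat_lit 0, nat_lit 4, nat_lit 6, nat_lit 3, nat_lit 0, nat_lit 4, nat_lit 6, nat_lit 3, nat_lit 0, nat_lit 4, nat_lit 6, nat_lit 3, nat_lit 0, nat_lit 4, nat_lit 6, nat_lit 5, nat_lit 3, nat_lit 1, nat_lit 0, nat_lit 5, nat_lit 3, nat_lit 1, nat_lit 0, nat_lit 4, nat_lit 0, nat_lit 4, nat_lit 3, nat_lit 0, nat_lit 1, nat_lit 0, nat_lit 6, nat_lit 4, nat_lit 0, nat_lit 4, nat_lit 0, nat_lit 3, nat_lit 2, nat_lit 6, nat_lit 4, nat_lit 0, nat_lit 3, nat_lit 0, nat_lit 6, nat_lit 3, nat_lit 4, nat_lit 4]]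
noncomputable def Fs2 : List (List ℕ) := [[nat_lit 4, nat_lit 6, nat_lit 0, nat_lit 5, nat_lit 2, nat_lit 0, nat_lit 3, nat_lit 0, nat_lit 3, nat_lit 0, nat_lit 4, nat_lit 6, nat_lit 3, nat_lit 0, nat_lit 4, nat_lit 6, nat_lit 3, nat_lit 0, nat_lit 4, nat_lit 6, nat_lit 3, nat_lit 0, nat_lit 4, nat_lit 6, nat_lit 3, nat_lit 0, nat_lit 4, nat_lit 6, nat_lit 3, nat_lit 0, nat_lit 4, nat_lit 6, nat_lit 3, nat_lit 0, nat_lit 4, nat_lit 6, nat_lit 4, nat_lit 1, nat_lit 0, nat_lit 3, nat_lit 0, nat_lit 4, nat_lit 0, nat_lit 6, nat_lit 5, nat_lit 6, nat_lit 5, nat_lit 3, nat_lit 0, nat_lit 5, nat_lit 3, nat_lit 1, nat_lit 0, nat_lit 3, nat_lit 5, nat_lit 6, nat_lit 5, nat_lit 6, nat_lit 0, nat_lit 4, nat_lit 0, nat_lit 3, nat_lit 0, nat_lit 1, nat_lit 4, nat_lit 6, nat_lit 4, nat_lit 0, nat_lit 3, nat_lit 6, nat_lit 4, nat_lit 0, nat_lit 3, nat_lit 6, nat_lit 4, nat_lit 0, nat_lit 3, nat_lit 6, nat_lit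 4, nat_lit 0, nat_lit 3, nat_lit 6, nat_lit 4, nat_lit 0, nat_lit 3, nat_lit 6, nat_lit 4, nat_lit 0, nat_lit 3, nat_lit 6, nat_lit 4, nat_lit 0, nat_lit 3, nat_lit 0, nat_lit 3, nat_lit 5, nat_lit 3, nat_lit 1, nat_lit 0, nat_lit 4, nat_lit 0, nat_lit 3, nat_lit 0, nat_lit 4, nat_lit 0, nat_lit 4, nat_lit 6, nat_lit 4, nat_lit 0, nat_lit 4, nat_lit 0, nat_lit 1, nat_lit 2, nat_lit 0, nat_lit 6, nat_lit 4, nat_lit 0, nat_lit 2, nat_lit 2, nat_lit 6],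
  [nat_lit 1, nat_lit 4, nat_lit 4, nat_lit 4, nat_lit 5, nat_lit 2, nat_lit 4, nat_lit 5, nat_lit 3, nat_lit 1, nat_lit 0, nat_lit 3, nat_lit 5, nat_lit 6, nat_lit 5, nat_lit 6, nat_lit 0, nat_lit 4, nat_lit 0, nat_lit 3, nat_lit 0, nat_lit 1, nat_lit 4, nat_lit 6, nat_lit 4, nat_lit 0, nat_lit 3, nat_lit 6, nat_lit 4, nat_lit 0, nat_lit 3, nat_lit 6, nat_lit 4, nat_lit 0, nat_lit 3, nat_lit 6, nat_lit 4, nat_lit 0, nat_lit 3, nat_lit 6, nat_lit 4, nat_lit 0, nat_lit 3, nat_lit 6, nat_lit 4, nat_lit 0, nat_lit 3, nat_lit 6, nat_lit 4, nat_lit 0, nat_lit 3, nat_lit 0, nat_lit 3, nat_lit 0, nat_lit 5, nat_lit 3, nat_lit 1, nat_lit 0, nat_lit 4, nat_lit 3, nat_lit 0, nat_lit 4, nat_lit 0, nat_lit 4, nat_lit 6, nat_lit 4, nat_lit 0, nat_lit 4, nat_lit 0, nat_lit 1, nat_lit 6, nat_lit 4, nat_lit 0, nat_lit 4, nat_lit 3, nat_lit 0, nat_lit 4, nat_lit 2, nat_lit 6],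
  [nat_lit 6, nat_lit 1, nat_lit 0, nat_lit 5, nat_lit 0, nat_lit 5, nat_lit 3, nat_lit 1, nat_lit 3, nat_lit 0, nat_lit 3, nat_lit 0, nat_lit 4, nat_lit 6, nat_lit 3, nat_lit 0, nat_lit 4, nat_lit 6, nat_lit 3, nat_lit 0, nat_lit 4, nat_lit 6, nat_lit 3, nat_lit 0, nat_lit 4, nat_lit 6, nat_lit 3, nat_lit 0, nat_lit 4, nat_lit 6, nat_lit 3, nat_lit 0, nat_lit 4, nat_lit 6, nat_lit 3, nat_lit 0, nat_lit 4, nat_lit 6, nat_lit 4, nat_lit 1, nat_lit 0, nat_lit 3, nat_lit 0, nat_lit 4, nat_lit 0, nat_lit 6, nat_lit 5, nat_lit 6, nat_lit 5, nat_lit 3, nat_lit 1, nat_lit 0, nat_lit 4, nat_lit 0, nat_lit 4, nat_lit 2, nat_lit 0, nat_lit 4, nat_lit 0, nat_lit 4, nat_lit 3, nat_lit 6, nat_lit 4, nat_lit 0, nat_lit 4, nat_lit 0, nat_lit 6, nat_lit 4, nat_lit 0, nat_lit 3, nat_lit 1, nat_lit 4, nat_lit 6, nat_lit 1],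
  [nat_lit 2, nat_lit 0, nat_lit 3, nat_lit 0, nat_lit 3, nat_lit 0, nat_lit 4, nat_lit 6, nat_lit 3, nat_lit 0, nat_lit 4, nat_lit 6, nat_lit 3, nat_lit 0, nat_lit 4, nat_lit 6, nat_lit 3, nat_lit 0, nat_lit 4, nat_lit 6, nat_lit 3, nat_lit 0, nat_lit 4, nat_lit 6, nat_lit 3, nat_lit 0, nat_lit 4, nat_lit 6, nat_lit 3, nat_lit 0, nat_lit 4, nat_lit 6, nat_lit 4, nat_lit 1, nat_lit 0, nat_lit 3, nat_lit 0, nat_lit 4, nat_lit 0, nat_lit 6, nat_lit 5, nat_lit 6, nat_lit 5, nat_lit 3, nat_lit 0, nat_lit 5, nat_lit 3, nat_lit 1, nat_lit 0, nat_lit 3, nat_lit 0, nat_lit 3, nat_lit 0, nat_lit 4, nat_lit 6, nat_lit 3, nat_lit 0, nat_lit 4, nat_lit 6, nat_lit 3, nat_lit 0, nat_lit 4, nat_lit 6, nat_lit 3, nat_lit 0, nat_lit 4, nat_lit 6, nat_lit 3, nat_lit 0, nat_lit 4, nat_lit 6, nat_lit 3, nat_lit 0, nat_lit 4, nat_lit 6, nat_lit 3, nat_lit 0, nat_lit 4, nat_lit 6, nat_lit 4, nat_lit 1, nat_lit 0,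 nat_lit 3, nat_lit 0, nat_lit 4, nat_lit 0, nat_lit 6, nat_lit 5, nat_lit 6, nat_lit 5, nat_lit 3, nat_lit 0, nat_lit 5, nat_lit 3, nat_lit 1, nat_lit 5, nat_lit 4, nat_lit 0, nat_lit 3, nat_lit 2, nat_lit 0, nat_lit 1, nat_lit 6, nat_lit 4, nat_lit 0, nat_lit 4, nat_lit 3, nat_lit 0, nat_lit 6, nat_lit 4, nat_lit 0, nat_lit 4, nat_lit 3],
  [nat_lit 5, nat_lit 1, nat_lit 6, nat_lit 3, nat_lit 4, nat_lit 5, nat_lit 3, nat_lit 1, nat_lit 3, nat_lit 0, nat_lit 3, nat_lit 0, nat_lit 4, nat_lit 6, nat_lit 3, nat_lit 0, nat_lit 4, nat_lit 6, nat_lit 3, nat_lit 0, nat_lit 4, nat_lit 6, nat_lit 3, nat_lit 0, nat_lit 4, nat_lit 6, nat_lit 3, nat_lit 0, nat_lit 4, nat_lit 6, nat_lit 3, nat_lit 0, nat_lit 4, nat_lit 6, nat_lit 3, nat_lit 0, nat_lit 4, nat_lit 6, nat_lit 4, nat_lit 1, nat_lit 0, nat_lit 3, nat_lit 0, nat_lit 4, nat_lit 0, nat_lit 6, nat_lit 5, nat_lit 6, nat_lit 5, nat_lit 3, nat_lit 5,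 nat_lit 3, nat_lit 1, nat_lit 0, nat_lit 3, nat_lit 5, nat_lit 6, nat_lit 5, nat_lit 6, nat_lit 0, nat_lit 4, nat_lit 0, nat_lit 3, nat_lit 0, nat_lit 1, nat_lit 4, nat_lit 6, nat_lit 4, nat_lit 0, nat_lit 3, nat_lit 6, nat_lit 4, nat_lit 0, nat_lit 3, nat_lit 6, nat_lit 4, nat_lit 0, nat_lit 3, nat_lit 6, nat_lit 4, nat_lit 0, nat_lit 3, nat_lit 6, nat_lit 4, nat_lit 0, nat_lit 3, nat_lit 6, nat_lit 4, nat_lit 0, nat_lit 3, nat_lit 6, nat_lit 4, nat_lit 0, nat_lit 3, nat_lit 0, nat_lit 3, nat_lit 5, nat_lit 3, nat_lit 1, nat_lit 4, nat_lit 0, nat_lit 1, nat_lit 0, nat_lit 4, nat_lit 2, nat_lit 0, nat_lit 4, nat_lit 0, nat_lit 6, nat_lit 4, nat_lit 0, nat_lit 4, nat_lit 3, nat_lit 0, nat_lit 4, nat_lit 1, nat_lit 0, nat_lit 2],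
  [nat_lit 6, nat_lit 4, nat_lit 0, nat_lit 3, nat_lit 4, nat_lit 5, nat_lit 3, nat_lit 0, nat_lit 4, nat_lit 0, nat_lit 1, nat_lit 0, nat_lit 4, nat_lit 6, nat_lit 4, nat_lit 0, nat_lit 3, nat_lit 6, nat_lit 4, nat_lit 0, nat_lit 3, nat_lit 6, nat_lit 4, nat_lit 0, nat_lit 3, nat_lit 6, nat_lit 4, nat_lit 0, nat_lit 3, nat_lit 6, nat_lit 4, nat_lit 0, nat_lit 3, nat_lit 6, nat_lit 4, nat_lit 0, nat_lit 3, nat_lit 6, nat_lit 4, nat_lit 0, nat_lit 3, nat_lit 0, nat_lit 1, nat_lit 3, nat_lit 0, nat_lit 6, nat_lit 4, nat_lit 0, nat_lit 3, nat_lit 6, nat_lit 4, nat_lit 0, nat_lit 3, nat_lit 6, nat_lit 4, nat_lit 0, nat_lit 3, nat_lit 6, nat_lit 4, nat_lit 0, nat_lit 3, nat_lit 6, nat_lit 4, nat_lit 0, nat_lit 3, nat_lit 6, nat_lit 4, nat_lit 0, nat_lit 3, nat_lit 6, nat_lit 4, nat_lit 0, nat_lit 3, nat_lit 1, nat_lit 4, nat_lit 0, nat_lit 4, nat_lit 0, nat_lit 1, nat_lit 5, nat_lit 4, nat_lit 0,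 nat_lit 4, nat_lit 3, nat_lit 0, nat_lit 4, nat_lit 1, nat_lit 0, nat_lit 6, nat_lit 4, nat_lit 0, nat_lit 4, nat_lit 3, nat_lit 1, nat_lit 3],
  [nat_lit 2, nat_lit 1, nat_lit 4, nat_lit 2, nat_lit 5, nat_lit 3, nat_lit 1, nat_lit 0, nat_lit 3, nat_lit 0, nat_lit 3, nat_lit 0, nat_lit 4, nat_lit 6, nat_lit 3, nat_lit 0, nat_lit 4, nat_lit 6, nat_lit 3, nat_lit 0, nat_lit 4, nat_lit 6, nat_lit 3, nat_lit 0, nat_lit 4, nat_lit 6, nat_lit 3, nat_lit 0, nat_lit 4, nat_lit 6, nat_lit 3, nat_lit 0, nat_lit 4, nat_lit 6, nat_lit 3, nat_lit 0, nat_lit 4, nat_lit 6, nat_lit 4, nat_lit 1, nat_lit 0, nat_lit 3, nat_lit 0, nat_lit 4, nat_lit 0, nat_lit 6, nat_lit 5, nat_lit 6, nat_lit 5, nat_lit 3, nat_lit 0, nat_lit 4, nat_lit 0, nat_lit 3, nat_lit 1, nat_lit 0, nat_lit 4, nat_lit 3, nat_lit 2, nat_lit 0, nat_lit 4, nat_lit 0, nat_lit 3, nat_lit 6, nat_lit 4, nat_lit 0, nat_lit 4, nat_lit 3, nat_lit 2,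 nat_lit 5, nat_lit 3, nat_lit 0],
  [nat_lit 5, nat_lit 3, nat_lit 1, nat_lit 0, nat_lit 3, nat_lit 5, nat_lit 6, nat_lit 5, nat_lit 6, nat_lit 0, nat_lit 4, nat_lit 0, nat_lit 3, nat_lit 0, nat_lit 1, nat_lit 4, nat_lit 6, nat_lit 4, nat_lit 0, nat_lit 3, nat_lit 6, nat_lit 4, nat_lit 0, nat_lit 3, nat_lit 6, nat_lit 4, nat_lit 0, nat_lit 3, nat_lit 6, nat_lit 4, nat_lit 0, nat_lit 3, nat_lit 6, nat_lit 4, nat_lit 0, nat_lit 3, nat_lit 6, nat_lit 4, nat_lit 0, nat_lit 3, nat_lit 6, nat_lit 4, nat_lit 0, nat_lit 3, nat_lit 0, nat_lit 3, nat_lit 0, nat_lit 5, nat_lit 3, nat_lit 1, nat_lit 0, nat_lit 3, nat_lit 5, nat_lit 6, nat_lit 5, nat_lit 6, nat_lit 0, nat_lit 4, nat_lit 0, nat_lit 3, nat_lit 0, nat_lit 1, nat_lit 4, nat_lit 6, nat_lit 4, nat_lit 0, nat_lit 3, nat_lit 6, nat_lit 4, nat_lit 0, nat_lit 3, nat_lit 6, nat_lit 4, nat_lit 0, nat_lit 3, nat_lit 6, nat_lit 4, nat_lit 0, nat_lit 3,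 nat_lit 6, nat_lit 4, nat_lit 0, nat_lit 3, nat_lit 6, nat_lit 4, nat_lit 0, nat_lit 3, nat_lit 6, nat_lit 4, nat_lit 0, nat_lit 3, nat_lit 0, nat_lit 3, nat_lit 4, nat_lit 0, nat_lit 3, nat_lit 0, nat_lit 1, nat_lit 0, nat_lit 6, nat_lit 4, nat_lit 0, nat_lit 4, nat_lit 1, nat_lit 0, nat_lit 6, nat_lit 4, nat_lit 2, nat_lit 1],
  [nat_lit 0, nat_lit 4, nat_lit 5, nat_lit 4, nat_lit 2, nat_lit 6, nat_lit 4, nat_lit 1, nat_lit 0, nat_lit 3, nat_lit 1, nat_lit 4, nat_lit 0, nat_lit 4, nat_lit 1, nat_lit 3, nat_lit 0, nat_lit 4, nat_lit 0, nat_lit 6, nat_lit 4, nat_lit 0, nat_lit 3, nat_lit 6, nat_lit 4, nat_lit 0, nat_lit 3, nat_lit 6, nat_lit 4, nat_lit 0, nat_lit 3, nat_lit 6, nat_lit 4, nat_lit 0, nat_lit 3, nat_lit 6, nat_lit 4, nat_lit 0, nat_lit 3, nat_lit 6, nat_lit 4, nat_lit 0, nat_lit 3, nat_lit 6, nat_lit 4, nat_lit 0, nat_lit 3, nat_lit 1, nat_lit 3, nat_lit 0, nat_lit 4, nat_lit 6,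 nat_lit 3, nat_lit 0, nat_lit 4, nat_lit 6, nat_lit 3, nat_lit 0, nat_lit 4, nat_lit 6, nat_lit 3, nat_lit 0, nat_lit 4, nat_lit 6, nat_lit 3, nat_lit 0, nat_lit 4, nat_lit 6, nat_lit 3, nat_lit 0, nat_lit 4, nat_lit 6, nat_lit 3, nat_lit 0, nat_lit 4, nat_lit 6, nat_lit 0, nat_lit 1, nat_lit 4, nat_lit 0, nat_lit 4, nat_lit 3, nat_lit 1, nat_lit 2, nat_lit 0, nat_lit 4, nat_lit 0, nat_lit 4, nat_lit 6, nat_lit 5, nat_lit 4, nat_lit 0, nat_lit 4, nat_lit 0, nat_lit 2, nat_lit 0, nat_lit 6]]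
noncomputable def c2 : Pc := ⟨(nat_lit 1), (nat_lit 1), (nat_lit 10), (nat_lit 4), (nat_lit 16), (nat_lit 11),
  [[[]],
  [[nat_lit 1, nat_lit 4], [nat_lit 5, nat_lit 6, nat_lit 7, nat_lit 9]],
  [[nat_lit 2], [nat_lit 2, nat_lit 5], [nat_lit 4, nat_lit 6]],
  [[nat_lit 3, nat_lit 9], [nat_lit 3, nat_lit 6], [nat_lit 3, nat_lit 4, nat_lit 6, nat_lit 9], []],
  [[nat_lit 4], [nat_lit 4, nat_lit 7], [nat_lit 4, nat_lit 7, nat_lit 9], [nat_lit 4, nat_lit 9], []],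
  [[nat_lit 5, nat_lit 7], [nat_lit 5, nat_lit 8], [nat_lit 5, nat_lit 7, nat_lit 8], [nat_lit 5, nat_lit 8, nat_lit 9], [nat_lit 5, nat_lit 9], []],
  [[nat_lit 6], [nat_lit 6, nat_lit 8], [nat_lit 6, nat_lit 7, nat_lit 9], [nat_lit 6, nat_lit 9], [nat_lit 6, nat_lit 9], [nat_lit 6, nat_lit 9], [nat_lit 9]],
  [[nat_lit 7], [nat_lit 7], [nat_lit 7, nat_lit 9], [nat_lit 7, nat_lit 9], [nat_lit 7], [nat_lit 7], [nat_lit 7], []],
  [[nat_lit 8, nat_lit 9], [nat_lit 8, nat_lit 9], [nat_lit 8, nat_lit 9], [nat_lit 8], [nat_lit 8], [nat_lit 8], [nat_lit 8], [nat_lit 8], []],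
  [[nat_lit 9], [nat_lit 9], [nat_lit 9], [nat_lit 9], [nat_lit 9], [nat_lit 9], [nat_lit 9], [nat_lit 9], [nat_lit 9], []]],
  [((nat_lit 1), [nat_lit 0], [nat_lit 4]),
  ((nat_lit 2), [nat_lit 4], [nat_lit 7]),
  ((nat_lit 6), [nat_lit 5], [nat_lit 9]),
  ((nat_lit 5), [nat_lit 4, nat_lit 6], [nat_lit 5]),
  ((nat_lit 7), [nat_lit 9], [nat_lit 5, nat_lit 6]),
  ((nat_lit 0), [nat_lit 7], [nat_lit 9]),
  ((nat_lit 0), [nat_lit 1], [nat_lit 1, nat_lit 5]),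
  ((nat_lit 3), [nat_lit 3], [nat_lit 0, nat_lit 3, nat_lit 4]),
  ((nat_lit 8), [nat_lit 2], [nat_lit 0, nat_lit 1, nat_lit 6, nat_lit 9]),
  ((nat_lit 8), [nat_lit 0], [nat_lit 9]),
  ((nat_lit 4), [nat_lit 1, nat_lit 2], [nat_lit 2, nat_lit 6]),
  ((nat_lit 4), [nat_lit 0], [nat_lit 4, nat_lit 7]),
  ((nat_lit 4), [nat_lit 4], [nat_lit 0, nat_lit 9]),
  ((nat_lit 4), [nat_lit 7], [nat_lit 0, nat_lit 7, nat_lit 9]),
  ((nat_lit 4), [nat_lit 9], [nat_lit 9]),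
  ((nat_lit 4), [nat_lit 3], [nat_lit 0, nat_lit 6, nat_lit 7, nat_lit 8, nat_lit 9])]⟩
noncomputable def I2_0 : List Pc.Idn := [⟨false, (nat_lit 0), [nat_lit 6], [nat_lit 6, nat_lit 6], [((nat_lit 112), (nat_lit 1))]⟩,
  ⟨false, (nat_lit 0), [nat_lit 1], [nat_lit 0, nat_lit 0], [((nat_lit 56), (nat_lit 1)), ((nat_lit 60), (nat_lit 1))]⟩,
  ⟨false, (nat_lit 0), [nat_lit 3], [nat_lit 3, nat_lit 0], [((nat_lit 109), (nat_lit 1)), ((nat_lit 115), (nat_lit 1))]⟩,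
  ⟨false, (nat_lit 0), [nat_lit 3], [nat_lit 0, nat_lit 0], [((nat_lit 106), (nat_lit 1)), ((nat_lit 115), (nat_lit 1))]⟩,
  ⟨false, (nat_lit 0), [nat_lit 5], [nat_lit 5, nat_lit 0], [((nat_lit 91), (nat_lit 1)), ((nat_lit 93), (nat_lit 1))]⟩,
  ⟨false, (nat_lit 0), [nat_lit 5], [nat_lit 0, nat_lit 0], [((nat_lit 86), (nat_lit 1)), ((nat_lit 93), (nat_lit 1))]⟩,
  ⟨false, (nat_lit 0), [nat_lit 6], [nat_lit 6, nat_lit 0], [((nat_lit 106), (nat_lit 1))]⟩,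
  ⟨false, (nat_lit 0), [nat_lit 8], [nat_lit 8, nat_lit 0], [((nat_lit 114), (nat_lit 1)), ((nat_lit 115), (nat_lit 1))]⟩,
  ⟨false, (nat_lit 0), [nat_lit 4], [nat_lit 4, nat_lit 1], [((nat_lit 90), (nat_lit 1)), ((nat_lit 93), (nat_lit 1))]⟩,
  ⟨false, (nat_lit 0), [nat_lit 5], [nat_lit 5, nat_lit 1], [((nat_lit 101), (nat_lit 1)), ((nat_lit 104), (nat_lit 1))]⟩,
  ⟨false, (nat_lit 0), [nat_lit 7], [nat_lit 7, nat_lit 2], [((nat_lit 113), (nat_lit 1)), ((nat_lit 115), (nat_lit 1))]⟩,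
  ⟨false, (nat_lit 0), [nat_lit 4], [nat_lit 4, nat_lit 3], [((nat_lit 110), (nat_lit 1)), ((nat_lit 115), (nat_lit 1))]⟩,
  ⟨false, (nat_lit 0), [nat_lit 5], [nat_lit 5, nat_lit 4], [((nat_lit 111), (nat_lit 1)), ((nat_lit 115), (nat_lit 1))]⟩,
  ⟨false, (nat_lit 0), [nat_lit 2], [nat_lit 2, nat_lit 0], [((nat_lit 56), (nat_lit 1)), ((nat_lit 76), (nat_lit 1))]⟩,
  ⟨false, (nat_lit 0), [nat_lit 3], [nat_lit 3, nat_lit 1], [((nat_lit 79), (nat_lit 1)), ((nat_lit 82), (nat_lit 1)), ((nat_lit 112), (nat_lit 1)), ((nat_lit 115), (nat_lit 1))]⟩,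
  ⟨false, (nat_lit 0), [nat_lit 5], [nat_lit 5, nat_lit 2], [((nat_lit 91), (nat_lit 1)), ((nat_lit 93), (nat_lit 1)), ((nat_lit 101), (nat_lit 1)), ((nat_lit 103), (nat_lit 1)), ((nat_lit 104), (nat_lit 1))]⟩,
  ⟨false, (nat_lit 0), [nat_lit 5], [nat_lit 3, nat_lit 3], [((nat_lit 99), (nat_lit 1)), ((nat_lit 104), (nat_lit 1)), ((nat_lit 109), (nat_lit 1)), ((nat_lit 114), (nat_lit 1)), ((nat_lit 115), (nat_lit 1))]⟩,
  ⟨false, (nat_lit 0), [nat_lit 7], [nat_lit 1, nat_lit 0], [((nat_lit 90), (nat_lit 1))]⟩,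
  ⟨false, (nat_lit 0), [nat_lit 6], [nat_lit 6, nat_lit 1], [((nat_lit 102), (nat_lit 1)), ((nat_lit 104), (nat_lit 1)), ((nat_lit 107), (nat_lit 1))]⟩,
  ⟨false, (nat_lit 0), [nat_lit 7], [nat_lit 2, nat_lit 2], [((nat_lit 90), (nat_lit 1)), ((nat_lit 92), (nat_lit 1)), ((nat_lit 108), (nat_lit 1)), ((nat_lit 115), (nat_lit 1))]⟩,
  ⟨false, (nat_lit 0), [nat_lit 8], [nat_lit 2, nat_lit 2], [((nat_lit 100), (nat_lit 1)), ((nat_lit 102), (nat_lit 1)), ((nat_lit 108), (nat_lit 1)), ((nat_lit 115), (nat_lit 1))]⟩,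
  ⟨false, (nat_lit 0), [nat_lit 7], [nat_lit 1, nat_lit 1], [((nat_lit 91), (nat_lit 1)), ((nat_lit 92), (nat_lit 1)), ((nat_lit 113), (nat_lit 1))]⟩,
  ⟨false, (nat_lit 0), [nat_lit 2], [nat_lit 2, nat_lit 2], [((nat_lit 58), (nat_lit 1)), ((nat_lit 78), (nat_lit 1)), ((nat_lit 92), (nat_lit 1)), ((nat_lit 93), (nat_lit 1)), ((nat_lit 112), (nat_lit 1)), ((nat_lit 113), (nat_lit 1)), ((nat_lit 115), (nat_lit 1))]⟩,
  ⟨false, (nat_lit 0), [nat_lit 1], [nat_lit 1, nat_lit 1], [((nat_lit 67), (nat_lit 1)), ((nat_lit 77), (nat_lit 1)), ((nat_lit 87), (nat_lit 1)), ((nat_lit 102), (nat_lit 1)), ((nat_lit 104), (nat_lit 1)), ((nat_lit 107), (nat_lit 1))]⟩,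
  ⟨false, (nat_lit 0), [nat_lit 7], [nat_lit 2, nat_lit 1], [((nat_lit 91), (nat_lit 1)), ((nat_lit 107), (nat_lit 1)), ((nat_lit 111), (nat_lit 1))]⟩,
  ⟨false, (nat_lit 0), [nat_lit 8], [nat_lit 3, nat_lit 1], [((nat_lit 102), (nat_lit 1)), ((nat_lit 109), (nat_lit 1)), ((nat_lit 112), (nat_lit 1))]⟩,
  ⟨false, (nat_lit 0), [nat_lit 4], [nat_lit 2, nat_lit 2], [((nat_lit 80), (nat_lit 1)), ((nat_lit 88), (nat_lit 1)), ((nat_lit 93), (nat_lit 1)), ((nat_lit 108), (nat_lit 1)), ((nat_lit 113), (nat_lit 1))]⟩,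
  ⟨false, (nat_lit 0), [nat_lit 6], [nat_lit 1, nat_lit 0], [((nat_lit 80), (nat_lit 1)), ((nat_lit 96), (nat_lit 1)), ((nat_lit 100), (nat_lit 1)), ((nat_lit 114), (nat_lit 1))]⟩,
  ⟨false, (nat_lit 0), [nat_lit 5], [nat_lit 1, nat_lit 1], [((nat_lit 81), (nat_lit 1)), ((nat_lit 91), (nat_lit 1)), ((nat_lit 97), (nat_lit 1)), ((nat_lit 104), (nat_lit 1)), ((nat_lit 111), (nat_lit 1)), ((nat_lit 113), (nat_lit 1)), ((nat_lit 115), (nat_lit 1))]⟩,
  ⟨false, (nat_lit 0), [nat_lit 3], [nat_lit 3, nat_lit 2], [((nat_lit 59), (nat_lit 1)), ((nat_lit 60), (nat_lit 1)), ((nat_lit 79), (nat_lit 1)), ((nat_lit 80), (nat_lit 1)), ((nat_lit 82), (nat_lit 1)), ((nat_lit 109), (nat_lit 1)), ((nat_lit 110), (nat_lit 1)), ((nat_lit 112), (nat_lit 1)), ((nat_lit 115), (nat_lit 1))]⟩,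
  ⟨false, (nat_lit 0), [nat_lit 2], [nat_lit 1, nat_lit 0], [((nat_lit 58), (nat_lit 1)), ((nat_lit 66), (nat_lit 1)), ((nat_lit 70), (nat_lit 1)), ((nat_lit 91), (nat_lit 1)), ((nat_lit 93), (nat_lit 1)), ((nat_lit 111), (nat_lit 1)), ((nat_lit 113), (nat_lit 1))]⟩,
  ⟨false, (nat_lit 0), [nat_lit 4], [nat_lit 3, nat_lit 1], [((nat_lit 80), (nat_lit 1)), ((nat_lit 89), (nat_lit 1)), ((nat_lit 92), (nat_lit 1)), ((nat_lit 107), (nat_lit 1))]⟩,
  ⟨false, (nat_lit 0), [nat_lit 4], [nat_lit 1, nat_lit 1], [((nat_lit 70), (nat_lit 1)), ((nat_lit 80), (nat_lit 1)), ((nat_lit 87), (nat_lit 1)), ((nat_lit 90), (nat_lit 1)), ((nat_lit 93), (nat_lit 1)), ((nat_lit 110), (nat_lit 1)), ((nat_lit 112), (nat_lit 1)), ((nat_lit 115), (nat_lit 1))]⟩,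
  ⟨false, (nat_lit 0), [nat_lit 5], [nat_lit 2, nat_lit 1], [((nat_lit 87), (nat_lit 1)), ((nat_lit 91), (nat_lit 1)), ((nat_lit 97), (nat_lit 1)), ((nat_lit 98), (nat_lit 1)), ((nat_lit 103), (nat_lit 1)), ((nat_lit 111), (nat_lit 1))]⟩,
  ⟨false, (nat_lit 0), [nat_lit 2], [nat_lit 2, nat_lit 1], [((nat_lit 57), (nat_lit 1)), ((nat_lit 68), (nat_lit 1)), ((nat_lit 71), (nat_lit 1)), ((nat_lit 77), (nat_lit 1)), ((nat_lit 91), (nat_lit 1)), ((nat_lit 92), (nat_lit 1)), ((nat_lit 101), (nat_lit 1)), ((nat_lit 111), (nat_lit 1)), ((nat_lit 115), (nat_lit 1))]⟩,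
  ⟨false, (nat_lit 0), [nat_lit 1], [nat_lit 1, nat_lit 0], [((nat_lit 57), (nat_lit 1)), ((nat_lit 60), (nat_lit 1)), ((nat_lit 66), (nat_lit 1)), ((nat_lit 76), (nat_lit 1)), ((nat_lit 86), (nat_lit 1)), ((nat_lit 90), (nat_lit 1)), ((nat_lit 92), (nat_lit 1)), ((nat_lit 106), (nat_lit 1)), ((nat_lit 113), (nat_lit 1))]⟩,
  ⟨false, (nat_lit 0), [nat_lit 3], [nat_lit 1, nat_lit 1], [((nat_lit 69), (nat_lit 1)), ((nat_lit 77), (nat_lit 1)), ((nat_lit 79), (nat_lit 1)), ((nat_lit 82), (nat_lit 1)), ((nat_lit 89), (nat_lit 1)), ((nat_lit 102), (nat_lit 1)), ((nat_lit 103), (nat_lit 1)), ((nat_lit 104), (nat_lit 1)), ((nat_lit 109), (nat_lit 1)), ((nat_lit 113), (nat_lit 1))]⟩,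
  ⟨true, (nat_lit 1), [nat_lit 0, nat_lit 0], [], [((nat_lit 16), (nat_lit 1)), ((nat_lit 60), (nat_lit 1))]⟩,
  ⟨true, (nat_lit 2), [nat_lit 1, nat_lit 1], [], [((nat_lit 60), (nat_lit 1)), ((nat_lit 93), (nat_lit 1))]⟩,
  ⟨true, (nat_lit 6), [nat_lit 2, nat_lit 2], [], [((nat_lit 71), (nat_lit 1)), ((nat_lit 115), (nat_lit 1))]⟩,
  ⟨true, (nat_lit 5), [nat_lit 3, nat_lit 3], [], [((nat_lit 60), (nat_lit 1)), ((nat_lit 71), (nat_lit 1)), ((nat_lit 80), (nat_lit 1)), ((nat_lit 82), (nat_lit 1)), ((nat_lit 112), (nat_lit 1)), ((nat_lit 115), (nat_lit 1))]⟩,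
  ⟨true, (nat_lit 7), [nat_lit 4, nat_lit 4], [], [((nat_lit 71), (nat_lit 1)), ((nat_lit 81), (nat_lit 1)), ((nat_lit 82), (nat_lit 1)), ((nat_lit 112), (nat_lit 1))]⟩,
  ⟨true, (nat_lit 0), [nat_lit 5, nat_lit 6], [nat_lit 6, nat_lit 5], [((nat_lit 87), (nat_lit 1)), ((nat_lit 107), (nat_lit 1)), ((nat_lit 111), (nat_lit 1))]⟩,
  ⟨true, (nat_lit 3), [nat_lit 7, nat_lit 7], [], [((nat_lit 16), (nat_lit 1)), ((nat_lit 46), (nat_lit 1)), ((nat_lit 56), (nat_lit 1)), ((nat_lit 59), (nat_lit 1)), ((nat_lit 60), (nat_lit 1)), ((nat_lit 109), (nat_lit 1)), ((nat_lit 110), (nat_lit 1)), ((nat_lit 115), (nat_lit 1))]⟩,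
  ⟨true, (nat_lit 8), [nat_lit 8, nat_lit 9], [nat_lit 9, nat_lit 8], [((nat_lit 36), (nat_lit 1)), ((nat_lit 106), (nat_lit 1)), ((nat_lit 107), (nat_lit 1)), ((nat_lit 112), (nat_lit 1))]⟩,
  ⟨true, (nat_lit 4), [nat_lit 10, nat_lit 11], [nat_lit 11, nat_lit 10, nat_lit 12, nat_lit 13, nat_lit 14], [((nat_lit 12), (nat_lit 1)), ((nat_lit 13), (nat_lit 1)), ((nat_lit 14), (nat_lit 1)), ((nat_lit 16), (nat_lit 1)), ((nat_lit 26), (nat_lit 1)), ((nat_lit 36), (nat_lit 1)), ((nat_lit 80), (nat_lit 1)), ((nat_lit 88), (nat_lit 1)), ((nat_lit 93), (nat_lit 1)), ((nat_lit 106), (nat_lit 1)), ((nat_lit 113), (nat_lit 1))]⟩,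
  ⟨true, (nat_lit 4), [nat_lit 15, nat_lit 10], [nat_lit 10, nat_lit 15, nat_lit 12, nat_lit 13, nat_lit 14], [((nat_lit 12), (nat_lit 1)), ((nat_lit 13), (nat_lit 1)), ((nat_lit 14), (nat_lit 1)), ((nat_lit 16), (nat_lit 1)), ((nat_lit 36), (nat_lit 1)), ((nat_lit 47), (nat_lit 1)), ((nat_lit 48), (nat_lit 1)), ((nat_lit 76), (nat_lit 1)), ((nat_lit 82), (nat_lit 1)), ((nat_lit 88), (nat_lit 1)), ((nat_lit 98), (nat_lit 1)), ((nat_lit 102), (nat_lit 1)), ((nat_lit 103), (nat_lit 1)), ((nat_lit 108), (nat_lit 1)), ((nat_lit 112), (nat_lit 1)), ((nat_lit 113), (nat_lit 1))]⟩]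
noncomputable def Ds2 : List (List (ℕ × ℕ)) := I2_0.map Pc.Idn.D
noncomputable def S2 : List (List (ℕ × ℕ)) := [[],
  [],
  [],
  [],
  [((nat_lit 26), (nat_lit 1))],
  [((nat_lit 37), (nat_lit 1))],
  [((nat_lit 47), (nat_lit 1))],
  [((nat_lit 57), (nat_lit 1))],
  [((nat_lit 67), (nat_lit 1))],
  [((nat_lit 88), (nat_lit 1))]]
noncomputable def Yo2 : List (List (ℕ × ℕ) × ℕ × ℕ) := []
noncomputable def La2 : List ℕ := [nat_lit 0,
  nat_lit 0,
  nat_lit 0,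
  nat_lit 0,
  nat_lit 0,
  nat_lit 0,
  nat_lit 0,
  nat_lit 0,
  nat_lit 0,
  nat_lit 0,
  nat_lit 0,
  nat_lit 0,
  nat_lit 0,
  nat_lit 0,
  nat_lit 0,
  nat_lit 0,
  nat_lit 0,
  nat_lit 0,
  nat_lit 0,
  nat_lit 0,
  nat_lit 0x100001021119,
  nat_lit 0,
  nat_lit 0,
  nat_lit 0,
  nat_lit 0,
  nat_lit 0,
  nat_lit 0,
  nat_lit 0,
  nat_lit 0,
  nat_lit 0,
  nat_lit 0x820242a4012,
  nat_lit 0,
  nat_lit 0x66c21406310a,
  nat_lit 0,
  nat_lit 0,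
  nat_lit 0,
  nat_lit 0,
  nat_lit 0,
  nat_lit 0,
  nat_lit 0,
  nat_lit 0x4000020102,
  nat_lit 0,
  nat_lit 0x409450a3c2b,
  nat_lit 0x402428495c,
  nat_lit 0x4000020100,
  nat_lit 0,
  nat_lit 0,
  nat_lit 0,
  nat_lit 0,
  nat_lit 0,
  nat_lit 0x800222072,
  nat_lit 0,
  nat_lit 0x48402a00605,
  nat_lit 0x410858ac24d,
  nat_lit 0x40105280849,
  nat_lit 0x8000000048,
  nat_lit 0,
  nat_lit 0,
  nat_lit 0,
  nat_lit 0,
  nat_lit 0x4000022102,
  nat_lit 0x40001860110,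
  nat_lit 0x409456a3c72,
  nat_lit 0x1c004284110,
  nat_lit 0x42a0058,
  nat_lit 0x34004280110,
  nat_lit 0x1c004280159,
  nat_lit 0,
  nat_lit 0,
  nat_lit 0,
  nat_lit 0x20120,
  nat_lit 0x40001020110,
  nat_lit 0,
  nat_lit 0x850a1458,
  nat_lit 0x20000,
  nat_lit 0x20110,
  nat_lit 0x220558,
  nat_lit 0x20100,
  nat_lit 0,
  nat_lit 0,
  nat_lit 0xe120585,
  nat_lit 0x340172c055d,
  nat_lit 0x742162c9705,
  nat_lit 0x30711d9,
  nat_lit 0x2380515,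
  nat_lit 0x3061315,
  nat_lit 0x200004d,
  nat_lit 0x8210,
  nat_lit 0x3061115,
  nat_lit 0,
  nat_lit 0x40,
  nat_lit 0x1021158,
  nat_lit 0x280510,
  nat_lit 0x4c,
  nat_lit 0x848,
  nat_lit 0x1048,
  nat_lit 1,
  nat_lit 0x448,
  nat_lit 0xc8,
  nat_lit 0x48]
noncomputable def Wsx2 : List (List ℕ) := [[nat_lit 4, nat_lit 6, nat_lit 7],
  [nat_lit 0, nat_lit 2, nat_lit 3, nat_lit 7, nat_lit 8],
  [nat_lit 7],
  [nat_lit 9],
  [nat_lit 5],
  [nat_lit 8],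
  [nat_lit 3],
  [nat_lit 4],
  [nat_lit 1, nat_lit 2],
  [nat_lit 0]]
noncomputable def LDx2_6d : ℕ := nat_lit 0
noncomputable def LDx2_6 (u : ℕ) : ℕ := Nat.land (Nat.shiftRight LDx2_6d (Nat.mul u (nat_lit 1))) (nat_lit 1)
noncomputable def Ptx2_6d : ℕ := nat_lit 0x2c800
noncomputable def Ptx2_6 (u : ℕ) : ℕ := Nat.land (Nat.shiftRight Ptx2_6d (Nat.mul u (nat_lit 9))) (nat_lit 511)
noncomputable def Qx2_6d : ℕ := nat_lit 0x100000000000000000000000000000000000000000000000000000000000000000000000000000000000000000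
noncomputable def Qx2_6 (u : ℕ) : ℕ := Nat.land (Nat.shiftRight Qx2_6d (Nat.mul u (nat_lit 1))) (nat_lit 1)
noncomputable def lx2_6 : Lev := ⟨2, 1, LDx2_6, Ptx2_6, Qx2_6⟩
noncomputable def LDx2_5d : ℕ := nat_lit 2
noncomputable def LDx2_5 (u : ℕ) : ℕ := Nat.land (Nat.shiftRight LDx2_5d (Nat.mul u (nat_lit 1))) (nat_lit 1)
noncomputable def Ptx2_5d : ℕ := nat_lit 0x383002
noncomputable def Ptx2_5 (u : ℕ) : ℕ := Nat.land (Nat.shiftRight Ptx2_5d (Nat.mul u (nat_lit 11))) (nat_lit 2047)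
noncomputable def Qx2_5d : ℕ := nat_lit 0x400000000000000000000000000000000000000000000000000000000000000000000000000000000000000000000000000000000000000000000000000000000000000000000000000000000000000000000000000000000000000000000000000000000000000000000000000000000000000000000000000000000000000000000000000000000000000000000000000000000000000000000000000000000000000000000000000000000000000000000000000000000000000000000000000000000000000000000000000000000000000000000000000000000000000000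
noncomputable def Qx2_5 (u : ℕ) : ℕ := Nat.land (Nat.shiftRight Qx2_5d (Nat.mul u (nat_lit 1))) (nat_lit 1)
noncomputable def lx2_5 : Lev := ⟨2, 2, LDx2_5, Ptx2_5, Qx2_5⟩
noncomputable def LDx2_4d : ℕ := nat_lit 0xed0
noncomputable def LDx2_4 (u : ℕ) : ℕ := Nat.land (Nat.shiftRight LDx2_4d (Nat.mul u (nat_lit 3))) (nat_lit 7)
noncomputable def Ptx2_4d : ℕ := nat_lit 0xbc446b84001
noncomputable def Ptx2_4 (u : ℕ) : ℕ := Nat.land (Nat.shiftRight Ptx2_4d (Nat.mul u (nat_lit 11))) (nat_lit 2047)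
noncomputable def Qx2_4d : ℕ := nat_lit 0x1000000000000000000000000000000000000000000000000000000000000000000000000000000000000000000000000000000000000000000000000000000000000000000000000003000000000000000000000000000000000000000000000000000000000000000000000000000000000000000000000000000000000000000000000000000000000000000000000000000000000000000000000000000000000000000000000000000000000000000000000000000000000000000000000000000000000000000000000000000000000000000000000000000000000000000000000000000000000000000000000000000000000000000000000000000000000000000000000000000000000000000000000000000000000000000000000000000000000000000000000000000000000000000000000000000000000000000000000000000000000000000000000000000000000000000000000000000000000000000000000000000000000000000000000000000000000002000000000000000000000000000000000000000000000000000000000000000000000000000000000000000000000000000000000000000000000000000000000000000000000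
noncomputable def Qx2_4 (u : ℕ) : ℕ := Nat.land (Nat.shiftRight Qx2_4d (Nat.mul u (nat_lit 2))) (nat_lit 3)
noncomputable def lx2_4 : Lev := ⟨4, 4, LDx2_4, Ptx2_4, Qx2_4⟩
noncomputable def LDx2_3d : ℕ := nat_lit 0xb540
noncomputable def LDx2_3 (u : ℕ) : ℕ := Nat.land (Nat.shiftRight LDx2_3d (Nat.mul u (nat_lit 4))) (nat_lit 15)
noncomputable def Ptx2_3d : ℕ := nat_lit 0x715d8d7c87
noncomputable def Ptx2_3 (u : ℕ) : ℕ := Nat.land (Nat.shiftRight Ptx2_3d (Nat.mul u (nat_lit 10))) (nat_lit 1023)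
noncomputable def Qx2_3d : ℕ := nat_lit 0x4000000000000000000000000000000000000000000000000000000000000000000000000000000000000000000000000000000000000000000000000000000000000000000000000000000000000000000000000000000000000000000000000002000000000c0000000000000000000000000000000000000000000000000000000000000000000000000000000000000000000000000000000000000000000000000000000000000000000000000000000000000000000000000000000000000000000000000000000000000000000000000000000000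
noncomputable def Qx2_3 (u : ℕ) : ℕ := Nat.land (Nat.shiftRight Qx2_3d (Nat.mul u (nat_lit 2))) (nat_lit 3)
noncomputable def lx2_3 : Lev := ⟨4, 6, LDx2_3, Ptx2_3, Qx2_3⟩
noncomputable def LDx2_2d : ℕ := nat_lit 0x30
noncomputable def LDx2_2 (u : ℕ) : ℕ := Nat.land (Nat.shiftRight LDx2_2d (Nat.mul u (nat_lit 3))) (nat_lit 7)
noncomputable def Ptx2_2d : ℕ := nat_lit 0xfba6f
noncomputable def Ptx2_2 (u : ℕ) : ℕ := Nat.land (Nat.shiftRight Ptx2_2d (Nat.mul u (nat_lit 10))) (nat_lit 1023)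
noncomputable def Qx2_2d : ℕ := nat_lit 0x400000000000000000000000000000000000000000000000000000000000000000000000000000000000000000000000000000000000000000000000000000000000000000000000000000000000000000000000000000000000000000000000000000000000000000000000000000000000000000000000000000000000
noncomputable def Qx2_2 (u : ℕ) : ℕ := Nat.land (Nat.shiftRight Qx2_2d (Nat.mul u (nat_lit 1))) (nat_lit 1)
noncomputable def lx2_2 : Lev := ⟨2, 7, LDx2_2, Ptx2_2, Qx2_2⟩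
noncomputable def LDx2_1d : ℕ := nat_lit 0x8a0e0
noncomputable def LDx2_1 (u : ℕ) : ℕ := Nat.land (Nat.shiftRight LDx2_1d (Nat.mul u (nat_lit 5))) (nat_lit 31)
noncomputable def Ptx2_1d : ℕ := nat_lit 0x4defbbbe865
noncomputable def Ptx2_1 (u : ℕ) : ℕ := Nat.land (Nat.shiftRight Ptx2_1d (Nat.mul u (nat_lit 11))) (nat_lit 2047)
noncomputable def Qx2_1d : ℕ := nat_lit 0x40000000000000000000000000000000000000000000000000000000000000000000000000000000000000000000000000000000000000000000000000000000000000000000000000000000000000000000000000000000000000000000000000000000000000000000000000000000000000000000000000000000000000000000000000000000000000000000000000000000000000000000000000000000000000000000000000000000000000000000000000000000000000000000000000000000000000000000000000000000000000000000000000000000000000000000000200000000000000000000000000000000000000000000000000000000000000000000000000000000000000000000000000000000000000000000000000000000000000000000000000000000000000000000000000000000000000000000000c00000000000000000000000000000000000000000000000000000000000000000000000000000000000000000000000000000000000000000000000000000000000000000000000000000000000000000000000000000000000000000000000000000000000000000000000000000000000000000000000000000000000000000000000000000000000000000000000000000000000000000000000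
noncomputable def Qx2_1 (u : ℕ) : ℕ := Nat.land (Nat.shiftRight Qx2_1d (Nat.mul u (nat_lit 2))) (nat_lit 3)
noncomputable def lx2_1 : Lev := ⟨4, 9, LDx2_1, Ptx2_1, Qx2_1⟩
noncomputable def LDx2_0d : ℕ := nat_lit 0x90
noncomputable def LDx2_0 (u : ℕ) : ℕ := Nat.land (Nat.shiftRight LDx2_0d (Nat.mul u (nat_lit 4))) (nat_lit 15)
noncomputable def Ptx2_0d : ℕ := nat_lit 0x3563b4
noncomputable def Ptx2_0 (u : ℕ) : ℕ := Nat.land (Nat.shiftRight Ptx2_0d (Nat.mul u (nat_lit 11))) (nat_lit 2047)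
noncomputable def Qx2_0d : ℕ := nat_lit 0x10000000000000000000000000000000000000000000000000000000000000000000000000000000000000000000000000000000000000000000000000000000000000000000000000000000000000000000000000000000000000000000000000000000000000000000000000000000000000000000000000000000000000000000000000000000000000000000000000000000000000000000000000000000000000000000000000000000000000000000000000000000000000000000000000000000000000000000000000000000000000000000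
noncomputable def Qx2_0 (u : ℕ) : ℕ := Nat.land (Nat.shiftRight Qx2_0d (Nat.mul u (nat_lit 1))) (nat_lit 1)
noncomputable def lx2_0 : Lev := ⟨2, 10, LDx2_0, Ptx2_0, Qx2_0⟩
noncomputable def Lx2 : List Lev := [lx2_0, lx2_1, lx2_2, lx2_3, lx2_4, lx2_5, lx2_6]
noncomputable def Bx2 : List ℕ := [nat_lit 948, nat_lit 101, nat_lit 623, nat_lit 135, nat_lit 1, nat_lit 2, nat_lit 0]

theorem id7_0 : c7.idnChk (nat_lit 73) I7_0 = true := by decide +kernel
theorem rw7_0 : c7.rowChk S7 (Yo7.map (·.1) ++ Ds7) La7 (nat_lit 0) (nat_lit 9) = true := by decide +kernel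
theorem ord7 : c7.ordChk Yo7 Ds7 = true := by decide +kernel
theorem rule7_0 : allZ (c7.ruleEnt (wdsP H16.PHe.P Us7) H16.PHe.B) (nat_lit 0) (nat_lit 9) = true := by decide +kernel
theorem fus7_0 : allZ (c7.fusEnt (wdsP H16.PHe.P Us7) (wdsP H16.PHe.P Fs7) H16.PHe.B) (nat_lit 0) (nat_lit 4) = true := by decide +kernel
theorem lvx7_0e_0 : allZ (lx7_0.ent (wdsP (wdsP H16.PHe.P Us7) Wsx7)) (nat_lit 0) (nat_lit 342) = true := by decide +kernel
theorem lvx7_0b : 0 < lx7_0.n ∧ 0 < lx7_0.K ∧ lx7_0.Pt 0 < 2058 ∧ lx7_0.Q (lx7_0.Pt 0) = 0 ∧ 0 ≤ lx7_0.K ∧ fixLetters (wdsP (wdsP H16.PHe.P Us7) Wsx7) (nat_lit 0) (lx7_0.Pt 0) = true := by decide +kernel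
theorem basex7 : chainBase Lx7 = Bx7 ∧ ltAll (nat_lit 2058) Bx7 = 0 ∧ topK Lx7 = 2 := by decide +kernel
theorem h0_7 : allL (ltAll 7) Us7 = true ∧ allL (ltAll 7) Fs7 = true ∧ Us7.length ≤ c7.n ∧ 0 < 4030387200 := by decide +kernel
theorem h1_7 : allL (ltAll c7.n) Wsx7 = true ∧ chainCard Lx7 = (c7.p1 + 1) ^ c7.n ∧ c7.n * c7.n = 9 := by decide +kernel
theorem h2_7 : c7.Fmt ∧ c7.p1 + 1 = 7 ∧ c7.N1 + 1 = 7 ^ (0 + 1) ∧ 4030387200 = 7 ^ c7.n * (4030387200 / 7 ^ c7.n) ∧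
    Nat.Coprime (4030387200 / 7 ^ c7.n) (c7.N1 + 1) ∧ (Yo7.map (·.2.1)).prod ≤ 7 ^ 0 ∧ c7.n * c7.n = 9 := by decide +kernel
theorem h3_7 : c7.C = 4 := by decide +kernel
theorem id5_0 : c5.idnChk (nat_lit 14) I5_0 = true := by decide +kernel
theorem rw5_0 : c5.rowChk S5 (Yo5.map (·.1) ++ Ds5) La5 (nat_lit 0) (nat_lit 4) = true := by decide +kernel
theorem ord5 : c5.ordChk Yo5 Ds5 = true := by decide +kernel
theorem rule5_0 : allZ (c5.ruleEnt (wdsP H16.PHe.P Us5) H16.PHe.B) (nat_lit 0) (nat_lit 4) = true := by decide +kernel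
theorem fus5_0 : allZ (c5.fusEnt (wdsP H16.PHe.P Us5) (wdsP H16.PHe.P Fs5) H16.PHe.B) (nat_lit 0) (nat_lit 2) = true := by decide +kernel
theorem lvx5_1e_0 : allZ (lx5_1.ent (wdsP (wdsP H16.PHe.P Us5) Wsx5)) (nat_lit 0) (nat_lit 4) = true := by decide +kernel
theorem lvx5_1b : 0 < lx5_1.n ∧ 0 < lx5_1.K ∧ lx5_1.Pt 0 < 2058 ∧ lx5_1.Q (lx5_1.Pt 0) = 0 ∧ 0 ≤ lx5_1.K ∧ fixLetters (wdsP (wdsP H16.PHe.P Us5) Wsx5) (nat_lit 0) (lx5_1.Pt 0) = true := by decide +kernel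
theorem lvx5_0e_0 : allZ (lx5_0.ent (wdsP (wdsP H16.PHe.P Us5) Wsx5)) (nat_lit 0) (nat_lit 4) = true := by decide +kernel
theorem lvx5_0b : 0 < lx5_0.n ∧ 0 < lx5_0.K ∧ lx5_0.Pt 0 < 2058 ∧ lx5_0.Q (lx5_0.Pt 0) = 0 ∧ 1 ≤ lx5_0.K ∧ fixLetters (wdsP (wdsP H16.PHe.P Us5) Wsx5) (nat_lit 1) (lx5_0.Pt 0) = true := by decide +kernel
theorem basex5 : chainBase Lx5 = Bx5 ∧ ltAll (nat_lit 2058) Bx5 = 0 ∧ topK Lx5 = 2 := by decide +kernel
theorem h0_5 : allL (ltAll 7) Us5 = true ∧ allL (ltAll 7) Fs5 = true ∧ Us5.length ≤ c5.n ∧ 0 < 4030387200 := by decide +kernel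
theorem h1_5 : allL (ltAll c5.n) Wsx5 = true ∧ chainCard Lx5 = (c5.p1 + 1) ^ c5.n ∧ c5.n * c5.n = 4 := by decide +kernel
theorem h2_5 : c5.Fmt ∧ c5.p1 + 1 = 5 ∧ c5.N1 + 1 = 5 ^ (0 + 1) ∧ 4030387200 = 5 ^ c5.n * (4030387200 / 5 ^ c5.n) ∧
    Nat.Coprime (4030387200 / 5 ^ c5.n) (c5.N1 + 1) ∧ (Yo5.map (·.2.1)).prod ≤ 5 ^ 0 ∧ c5.n * c5.n = 4 := by decide +kernel
theorem h3_5 : c5.C = 2 := by decide +kernel
theorem id3_0 : c3.idnChk (nat_lit 21) I3_0 = true := by decide +kernel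
theorem rw3_0 : c3.rowChk S3 (Yo3.map (·.1) ++ Ds3) La3 (nat_lit 0) (nat_lit 9) = true := by decide +kernel
theorem ord3 : c3.ordChk Yo3 Ds3 = true := by decide +kernel
theorem rule3_0 : allZ (c3.ruleEnt (wdsP H16.PHe.P Us3) H16.PHe.B) (nat_lit 0) (nat_lit 9) = true := by decide +kernel
theorem fus3_0 : allZ (c3.fusEnt (wdsP H16.PHe.P Us3) (wdsP H16.PHe.P Fs3) H16.PHe.B) (nat_lit 0) (nat_lit 3) = true := by decide +kernel
theorem lvx3_2e_0 : allZ (lx3_2.ent (wdsP (wdsP H16.PHe.P Us3) Wsx3)) (nat_lit 0) (nat_lit 2) = true := by decide +kernel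
theorem lvx3_2b : 0 < lx3_2.n ∧ 0 < lx3_2.K ∧ lx3_2.Pt 0 < 2058 ∧ lx3_2.Q (lx3_2.Pt 0) = 0 ∧ 0 ≤ lx3_2.K ∧ fixLetters (wdsP (wdsP H16.PHe.P Us3) Wsx3) (nat_lit 0) (lx3_2.Pt 0) = true := by decide +kernel
theorem lvx3_1e_0 : allZ (lx3_1.ent (wdsP (wdsP H16.PHe.P Us3) Wsx3)) (nat_lit 0) (nat_lit 2) = true := by decide +kernel
theorem lvx3_1b : 0 < lx3_1.n ∧ 0 < lx3_1.K ∧ lx3_1.Pt 0 < 2058 ∧ lx3_1.Q (lx3_1.Pt 0) = 0 ∧ 1 ≤ lx3_1.K ∧ fixLetters (wdsP (wdsP H16.PHe.P Us3) Wsx3) (nat_lit 1) (lx3_1.Pt 0) = true := by decide +kernel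
theorem lvx3_0e_0 : allZ (lx3_0.ent (wdsP (wdsP H16.PHe.P Us3) Wsx3)) (nat_lit 0) (nat_lit 2) = true := by decide +kernel
theorem lvx3_0b : 0 < lx3_0.n ∧ 0 < lx3_0.K ∧ lx3_0.Pt 0 < 2058 ∧ lx3_0.Q (lx3_0.Pt 0) = 0 ∧ 2 ≤ lx3_0.K ∧ fixLetters (wdsP (wdsP H16.PHe.P Us3) Wsx3) (nat_lit 2) (lx3_0.Pt 0) = true := by decide +kernel
theorem basex3 : chainBase Lx3 = Bx3 ∧ ltAll (nat_lit 2058) Bx3 = 0 ∧ topK Lx3 = 3 := by decide +kernel
theorem h0_3 : allL (ltAll 7) Us3 = true ∧ allL (ltAll 7) Fs3 = true ∧ Us3.length ≤ c3.n ∧ 0 < 4030387200 := by decide +kernel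
theorem h1_3 : allL (ltAll c3.n) Wsx3 = true ∧ chainCard Lx3 = (c3.p1 + 1) ^ c3.n ∧ c3.n * c3.n = 9 := by decide +kernel
theorem h2_3 : c3.Fmt ∧ c3.p1 + 1 = 3 ∧ c3.N1 + 1 = 3 ^ (0 + 1) ∧ 4030387200 = 3 ^ c3.n * (4030387200 / 3 ^ c3.n) ∧
    Nat.Coprime (4030387200 / 3 ^ c3.n) (c3.N1 + 1) ∧ (Yo3.map (·.2.1)).prod ≤ 3 ^ 0 ∧ c3.n * c3.n = 9 := by decide +kernel
theorem h3_3 : c3.C = 3 := by decide +kernel
theorem id2_0 : c2.idnChk (nat_lit 53) I2_0 = true := by decide +kernel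
theorem rw2_0 : c2.rowChk S2 (Yo2.map (·.1) ++ Ds2) La2 (nat_lit 0) (nat_lit 100) = true := by decide +kernel
theorem ord2 : c2.ordChk Yo2 Ds2 = true := by decide +kernel
theorem rule2_0 : allZ (c2.ruleEnt (wdsP H16.PHe.P Us2) H16.PHe.B) (nat_lit 0) (nat_lit 40) = true := by decide +kernel
theorem rule2_1 : allZ (c2.ruleEnt (wdsP H16.PHe.P Us2) H16.PHe.B) (nat_lit 40) (nat_lit 40) = true := by decide +kernel
theorem rule2_2 : allZ (c2.ruleEnt (wdsP H16.PHe.P Us2) H16.PHe.B) (nat_lit 80) (nat_lit 20) = true := by decide +kernel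
theorem fus2_0 : allZ (c2.fusEnt (wdsP H16.PHe.P Us2) (wdsP H16.PHe.P Fs2) H16.PHe.B) (nat_lit 0) (nat_lit 16) = true := by decide +kernel
theorem lvx2_6e_0 : allZ (lx2_6.ent (wdsP (wdsP H16.PHe.P Us2) Wsx2)) (nat_lit 0) (nat_lit 1) = true := by decide +kernel
theorem lvx2_6b : 0 < lx2_6.n ∧ 0 < lx2_6.K ∧ lx2_6.Pt 0 < 2058 ∧ lx2_6.Q (lx2_6.Pt 0) = 0 ∧ 0 ≤ lx2_6.K ∧ fixLetters (wdsP (wdsP H16.PHe.P Us2) Wsx2) (nat_lit 0) (lx2_6.Pt 0) = true := by decide +kernel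
theorem lvx2_5e_0 : allZ (lx2_5.ent (wdsP (wdsP H16.PHe.P Us2) Wsx2)) (nat_lit 0) (nat_lit 1) = true := by decide +kernel
theorem lvx2_5b : 0 < lx2_5.n ∧ 0 < lx2_5.K ∧ lx2_5.Pt 0 < 2058 ∧ lx2_5.Q (lx2_5.Pt 0) = 0 ∧ 1 ≤ lx2_5.K ∧ fixLetters (wdsP (wdsP H16.PHe.P Us2) Wsx2) (nat_lit 1) (lx2_5.Pt 0) = true := by decide +kernel
theorem lvx2_4e_0 : allZ (lx2_4.ent (wdsP (wdsP H16.PHe.P Us2) Wsx2)) (nat_lit 0) (nat_lit 3) = true := by decide +kernel
theorem lvx2_4b : 0 < lx2_4.n ∧ 0 < lx2_4.K ∧ lx2_4.Pt 0 < 2058 ∧ lx2_4.Q (lx2_4.Pt 0) = 0 ∧ 2 ≤ lx2_4.K ∧ fixLetters (wdsP (wdsP H16.PHe.P Us2) Wsx2) (nat_lit 2) (lx2_4.Pt 0) = true := by decide +kernel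
theorem lvx2_3e_0 : allZ (lx2_3.ent (wdsP (wdsP H16.PHe.P Us2) Wsx2)) (nat_lit 0) (nat_lit 3) = true := by decide +kernel
theorem lvx2_3b : 0 < lx2_3.n ∧ 0 < lx2_3.K ∧ lx2_3.Pt 0 < 2058 ∧ lx2_3.Q (lx2_3.Pt 0) = 0 ∧ 4 ≤ lx2_3.K ∧ fixLetters (wdsP (wdsP H16.PHe.P Us2) Wsx2) (nat_lit 4) (lx2_3.Pt 0) = true := by decide +kernel
theorem lvx2_2e_0 : allZ (lx2_2.ent (wdsP (wdsP H16.PHe.P Us2) Wsx2)) (nat_lit 0) (nat_lit 1) = true := by decide +kernel
theorem lvx2_2b : 0 < lx2_2.n ∧ 0 < lx2_2.K ∧ lx2_2.Pt 0 < 2058 ∧ lx2_2.Q (lx2_2.Pt 0) = 0 ∧ 6 ≤ lx2_2.K ∧ fixLetters (wdsP (wdsP H16.PHe.P Us2) Wsx2) (nat_lit 6) (lx2_2.Pt 0) = true := by decide +kernel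
theorem lvx2_1e_0 : allZ (lx2_1.ent (wdsP (wdsP H16.PHe.P Us2) Wsx2)) (nat_lit 0) (nat_lit 3) = true := by decide +kernel
theorem lvx2_1b : 0 < lx2_1.n ∧ 0 < lx2_1.K ∧ lx2_1.Pt 0 < 2058 ∧ lx2_1.Q (lx2_1.Pt 0) = 0 ∧ 7 ≤ lx2_1.K ∧ fixLetters (wdsP (wdsP H16.PHe.P Us2) Wsx2) (nat_lit 7) (lx2_1.Pt 0) = true := by decide +kernel
theorem lvx2_0e_0 : allZ (lx2_0.ent (wdsP (wdsP H16.PHe.P Us2) Wsx2)) (nat_lit 0) (nat_lit 1) = true := by decide +kernel
theorem lvx2_0b : 0 < lx2_0.n ∧ 0 < lx2_0.K ∧ lx2_0.Pt 0 < 2058 ∧ lx2_0.Q (lx2_0.Pt 0) = 0 ∧ 9 ≤ lx2_0.K ∧ fixLetters (wdsP (wdsP H16.PHe.P Us2) Wsx2) (nat_lit 9) (lx2_0.Pt 0) = true := by decide +kernel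
theorem basex2 : chainBase Lx2 = Bx2 ∧ ltAll (nat_lit 2058) Bx2 = 0 ∧ topK Lx2 = 10 := by decide +kernel
theorem h0_2 : allL (ltAll 7) Us2 = true ∧ allL (ltAll 7) Fs2 = true ∧ Us2.length ≤ c2.n ∧ 0 < 4030387200 := by decide +kernel
theorem h1_2 : allL (ltAll c2.n) Wsx2 = true ∧ chainCard Lx2 = (c2.p1 + 1) ^ c2.n ∧ c2.n * c2.n = 100 := by decide +kernel
theorem h2_2 : c2.Fmt ∧ c2.p1 + 1 = 2 ∧ c2.N1 + 1 = 2 ^ (0 + 1) ∧ 4030387200 = 2 ^ c2.n * (4030387200 / 2 ^ c2.n) ∧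
    Nat.Coprime (4030387200 / 2 ^ c2.n) (c2.N1 + 1) ∧ (Yo2.map (·.2.1)).prod ≤ 2 ^ 0 ∧ c2.n * c2.n = 100 := by decide +kernel
theorem h3_2 : c2.C = 16 := by decide +kernel

instance fin : Finite (gen H16.PHe.g 7) := Nat.finite_of_card_ne_zero (by rw [H16.PHe.card]; decide)
theorem zero7 : ∀ D ∈ Ds7, c7.Zero D := (Pc.zero_of_chk id7_0)
theorem rows7 : ∀ r < 9, c7.Row S7 (Yo7.map (·.1)) r :=
  (Pc.rows_glue zero7 Pc.rows_zero rw7_0)
theorem rule7 : ∀ i < 9, (c7.ruleEnt (wdsP H16.PHe.P Us7) H16.PHe.B) i = 0 := allZ_sound0 rule7_0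
theorem fus7 : ∀ i < 4, (c7.fusEnt (wdsP H16.PHe.P Us7) (wdsP H16.PHe.P Fs7) H16.PHe.B) i = 0 := allZ_sound0 fus7_0
theorem lvx7_0e : ∀ i < 342, (lx7_0.ent (wdsP (wdsP H16.PHe.P Us7) Wsx7)) i = 0 := allZ_sound0 lvx7_0e_0
theorem lowx7 : LowChain (wdsP (wdsP H16.PHe.P Us7) Wsx7) 2058 Lx7 :=
  ⟨⟨lvx7_0b.1, lvx7_0b.2.1, lvx7_0b.2.2.1, lvx7_0b.2.2.2.1, lvx7_0e⟩, lvx7_0b.2.2.2.2.1, lvx7_0b.2.2.2.2.2, trivial⟩
theorem pb7 : PB (gen H16.PHe.g 7) (7 ^ (0 + 1)) :=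
  (Pc.gok_wds H16.PHe.act H16.PHe.card (ptF_inj 2058) H16.PHe.Blt H16.PHe.isBase h0_7 h1_7 rule7
    (fun r h => fus7 r (h.trans_eq h3_7)) lowx7).pb (by norm_num) H16.PHe.card zero7 rows7 ord7 h2_7
theorem zero5 : ∀ D ∈ Ds5, c5.Zero D := (Pc.zero_of_chk id5_0)
theorem rows5 : ∀ r < 4, c5.Row S5 (Yo5.map (·.1)) r :=
  (Pc.rows_glue zero5 Pc.rows_zero rw5_0)
theorem rule5 : ∀ i < 4, (c5.ruleEnt (wdsP H16.PHe.P Us5) H16.PHe.B) i = 0 := allZ_sound0 rule5_0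
theorem fus5 : ∀ i < 2, (c5.fusEnt (wdsP H16.PHe.P Us5) (wdsP H16.PHe.P Fs5) H16.PHe.B) i = 0 := allZ_sound0 fus5_0
theorem lvx5_1e : ∀ i < 4, (lx5_1.ent (wdsP (wdsP H16.PHe.P Us5) Wsx5)) i = 0 := allZ_sound0 lvx5_1e_0
theorem lvx5_0e : ∀ i < 4, (lx5_0.ent (wdsP (wdsP H16.PHe.P Us5) Wsx5)) i = 0 := allZ_sound0 lvx5_0e_0
theorem lowx5 : LowChain (wdsP (wdsP H16.PHe.P Us5) Wsx5) 2058 Lx5 :=
  ⟨⟨lvx5_0b.1, lvx5_0b.2.1, lvx5_0b.2.2.1, lvx5_0b.2.2.2.1, lvx5_0e⟩, lvx5_0b.2.2.2.2.1, lvx5_0b.2.2.2.2.2, ⟨⟨lvx5_1b.1, lvx5_1b.2.1, lvx5_1b.2.2.1, lvx5_1b.2.2.2.1, lvx5_1e⟩, lvx5_1b.2.2.2.2.1, lvx5_1b.2.2.2.2.2, trivial⟩⟩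
theorem pb5 : PB (gen H16.PHe.g 7) (5 ^ (0 + 1)) :=
  (Pc.gok_wds H16.PHe.act H16.PHe.card (ptF_inj 2058) H16.PHe.Blt H16.PHe.isBase h0_5 h1_5 rule5
    (fun r h => fus5 r (h.trans_eq h3_5)) lowx5).pb (by norm_num) H16.PHe.card zero5 rows5 ord5 h2_5
theorem zero3 : ∀ D ∈ Ds3, c3.Zero D := (Pc.zero_of_chk id3_0)
theorem rows3 : ∀ r < 9, c3.Row S3 (Yo3.map (·.1)) r :=
  (Pc.rows_glue zero3 Pc.rows_zero rw3_0)
theorem rule3 : ∀ i < 9, (c3.ruleEnt (wdsP H16.PHe.P Us3) H16.PHe.B) i = 0 := allZ_sound0 rule3_0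
theorem fus3 : ∀ i < 3, (c3.fusEnt (wdsP H16.PHe.P Us3) (wdsP H16.PHe.P Fs3) H16.PHe.B) i = 0 := allZ_sound0 fus3_0
theorem lvx3_2e : ∀ i < 2, (lx3_2.ent (wdsP (wdsP H16.PHe.P Us3) Wsx3)) i = 0 := allZ_sound0 lvx3_2e_0
theorem lvx3_1e : ∀ i < 2, (lx3_1.ent (wdsP (wdsP H16.PHe.P Us3) Wsx3)) i = 0 := allZ_sound0 lvx3_1e_0
theorem lvx3_0e : ∀ i < 2, (lx3_0.ent (wdsP (wdsP H16.PHe.P Us3) Wsx3)) i = 0 := allZ_sound0 lvx3_0e_0
theorem lowx3 : LowChain (wdsP (wdsP H16.PHe.P Us3) Wsx3) 2058 Lx3 :=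
  ⟨⟨lvx3_0b.1, lvx3_0b.2.1, lvx3_0b.2.2.1, lvx3_0b.2.2.2.1, lvx3_0e⟩, lvx3_0b.2.2.2.2.1, lvx3_0b.2.2.2.2.2, ⟨⟨lvx3_1b.1, lvx3_1b.2.1, lvx3_1b.2.2.1, lvx3_1b.2.2.2.1, lvx3_1e⟩, lvx3_1b.2.2.2.2.1, lvx3_1b.2.2.2.2.2, ⟨⟨lvx3_2b.1, lvx3_2b.2.1, lvx3_2b.2.2.1, lvx3_2b.2.2.2.1, lvx3_2e⟩, lvx3_2b.2.2.2.2.1, lvx3_2b.2.2.2.2.2, trivial⟩⟩⟩
theorem pb3 : PB (gen H16.PHe.g 7) (3 ^ (0 + 1)) :=
  (Pc.gok_wds H16.PHe.act H16.PHe.card (ptF_inj 2058) H16.PHe.Blt H16.PHe.isBase h0_3 h1_3 rule3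
    (fun r h => fus3 r (h.trans_eq h3_3)) lowx3).pb (by norm_num) H16.PHe.card zero3 rows3 ord3 h2_3
theorem zero2 : ∀ D ∈ Ds2, c2.Zero D := (Pc.zero_of_chk id2_0)
theorem rows2 : ∀ r < 100, c2.Row S2 (Yo2.map (·.1)) r :=
  (Pc.rows_glue zero2 Pc.rows_zero rw2_0)
theorem rule2_g0 : ∀ i < 40, (c2.ruleEnt (wdsP H16.PHe.P Us2) H16.PHe.B) i = 0 := allZ_sound0 rule2_0
theorem rule2_g1 : ∀ i < 80, (c2.ruleEnt (wdsP H16.PHe.P Us2) H16.PHe.B) i = 0 := range_glue rule2_g0 rule2_1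
theorem rule2 : ∀ i < 100, (c2.ruleEnt (wdsP H16.PHe.P Us2) H16.PHe.B) i = 0 := range_glue rule2_g1 rule2_2
theorem fus2 : ∀ i < 16, (c2.fusEnt (wdsP H16.PHe.P Us2) (wdsP H16.PHe.P Fs2) H16.PHe.B) i = 0 := allZ_sound0 fus2_0
theorem lvx2_6e : ∀ i < 1, (lx2_6.ent (wdsP (wdsP H16.PHe.P Us2) Wsx2)) i = 0 := allZ_sound0 lvx2_6e_0
theorem lvx2_5e : ∀ i < 1, (lx2_5.ent (wdsP (wdsP H16.PHe.P Us2) Wsx2)) i = 0 := allZ_sound0 lvx2_5e_0
theorem lvx2_4e : ∀ i < 3, (lx2_4.ent (wdsP (wdsP H16.PHe.P Us2) Wsx2)) i = 0 := allZ_sound0 lvx2_4e_0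
theorem lvx2_3e : ∀ i < 3, (lx2_3.ent (wdsP (wdsP H16.PHe.P Us2) Wsx2)) i = 0 := allZ_sound0 lvx2_3e_0
theorem lvx2_2e : ∀ i < 1, (lx2_2.ent (wdsP (wdsP H16.PHe.P Us2) Wsx2)) i = 0 := allZ_sound0 lvx2_2e_0
theorem lvx2_1e : ∀ i < 3, (lx2_1.ent (wdsP (wdsP H16.PHe.P Us2) Wsx2)) i = 0 := allZ_sound0 lvx2_1e_0
theorem lvx2_0e : ∀ i < 1, (lx2_0.ent (wdsP (wdsP H16.PHe.P Us2) Wsx2)) i = 0 := allZ_sound0 lvx2_0e_0
theorem lowx2 : LowChain (wdsP (wdsP H16.PHe.P Us2) Wsx2) 2058 Lx2 :=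
  ⟨⟨lvx2_0b.1, lvx2_0b.2.1, lvx2_0b.2.2.1, lvx2_0b.2.2.2.1, lvx2_0e⟩, lvx2_0b.2.2.2.2.1, lvx2_0b.2.2.2.2.2, ⟨⟨lvx2_1b.1, lvx2_1b.2.1, lvx2_1b.2.2.1, lvx2_1b.2.2.2.1, lvx2_1e⟩, lvx2_1b.2.2.2.2.1, lvx2_1b.2.2.2.2.2, ⟨⟨lvx2_2b.1, lvx2_2b.2.1, lvx2_2b.2.2.1, lvx2_2b.2.2.2.1, lvx2_2e⟩, lvx2_2b.2.2.2.2.1, lvx2_2b.2.2.2.2.2, ⟨⟨lvx2_3b.1, lvx2_3b.2.1, lvx2_3b.2.2.1, lvx2_3b.2.2.2.1, lvx2_3e⟩, lvx2_3b.2.2.2.2.1, lvx2_3b.2.2.2.2.2, ⟨⟨lvx2_4b.1, lvx2_4b.2.1, lvx2_4b.2.2.1, lvx2_4b.2.2.2.1, lvx2_4e⟩, lvx2_4b.2.2.2.2.1, lvx2_4b.2.2.2.2.2, ⟨⟨lvx2_5b.1, lvx2_5b.2.1, lvx2_5b.2.2.1, lvx2_5b.2.2.2.1, lvx2_5e⟩, lvx2_5b.2.2.2.2.1, lvx2_5b.2.2.2.2.2, ⟨⟨lvx2_6b.1, lvx2_6b.2.1, lvx2_6b.2.2.1, lvx2_6b.2.2.2.1, lvx2_6e⟩, lvx2_6b.2.2.2.2.1, lvx2_6b.2.2.2.2.2, trivial⟩⟩⟩⟩⟩⟩⟩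
theorem pb2 : PB (gen H16.PHe.g 7) (2 ^ (0 + 1)) :=
  (Pc.gok_wds H16.PHe.act H16.PHe.card (ptF_inj 2058) H16.PHe.Blt H16.PHe.isBase h0_2 h1_2 rule2
    (fun r h => fus2 r (h.trans_eq h3_2)) lowx2).pb (by norm_num) H16.PHe.card zero2 rows2 ord2 h2_2
theorem ker_le (Δ : Type) [Group Δ] [Finite Δ] (τ : Δ →* (gen H16.PHe.g 7)) (h : Cfsg.IsStemExtension τ) :
    Nat.card τ.ker ≤ 1 :=
  card_ker_le (L := [(2, 10, 0), (3, 3, 0), (5, 2, 0), (7, 3, 0), (17, 1, 0)]) ⟨H16.PHe.card.trans (by decide +kernel), by decide +kernel⟩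
    (all_cons ⟨by norm_num, pb2⟩
    (all_cons ⟨by norm_num, pb3⟩
    (all_cons ⟨by norm_num, pb5⟩
    (all_cons ⟨by norm_num, pb7⟩
    (all_cons ⟨by norm_num, PB.of_not_sq (by norm_num) (by rw [H16.PHe.card]; decide)⟩
    all_nil))))) Δ τ h

end H16.ScHe
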