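import Cfsg.Agent.H16.Sch3
import Cfsg.Agent.H16.M.J4H

/-! Generated by tools/h16 (computation kit). -/

set_option maxRecDepth 100000
set_option maxHeartbeats 0

namespace H16.ScJ4H

noncomputable def Us3 : List (List ℕ) := [[nat_lit 4, nat_lit 10, nat_lit 11, nat_lit 12, nat_lit 4, nat_lit 5, nat_lit 6, nat_lit 7, nat_lit 0, nat_lit 8, nat_lit 10, nat_lit 7, nat_lit 9, nat_lit 8, nat_lit 10, nat_lit 11, nat_lit 8, nat_lit 9, nat_lit 11, nat_lit 12, nat_lit 11, nat_lit 10, nat_lit 9, nat_lit 7, nat_lit 4, nat_lit 12],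
  [nat_lit 5, nat_lit 6, nat_lit 7, nat_lit 12, nat_lit 9, nat_lit 7, nat_lit 12, nat_lit 11, nat_lit 12, nat_lit 7, nat_lit 11, nat_lit 7, nat_lit 11, nat_lit 7, nat_lit 9, nat_lit 12, nat_lit 11, nat_lit 5, nat_lit 9, nat_lit 11, nat_lit 12],
  [nat_lit 0, nat_lit 1, nat_lit 5, nat_lit 10, nat_lit 8, nat_lit 9, nat_lit 11, nat_lit 8, nat_lit 10, nat_lit 11, nat_lit 8, nat_lit 11, nat_lit 12, nat_lit 11, nat_lit 10, nat_lit 9, nat_lit 7, nat_lit 12, nat_lit 11, nat_lit 7, nat_lit 8, nat_lit 5, nat_lit 12, nat_lit 11, nat_lit 2]]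
noncomputable def Fs3 : List (List ℕ) := [[nat_lit 0, nat_lit 5, nat_lit 7, nat_lit 0, nat_lit 10, nat_lit 7, nat_lit 10, nat_lit 8],
  [nat_lit 0, nat_lit 6, nat_lit 12, nat_lit 7, nat_lit 8, nat_lit 12, nat_lit 11, nat_lit 8, nat_lit 7, nat_lit 10, nat_lit 11, nat_lit 8, nat_lit 9, nat_lit 11, nat_lit 7, nat_lit 10, nat_lit 12, nat_lit 11, nat_lit 8, nat_lit 11, nat_lit 12, nat_lit 11, nat_lit 7, nat_lit 11]]
noncomputable def c3 : Pc := ⟨(nat_lit 2), (nat_lit 2), (nat_lit 3), (nat_lit 2), (nat_lit 4), (nat_lit 9),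
  [[[]],
  [[nat_lit 1, nat_lit 2], []],
  [[nat_lit 2], [nat_lit 2], []]],
  [((nat_lit 1), [nat_lit 2], [nat_lit 2]),
  ((nat_lit 1), [nat_lit 0], [nat_lit 1]),
  ((nat_lit 0), [nat_lit 2], [nat_lit 2, nat_lit 2]),
  ((nat_lit 0), [nat_lit 0], [nat_lit 0])]⟩
noncomputable def I3_0 : List Pc.Idn := [⟨false, (nat_lit 0), [nat_lit 1], [nat_lit 0, nat_lit 0], [((nat_lit 12), (nat_lit 1))]⟩,
  ⟨true, (nat_lit 1), [nat_lit 0, nat_lit 1], [nat_lit 1, nat_lit 0], [((nat_lit 10), (nat_lit 1)), ((nat_lit 11), (nat_lit 2))]⟩,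
  ⟨true, (nat_lit 0), [nat_lit 2, nat_lit 3], [nat_lit 3, nat_lit 2], [((nat_lit 10), (nat_lit 2))]⟩]
noncomputable def Ds3 : List (List (ℕ × ℕ)) := I3_0.map Pc.Idn.D
noncomputable def S3 : List (List (ℕ × ℕ)) := [[],
  [],
  [((nat_lit 7), (nat_lit 1))]]
noncomputable def Yo3 : List (List (ℕ × ℕ) × ℕ × ℕ) := []
noncomputable def La3 : List ℕ := [nat_lit 0,
  nat_lit 0,
  nat_lit 0,
  nat_lit 0,
  nat_lit 0,
  nat_lit 0,
  nat_lit 0x12,
  nat_lit 0x18,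
  nat_lit 1]
noncomputable def Wsx3 : List (List ℕ) := [[nat_lit 1],
  [nat_lit 2],
  [nat_lit 0]]
noncomputable def LDx3_2d : ℕ := nat_lit 4
noncomputable def LDx3_2 (u : ℕ) : ℕ := Nat.land (Nat.shiftRight LDx3_2d (Nat.mul u (nat_lit 1))) (nat_lit 1)
noncomputable def Ptx3_2d : ℕ := nat_lit 0x9e300
noncomputable def Ptx3_2 (u : ℕ) : ℕ := Nat.land (Nat.shiftRight Ptx3_2d (Nat.mul u (nat_lit 7))) (nat_lit 127)
noncomputable def Qx3_2d : ℕ := nat_lit 0x100000000000000080000000000000000000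
noncomputable def Qx3_2 (u : ℕ) : ℕ := Nat.land (Nat.shiftRight Qx3_2d (Nat.mul u (nat_lit 2))) (nat_lit 3)
noncomputable def lx3_2 : Lev := ⟨3, 1, LDx3_2, Ptx3_2, Qx3_2⟩
noncomputable def LDx3_1d : ℕ := nat_lit 0x34
noncomputable def LDx3_1 (u : ℕ) : ℕ := Nat.land (Nat.shiftRight LDx3_1d (Nat.mul u (nat_lit 2))) (nat_lit 3)
noncomputable def Ptx3_1d : ℕ := nat_lit 0x165a84810
noncomputable def Ptx3_1 (u : ℕ) : ℕ := Nat.land (Nat.shiftRight Ptx3_1d (Nat.mul u (nat_lit 11))) (nat_lit 2047)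
noncomputable def Qx3_1d : ℕ := nat_lit 0x20000000000000000000000000000000000000000000000000000000000000000000000400000000000000000000000000000000000000000000000000000000000000000000000000000000000000000000000000000000000000000000000000000000000000000000000000000000000000000000000000000000000000000000000000000000000000000000000000000000000000000000000000000000000000000000000000000000000000000000000000000000000000000000000000000000000000000000000000000000000000000000000000000000000000000000000000000000000000000000000000000000000000000000000000000000000000000000000000000000000000000000000000000000000000000000000000000000000000000000000000000000000000000000000000000000000000000000000000000000000000000000000000000000000000000000000000000000000000000000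
noncomputable def Qx3_1 (u : ℕ) : ℕ := Nat.land (Nat.shiftRight Qx3_1d (Nat.mul u (nat_lit 2))) (nat_lit 3)
noncomputable def lx3_1 : Lev := ⟨3, 2, LDx3_1, Ptx3_1, Qx3_1⟩
noncomputable def LDx3_0d : ℕ := nat_lit 0x150
noncomputable def LDx3_0 (u : ℕ) : ℕ := Nat.land (Nat.shiftRight LDx3_0d (Nat.mul u (nat_lit 3))) (nat_lit 7)
noncomputable def Ptx3_0d : ℕ := nat_lit 0x474ca63
noncomputable def Ptx3_0 (u : ℕ) : ℕ := Nat.land (Nat.shiftRight Ptx3_0d (Nat.mul u (nat_lit 9))) (nat_lit 511)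
noncomputable def Qx3_0d : ℕ := nat_lit 0x80000000000000000000000000000000000000000000000000000000000000000000000000000000000000000000400000000000000000000000000000000000000000000000000
noncomputable def Qx3_0 (u : ℕ) : ℕ := Nat.land (Nat.shiftRight Qx3_0d (Nat.mul u (nat_lit 2))) (nat_lit 3)
noncomputable def lx3_0 : Lev := ⟨3, 3, LDx3_0, Ptx3_0, Qx3_0⟩
noncomputable def Lx3 : List Lev := [lx3_0, lx3_1, lx3_2]
noncomputable def Bx3 : List ℕ := [nat_lit 99, nat_lit 16, nat_lit 0]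
noncomputable def Us2 : List (List ℕ) := [[nat_lit 1, nat_lit 7, nat_lit 8, nat_lit 7, nat_lit 11, nat_lit 7, nat_lit 9, nat_lit 8, nat_lit 11, nat_lit 4, nat_lit 7, nat_lit 12, nat_lit 11, nat_lit 9, nat_lit 11, nat_lit 7, nat_lit 11, nat_lit 9, nat_lit 8, nat_lit 12, nat_lit 11, nat_lit 7],
  [nat_lit 2, nat_lit 5, nat_lit 7, nat_lit 8, nat_lit 11, nat_lit 12, nat_lit 7, nat_lit 12, nat_lit 11, nat_lit 12, nat_lit 9, nat_lit 7, nat_lit 11, nat_lit 7, nat_lit 12, nat_lit 4, nat_lit 9, nat_lit 12, nat_lit 10, nat_lit 12, nat_lit 11, nat_lit 7, nat_lit 11, nat_lit 3],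
  [nat_lit 0, nat_lit 7, nat_lit 0, nat_lit 9, nat_lit 8, nat_lit 10, nat_lit 9, nat_lit 11, nat_lit 8, nat_lit 10, nat_lit 7, nat_lit 11, nat_lit 8, nat_lit 10, nat_lit 12, nat_lit 11, nat_lit 7, nat_lit 12, nat_lit 11, nat_lit 10, nat_lit 7, nat_lit 10, nat_lit 4],
  [nat_lit 5, nat_lit 11, nat_lit 5, nat_lit 12, nat_lit 9, nat_lit 12, nat_lit 8, nat_lit 10, nat_lit 11, nat_lit 9, nat_lit 7, nat_lit 8, nat_lit 10, nat_lit 12, nat_lit 11, nat_lit 8, nat_lit 12, nat_lit 11, nat_lit 10, nat_lit 7, nat_lit 10, nat_lit 12, nat_lit 11, nat_lit 8, nat_lit 7],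
  [nat_lit 1, nat_lit 2, nat_lit 3, nat_lit 4, nat_lit 6, nat_lit 8, nat_lit 1, nat_lit 10, nat_lit 1, nat_lit 11, nat_lit 9, nat_lit 7, nat_lit 12, nat_lit 11, nat_lit 8, nat_lit 11, nat_lit 10, nat_lit 12, nat_lit 9, nat_lit 7, nat_lit 11, nat_lit 8, nat_lit 3, nat_lit 10, nat_lit 7, nat_lit 10],
  [nat_lit 5, nat_lit 6, nat_lit 7, nat_lit 11, nat_lit 9, nat_lit 10, nat_lit 9, nat_lit 8, nat_lit 10, nat_lit 11, nat_lit 12, nat_lit 11, nat_lit 4, nat_lit 9, nat_lit 12, nat_lit 11, nat_lit 8, nat_lit 12, nat_lit 11, nat_lit 10, nat_lit 7],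
  [nat_lit 9, nat_lit 11, nat_lit 12, nat_lit 0, nat_lit 1, nat_lit 2, nat_lit 4, nat_lit 8, nat_lit 7, nat_lit 12, nat_lit 7, nat_lit 12, nat_lit 10, nat_lit 7, nat_lit 11, nat_lit 8, nat_lit 10, nat_lit 9, nat_lit 7, nat_lit 9, nat_lit 8, nat_lit 12, nat_lit 11, nat_lit 9],
  [nat_lit 5, nat_lit 9, nat_lit 0, nat_lit 10, nat_lit 11, nat_lit 8, nat_lit 10, nat_lit 12, nat_lit 11, nat_lit 8, nat_lit 12, nat_lit 11, nat_lit 10, nat_lit 9, nat_lit 0, nat_lit 2],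
  [nat_lit 2, nat_lit 5, nat_lit 7, nat_lit 9, nat_lit 7, nat_lit 10, nat_lit 8, nat_lit 11, nat_lit 8, nat_lit 11, nat_lit 9, nat_lit 11, nat_lit 12, nat_lit 11, nat_lit 7, nat_lit 12, nat_lit 11, nat_lit 8, nat_lit 4, nat_lit 9, nat_lit 3],
  [nat_lit 1, nat_lit 3, nat_lit 6, nat_lit 12, nat_lit 11, nat_lit 4, nat_lit 11, nat_lit 12],
  [nat_lit 1, nat_lit 7, nat_lit 8, nat_lit 11, nat_lit 7, nat_lit 9, nat_lit 11, nat_lit 8, nat_lit 10, nat_lit 11, nat_lit 7, nat_lit 10, nat_lit 11, nat_lit 8, nat_lit 11, nat_lit 2, nat_lit 11],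
  [nat_lit 0, nat_lit 6, nat_lit 7, nat_lit 11, nat_lit 9, nat_lit 10, nat_lit 9, nat_lit 8, nat_lit 10, nat_lit 12, nat_lit 11, nat_lit 4, nat_lit 9, nat_lit 11, nat_lit 8, nat_lit 10, nat_lit 12, nat_lit 11, nat_lit 7, nat_lit 4],
  [nat_lit 5, nat_lit 9, nat_lit 12, nat_lit 11, nat_lit 4, nat_lit 11, nat_lit 12, nat_lit 9],
  [nat_lit 0, nat_lit 11, nat_lit 1, nat_lit 8, nat_lit 12, nat_lit 11, nat_lit 4, nat_lit 11, nat_lit 12, nat_lit 8, nat_lit 11],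
  [nat_lit 12, nat_lit 0, nat_lit 5, nat_lit 7, nat_lit 0, nat_lit 10, nat_lit 9, nat_lit 7, nat_lit 11, nat_lit 9, nat_lit 7, nat_lit 11, nat_lit 8, nat_lit 7, nat_lit 11, nat_lit 8, nat_lit 12, nat_lit 11, nat_lit 8, nat_lit 11, nat_lit 8, nat_lit 11, nat_lit 7, nat_lit 9, nat_lit 12, nat_lit 11, nat_lit 8, nat_lit 11, nat_lit 12, nat_lit 11, nat_lit 9],
  [nat_lit 11, nat_lit 2, nat_lit 4, nat_lit 11, nat_lit 2, nat_lit 3, nat_lit 5],
  [nat_lit 12, nat_lit 11, nat_lit 0, nat_lit 2, nat_lit 3, nat_lit 5, nat_lit 11, nat_lit 12],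
  [nat_lit 0, nat_lit 4, nat_lit 9, nat_lit 11, nat_lit 4, nat_lit 11, nat_lit 9],
  [nat_lit 1, nat_lit 2, nat_lit 3, nat_lit 4],
  [nat_lit 3, nat_lit 4, nat_lit 5],
  [nat_lit 11, nat_lit 1, nat_lit 2, nat_lit 3, nat_lit 4, nat_lit 11]]
noncomputable def Fs2 : List (List ℕ) := [[nat_lit 1, nat_lit 4, nat_lit 8, nat_lit 1, nat_lit 10, nat_lit 8, nat_lit 7, nat_lit 8, nat_lit 9, nat_lit 11, nat_lit 7, nat_lit 9, nat_lit 11, nat_lit 8, nat_lit 11, nat_lit 12, nat_lit 11, nat_lit 10, nat_lit 9, nat_lit 7, nat_lit 12, nat_lit 11, nat_lit 8, nat_lit 11, nat_lit 12, nat_lit 11, nat_lit 7, nat_lit 8, nat_lit 11, nat_lit 7, nat_lit 8, nat_lit 0, nat_lit 9, nat_lit 7],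
  [nat_lit 1, nat_lit 2, nat_lit 6, nat_lit 7, nat_lit 0, nat_lit 8, nat_lit 9, nat_lit 11, nat_lit 8, nat_lit 11, nat_lit 7, nat_lit 9, nat_lit 8, nat_lit 11, nat_lit 9, nat_lit 11, nat_lit 12, nat_lit 11, nat_lit 10, nat_lit 9, nat_lit 8, nat_lit 12, nat_lit 11, nat_lit 8, nat_lit 11, nat_lit 12, nat_lit 11, nat_lit 8, nat_lit 11, nat_lit 4, nat_lit 7],
  [nat_lit 3, nat_lit 8, nat_lit 1, nat_lit 7, nat_lit 9, nat_lit 12, nat_lit 7, nat_lit 12, nat_lit 11, nat_lit 9, nat_lit 8, nat_lit 11, nat_lit 7, nat_lit 8, nat_lit 9, nat_lit 7, nat_lit 12, nat_lit 11, nat_lit 8, nat_lit 12, nat_lit 11, nat_lit 9, nat_lit 12, nat_lit 11, nat_lit 7, nat_lit 11, nat_lit 7, nat_lit 9, nat_lit 7, nat_lit 2, nat_lit 3],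
  [nat_lit 0, nat_lit 8, nat_lit 10, nat_lit 8, nat_lit 9, nat_lit 7, nat_lit 11, nat_lit 8, nat_lit 11, nat_lit 8, nat_lit 7, nat_lit 9, nat_lit 11, nat_lit 8, nat_lit 9, nat_lit 12, nat_lit 11, nat_lit 8, nat_lit 11, nat_lit 10, nat_lit 12, nat_lit 9, nat_lit 7, nat_lit 10, nat_lit 6, nat_lit 12],
  [nat_lit 11, nat_lit 0, nat_lit 5, nat_lit 8, nat_lit 11, nat_lit 1, nat_lit 4, nat_lit 9, nat_lit 7, nat_lit 8, nat_lit 7, nat_lit 11, nat_lit 12, nat_lit 11, nat_lit 8, nat_lit 11, nat_lit 12, nat_lit 8, nat_lit 7, nat_lit 11, nat_lit 12, nat_lit 11, nat_lit 8, nat_lit 11, nat_lit 12, nat_lit 9, nat_lit 11, nat_lit 12, nat_lit 8, nat_lit 11, nat_lit 12],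
  [nat_lit 3, nat_lit 5, nat_lit 7, nat_lit 8, nat_lit 7, nat_lit 10, nat_lit 11, nat_lit 9, nat_lit 11, nat_lit 8, nat_lit 10, nat_lit 11, nat_lit 7, nat_lit 8, nat_lit 12, nat_lit 11, nat_lit 8, nat_lit 12, nat_lit 11, nat_lit 9, nat_lit 12, nat_lit 11, nat_lit 8, nat_lit 11, nat_lit 12, nat_lit 11, nat_lit 7, nat_lit 8, nat_lit 2, nat_lit 10, nat_lit 1, nat_lit 7],
  [nat_lit 11, nat_lit 4, nat_lit 0, nat_lit 6, nat_lit 8, nat_lit 1, nat_lit 7, nat_lit 9, nat_lit 11, nat_lit 8, nat_lit 11, nat_lit 10, nat_lit 9, nat_lit 12, nat_lit 11, nat_lit 8, nat_lit 12, nat_lit 11, nat_lit 8, nat_lit 7, nat_lit 12, nat_lit 11, nat_lit 9, nat_lit 12, nat_lit 11, nat_lit 8, nat_lit 12, nat_lit 11, nat_lit 9],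
  [nat_lit 5, nat_lit 7, nat_lit 8, nat_lit 10, nat_lit 11, nat_lit 8, nat_lit 7, nat_lit 9, nat_lit 11, nat_lit 8, nat_lit 11, nat_lit 12, nat_lit 11, nat_lit 8, nat_lit 7, nat_lit 10, nat_lit 9, nat_lit 8, nat_lit 10, nat_lit 1, nat_lit 9, nat_lit 11, nat_lit 9],
  [nat_lit 0, nat_lit 1, nat_lit 3, nat_lit 4, nat_lit 7, nat_lit 0, nat_lit 9, nat_lit 10, nat_lit 9, nat_lit 11, nat_lit 4, nat_lit 8, nat_lit 7, nat_lit 12, nat_lit 11, nat_lit 7, nat_lit 8, nat_lit 11, nat_lit 7, nat_lit 12, nat_lit 11, nat_lit 8, nat_lit 7, nat_lit 11],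
  [nat_lit 0, nat_lit 1, nat_lit 2, nat_lit 3, nat_lit 4, nat_lit 5, nat_lit 10, nat_lit 8, nat_lit 9, nat_lit 12, nat_lit 7, nat_lit 9, nat_lit 12, nat_lit 11, nat_lit 8, nat_lit 11, nat_lit 12, nat_lit 11, nat_lit 8, nat_lit 9, nat_lit 11, nat_lit 7, nat_lit 9, nat_lit 4, nat_lit 12, nat_lit 8],
  [nat_lit 0, nat_lit 4, nat_lit 6, nat_lit 8, nat_lit 1, nat_lit 7, nat_lit 9, nat_lit 11, nat_lit 8, nat_lit 11, nat_lit 10, nat_lit 9, nat_lit 12, nat_lit 11, nat_lit 8, nat_lit 12, nat_lit 11, nat_lit 8, nat_lit 7, nat_lit 12, nat_lit 11, nat_lit 9, nat_lit 12, nat_lit 11, nat_lit 8, nat_lit 12, nat_lit 11, nat_lit 9],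
  [nat_lit 0, nat_lit 1, nat_lit 6, nat_lit 7, nat_lit 0, nat_lit 10, nat_lit 1, nat_lit 11, nat_lit 9, nat_lit 8, nat_lit 12, nat_lit 11, nat_lit 7, nat_lit 12, nat_lit 7, nat_lit 8, nat_lit 9, nat_lit 11, nat_lit 10, nat_lit 7],
  [nat_lit 0, nat_lit 1, nat_lit 2, nat_lit 4, nat_lit 7, nat_lit 10, nat_lit 1, nat_lit 7, nat_lit 11, nat_lit 7, nat_lit 9, nat_lit 11, nat_lit 8, nat_lit 12, nat_lit 11, nat_lit 7, nat_lit 10, nat_lit 9]]
noncomputable def c2 : Pc := ⟨(nat_lit 1), (nat_lit 1), (nat_lit 21), (nat_lit 5), (nat_lit 86), (nat_lit 16),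
  [[[nat_lit 12, nat_lit 16, nat_lit 19]],
  [[nat_lit 1, nat_lit 14, nat_lit 15, nat_lit 17, nat_lit 18, nat_lit 20], [nat_lit 9, nat_lit 11, nat_lit 13]],
  [[nat_lit 2, nat_lit 9, nat_lit 14, nat_lit 15, nat_lit 17, nat_lit 20], [nat_lit 2, nat_lit 11, nat_lit 15, nat_lit 16, nat_lit 17, nat_lit 18, nat_lit 19], [nat_lit 9, nat_lit 12, nat_lit 14, nat_lit 15, nat_lit 16, nat_lit 17, nat_lit 18, nat_lit 19]],
  [[nat_lit 3, nat_lit 5], [nat_lit 3, nat_lit 6], [nat_lit 3, nat_lit 6, nat_lit 11, nat_lit 12, nat_lit 13, nat_lit 14, nat_lit 15, nat_lit 16, nat_lit 17, nat_lit 19, nat_lit 20], [nat_lit 5, nat_lit 10, nat_lit 11, nat_lit 12, nat_lit 14, nat_lit 16, nat_lit 18, nat_lit 19, nat_lit 20]],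
  [[nat_lit 4, nat_lit 7], [nat_lit 4, nat_lit 8], [nat_lit 4, nat_lit 5, nat_lit 7, nat_lit 8, nat_lit 9, nat_lit 10, nat_lit 17, nat_lit 20], [nat_lit 4, nat_lit 10, nat_lit 13, nat_lit 14, nat_lit 16, nat_lit 17, nat_lit 20], [nat_lit 5, nat_lit 9, nat_lit 10, nat_lit 11, nat_lit 12, nat_lit 13, nat_lit 15, nat_lit 16, nat_lit 17, nat_lit 18]],
  [[nat_lit 5, nat_lit 16, nat_lit 18, nat_lit 20], [nat_lit 5, nat_lit 9], [nat_lit 5, nat_lit 9, nat_lit 12, nat_lit 18, nat_lit 20], [nat_lit 5, nat_lit 14, nat_lit 17, nat_lit 19, nat_lit 20], [nat_lit 5, nat_lit 13, nat_lit 14, nat_lit 17, nat_lit 20], [nat_lit 16, nat_lit 17, nat_lit 19]],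
  [[nat_lit 6, nat_lit 9, nat_lit 12, nat_lit 15, nat_lit 17, nat_lit 19, nat_lit 20], [nat_lit 6, nat_lit 13, nat_lit 14, nat_lit 15, nat_lit 16, nat_lit 19, nat_lit 20], [nat_lit 6, nat_lit 15, nat_lit 16, nat_lit 17, nat_lit 19], [nat_lit 6, nat_lit 9, nat_lit 13, nat_lit 16, nat_lit 17, nat_lit 18, nat_lit 19, nat_lit 20], [nat_lit 6, nat_lit 10], [nat_lit 6, nat_lit 12, nat_lit 16, nat_lit 17, nat_lit 18, nat_lit 20], [nat_lit 12, nat_lit 19]],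
  [[nat_lit 7, nat_lit 15, nat_lit 16, nat_lit 19], [nat_lit 7, nat_lit 11], [nat_lit 7, nat_lit 11, nat_lit 13, nat_lit 14, nat_lit 16, nat_lit 17], [nat_lit 7, nat_lit 13, nat_lit 16, nat_lit 17, nat_lit 18, nat_lit 19, nat_lit 20], [nat_lit 7, nat_lit 14, nat_lit 16, nat_lit 17], [nat_lit 7, nat_lit 16, nat_lit 17, nat_lit 20], [nat_lit 7, nat_lit 13, nat_lit 14, nat_lit 17, nat_lit 20], [nat_lit 16, nat_lit 17, nat_lit 20]],
  [[nat_lit 8, nat_lit 11, nat_lit 12, nat_lit 14, nat_lit 15, nat_lit 16, nat_lit 20], [nat_lit 8, nat_lit 12, nat_lit 14, nat_lit 17, nat_lit 18, nat_lit 19], [nat_lit 8, nat_lit 9, nat_lit 11, nat_lit 14, nat_lit 15, nat_lit 18], [nat_lit 8, nat_lit 10, nat_lit 19, nat_lit 20], [nat_lit 8, nat_lit 9, nat_lit 12, nat_lit 16, nat_lit 18], [nat_lit 8, nat_lit 13, nat_lit 16, nat_lit 18], [nat_lit 8, nat_lit 12, nat_lit 13, nat_lit 17, nat_lit 19, nat_lit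 20], [nat_lit 8, nat_lit 12, nat_lit 14, nat_lit 17, nat_lit 20], [nat_lit 13, nat_lit 17, nat_lit 18, nat_lit 20]],
  [[nat_lit 9, nat_lit 17, nat_lit 19], [nat_lit 9, nat_lit 16, nat_lit 17, nat_lit 20], [nat_lit 9, nat_lit 17], [nat_lit 9, nat_lit 12], [nat_lit 9, nat_lit 13], [nat_lit 9, nat_lit 19, nat_lit 20], [nat_lit 9, nat_lit 20], [nat_lit 9, nat_lit 16, nat_lit 17], [nat_lit 9, nat_lit 19, nat_lit 20], []],
  [[nat_lit 10, nat_lit 14], [nat_lit 10, nat_lit 12, nat_lit 13, nat_lit 16, nat_lit 18, nat_lit 19, nat_lit 20], [nat_lit 10, nat_lit 14, nat_lit 19], [nat_lit 10, nat_lit 13, nat_lit 15], [nat_lit 10, nat_lit 12, nat_lit 15, nat_lit 19, nat_lit 20], [nat_lit 10, nat_lit 15, nat_lit 20], [nat_lit 10, nat_lit 15, nat_lit 18], [nat_lit 10, nat_lit 15, nat_lit 16, nat_lit 18], [nat_lit 10, nat_lit 15, nat_lit 19], [nat_lit 10, nat_lit 18], [nat_lit 18, nat_lit 20]],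
  [[nat_lit 11, nat_lit 17, nat_lit 18, nat_lit 20], [nat_lit 11, nat_lit 16, nat_lit 19], [nat_lit 11, nat_lit 17, nat_lit 19, nat_lit 20], [nat_lit 11, nat_lit 13, nat_lit 14, nat_lit 16, nat_lit 18, nat_lit 20], [nat_lit 11, nat_lit 12, nat_lit 14, nat_lit 18], [nat_lit 11, nat_lit 16, nat_lit 17], [nat_lit 11, nat_lit 16, nat_lit 17, nat_lit 19, nat_lit 20], [nat_lit 11, nat_lit 20], [nat_lit 11, nat_lit 16, nat_lit 17, nat_lit 19], [nat_lit 11, nat_lit 19, nat_lit 20], [nat_lit 11, nat_lit 18, nat_lit 20], [nat_lit 19]],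
  [[nat_lit 12], [nat_lit 12, nat_lit 17, nat_lit 19, nat_lit 20], [nat_lit 12, nat_lit 19, nat_lit 20], [nat_lit 12, nat_lit 18, nat_lit 19], [nat_lit 12, nat_lit 15], [nat_lit 12, nat_lit 19], [nat_lit 12], [nat_lit 12, nat_lit 17], [nat_lit 12, nat_lit 18, nat_lit 20], [nat_lit 12], [nat_lit 12, nat_lit 20], [nat_lit 12, nat_lit 19], []],
  [[nat_lit 13, nat_lit 16], [nat_lit 13, nat_lit 17, nat_lit 19, nat_lit 20], [nat_lit 13, nat_lit 16, nat_lit 18], [nat_lit 13, nat_lit 15, nat_lit 18, nat_lit 19, nat_lit 20], [nat_lit 13, nat_lit 18], [nat_lit 13, nat_lit 19], [nat_lit 13, nat_lit 18, nat_lit 20], [nat_lit 13, nat_lit 17, nat_lit 20], [nat_lit 13, nat_lit 20], [nat_lit 13], [nat_lit 13, nat_lit 20], [nat_lit 13, nat_lit 19], [nat_lit 13], []],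
  [[nat_lit 14, nat_lit 20], [nat_lit 14, nat_lit 16, nat_lit 20], [nat_lit 14, nat_lit 18, nat_lit 19], [nat_lit 14, nat_lit 15, nat_lit 16, nat_lit 19, nat_lit 20], [nat_lit 14, nat_lit 15, nat_lit 16, nat_lit 17, nat_lit 18, nat_lit 19], [nat_lit 14, nat_lit 17, nat_lit 20], [nat_lit 14, nat_lit 17, nat_lit 18, nat_lit 20], [nat_lit 14, nat_lit 17, nat_lit 19, nat_lit 20], [nat_lit 14, nat_lit 17, nat_lit 18, nat_lit 20], [nat_lit 14, nat_lit 19], [nat_lit 14, nat_lit 19, nat_lit 20], [nat_lit 14, nat_lit 19], [nat_lit 14], [nat_lit 14, nat_lit 20], [nat_lit 20]],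
  [[nat_lit 15, nat_lit 17], [nat_lit 15, nat_lit 18], [nat_lit 15, nat_lit 17, nat_lit 18, nat_lit 19], [nat_lit 15, nat_lit 20], [nat_lit 15, nat_lit 20], [nat_lit 15, nat_lit 20], [nat_lit 15, nat_lit 20], [nat_lit 15], [nat_lit 15, nat_lit 20], [nat_lit 15], [nat_lit 15], [nat_lit 15, nat_lit 20], [nat_lit 15], [nat_lit 15], [nat_lit 15], []],
  [[nat_lit 16], [nat_lit 16, nat_lit 20], [nat_lit 16, nat_lit 19, nat_lit 20], [nat_lit 16, nat_lit 17, nat_lit 20], [nat_lit 16, nat_lit 17, nat_lit 19], [nat_lit 16], [nat_lit 16, nat_lit 19], [nat_lit 16], [nat_lit 16, nat_lit 19, nat_lit 20], [nat_lit 16], [nat_lit 16, nat_lit 20], [nat_lit 16], [nat_lit 16], [nat_lit 16], [nat_lit 16], [nat_lit 16], []],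
  [[nat_lit 17], [nat_lit 17, nat_lit 19], [nat_lit 17, nat_lit 19], [nat_lit 17, nat_lit 20], [nat_lit 17], [nat_lit 17], [nat_lit 17], [nat_lit 17], [nat_lit 17, nat_lit 20], [nat_lit 17], [nat_lit 17], [nat_lit 17], [nat_lit 17], [nat_lit 17], [nat_lit 17], [nat_lit 17], [nat_lit 17], []],
  [[nat_lit 18, nat_lit 19], [nat_lit 18, nat_lit 20], [nat_lit 18, nat_lit 19], [nat_lit 18, nat_lit 20], [nat_lit 18, nat_lit 20], [nat_lit 18], [nat_lit 18], [nat_lit 18, nat_lit 20], [nat_lit 18], [nat_lit 18], [nat_lit 18], [nat_lit 18], [nat_lit 18], [nat_lit 18], [nat_lit 18], [nat_lit 18], [nat_lit 18], [nat_lit 18], []],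
  [[nat_lit 19], [nat_lit 19], [nat_lit 19], [nat_lit 19], [nat_lit 19, nat_lit 20], [nat_lit 19], [nat_lit 19], [nat_lit 19], [nat_lit 19], [nat_lit 19], [nat_lit 19], [nat_lit 19], [nat_lit 19], [nat_lit 19], [nat_lit 19], [nat_lit 19], [nat_lit 19], [nat_lit 19], [nat_lit 19], []],
  [[nat_lit 20], [nat_lit 20], [nat_lit 20], [nat_lit 20], [nat_lit 20], [nat_lit 20], [nat_lit 20], [nat_lit 20], [nat_lit 20], [nat_lit 20], [nat_lit 20], [nat_lit 20], [nat_lit 20], [nat_lit 20], [nat_lit 20], [nat_lit 20], [nat_lit 20], [nat_lit 20], [nat_lit 20], [nat_lit 20], []]],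
  [((nat_lit 6), [nat_lit 15], [nat_lit 17, nat_lit 20]),
  ((nat_lit 6), [nat_lit 8], [nat_lit 8, nat_lit 18, nat_lit 19]),
  ((nat_lit 6), [nat_lit 20], [nat_lit 20]),
  ((nat_lit 7), [nat_lit 12], [nat_lit 12]),
  ((nat_lit 7), [nat_lit 11], [nat_lit 7, nat_lit 9, nat_lit 12, nat_lit 18]),
  ((nat_lit 7), [nat_lit 19], [nat_lit 17]),
  ((nat_lit 7), [nat_lit 15], [nat_lit 18]),
  ((nat_lit 7), [nat_lit 20], [nat_lit 20]),
  ((nat_lit 12), [nat_lit 15], [nat_lit 15, nat_lit 20]),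
  ((nat_lit 12), [nat_lit 14], [nat_lit 6, nat_lit 11, nat_lit 12, nat_lit 20]),
  ((nat_lit 2), [nat_lit 9], [nat_lit 5, nat_lit 11, nat_lit 13]),
  ((nat_lit 11), [nat_lit 7], [nat_lit 5, nat_lit 16, nat_lit 17, nat_lit 20]),
  ((nat_lit 11), [nat_lit 16], [nat_lit 16, nat_lit 17, nat_lit 20]),
  ((nat_lit 11), [nat_lit 17], [nat_lit 20]),
  ((nat_lit 11), [nat_lit 20], [nat_lit 19]),
  ((nat_lit 10), [nat_lit 10], [nat_lit 9, nat_lit 12, nat_lit 14, nat_lit 17]),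
  ((nat_lit 10), [nat_lit 18], [nat_lit 20]),
  ((nat_lit 10), [nat_lit 20], [nat_lit 19]),
  ((nat_lit 7), [nat_lit 7], [nat_lit 5, nat_lit 9, nat_lit 12, nat_lit 13, nat_lit 16, nat_lit 17, nat_lit 20]),
  ((nat_lit 7), [nat_lit 17], [nat_lit 19]),
  ((nat_lit 6), [nat_lit 13], [nat_lit 13, nat_lit 15, nat_lit 17, nat_lit 18, nat_lit 19, nat_lit 20]),
  ((nat_lit 6), [nat_lit 17], [nat_lit 15, nat_lit 20]),
  ((nat_lit 6), [nat_lit 18], [nat_lit 19]),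
  ((nat_lit 11), [nat_lit 18], [nat_lit 12, nat_lit 16, nat_lit 19, nat_lit 20]),
  ((nat_lit 11), [nat_lit 12], [nat_lit 15, nat_lit 16, nat_lit 19, nat_lit 20]),
  ((nat_lit 6), [nat_lit 12], [nat_lit 13, nat_lit 15, nat_lit 16, nat_lit 19, nat_lit 20]),
  ((nat_lit 5), [nat_lit 13], [nat_lit 9, nat_lit 18, nat_lit 19]),
  ((nat_lit 5), [nat_lit 11], [nat_lit 5, nat_lit 6, nat_lit 12, nat_lit 13, nat_lit 15, nat_lit 18]),
  ((nat_lit 5), [nat_lit 19], [nat_lit 19]),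
  ((nat_lit 5), [nat_lit 0], [nat_lit 2, nat_lit 6, nat_lit 10, nat_lit 15, nat_lit 18, nat_lit 19]),
  ((nat_lit 5), [nat_lit 16], [nat_lit 17, nat_lit 18, nat_lit 19, nat_lit 20]),
  ((nat_lit 9), [nat_lit 17], [nat_lit 15, nat_lit 18, nat_lit 20]),
  ((nat_lit 9), [nat_lit 6, nat_lit 8], [nat_lit 5, nat_lit 7, nat_lit 9, nat_lit 10, nat_lit 11, nat_lit 12, nat_lit 15, nat_lit 19]),
  ((nat_lit 9), [nat_lit 20], [nat_lit 20]),
  ((nat_lit 8), [nat_lit 16], [nat_lit 15, nat_lit 19, nat_lit 20]),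
  ((nat_lit 8), [nat_lit 6, nat_lit 8], [nat_lit 6, nat_lit 8, nat_lit 9, nat_lit 11, nat_lit 12, nat_lit 13, nat_lit 14, nat_lit 18, nat_lit 19, nat_lit 20]),
  ((nat_lit 8), [nat_lit 20], [nat_lit 20]),
  ((nat_lit 11), [nat_lit 3, nat_lit 8], [nat_lit 3, nat_lit 5, nat_lit 7, nat_lit 8, nat_lit 9, nat_lit 12, nat_lit 14, nat_lit 15, nat_lit 18]),
  ((nat_lit 11), [nat_lit 19], [nat_lit 17]),
  ((nat_lit 0), [nat_lit 16], [nat_lit 16]),
  ((nat_lit 0), [nat_lit 1, nat_lit 2, nat_lit 4, nat_lit 11], [nat_lit 3, nat_lit 8, nat_lit 10, nat_lit 14, nat_lit 15, nat_lit 17, nat_lit 20]),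
  ((nat_lit 0), [nat_lit 17], [nat_lit 17]),
  ((nat_lit 0), [nat_lit 20], [nat_lit 19]),
  ((nat_lit 7), [nat_lit 13], [nat_lit 13, nat_lit 15, nat_lit 17, nat_lit 18, nat_lit 19, nat_lit 20]),
  ((nat_lit 7), [nat_lit 4], [nat_lit 3, nat_lit 5, nat_lit 6, nat_lit 12, nat_lit 14]),
  ((nat_lit 7), [nat_lit 18], [nat_lit 15]),
  ((nat_lit 5), [nat_lit 6], [nat_lit 0, nat_lit 5, nat_lit 6, nat_lit 12, nat_lit 16, nat_lit 20]),
  ((nat_lit 5), [nat_lit 18], [nat_lit 12, nat_lit 16, nat_lit 20]),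
  ((nat_lit 5), [nat_lit 20], [nat_lit 12, nat_lit 16, nat_lit 17, nat_lit 19, nat_lit 20]),
  ((nat_lit 1), [nat_lit 14], [nat_lit 0, nat_lit 9, nat_lit 12, nat_lit 13, nat_lit 14, nat_lit 16, nat_lit 18, nat_lit 20]),
  ((nat_lit 1), [nat_lit 20], [nat_lit 12, nat_lit 17, nat_lit 20]),
  ((nat_lit 11), [nat_lit 10], [nat_lit 6, nat_lit 11, nat_lit 13, nat_lit 14, nat_lit 16, nat_lit 18, nat_lit 19, nat_lit 20]),
  ((nat_lit 3), [nat_lit 15], [nat_lit 16, nat_lit 17, nat_lit 18]),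
  ((nat_lit 3), [nat_lit 11, nat_lit 14], [nat_lit 1, nat_lit 2, nat_lit 6, nat_lit 9, nat_lit 11, nat_lit 15, nat_lit 16, nat_lit 17, nat_lit 19]),
  ((nat_lit 3), [nat_lit 20], [nat_lit 19, nat_lit 20]),
  ((nat_lit 6), [nat_lit 6], [nat_lit 8, nat_lit 10, nat_lit 11, nat_lit 17, nat_lit 18]),
  ((nat_lit 6), [nat_lit 19], [nat_lit 18]),
  ((nat_lit 7), [nat_lit 0], [nat_lit 0, nat_lit 5, nat_lit 11, nat_lit 12, nat_lit 13, nat_lit 15, nat_lit 17]),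
  ((nat_lit 7), [nat_lit 16], [nat_lit 16, nat_lit 17, nat_lit 19]),
  ((nat_lit 10), [nat_lit 0, nat_lit 2], [nat_lit 6, nat_lit 8, nat_lit 9, nat_lit 10, nat_lit 12, nat_lit 16, nat_lit 18, nat_lit 20]),
  ((nat_lit 5), [nat_lit 12], [nat_lit 9, nat_lit 15, nat_lit 17, nat_lit 20]),
  ((nat_lit 1), [nat_lit 18], [nat_lit 9, nat_lit 15, nat_lit 16]),
  ((nat_lit 1), [nat_lit 3, nat_lit 8, nat_lit 11], [nat_lit 3, nat_lit 8, nat_lit 9, nat_lit 10, nat_lit 11, nat_lit 17, nat_lit 19]),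
  ((nat_lit 0), [nat_lit 18], [nat_lit 9, nat_lit 15, nat_lit 16, nat_lit 18, nat_lit 19, nat_lit 20]),
  ((nat_lit 0), [nat_lit 19], [nat_lit 12, nat_lit 17]),
  ((nat_lit 4), [nat_lit 9], [nat_lit 5, nat_lit 11, nat_lit 17, nat_lit 20]),
  ((nat_lit 4), [nat_lit 0, nat_lit 2, nat_lit 14], [nat_lit 6, nat_lit 10, nat_lit 12, nat_lit 13, nat_lit 14, nat_lit 16, nat_lit 17, nat_lit 20]),
  ((nat_lit 4), [nat_lit 19], [nat_lit 12, nat_lit 15, nat_lit 17, nat_lit 19, nat_lit 20]),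
  ((nat_lit 8), [nat_lit 11], [nat_lit 6, nat_lit 7, nat_lit 8, nat_lit 12, nat_lit 15, nat_lit 16, nat_lit 17, nat_lit 19, nat_lit 20]),
  ((nat_lit 8), [nat_lit 19], [nat_lit 12, nat_lit 13, nat_lit 16, nat_lit 17, nat_lit 18, nat_lit 19]),
  ((nat_lit 8), [nat_lit 9], [nat_lit 5, nat_lit 11, nat_lit 16, nat_lit 18, nat_lit 20]),
  ((nat_lit 5), [nat_lit 1, nat_lit 7, nat_lit 10, nat_lit 14], [nat_lit 9, nat_lit 14, nat_lit 16, nat_lit 17]),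
  ((nat_lit 5), [nat_lit 9], [nat_lit 5, nat_lit 9, nat_lit 11, nat_lit 12, nat_lit 13, nat_lit 19]),
  ((nat_lit 5), [nat_lit 17], [nat_lit 9, nat_lit 15, nat_lit 16, nat_lit 18, nat_lit 20]),
  ((nat_lit 7), [nat_lit 9], [nat_lit 5, nat_lit 9, nat_lit 11, nat_lit 13, nat_lit 15]),
  ((nat_lit 5), [nat_lit 15], [nat_lit 5, nat_lit 11, nat_lit 12, nat_lit 13, nat_lit 15, nat_lit 19, nat_lit 20]),
  ((nat_lit 0), [nat_lit 12], [nat_lit 5, nat_lit 9, nat_lit 11, nat_lit 13, nat_lit 16, nat_lit 18]),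
  ((nat_lit 0), [nat_lit 15], [nat_lit 12, nat_lit 16, nat_lit 17, nat_lit 20]),
  ((nat_lit 11), [nat_lit 6], [nat_lit 0, nat_lit 3, nat_lit 6, nat_lit 7, nat_lit 8, nat_lit 10, nat_lit 11, nat_lit 12, nat_lit 15, nat_lit 17, nat_lit 19]),
  ((nat_lit 11), [nat_lit 13], [nat_lit 9, nat_lit 16, nat_lit 17, nat_lit 18, nat_lit 19, nat_lit 20]),
  ((nat_lit 11), [nat_lit 14], [nat_lit 9, nat_lit 12, nat_lit 13, nat_lit 14, nat_lit 15, nat_lit 17, nat_lit 18, nat_lit 19, nat_lit 20]),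
  ((nat_lit 5), [nat_lit 5], [nat_lit 0, nat_lit 1, nat_lit 2, nat_lit 7, nat_lit 16, nat_lit 20]),
  ((nat_lit 0), [nat_lit 14], [nat_lit 1, nat_lit 2, nat_lit 6, nat_lit 7, nat_lit 11, nat_lit 14, nat_lit 19]),
  ((nat_lit 9), [nat_lit 14], [nat_lit 3, nat_lit 4, nat_lit 5, nat_lit 6, nat_lit 9, nat_lit 12, nat_lit 13, nat_lit 15, nat_lit 16, nat_lit 18]),
  ((nat_lit 7), [nat_lit 1, nat_lit 2], [nat_lit 0, nat_lit 3, nat_lit 5, nat_lit 6, nat_lit 7, nat_lit 8, nat_lit 10, nat_lit 11, nat_lit 12, nat_lit 16]),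
  ((nat_lit 7), [nat_lit 8], [nat_lit 0, nat_lit 1, nat_lit 2, nat_lit 4, nat_lit 5, nat_lit 7, nat_lit 9, nat_lit 10, nat_lit 12, nat_lit 13, nat_lit 16, nat_lit 17, nat_lit 19, nat_lit 20])]⟩
noncomputable def I2_3 : List Pc.Idn := [⟨true, (nat_lit 7), [nat_lit 85, nat_lit 44], [nat_lit 44, nat_lit 85, nat_lit 74, nat_lit 3, nat_lit 58, nat_lit 45], [((nat_lit 74), (nat_lit 1)), ((nat_lit 3), (nat_lit 1)), ((nat_lit 58), (nat_lit 1)), ((nat_lit 45), (nat_lit 1)), ((nat_lit 149), (nat_lit 1)), ((nat_lit 150), (nat_lit 1)), ((nat_lit 151), (nat_lit 1)), ((nat_lit 173), (nat_lit 1)), ((nat_lit 191), (nat_lit 1)), ((nat_lit 194), (nat_lit 1)), ((nat_lit 196), (nat_lit 1)), ((nat_lit 212), (nat_lit 1)), ((nat_lit 213), (nat_lit 1)), ((nat_lit 216), (nat_lit 1)), ((nat_lit 218), (nat_lit 1)), ((nat_lit 236), (nat_lit 1)), ((nat_lit 239), (nat_lit 1)), ((nat_lit 258), (nat_lit 1)), ((nat_lit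 276), (nat_lit 1)), ((nat_lit 277), (nat_lit 1)), ((nat_lit 278), (nat_lit 1)), ((nat_lit 279), (nat_lit 1)), ((nat_lit 281), (nat_lit 1)), ((nat_lit 282), (nat_lit 1)), ((nat_lit 284), (nat_lit 1)), ((nat_lit 299), (nat_lit 1)), ((nat_lit 305), (nat_lit 1)), ((nat_lit 321), (nat_lit 1)), ((nat_lit 324), (nat_lit 1)), ((nat_lit 326), (nat_lit 1)), ((nat_lit 327), (nat_lit 1)), ((nat_lit 328), (nat_lit 1)), ((nat_lit 338), (nat_lit 1)), ((nat_lit 340), (nat_lit 1)), ((nat_lit 341), (nat_lit 1)), ((nat_lit 345), (nat_lit 1)), ((nat_lit 347), (nat_lit 1)), ((nat_lit 350), (nat_lit 1)), ((nat_lit 361), (nat_lit 1)), ((nat_lit 362), (nat_lit 1)), ((nat_lit 369), (nat_lit 1)), ((nat_lit 370), (nat_lit 1)), ((nat_lit 380), (nat_lit 1)), ((nat_lit 381), (nat_lit 1)), ((nat_lit 384), (nat_lit 1)), ((nat_lit 385), (nat_lit 1)), ((nat_lit 389), (nat_lit 1)), ((nat_lit 393), (nat_lit 1)), ((nat_lit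 402), (nat_lit 1)), ((nat_lit 405), (nat_lit 1)), ((nat_lit 413), (nat_lit 1)), ((nat_lit 424), (nat_lit 1)), ((nat_lit 425), (nat_lit 1)), ((nat_lit 426), (nat_lit 1)), ((nat_lit 428), (nat_lit 1)), ((nat_lit 431), (nat_lit 1)), ((nat_lit 432), (nat_lit 1)), ((nat_lit 433), (nat_lit 1)), ((nat_lit 434), (nat_lit 1)), ((nat_lit 435), (nat_lit 1)), ((nat_lit 436), (nat_lit 1)), ((nat_lit 445), (nat_lit 1)), ((nat_lit 446), (nat_lit 1)), ((nat_lit 447), (nat_lit 1)), ((nat_lit 448), (nat_lit 1)), ((nat_lit 449), (nat_lit 1)), ((nat_lit 450), (nat_lit 1)), ((nat_lit 452), (nat_lit 1)), ((nat_lit 454), (nat_lit 1)), ((nat_lit 455), (nat_lit 1)), ((nat_lit 456), (nat_lit 1)), ((nat_lit 457), (nat_lit 1)), ((nat_lit 458), (nat_lit 1)), ((nat_lit 465), (nat_lit 1)), ((nat_lit 468), (nat_lit 1)), ((nat_lit 469), (nat_lit 1)), ((nat_lit 470), (nat_lit 1)), ((nat_lit 474), (nat_lit 1)), ((nat_lit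 480), (nat_lit 1)), ((nat_lit 481), (nat_lit 1)), ((nat_lit 482), (nat_lit 1)), ((nat_lit 487), (nat_lit 1)), ((nat_lit 488), (nat_lit 1)), ((nat_lit 489), (nat_lit 1)), ((nat_lit 492), (nat_lit 1)), ((nat_lit 495), (nat_lit 1)), ((nat_lit 497), (nat_lit 1)), ((nat_lit 500), (nat_lit 1)), ((nat_lit 501), (nat_lit 1)), ((nat_lit 502), (nat_lit 1)), ((nat_lit 504), (nat_lit 1)), ((nat_lit 507), (nat_lit 1)), ((nat_lit 509), (nat_lit 1)), ((nat_lit 510), (nat_lit 1)), ((nat_lit 511), (nat_lit 1)), ((nat_lit 512), (nat_lit 1)), ((nat_lit 513), (nat_lit 1)), ((nat_lit 515), (nat_lit 1)), ((nat_lit 517), (nat_lit 1)), ((nat_lit 520), (nat_lit 1)), ((nat_lit 521), (nat_lit 1)), ((nat_lit 522), (nat_lit 1)), ((nat_lit 523), (nat_lit 1)), ((nat_lit 526), (nat_lit 1))]⟩,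
  ⟨true, (nat_lit 11), [nat_lit 78, nat_lit 78], [nat_lit 24, nat_lit 38], [((nat_lit 24), (nat_lit 1)), ((nat_lit 38), (nat_lit 1)), ((nat_lit 86), (nat_lit 1)), ((nat_lit 149), (nat_lit 1)), ((nat_lit 152), (nat_lit 1)), ((nat_lit 194), (nat_lit 1)), ((nat_lit 196), (nat_lit 1)), ((nat_lit 212), (nat_lit 1)), ((nat_lit 215), (nat_lit 1)), ((nat_lit 233), (nat_lit 1)), ((nat_lit 236), (nat_lit 1)), ((nat_lit 239), (nat_lit 1)), ((nat_lit 240), (nat_lit 1)), ((nat_lit 254), (nat_lit 1)), ((nat_lit 257), (nat_lit 1)), ((nat_lit 260), (nat_lit 1)), ((nat_lit 261), (nat_lit 1)), ((nat_lit 262), (nat_lit 1)), ((nat_lit 278), (nat_lit 1)), ((nat_lit 284), (nat_lit 1)), ((nat_lit 296), (nat_lit 1)), ((nat_lit 299), (nat_lit 1)), ((nat_lit 301), (nat_lit 1)), ((nat_lit 305), (nat_lit 1)), ((nat_lit 317), (nat_lit 1)), ((nat_lit 322), (nat_lit 1)), ((nat_lit 338), (nat_lit 1)), ((nat_lit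 341), (nat_lit 1)), ((nat_lit 346), (nat_lit 1)), ((nat_lit 347), (nat_lit 1)), ((nat_lit 349), (nat_lit 1)), ((nat_lit 350), (nat_lit 1)), ((nat_lit 365), (nat_lit 1)), ((nat_lit 369), (nat_lit 1)), ((nat_lit 370), (nat_lit 1)), ((nat_lit 372), (nat_lit 1)), ((nat_lit 385), (nat_lit 1)), ((nat_lit 387), (nat_lit 1)), ((nat_lit 388), (nat_lit 1)), ((nat_lit 390), (nat_lit 1)), ((nat_lit 392), (nat_lit 1)), ((nat_lit 393), (nat_lit 1)), ((nat_lit 394), (nat_lit 1)), ((nat_lit 401), (nat_lit 1)), ((nat_lit 408), (nat_lit 1)), ((nat_lit 411), (nat_lit 1)), ((nat_lit 414), (nat_lit 1)), ((nat_lit 425), (nat_lit 1)), ((nat_lit 428), (nat_lit 1)), ((nat_lit 433), (nat_lit 1)), ((nat_lit 436), (nat_lit 1)), ((nat_lit 443), (nat_lit 1)), ((nat_lit 448), (nat_lit 1)), ((nat_lit 452), (nat_lit 1)), ((nat_lit 454), (nat_lit 1)), ((nat_lit 458), (nat_lit 1)), ((nat_lit 467), (nat_lit 1)), ((nat_lit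 470), (nat_lit 1)), ((nat_lit 472), (nat_lit 1)), ((nat_lit 475), (nat_lit 1)), ((nat_lit 476), (nat_lit 1)), ((nat_lit 478), (nat_lit 1)), ((nat_lit 480), (nat_lit 1)), ((nat_lit 482), (nat_lit 1)), ((nat_lit 485), (nat_lit 1)), ((nat_lit 488), (nat_lit 1)), ((nat_lit 490), (nat_lit 1)), ((nat_lit 491), (nat_lit 1)), ((nat_lit 493), (nat_lit 1)), ((nat_lit 494), (nat_lit 1)), ((nat_lit 495), (nat_lit 1)), ((nat_lit 497), (nat_lit 1)), ((nat_lit 498), (nat_lit 1)), ((nat_lit 499), (nat_lit 1)), ((nat_lit 503), (nat_lit 1)), ((nat_lit 504), (nat_lit 1)), ((nat_lit 509), (nat_lit 1)), ((nat_lit 512), (nat_lit 1)), ((nat_lit 513), (nat_lit 1)), ((nat_lit 514), (nat_lit 1)), ((nat_lit 515), (nat_lit 1)), ((nat_lit 518), (nat_lit 1)), ((nat_lit 520), (nat_lit 1)), ((nat_lit 521), (nat_lit 1)), ((nat_lit 524), (nat_lit 1)), ((nat_lit 526), (nat_lit 1))]⟩,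
  ⟨true, (nat_lit 7), [nat_lit 85, nat_lit 85], [nat_lit 43, nat_lit 19, nat_lit 45, nat_lit 7], [((nat_lit 43), (nat_lit 1)), ((nat_lit 19), (nat_lit 1)), ((nat_lit 45), (nat_lit 1)), ((nat_lit 7), (nat_lit 1)), ((nat_lit 86), (nat_lit 1)), ((nat_lit 107), (nat_lit 1)), ((nat_lit 108), (nat_lit 1)), ((nat_lit 128), (nat_lit 1)), ((nat_lit 129), (nat_lit 1)), ((nat_lit 130), (nat_lit 1)), ((nat_lit 170), (nat_lit 1)), ((nat_lit 171), (nat_lit 1)), ((nat_lit 172), (nat_lit 1)), ((nat_lit 174), (nat_lit 1)), ((nat_lit 191), (nat_lit 1)), ((nat_lit 192), (nat_lit 1)), ((nat_lit 193), (nat_lit 1)), ((nat_lit 233), (nat_lit 1)), ((nat_lit 237), (nat_lit 1)), ((nat_lit 238), (nat_lit 1)), ((nat_lit 256), (nat_lit 1)), ((nat_lit 275), (nat_lit 1)), ((nat_lit 277), (nat_lit 1)), ((nat_lit 279), (nat_lit 1)), ((nat_lit 282), (nat_lit 1)), ((nat_lit 283), (nat_lit 1)), ((nat_lit 284), (nat_lit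 1)), ((nat_lit 296), (nat_lit 1)), ((nat_lit 297), (nat_lit 1)), ((nat_lit 298), (nat_lit 1)), ((nat_lit 304), (nat_lit 1)), ((nat_lit 305), (nat_lit 1)), ((nat_lit 319), (nat_lit 1)), ((nat_lit 321), (nat_lit 1)), ((nat_lit 324), (nat_lit 1)), ((nat_lit 327), (nat_lit 1)), ((nat_lit 338), (nat_lit 1)), ((nat_lit 339), (nat_lit 1)), ((nat_lit 342), (nat_lit 1)), ((nat_lit 345), (nat_lit 1)), ((nat_lit 346), (nat_lit 1)), ((nat_lit 347), (nat_lit 1)), ((nat_lit 348), (nat_lit 1)), ((nat_lit 349), (nat_lit 1)), ((nat_lit 359), (nat_lit 1)), ((nat_lit 361), (nat_lit 1)), ((nat_lit 364), (nat_lit 1)), ((nat_lit 367), (nat_lit 1)), ((nat_lit 370), (nat_lit 1)), ((nat_lit 372), (nat_lit 1)), ((nat_lit 381), (nat_lit 1)), ((nat_lit 384), (nat_lit 1)), ((nat_lit 387), (nat_lit 1)), ((nat_lit 390), (nat_lit 1)), ((nat_lit 393), (nat_lit 1)), ((nat_lit 405), (nat_lit 1)), ((nat_lit 408), (nat_lit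 1)), ((nat_lit 413), (nat_lit 1)), ((nat_lit 416), (nat_lit 1)), ((nat_lit 422), (nat_lit 1)), ((nat_lit 424), (nat_lit 1)), ((nat_lit 427), (nat_lit 1)), ((nat_lit 430), (nat_lit 1)), ((nat_lit 431), (nat_lit 1)), ((nat_lit 433), (nat_lit 1)), ((nat_lit 435), (nat_lit 1)), ((nat_lit 438), (nat_lit 1)), ((nat_lit 443), (nat_lit 1)), ((nat_lit 444), (nat_lit 1)), ((nat_lit 448), (nat_lit 1)), ((nat_lit 453), (nat_lit 1)), ((nat_lit 455), (nat_lit 1)), ((nat_lit 457), (nat_lit 1)), ((nat_lit 459), (nat_lit 1)), ((nat_lit 474), (nat_lit 1)), ((nat_lit 475), (nat_lit 1)), ((nat_lit 476), (nat_lit 1)), ((nat_lit 478), (nat_lit 1)), ((nat_lit 481), (nat_lit 1)), ((nat_lit 482), (nat_lit 1)), ((nat_lit 485), (nat_lit 1)), ((nat_lit 487), (nat_lit 1)), ((nat_lit 489), (nat_lit 1)), ((nat_lit 493), (nat_lit 1)), ((nat_lit 495), (nat_lit 1)), ((nat_lit 496), (nat_lit 1)), ((nat_lit 498), (nat_lit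 1)), ((nat_lit 499), (nat_lit 1)), ((nat_lit 502), (nat_lit 1)), ((nat_lit 503), (nat_lit 1)), ((nat_lit 504), (nat_lit 1)), ((nat_lit 506), (nat_lit 1)), ((nat_lit 507), (nat_lit 1)), ((nat_lit 510), (nat_lit 1)), ((nat_lit 511), (nat_lit 1)), ((nat_lit 513), (nat_lit 1)), ((nat_lit 514), (nat_lit 1)), ((nat_lit 515), (nat_lit 1)), ((nat_lit 517), (nat_lit 1)), ((nat_lit 521), (nat_lit 1)), ((nat_lit 523), (nat_lit 1)), ((nat_lit 524), (nat_lit 1)), ((nat_lit 525), (nat_lit 1))]⟩]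
noncomputable def I2_2 : List Pc.Idn := [⟨false, (nat_lit 0), [nat_lit 4], [nat_lit 2, nat_lit 0], [((nat_lit 191), (nat_lit 1)), ((nat_lit 233), (nat_lit 1)), ((nat_lit 235), (nat_lit 1)), ((nat_lit 238), (nat_lit 1)), ((nat_lit 254), (nat_lit 1)), ((nat_lit 261), (nat_lit 1)), ((nat_lit 275), (nat_lit 1)), ((nat_lit 279), (nat_lit 1)), ((nat_lit 280), (nat_lit 1)), ((nat_lit 282), (nat_lit 1)), ((nat_lit 283), (nat_lit 1)), ((nat_lit 296), (nat_lit 1)), ((nat_lit 303), (nat_lit 1)), ((nat_lit 305), (nat_lit 1)), ((nat_lit 327), (nat_lit 1)), ((nat_lit 347), (nat_lit 1)), ((nat_lit 349), (nat_lit 1)), ((nat_lit 364), (nat_lit 1)), ((nat_lit 367), (nat_lit 1)), ((nat_lit 369), (nat_lit 1)), ((nat_lit 370), (nat_lit 1)), ((nat_lit 371), (nat_lit 1)), ((nat_lit 384), (nat_lit 1)), ((nat_lit 385), (nat_lit 1)), ((nat_lit 388), (nat_lit 1)), ((nat_lit 389), (nat_lit 1)), ((nat_lit 390),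 (nat_lit 1)), ((nat_lit 392), (nat_lit 1)), ((nat_lit 393), (nat_lit 1)), ((nat_lit 405), (nat_lit 1)), ((nat_lit 409), (nat_lit 1)), ((nat_lit 410), (nat_lit 1)), ((nat_lit 413), (nat_lit 1)), ((nat_lit 414), (nat_lit 1)), ((nat_lit 415), (nat_lit 1)), ((nat_lit 416), (nat_lit 1)), ((nat_lit 429), (nat_lit 1)), ((nat_lit 431), (nat_lit 1)), ((nat_lit 435), (nat_lit 1)), ((nat_lit 436), (nat_lit 1)), ((nat_lit 443), (nat_lit 1)), ((nat_lit 447), (nat_lit 1)), ((nat_lit 448), (nat_lit 1)), ((nat_lit 452), (nat_lit 1)), ((nat_lit 455), (nat_lit 1)), ((nat_lit 457), (nat_lit 1)), ((nat_lit 458), (nat_lit 1)), ((nat_lit 469), (nat_lit 1)), ((nat_lit 471), (nat_lit 1)), ((nat_lit 474), (nat_lit 1)), ((nat_lit 475), (nat_lit 1)), ((nat_lit 476), (nat_lit 1)), ((nat_lit 477), (nat_lit 1)), ((nat_lit 481), (nat_lit 1)), ((nat_lit 482), (nat_lit 1)), ((nat_lit 492), (nat_lit 1)), ((nat_lit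 496), (nat_lit 1)), ((nat_lit 497), (nat_lit 1)), ((nat_lit 498), (nat_lit 1)), ((nat_lit 499), (nat_lit 1)), ((nat_lit 500), (nat_lit 1)), ((nat_lit 503), (nat_lit 1)), ((nat_lit 504), (nat_lit 1)), ((nat_lit 506), (nat_lit 1)), ((nat_lit 510), (nat_lit 1)), ((nat_lit 511), (nat_lit 1)), ((nat_lit 514), (nat_lit 1)), ((nat_lit 515), (nat_lit 1)), ((nat_lit 517), (nat_lit 1)), ((nat_lit 518), (nat_lit 1)), ((nat_lit 520), (nat_lit 1)), ((nat_lit 523), (nat_lit 1)), ((nat_lit 524), (nat_lit 1)), ((nat_lit 526), (nat_lit 1))]⟩,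
  ⟨false, (nat_lit 0), [nat_lit 4], [nat_lit 2, nat_lit 1], [((nat_lit 192), (nat_lit 1)), ((nat_lit 234), (nat_lit 1)), ((nat_lit 255), (nat_lit 1)), ((nat_lit 256), (nat_lit 1)), ((nat_lit 259), (nat_lit 1)), ((nat_lit 261), (nat_lit 1)), ((nat_lit 276), (nat_lit 1)), ((nat_lit 282), (nat_lit 1)), ((nat_lit 297), (nat_lit 1)), ((nat_lit 304), (nat_lit 1)), ((nat_lit 305), (nat_lit 1)), ((nat_lit 321), (nat_lit 1)), ((nat_lit 322), (nat_lit 1)), ((nat_lit 324), (nat_lit 1)), ((nat_lit 325), (nat_lit 1)), ((nat_lit 326), (nat_lit 1)), ((nat_lit 343), (nat_lit 1)), ((nat_lit 345), (nat_lit 1)), ((nat_lit 346), (nat_lit 1)), ((nat_lit 347), (nat_lit 1)), ((nat_lit 348), (nat_lit 1)), ((nat_lit 349), (nat_lit 1)), ((nat_lit 366), (nat_lit 1)), ((nat_lit 367), (nat_lit 1)), ((nat_lit 369), (nat_lit 1)), ((nat_lit 371), (nat_lit 1)), ((nat_lit 372), (nat_lit 1)), ((nat_lit 385), (nat_lit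 1)), ((nat_lit 387), (nat_lit 1)), ((nat_lit 388), (nat_lit 1)), ((nat_lit 389), (nat_lit 1)), ((nat_lit 390), (nat_lit 1)), ((nat_lit 394), (nat_lit 1)), ((nat_lit 405), (nat_lit 1)), ((nat_lit 406), (nat_lit 1)), ((nat_lit 408), (nat_lit 1)), ((nat_lit 410), (nat_lit 1)), ((nat_lit 411), (nat_lit 1)), ((nat_lit 414), (nat_lit 1)), ((nat_lit 416), (nat_lit 1)), ((nat_lit 426), (nat_lit 1)), ((nat_lit 431), (nat_lit 1)), ((nat_lit 433), (nat_lit 1)), ((nat_lit 434), (nat_lit 1)), ((nat_lit 435), (nat_lit 1)), ((nat_lit 436), (nat_lit 1)), ((nat_lit 438), (nat_lit 1)), ((nat_lit 444), (nat_lit 1)), ((nat_lit 447), (nat_lit 1)), ((nat_lit 453), (nat_lit 1)), ((nat_lit 454), (nat_lit 1)), ((nat_lit 458), (nat_lit 1)), ((nat_lit 459), (nat_lit 1)), ((nat_lit 468), (nat_lit 1)), ((nat_lit 471), (nat_lit 1)), ((nat_lit 472), (nat_lit 1)), ((nat_lit 473), (nat_lit 1)), ((nat_lit 475), (nat_lit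 1)), ((nat_lit 477), (nat_lit 1)), ((nat_lit 481), (nat_lit 1)), ((nat_lit 489), (nat_lit 1)), ((nat_lit 494), (nat_lit 1)), ((nat_lit 495), (nat_lit 1)), ((nat_lit 497), (nat_lit 1)), ((nat_lit 499), (nat_lit 1)), ((nat_lit 500), (nat_lit 1)), ((nat_lit 501), (nat_lit 1)), ((nat_lit 502), (nat_lit 1)), ((nat_lit 503), (nat_lit 1)), ((nat_lit 504), (nat_lit 1)), ((nat_lit 507), (nat_lit 1)), ((nat_lit 511), (nat_lit 1)), ((nat_lit 515), (nat_lit 1)), ((nat_lit 516), (nat_lit 1)), ((nat_lit 517), (nat_lit 1)), ((nat_lit 520), (nat_lit 1)), ((nat_lit 521), (nat_lit 1)), ((nat_lit 525), (nat_lit 1))]⟩,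
  ⟨true, (nat_lit 6), [nat_lit 0, nat_lit 1], [nat_lit 1, nat_lit 0, nat_lit 2], [((nat_lit 2), (nat_lit 1)), ((nat_lit 409), (nat_lit 1)), ((nat_lit 451), (nat_lit 1)), ((nat_lit 481), (nat_lit 1)), ((nat_lit 502), (nat_lit 1)), ((nat_lit 514), (nat_lit 1))]⟩,
  ⟨true, (nat_lit 7), [nat_lit 3, nat_lit 4], [nat_lit 4, nat_lit 3, nat_lit 5], [((nat_lit 5), (nat_lit 1)), ((nat_lit 345), (nat_lit 1)), ((nat_lit 347), (nat_lit 1)), ((nat_lit 349), (nat_lit 1)), ((nat_lit 452), (nat_lit 1)), ((nat_lit 455), (nat_lit 1)), ((nat_lit 476), (nat_lit 1)), ((nat_lit 481), (nat_lit 1))]⟩,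
  ⟨true, (nat_lit 7), [nat_lit 6, nat_lit 4], [nat_lit 4, nat_lit 6, nat_lit 7], [((nat_lit 7), (nat_lit 1)), ((nat_lit 412), (nat_lit 1)), ((nat_lit 471), (nat_lit 1)), ((nat_lit 473), (nat_lit 1)), ((nat_lit 476), (nat_lit 1)), ((nat_lit 515), (nat_lit 1)), ((nat_lit 518), (nat_lit 1)), ((nat_lit 524), (nat_lit 1))]⟩,
  ⟨true, (nat_lit 12), [nat_lit 8, nat_lit 9], [nat_lit 9, nat_lit 8], [((nat_lit 407), (nat_lit 1)), ((nat_lit 412), (nat_lit 1)), ((nat_lit 413), (nat_lit 1)), ((nat_lit 415), (nat_lit 1)), ((nat_lit 512), (nat_lit 1)), ((nat_lit 518), (nat_lit 1)), ((nat_lit 521), (nat_lit 1)), ((nat_lit 526), (nat_lit 1))]⟩,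
  ⟨true, (nat_lit 2), [nat_lit 10, nat_lit 10], [], [((nat_lit 196), (nat_lit 1)), ((nat_lit 284), (nat_lit 1)), ((nat_lit 322), (nat_lit 1)), ((nat_lit 328), (nat_lit 1)), ((nat_lit 364), (nat_lit 1)), ((nat_lit 370), (nat_lit 1)), ((nat_lit 372), (nat_lit 1)), ((nat_lit 433), (nat_lit 1)), ((nat_lit 438), (nat_lit 1)), ((nat_lit 454), (nat_lit 1)), ((nat_lit 459), (nat_lit 1)), ((nat_lit 460), (nat_lit 1)), ((nat_lit 496), (nat_lit 1)), ((nat_lit 501), (nat_lit 1)), ((nat_lit 502), (nat_lit 1))]⟩,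
  ⟨true, (nat_lit 11), [nat_lit 11, nat_lit 11], [nat_lit 12, nat_lit 13, nat_lit 14], [((nat_lit 12), (nat_lit 1)), ((nat_lit 13), (nat_lit 1)), ((nat_lit 14), (nat_lit 1)), ((nat_lit 196), (nat_lit 1)), ((nat_lit 240), (nat_lit 1)), ((nat_lit 427), (nat_lit 1)), ((nat_lit 438), (nat_lit 1)), ((nat_lit 448), (nat_lit 1)), ((nat_lit 459), (nat_lit 1)), ((nat_lit 460), (nat_lit 1)), ((nat_lit 511), (nat_lit 1)), ((nat_lit 522), (nat_lit 1)), ((nat_lit 523), (nat_lit 1))]⟩,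
  ⟨true, (nat_lit 10), [nat_lit 15, nat_lit 15], [nat_lit 16, nat_lit 17], [((nat_lit 16), (nat_lit 1)), ((nat_lit 17), (nat_lit 1)), ((nat_lit 284), (nat_lit 1)), ((nat_lit 306), (nat_lit 1)), ((nat_lit 347), (nat_lit 1)), ((nat_lit 350), (nat_lit 1)), ((nat_lit 389), (nat_lit 1)), ((nat_lit 392), (nat_lit 1)), ((nat_lit 394), (nat_lit 1)), ((nat_lit 452), (nat_lit 1)), ((nat_lit 455), (nat_lit 1)), ((nat_lit 457), (nat_lit 1)), ((nat_lit 460), (nat_lit 1)), ((nat_lit 497), (nat_lit 1)), ((nat_lit 499), (nat_lit 1))]⟩,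
  ⟨true, (nat_lit 7), [nat_lit 3, nat_lit 18], [nat_lit 18, nat_lit 3, nat_lit 19], [((nat_lit 19), (nat_lit 1)), ((nat_lit 343), (nat_lit 1)), ((nat_lit 345), (nat_lit 1)), ((nat_lit 347), (nat_lit 1)), ((nat_lit 371), (nat_lit 1)), ((nat_lit 434), (nat_lit 1)), ((nat_lit 455), (nat_lit 1)), ((nat_lit 494), (nat_lit 1)), ((nat_lit 497), (nat_lit 1)), ((nat_lit 498), (nat_lit 1)), ((nat_lit 501), (nat_lit 1)), ((nat_lit 502), (nat_lit 1)), ((nat_lit 518), (nat_lit 1)), ((nat_lit 525), (nat_lit 1))]⟩,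
  ⟨true, (nat_lit 6), [nat_lit 1, nat_lit 1], [nat_lit 20, nat_lit 21, nat_lit 22, nat_lit 2], [((nat_lit 20), (nat_lit 1)), ((nat_lit 21), (nat_lit 1)), ((nat_lit 22), (nat_lit 1)), ((nat_lit 2), (nat_lit 1)), ((nat_lit 416), (nat_lit 1)), ((nat_lit 458), (nat_lit 1)), ((nat_lit 472), (nat_lit 1)), ((nat_lit 479), (nat_lit 1)), ((nat_lit 482), (nat_lit 1)), ((nat_lit 493), (nat_lit 1)), ((nat_lit 500), (nat_lit 1)), ((nat_lit 503), (nat_lit 1)), ((nat_lit 521), (nat_lit 1)), ((nat_lit 526), (nat_lit 1))]⟩,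
  ⟨true, (nat_lit 11), [nat_lit 23, nat_lit 11], [nat_lit 11, nat_lit 23, nat_lit 14], [((nat_lit 14), (nat_lit 1)), ((nat_lit 343), (nat_lit 1)), ((nat_lit 427), (nat_lit 1)), ((nat_lit 434), (nat_lit 1)), ((nat_lit 455), (nat_lit 1)), ((nat_lit 459), (nat_lit 1)), ((nat_lit 471), (nat_lit 1)), ((nat_lit 490), (nat_lit 1)), ((nat_lit 501), (nat_lit 1)), ((nat_lit 511), (nat_lit 1)), ((nat_lit 518), (nat_lit 1)), ((nat_lit 523), (nat_lit 1)), ((nat_lit 525), (nat_lit 1))]⟩,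
  ⟨true, (nat_lit 7), [nat_lit 4, nat_lit 4], [nat_lit 5], [((nat_lit 5), (nat_lit 1)), ((nat_lit 240), (nat_lit 1)), ((nat_lit 282), (nat_lit 1)), ((nat_lit 284), (nat_lit 1)), ((nat_lit 328), (nat_lit 1)), ((nat_lit 345), (nat_lit 1)), ((nat_lit 347), (nat_lit 1)), ((nat_lit 350), (nat_lit 1)), ((nat_lit 431), (nat_lit 1)), ((nat_lit 438), (nat_lit 1)), ((nat_lit 455), (nat_lit 1)), ((nat_lit 459), (nat_lit 1)), ((nat_lit 460), (nat_lit 1)), ((nat_lit 471), (nat_lit 1)), ((nat_lit 473), (nat_lit 1)), ((nat_lit 476), (nat_lit 1)), ((nat_lit 482), (nat_lit 1)), ((nat_lit 515), (nat_lit 1)), ((nat_lit 518), (nat_lit 1)), ((nat_lit 522), (nat_lit 1)), ((nat_lit 524), (nat_lit 1)), ((nat_lit 526), (nat_lit 1))]⟩,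
  ⟨true, (nat_lit 11), [nat_lit 24, nat_lit 11], [nat_lit 11, nat_lit 24, nat_lit 13], [((nat_lit 13), (nat_lit 1)), ((nat_lit 345), (nat_lit 1)), ((nat_lit 406), (nat_lit 1)), ((nat_lit 427), (nat_lit 1)), ((nat_lit 437), (nat_lit 1)), ((nat_lit 458), (nat_lit 1)), ((nat_lit 459), (nat_lit 1)), ((nat_lit 490), (nat_lit 1)), ((nat_lit 501), (nat_lit 1)), ((nat_lit 502), (nat_lit 1)), ((nat_lit 511), (nat_lit 1)), ((nat_lit 521), (nat_lit 1))]⟩,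
  ⟨true, (nat_lit 6), [nat_lit 25, nat_lit 1], [nat_lit 1, nat_lit 25, nat_lit 22, nat_lit 2], [((nat_lit 22), (nat_lit 1)), ((nat_lit 2), (nat_lit 1)), ((nat_lit 346), (nat_lit 1)), ((nat_lit 367), (nat_lit 1)), ((nat_lit 409), (nat_lit 1)), ((nat_lit 430), (nat_lit 1)), ((nat_lit 477), (nat_lit 1)), ((nat_lit 479), (nat_lit 1)), ((nat_lit 480), (nat_lit 1)), ((nat_lit 493), (nat_lit 1)), ((nat_lit 498), (nat_lit 1)), ((nat_lit 500), (nat_lit 1)), ((nat_lit 501), (nat_lit 1)), ((nat_lit 514), (nat_lit 1)), ((nat_lit 521), (nat_lit 1)), ((nat_lit 526), (nat_lit 1))]⟩,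
  ⟨true, (nat_lit 5), [nat_lit 26, nat_lit 27], [nat_lit 27, nat_lit 26, nat_lit 28], [((nat_lit 28), (nat_lit 1)), ((nat_lit 280), (nat_lit 1)), ((nat_lit 281), (nat_lit 1)), ((nat_lit 347), (nat_lit 1)), ((nat_lit 368), (nat_lit 1)), ((nat_lit 370), (nat_lit 1)), ((nat_lit 410), (nat_lit 1)), ((nat_lit 469), (nat_lit 1)), ((nat_lit 470), (nat_lit 1)), ((nat_lit 473), (nat_lit 1)), ((nat_lit 476), (nat_lit 1)), ((nat_lit 477), (nat_lit 1)), ((nat_lit 479), (nat_lit 1)), ((nat_lit 490), (nat_lit 1)), ((nat_lit 503), (nat_lit 1)), ((nat_lit 512), (nat_lit 1)), ((nat_lit 525), (nat_lit 1)), ((nat_lit 526), (nat_lit 1))]⟩,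
  ⟨true, (nat_lit 5), [nat_lit 26, nat_lit 29], [nat_lit 29, nat_lit 26, nat_lit 30], [((nat_lit 30), (nat_lit 1)), ((nat_lit 277), (nat_lit 1)), ((nat_lit 281), (nat_lit 1)), ((nat_lit 305), (nat_lit 1)), ((nat_lit 359), (nat_lit 1)), ((nat_lit 410), (nat_lit 1)), ((nat_lit 449), (nat_lit 1)), ((nat_lit 453), (nat_lit 1)), ((nat_lit 458), (nat_lit 1)), ((nat_lit 466), (nat_lit 1)), ((nat_lit 470), (nat_lit 1)), ((nat_lit 473), (nat_lit 1)), ((nat_lit 474), (nat_lit 1)), ((nat_lit 481), (nat_lit 1)), ((nat_lit 482), (nat_lit 1)), ((nat_lit 487), (nat_lit 1)), ((nat_lit 494), (nat_lit 1)), ((nat_lit 503), (nat_lit 1)), ((nat_lit 516), (nat_lit 1)), ((nat_lit 521), (nat_lit 1)), ((nat_lit 523), (nat_lit 1)), ((nat_lit 525), (nat_lit 1))]⟩,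
  ⟨true, (nat_lit 9), [nat_lit 31, nat_lit 32], [nat_lit 32, nat_lit 31, nat_lit 33], [((nat_lit 33), (nat_lit 1)), ((nat_lit 406), (nat_lit 1)), ((nat_lit 408), (nat_lit 1)), ((nat_lit 410), (nat_lit 1)), ((nat_lit 411), (nat_lit 1)), ((nat_lit 412), (nat_lit 1)), ((nat_lit 413), (nat_lit 1)), ((nat_lit 449), (nat_lit 1)), ((nat_lit 451), (nat_lit 1)), ((nat_lit 469), (nat_lit 1)), ((nat_lit 471), (nat_lit 1)), ((nat_lit 473), (nat_lit 1)), ((nat_lit 474), (nat_lit 1)), ((nat_lit 475), (nat_lit 1)), ((nat_lit 476), (nat_lit 1)), ((nat_lit 479), (nat_lit 1)), ((nat_lit 500), (nat_lit 1)), ((nat_lit 503), (nat_lit 1)), ((nat_lit 511), (nat_lit 1)), ((nat_lit 515), (nat_lit 1)), ((nat_lit 516), (nat_lit 1)), ((nat_lit 517), (nat_lit 1)), ((nat_lit 526), (nat_lit 1))]⟩,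
  ⟨true, (nat_lit 8), [nat_lit 34, nat_lit 35], [nat_lit 35, nat_lit 34, nat_lit 36], [((nat_lit 36), (nat_lit 1)), ((nat_lit 407), (nat_lit 1)), ((nat_lit 409), (nat_lit 1)), ((nat_lit 410), (nat_lit 1)), ((nat_lit 412), (nat_lit 1)), ((nat_lit 413), (nat_lit 1)), ((nat_lit 414), (nat_lit 1)), ((nat_lit 415), (nat_lit 1)), ((nat_lit 428), (nat_lit 1)), ((nat_lit 430), (nat_lit 1)), ((nat_lit 479), (nat_lit 1)), ((nat_lit 491), (nat_lit 1)), ((nat_lit 494), (nat_lit 1)), ((nat_lit 496), (nat_lit 1)), ((nat_lit 497), (nat_lit 1)), ((nat_lit 498), (nat_lit 1)), ((nat_lit 499), (nat_lit 1)), ((nat_lit 500), (nat_lit 1)), ((nat_lit 503), (nat_lit 1)), ((nat_lit 504), (nat_lit 1)), ((nat_lit 512), (nat_lit 1)), ((nat_lit 515), (nat_lit 1)), ((nat_lit 517), (nat_lit 1)), ((nat_lit 521), (nat_lit 1)), ((nat_lit 525), (nat_lit 1)), ((nat_lit 526), (nat_lit 1))]⟩,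
  ⟨true, (nat_lit 11), [nat_lit 12, nat_lit 37], [nat_lit 37, nat_lit 12, nat_lit 13, nat_lit 38, nat_lit 14], [((nat_lit 13), (nat_lit 1)), ((nat_lit 38), (nat_lit 1)), ((nat_lit 14), (nat_lit 1)), ((nat_lit 427), (nat_lit 1)), ((nat_lit 429), (nat_lit 1)), ((nat_lit 431), (nat_lit 1)), ((nat_lit 434), (nat_lit 1)), ((nat_lit 436), (nat_lit 1)), ((nat_lit 437), (nat_lit 1)), ((nat_lit 446), (nat_lit 1)), ((nat_lit 451), (nat_lit 1)), ((nat_lit 480), (nat_lit 1)), ((nat_lit 494), (nat_lit 1)), ((nat_lit 497), (nat_lit 1)), ((nat_lit 499), (nat_lit 1)), ((nat_lit 500), (nat_lit 1)), ((nat_lit 502), (nat_lit 1)), ((nat_lit 503), (nat_lit 1)), ((nat_lit 509), (nat_lit 1)), ((nat_lit 511), (nat_lit 1)), ((nat_lit 513), (nat_lit 1))]⟩,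
  ⟨true, (nat_lit 0), [nat_lit 39, nat_lit 40], [nat_lit 40, nat_lit 39, nat_lit 41, nat_lit 42], [((nat_lit 41), (nat_lit 1)), ((nat_lit 42), (nat_lit 1)), ((nat_lit 423), (nat_lit 1)), ((nat_lit 424), (nat_lit 1)), ((nat_lit 425), (nat_lit 1)), ((nat_lit 426), (nat_lit 1)), ((nat_lit 430), (nat_lit 1)), ((nat_lit 432), (nat_lit 1)), ((nat_lit 433), (nat_lit 1)), ((nat_lit 436), (nat_lit 1)), ((nat_lit 437), (nat_lit 1)), ((nat_lit 451), (nat_lit 1)), ((nat_lit 453), (nat_lit 1)), ((nat_lit 454), (nat_lit 1)), ((nat_lit 457), (nat_lit 1)), ((nat_lit 458), (nat_lit 1)), ((nat_lit 459), (nat_lit 1)), ((nat_lit 489), (nat_lit 1)), ((nat_lit 495), (nat_lit 1)), ((nat_lit 499), (nat_lit 1)), ((nat_lit 500), (nat_lit 1)), ((nat_lit 504), (nat_lit 1)), ((nat_lit 508), (nat_lit 1)), ((nat_lit 514), (nat_lit 1)), ((nat_lit 516), (nat_lit 1)), ((nat_lit 517), (nat_lit 1)), ((nat_lit 522),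 (nat_lit 1)), ((nat_lit 523), (nat_lit 1)), ((nat_lit 526), (nat_lit 1))]⟩,
  ⟨true, (nat_lit 5), [nat_lit 27, nat_lit 27], [nat_lit 28], [((nat_lit 28), (nat_lit 1)), ((nat_lit 196), (nat_lit 1)), ((nat_lit 217), (nat_lit 1)), ((nat_lit 218), (nat_lit 1)), ((nat_lit 328), (nat_lit 1)), ((nat_lit 343), (nat_lit 1)), ((nat_lit 364), (nat_lit 1)), ((nat_lit 365), (nat_lit 1)), ((nat_lit 371), (nat_lit 1)), ((nat_lit 372), (nat_lit 1)), ((nat_lit 406), (nat_lit 1)), ((nat_lit 407), (nat_lit 1)), ((nat_lit 413), (nat_lit 1)), ((nat_lit 414), (nat_lit 1)), ((nat_lit 416), (nat_lit 1)), ((nat_lit 428), (nat_lit 1)), ((nat_lit 434), (nat_lit 1)), ((nat_lit 438), (nat_lit 1)), ((nat_lit 449), (nat_lit 1)), ((nat_lit 455), (nat_lit 1)), ((nat_lit 459), (nat_lit 1)), ((nat_lit 460), (nat_lit 1)), ((nat_lit 469), (nat_lit 1)), ((nat_lit 479), (nat_lit 1)), ((nat_lit 491), (nat_lit 1)), ((nat_lit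 497), (nat_lit 1)), ((nat_lit 498), (nat_lit 1)), ((nat_lit 502), (nat_lit 1)), ((nat_lit 518), (nat_lit 1)), ((nat_lit 519), (nat_lit 1))]⟩,
  ⟨true, (nat_lit 7), [nat_lit 43, nat_lit 44], [nat_lit 44, nat_lit 43, nat_lit 45], [((nat_lit 45), (nat_lit 1)), ((nat_lit 362), (nat_lit 1)), ((nat_lit 363), (nat_lit 1)), ((nat_lit 364), (nat_lit 1)), ((nat_lit 365), (nat_lit 1)), ((nat_lit 371), (nat_lit 1)), ((nat_lit 393), (nat_lit 1)), ((nat_lit 404), (nat_lit 1)), ((nat_lit 446), (nat_lit 1)), ((nat_lit 448), (nat_lit 1)), ((nat_lit 449), (nat_lit 1)), ((nat_lit 455), (nat_lit 1)), ((nat_lit 457), (nat_lit 1)), ((nat_lit 458), (nat_lit 1)), ((nat_lit 467), (nat_lit 1)), ((nat_lit 476), (nat_lit 1)), ((nat_lit 478), (nat_lit 1)), ((nat_lit 482), (nat_lit 1)), ((nat_lit 488), (nat_lit 1)), ((nat_lit 491), (nat_lit 1)), ((nat_lit 497), (nat_lit 1)), ((nat_lit 499), (nat_lit 1)), ((nat_lit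 503), (nat_lit 1)), ((nat_lit 504), (nat_lit 1)), ((nat_lit 509), (nat_lit 1)), ((nat_lit 511), (nat_lit 1)), ((nat_lit 512), (nat_lit 1))]⟩,
  ⟨true, (nat_lit 5), [nat_lit 26, nat_lit 46], [nat_lit 46, nat_lit 26, nat_lit 47, nat_lit 48], [((nat_lit 47), (nat_lit 1)), ((nat_lit 48), (nat_lit 1)), ((nat_lit 275), (nat_lit 1)), ((nat_lit 280), (nat_lit 1)), ((nat_lit 281), (nat_lit 1)), ((nat_lit 347), (nat_lit 1)), ((nat_lit 350), (nat_lit 1)), ((nat_lit 365), (nat_lit 1)), ((nat_lit 431), (nat_lit 1)), ((nat_lit 434), (nat_lit 1)), ((nat_lit 438), (nat_lit 1)), ((nat_lit 448), (nat_lit 1)), ((nat_lit 449), (nat_lit 1)), ((nat_lit 455), (nat_lit 1)), ((nat_lit 459), (nat_lit 1)), ((nat_lit 464), (nat_lit 1)), ((nat_lit 469), (nat_lit 1)), ((nat_lit 470), (nat_lit 1)), ((nat_lit 476), (nat_lit 1)), ((nat_lit 480), (nat_lit 1)), ((nat_lit 481), (nat_lit 1)), ((nat_lit 485), (nat_lit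 1)), ((nat_lit 490), (nat_lit 1)), ((nat_lit 504), (nat_lit 1)), ((nat_lit 512), (nat_lit 1)), ((nat_lit 515), (nat_lit 1)), ((nat_lit 518), (nat_lit 1)), ((nat_lit 522), (nat_lit 1)), ((nat_lit 524), (nat_lit 1))]⟩,
  ⟨true, (nat_lit 1), [nat_lit 49, nat_lit 49], [nat_lit 50], [((nat_lit 50), (nat_lit 1)), ((nat_lit 86), (nat_lit 1)), ((nat_lit 275), (nat_lit 1)), ((nat_lit 284), (nat_lit 1)), ((nat_lit 338), (nat_lit 1)), ((nat_lit 347), (nat_lit 1)), ((nat_lit 350), (nat_lit 1)), ((nat_lit 359), (nat_lit 1)), ((nat_lit 368), (nat_lit 1)), ((nat_lit 371), (nat_lit 1)), ((nat_lit 372), (nat_lit 1)), ((nat_lit 380), (nat_lit 1)), ((nat_lit 389), (nat_lit 1)), ((nat_lit 392), (nat_lit 1)), ((nat_lit 393), (nat_lit 1)), ((nat_lit 422), (nat_lit 1)), ((nat_lit 436), (nat_lit 1)), ((nat_lit 452), (nat_lit 1)), ((nat_lit 459), (nat_lit 1)), ((nat_lit 464), (nat_lit 1)), ((nat_lit 473),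 (nat_lit 1)), ((nat_lit 476), (nat_lit 1)), ((nat_lit 477), (nat_lit 1)), ((nat_lit 478), (nat_lit 1)), ((nat_lit 480), (nat_lit 1)), ((nat_lit 482), (nat_lit 1)), ((nat_lit 501), (nat_lit 1)), ((nat_lit 503), (nat_lit 1)), ((nat_lit 506), (nat_lit 1)), ((nat_lit 520), (nat_lit 1)), ((nat_lit 522), (nat_lit 1)), ((nat_lit 524), (nat_lit 1)), ((nat_lit 525), (nat_lit 1))]⟩,
  ⟨true, (nat_lit 11), [nat_lit 51, nat_lit 51], [nat_lit 23, nat_lit 14], [((nat_lit 23), (nat_lit 1)), ((nat_lit 14), (nat_lit 1)), ((nat_lit 218), (nat_lit 1)), ((nat_lit 306), (nat_lit 1)), ((nat_lit 323), (nat_lit 1)), ((nat_lit 328), (nat_lit 1)), ((nat_lit 365), (nat_lit 1)), ((nat_lit 370), (nat_lit 1)), ((nat_lit 372), (nat_lit 1)), ((nat_lit 386), (nat_lit 1)), ((nat_lit 391), (nat_lit 1)), ((nat_lit 393), (nat_lit 1)), ((nat_lit 394), (nat_lit 1)), ((nat_lit 428), (nat_lit 1)), ((nat_lit 435), (nat_lit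 1)), ((nat_lit 436), (nat_lit 1)), ((nat_lit 438), (nat_lit 1)), ((nat_lit 456), (nat_lit 1)), ((nat_lit 457), (nat_lit 1)), ((nat_lit 460), (nat_lit 1)), ((nat_lit 470), (nat_lit 1)), ((nat_lit 475), (nat_lit 1)), ((nat_lit 477), (nat_lit 1)), ((nat_lit 480), (nat_lit 1)), ((nat_lit 481), (nat_lit 1)), ((nat_lit 491), (nat_lit 1)), ((nat_lit 497), (nat_lit 1)), ((nat_lit 499), (nat_lit 1)), ((nat_lit 502), (nat_lit 1)), ((nat_lit 503), (nat_lit 1)), ((nat_lit 512), (nat_lit 1)), ((nat_lit 519), (nat_lit 1)), ((nat_lit 520), (nat_lit 1)), ((nat_lit 522), (nat_lit 1)), ((nat_lit 525), (nat_lit 1)), ((nat_lit 526), (nat_lit 1))]⟩,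
  ⟨true, (nat_lit 3), [nat_lit 52, nat_lit 53], [nat_lit 53, nat_lit 52, nat_lit 54], [((nat_lit 54), (nat_lit 1)), ((nat_lit 412), (nat_lit 1)), ((nat_lit 415), (nat_lit 1)), ((nat_lit 423), (nat_lit 1)), ((nat_lit 424), (nat_lit 1)), ((nat_lit 428), (nat_lit 1)), ((nat_lit 431), (nat_lit 1)), ((nat_lit 433), (nat_lit 1)), ((nat_lit 437), (nat_lit 1)), ((nat_lit 444), (nat_lit 1)), ((nat_lit 445), (nat_lit 1)), ((nat_lit 449), (nat_lit 1)), ((nat_lit 452), (nat_lit 1)), ((nat_lit 454), (nat_lit 1)), ((nat_lit 458), (nat_lit 1)), ((nat_lit 465), (nat_lit 1)), ((nat_lit 466), (nat_lit 1)), ((nat_lit 470), (nat_lit 1)), ((nat_lit 473), (nat_lit 1)), ((nat_lit 475), (nat_lit 1)), ((nat_lit 479), (nat_lit 1)), ((nat_lit 480), (nat_lit 1)), ((nat_lit 481), (nat_lit 1)), ((nat_lit 487), (nat_lit 1)), ((nat_lit 494), (nat_lit 1)), ((nat_lit 496), (nat_lit 1)), ((nat_lit 500), (nat_lit 1)),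 ((nat_lit 503), (nat_lit 1)), ((nat_lit 512), (nat_lit 1)), ((nat_lit 515), (nat_lit 1)), ((nat_lit 517), (nat_lit 1)), ((nat_lit 520), (nat_lit 1)), ((nat_lit 521), (nat_lit 1)), ((nat_lit 522), (nat_lit 1)), ((nat_lit 523), (nat_lit 1)), ((nat_lit 525), (nat_lit 1)), ((nat_lit 526), (nat_lit 1))]⟩,
  ⟨true, (nat_lit 6), [nat_lit 55, nat_lit 55], [nat_lit 25, nat_lit 56], [((nat_lit 25), (nat_lit 1)), ((nat_lit 56), (nat_lit 1)), ((nat_lit 218), (nat_lit 1)), ((nat_lit 262), (nat_lit 1)), ((nat_lit 304), (nat_lit 1)), ((nat_lit 306), (nat_lit 1)), ((nat_lit 325), (nat_lit 1)), ((nat_lit 327), (nat_lit 1)), ((nat_lit 328), (nat_lit 1)), ((nat_lit 411), (nat_lit 1)), ((nat_lit 432), (nat_lit 1)), ((nat_lit 433), (nat_lit 1)), ((nat_lit 451), (nat_lit 1)), ((nat_lit 458), (nat_lit 1)), ((nat_lit 459), (nat_lit 1)), ((nat_lit 472), (nat_lit 1)), ((nat_lit 474), (nat_lit 1)), ((nat_lit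 479), (nat_lit 1)), ((nat_lit 480), (nat_lit 1)), ((nat_lit 495), (nat_lit 1)), ((nat_lit 498), (nat_lit 1)), ((nat_lit 500), (nat_lit 1)), ((nat_lit 502), (nat_lit 1)), ((nat_lit 516), (nat_lit 1)), ((nat_lit 517), (nat_lit 1)), ((nat_lit 521), (nat_lit 1)), ((nat_lit 522), (nat_lit 1)), ((nat_lit 524), (nat_lit 1)), ((nat_lit 525), (nat_lit 1))]⟩,
  ⟨true, (nat_lit 7), [nat_lit 57, nat_lit 57], [nat_lit 3, nat_lit 58, nat_lit 5], [((nat_lit 3), (nat_lit 1)), ((nat_lit 58), (nat_lit 1)), ((nat_lit 5), (nat_lit 1)), ((nat_lit 191), (nat_lit 1)), ((nat_lit 196), (nat_lit 1)), ((nat_lit 317), (nat_lit 1)), ((nat_lit 322), (nat_lit 1)), ((nat_lit 328), (nat_lit 1)), ((nat_lit 338), (nat_lit 1)), ((nat_lit 343), (nat_lit 1)), ((nat_lit 349), (nat_lit 1)), ((nat_lit 350), (nat_lit 1)), ((nat_lit 359), (nat_lit 1)), ((nat_lit 364), (nat_lit 1)), ((nat_lit 370), (nat_lit 1)), ((nat_lit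 371), (nat_lit 1)), ((nat_lit 372), (nat_lit 1)), ((nat_lit 401), (nat_lit 1)), ((nat_lit 406), (nat_lit 1)), ((nat_lit 412), (nat_lit 1)), ((nat_lit 413), (nat_lit 1)), ((nat_lit 414), (nat_lit 1)), ((nat_lit 416), (nat_lit 1)), ((nat_lit 434), (nat_lit 1)), ((nat_lit 435), (nat_lit 1)), ((nat_lit 443), (nat_lit 1)), ((nat_lit 448), (nat_lit 1)), ((nat_lit 475), (nat_lit 1)), ((nat_lit 481), (nat_lit 1)), ((nat_lit 482), (nat_lit 1)), ((nat_lit 501), (nat_lit 1)), ((nat_lit 504), (nat_lit 1)), ((nat_lit 523), (nat_lit 1)), ((nat_lit 524), (nat_lit 1))]⟩,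
  ⟨true, (nat_lit 10), [nat_lit 15, nat_lit 59], [nat_lit 59, nat_lit 15, nat_lit 16, nat_lit 17], [((nat_lit 16), (nat_lit 1)), ((nat_lit 17), (nat_lit 1)), ((nat_lit 281), (nat_lit 1)), ((nat_lit 283), (nat_lit 1)), ((nat_lit 296), (nat_lit 1)), ((nat_lit 298), (nat_lit 1)), ((nat_lit 305), (nat_lit 1)), ((nat_lit 344), (nat_lit 1)), ((nat_lit 346), (nat_lit 1)), ((nat_lit 348), (nat_lit 1)), ((nat_lit 382), (nat_lit 1)), ((nat_lit 386), (nat_lit 1)), ((nat_lit 388), (nat_lit 1)), ((nat_lit 389), (nat_lit 1)), ((nat_lit 390), (nat_lit 1)), ((nat_lit 392), (nat_lit 1)), ((nat_lit 394), (nat_lit 1)), ((nat_lit 431), (nat_lit 1)), ((nat_lit 434), (nat_lit 1)), ((nat_lit 436), (nat_lit 1)), ((nat_lit 449), (nat_lit 1)), ((nat_lit 452), (nat_lit 1)), ((nat_lit 453), (nat_lit 1)), ((nat_lit 455), (nat_lit 1)), ((nat_lit 459), (nat_lit 1)), ((nat_lit 460), (nat_lit 1)), ((nat_lit 472),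 (nat_lit 1)), ((nat_lit 474), (nat_lit 1)), ((nat_lit 478), (nat_lit 1)), ((nat_lit 482), (nat_lit 1)), ((nat_lit 494), (nat_lit 1)), ((nat_lit 501), (nat_lit 1)), ((nat_lit 502), (nat_lit 1)), ((nat_lit 503), (nat_lit 1)), ((nat_lit 516), (nat_lit 1)), ((nat_lit 520), (nat_lit 1)), ((nat_lit 522), (nat_lit 1)), ((nat_lit 524), (nat_lit 1)), ((nat_lit 525), (nat_lit 1)), ((nat_lit 526), (nat_lit 1))]⟩,
  ⟨true, (nat_lit 5), [nat_lit 46, nat_lit 46], [nat_lit 60, nat_lit 28], [((nat_lit 60), (nat_lit 1)), ((nat_lit 28), (nat_lit 1)), ((nat_lit 86), (nat_lit 1)), ((nat_lit 191), (nat_lit 1)), ((nat_lit 196), (nat_lit 1)), ((nat_lit 212), (nat_lit 1)), ((nat_lit 217), (nat_lit 1)), ((nat_lit 280), (nat_lit 1)), ((nat_lit 281), (nat_lit 1)), ((nat_lit 338), (nat_lit 1)), ((nat_lit 344), (nat_lit 1)), ((nat_lit 347), (nat_lit 1)), ((nat_lit 350), (nat_lit 1)), ((nat_lit 406), (nat_lit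 1)), ((nat_lit 407), (nat_lit 1)), ((nat_lit 422), (nat_lit 1)), ((nat_lit 438), (nat_lit 1)), ((nat_lit 448), (nat_lit 1)), ((nat_lit 455), (nat_lit 1)), ((nat_lit 459), (nat_lit 1)), ((nat_lit 460), (nat_lit 1)), ((nat_lit 469), (nat_lit 1)), ((nat_lit 470), (nat_lit 1)), ((nat_lit 476), (nat_lit 1)), ((nat_lit 482), (nat_lit 1)), ((nat_lit 494), (nat_lit 1)), ((nat_lit 497), (nat_lit 1)), ((nat_lit 500), (nat_lit 1)), ((nat_lit 502), (nat_lit 1)), ((nat_lit 506), (nat_lit 1)), ((nat_lit 511), (nat_lit 1)), ((nat_lit 512), (nat_lit 1)), ((nat_lit 518), (nat_lit 1)), ((nat_lit 522), (nat_lit 1)), ((nat_lit 524), (nat_lit 1))]⟩,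
  ⟨true, (nat_lit 1), [nat_lit 61, nat_lit 62], [nat_lit 62, nat_lit 61, nat_lit 50], [((nat_lit 50), (nat_lit 1)), ((nat_lit 278), (nat_lit 1)), ((nat_lit 283), (nat_lit 1)), ((nat_lit 305), (nat_lit 1)), ((nat_lit 326), (nat_lit 1)), ((nat_lit 346), (nat_lit 1)), ((nat_lit 347), (nat_lit 1)), ((nat_lit 348), (nat_lit 1)), ((nat_lit 349), (nat_lit 1)), ((nat_lit 404), (nat_lit 1)), ((nat_lit 409), (nat_lit 1)), ((nat_lit 410), (nat_lit 1)), ((nat_lit 411), (nat_lit 1)), ((nat_lit 412), (nat_lit 1)), ((nat_lit 413), (nat_lit 1)), ((nat_lit 425), (nat_lit 1)), ((nat_lit 430), (nat_lit 1)), ((nat_lit 431), (nat_lit 1)), ((nat_lit 432), (nat_lit 1)), ((nat_lit 433), (nat_lit 1)), ((nat_lit 434), (nat_lit 1)), ((nat_lit 451), (nat_lit 1)), ((nat_lit 453), (nat_lit 1)), ((nat_lit 454), (nat_lit 1)), ((nat_lit 455), (nat_lit 1)), ((nat_lit 458), (nat_lit 1)), ((nat_lit 459), (nat_lit 1)),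 ((nat_lit 467), (nat_lit 1)), ((nat_lit 472), (nat_lit 1)), ((nat_lit 473), (nat_lit 1)), ((nat_lit 474), (nat_lit 1)), ((nat_lit 475), (nat_lit 1)), ((nat_lit 476), (nat_lit 1)), ((nat_lit 494), (nat_lit 1)), ((nat_lit 497), (nat_lit 1)), ((nat_lit 502), (nat_lit 1)), ((nat_lit 504), (nat_lit 1)), ((nat_lit 514), (nat_lit 1)), ((nat_lit 515), (nat_lit 1)), ((nat_lit 516), (nat_lit 1)), ((nat_lit 522), (nat_lit 1))]⟩,
  ⟨true, (nat_lit 6), [nat_lit 1, nat_lit 55], [nat_lit 55, nat_lit 1, nat_lit 25, nat_lit 20, nat_lit 21, nat_lit 56, nat_lit 2], [((nat_lit 25), (nat_lit 1)), ((nat_lit 20), (nat_lit 1)), ((nat_lit 21), (nat_lit 1)), ((nat_lit 56), (nat_lit 1)), ((nat_lit 2), (nat_lit 1)), ((nat_lit 260), (nat_lit 1)), ((nat_lit 304), (nat_lit 1)), ((nat_lit 325), (nat_lit 1)), ((nat_lit 372), (nat_lit 1)), ((nat_lit 412), (nat_lit 1)), ((nat_lit 414), (nat_lit 1)), ((nat_lit 435),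 (nat_lit 1)), ((nat_lit 437), (nat_lit 1)), ((nat_lit 438), (nat_lit 1)), ((nat_lit 451), (nat_lit 1)), ((nat_lit 458), (nat_lit 1)), ((nat_lit 460), (nat_lit 1)), ((nat_lit 474), (nat_lit 1)), ((nat_lit 475), (nat_lit 1)), ((nat_lit 479), (nat_lit 1)), ((nat_lit 481), (nat_lit 1)), ((nat_lit 482), (nat_lit 1)), ((nat_lit 493), (nat_lit 1)), ((nat_lit 495), (nat_lit 1)), ((nat_lit 498), (nat_lit 1)), ((nat_lit 519), (nat_lit 1)), ((nat_lit 521), (nat_lit 1)), ((nat_lit 522), (nat_lit 1)), ((nat_lit 524), (nat_lit 1)), ((nat_lit 525), (nat_lit 1)), ((nat_lit 526), (nat_lit 1))]⟩,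
  ⟨true, (nat_lit 5), [nat_lit 29, nat_lit 29], [nat_lit 60, nat_lit 30, nat_lit 28], [((nat_lit 60), (nat_lit 1)), ((nat_lit 30), (nat_lit 1)), ((nat_lit 28), (nat_lit 1)), ((nat_lit 86), (nat_lit 1)), ((nat_lit 130), (nat_lit 1)), ((nat_lit 214), (nat_lit 1)), ((nat_lit 218), (nat_lit 1)), ((nat_lit 298), (nat_lit 1)), ((nat_lit 302), (nat_lit 1)), ((nat_lit 306), (nat_lit 1)), ((nat_lit 347), (nat_lit 1)), ((nat_lit 350), (nat_lit 1)), ((nat_lit 386), (nat_lit 1)), ((nat_lit 390), (nat_lit 1)), ((nat_lit 394), (nat_lit 1)), ((nat_lit 403), (nat_lit 1)), ((nat_lit 413), (nat_lit 1)), ((nat_lit 428), (nat_lit 1)), ((nat_lit 437), (nat_lit 1)), ((nat_lit 438), (nat_lit 1)), ((nat_lit 449), (nat_lit 1)), ((nat_lit 453), (nat_lit 1)), ((nat_lit 457), (nat_lit 1)), ((nat_lit 459), (nat_lit 1)), ((nat_lit 460), (nat_lit 1)), ((nat_lit 466), (nat_lit 1)), ((nat_lit 470), (nat_lit 1)),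 ((nat_lit 474), (nat_lit 1)), ((nat_lit 476), (nat_lit 1)), ((nat_lit 480), (nat_lit 1)), ((nat_lit 481), (nat_lit 1)), ((nat_lit 482), (nat_lit 1)), ((nat_lit 487), (nat_lit 1)), ((nat_lit 491), (nat_lit 1)), ((nat_lit 494), (nat_lit 1)), ((nat_lit 495), (nat_lit 1)), ((nat_lit 497), (nat_lit 1)), ((nat_lit 502), (nat_lit 1)), ((nat_lit 516), (nat_lit 1)), ((nat_lit 518), (nat_lit 1)), ((nat_lit 520), (nat_lit 1)), ((nat_lit 521), (nat_lit 1)), ((nat_lit 523), (nat_lit 1)), ((nat_lit 525), (nat_lit 1))]⟩,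
  ⟨true, (nat_lit 0), [nat_lit 63, nat_lit 40], [nat_lit 40, nat_lit 63, nat_lit 64, nat_lit 42], [((nat_lit 64), (nat_lit 1)), ((nat_lit 42), (nat_lit 1)), ((nat_lit 278), (nat_lit 1)), ((nat_lit 283), (nat_lit 1)), ((nat_lit 305), (nat_lit 1)), ((nat_lit 346), (nat_lit 1)), ((nat_lit 348), (nat_lit 1)), ((nat_lit 389), (nat_lit 1)), ((nat_lit 392), (nat_lit 1)), ((nat_lit 404), (nat_lit 1)), ((nat_lit 409), (nat_lit 1)), ((nat_lit 410), (nat_lit 1)), ((nat_lit 411), (nat_lit 1)), ((nat_lit 415), (nat_lit 1)), ((nat_lit 425), (nat_lit 1)), ((nat_lit 430), (nat_lit 1)), ((nat_lit 432), (nat_lit 1)), ((nat_lit 434), (nat_lit 1)), ((nat_lit 436), (nat_lit 1)), ((nat_lit 437), (nat_lit 1)), ((nat_lit 451), (nat_lit 1)), ((nat_lit 452), (nat_lit 1)), ((nat_lit 453), (nat_lit 1)), ((nat_lit 455), (nat_lit 1)), ((nat_lit 457), (nat_lit 1)), ((nat_lit 459), (nat_lit 1)), ((nat_lit 465),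 (nat_lit 1)), ((nat_lit 466), (nat_lit 1)), ((nat_lit 467), (nat_lit 1)), ((nat_lit 468), (nat_lit 1)), ((nat_lit 472), (nat_lit 1)), ((nat_lit 475), (nat_lit 1)), ((nat_lit 478), (nat_lit 1)), ((nat_lit 479), (nat_lit 1)), ((nat_lit 488), (nat_lit 1)), ((nat_lit 489), (nat_lit 1)), ((nat_lit 493), (nat_lit 1)), ((nat_lit 495), (nat_lit 1)), ((nat_lit 496), (nat_lit 1)), ((nat_lit 497), (nat_lit 1)), ((nat_lit 499), (nat_lit 1)), ((nat_lit 508), (nat_lit 1)), ((nat_lit 509), (nat_lit 1)), ((nat_lit 510), (nat_lit 1)), ((nat_lit 515), (nat_lit 1)), ((nat_lit 516), (nat_lit 1)), ((nat_lit 517), (nat_lit 1)), ((nat_lit 518), (nat_lit 1)), ((nat_lit 520), (nat_lit 1)), ((nat_lit 521), (nat_lit 1)), ((nat_lit 524), (nat_lit 1)), ((nat_lit 525), (nat_lit 1))]⟩,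
  ⟨true, (nat_lit 4), [nat_lit 65, nat_lit 66], [nat_lit 66, nat_lit 65, nat_lit 67], [((nat_lit 67), (nat_lit 1)), ((nat_lit 217), (nat_lit 1)), ((nat_lit 275), (nat_lit 1)), ((nat_lit 277), (nat_lit 1)), ((nat_lit 301), (nat_lit 1)), ((nat_lit 323), (nat_lit 1)), ((nat_lit 327), (nat_lit 1)), ((nat_lit 343), (nat_lit 1)), ((nat_lit 348), (nat_lit 1)), ((nat_lit 350), (nat_lit 1)), ((nat_lit 364), (nat_lit 1)), ((nat_lit 370), (nat_lit 1)), ((nat_lit 371), (nat_lit 1)), ((nat_lit 385), (nat_lit 1)), ((nat_lit 389), (nat_lit 1)), ((nat_lit 391), (nat_lit 1)), ((nat_lit 392), (nat_lit 1)), ((nat_lit 412), (nat_lit 1)), ((nat_lit 414), (nat_lit 1)), ((nat_lit 415), (nat_lit 1)), ((nat_lit 416), (nat_lit 1)), ((nat_lit 427), (nat_lit 1)), ((nat_lit 437), (nat_lit 1)), ((nat_lit 445), (nat_lit 1)), ((nat_lit 448), (nat_lit 1)), ((nat_lit 449), (nat_lit 1)), ((nat_lit 453), (nat_lit 1)),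 ((nat_lit 454), (nat_lit 1)), ((nat_lit 455), (nat_lit 1)), ((nat_lit 456), (nat_lit 1)), ((nat_lit 457), (nat_lit 1)), ((nat_lit 458), (nat_lit 1)), ((nat_lit 474), (nat_lit 1)), ((nat_lit 475), (nat_lit 1)), ((nat_lit 476), (nat_lit 1)), ((nat_lit 480), (nat_lit 1)), ((nat_lit 481), (nat_lit 1)), ((nat_lit 487), (nat_lit 1)), ((nat_lit 495), (nat_lit 1)), ((nat_lit 497), (nat_lit 1)), ((nat_lit 501), (nat_lit 1)), ((nat_lit 511), (nat_lit 1)), ((nat_lit 512), (nat_lit 1)), ((nat_lit 516), (nat_lit 1)), ((nat_lit 521), (nat_lit 1)), ((nat_lit 522), (nat_lit 1)), ((nat_lit 524), (nat_lit 1))]⟩,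
  ⟨true, (nat_lit 8), [nat_lit 68, nat_lit 68], [nat_lit 69], [((nat_lit 69), (nat_lit 1)), ((nat_lit 218), (nat_lit 1)), ((nat_lit 239), (nat_lit 1)), ((nat_lit 240), (nat_lit 1)), ((nat_lit 260), (nat_lit 1)), ((nat_lit 261), (nat_lit 1)), ((nat_lit 262), (nat_lit 1)), ((nat_lit 328), (nat_lit 1)), ((nat_lit 344), (nat_lit 1)), ((nat_lit 346), (nat_lit 1)), ((nat_lit 367), (nat_lit 1)), ((nat_lit 372), (nat_lit 1)), ((nat_lit 387), (nat_lit 1)), ((nat_lit 388), (nat_lit 1)), ((nat_lit 392), (nat_lit 1)), ((nat_lit 393), (nat_lit 1)), ((nat_lit 394), (nat_lit 1)), ((nat_lit 407), (nat_lit 1)), ((nat_lit 408), (nat_lit 1)), ((nat_lit 409), (nat_lit 1)), ((nat_lit 413), (nat_lit 1)), ((nat_lit 416), (nat_lit 1)), ((nat_lit 428), (nat_lit 1)), ((nat_lit 429), (nat_lit 1)), ((nat_lit 430), (nat_lit 1)), ((nat_lit 437), (nat_lit 1)), ((nat_lit 438), (nat_lit 1)), ((nat_lit 449), (nat_lit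 1)), ((nat_lit 450), (nat_lit 1)), ((nat_lit 457), (nat_lit 1)), ((nat_lit 458), (nat_lit 1)), ((nat_lit 460), (nat_lit 1)), ((nat_lit 476), (nat_lit 1)), ((nat_lit 477), (nat_lit 1)), ((nat_lit 478), (nat_lit 1)), ((nat_lit 480), (nat_lit 1)), ((nat_lit 481), (nat_lit 1)), ((nat_lit 482), (nat_lit 1)), ((nat_lit 491), (nat_lit 1)), ((nat_lit 492), (nat_lit 1)), ((nat_lit 493), (nat_lit 1)), ((nat_lit 497), (nat_lit 1)), ((nat_lit 499), (nat_lit 1)), ((nat_lit 502), (nat_lit 1)), ((nat_lit 504), (nat_lit 1)), ((nat_lit 512), (nat_lit 1)), ((nat_lit 519), (nat_lit 1)), ((nat_lit 520), (nat_lit 1)), ((nat_lit 522), (nat_lit 1)), ((nat_lit 526), (nat_lit 1))]⟩,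
  ⟨true, (nat_lit 8), [nat_lit 68, nat_lit 70], [nat_lit 70, nat_lit 68, nat_lit 69, nat_lit 36], [((nat_lit 69), (nat_lit 1)), ((nat_lit 36), (nat_lit 1)), ((nat_lit 217), (nat_lit 1)), ((nat_lit 238), (nat_lit 1)), ((nat_lit 259), (nat_lit 1)), ((nat_lit 323), (nat_lit 1)), ((nat_lit 324), (nat_lit 1)), ((nat_lit 325), (nat_lit 1)), ((nat_lit 326), (nat_lit 1)), ((nat_lit 343), (nat_lit 1)), ((nat_lit 345), (nat_lit 1)), ((nat_lit 346), (nat_lit 1)), ((nat_lit 370), (nat_lit 1)), ((nat_lit 371), (nat_lit 1)), ((nat_lit 406), (nat_lit 1)), ((nat_lit 412), (nat_lit 1)), ((nat_lit 413), (nat_lit 1)), ((nat_lit 414), (nat_lit 1)), ((nat_lit 427), (nat_lit 1)), ((nat_lit 428), (nat_lit 1)), ((nat_lit 429), (nat_lit 1)), ((nat_lit 448), (nat_lit 1)), ((nat_lit 458), (nat_lit 1)), ((nat_lit 459), (nat_lit 1)), ((nat_lit 470), (nat_lit 1)), ((nat_lit 475), (nat_lit 1)), ((nat_lit 476),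 (nat_lit 1)), ((nat_lit 477), (nat_lit 1)), ((nat_lit 480), (nat_lit 1)), ((nat_lit 481), (nat_lit 1)), ((nat_lit 482), (nat_lit 1)), ((nat_lit 490), (nat_lit 1)), ((nat_lit 497), (nat_lit 1)), ((nat_lit 500), (nat_lit 1)), ((nat_lit 502), (nat_lit 1)), ((nat_lit 503), (nat_lit 1)), ((nat_lit 504), (nat_lit 1)), ((nat_lit 511), (nat_lit 1)), ((nat_lit 512), (nat_lit 1)), ((nat_lit 513), (nat_lit 1)), ((nat_lit 514), (nat_lit 1)), ((nat_lit 517), (nat_lit 1)), ((nat_lit 519), (nat_lit 1)), ((nat_lit 522), (nat_lit 1)), ((nat_lit 523), (nat_lit 1)), ((nat_lit 524), (nat_lit 1)), ((nat_lit 525), (nat_lit 1)), ((nat_lit 526), (nat_lit 1))]⟩,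
  ⟨true, (nat_lit 5), [nat_lit 71, nat_lit 29], [nat_lit 29, nat_lit 71, nat_lit 30, nat_lit 47, nat_lit 28, nat_lit 48], [((nat_lit 30), (nat_lit 1)), ((nat_lit 47), (nat_lit 1)), ((nat_lit 28), (nat_lit 1)), ((nat_lit 48), (nat_lit 1)), ((nat_lit 107), (nat_lit 1)), ((nat_lit 233), (nat_lit 1)), ((nat_lit 277), (nat_lit 1)), ((nat_lit 281), (nat_lit 1)), ((nat_lit 296), (nat_lit 1)), ((nat_lit 305), (nat_lit 1)), ((nat_lit 350), (nat_lit 1)), ((nat_lit 380), (nat_lit 1)), ((nat_lit 382), (nat_lit 1)), ((nat_lit 386), (nat_lit 1)), ((nat_lit 387), (nat_lit 1)), ((nat_lit 394), (nat_lit 1)), ((nat_lit 408), (nat_lit 1)), ((nat_lit 410), (nat_lit 1)), ((nat_lit 415), (nat_lit 1)), ((nat_lit 416), (nat_lit 1)), ((nat_lit 424), (nat_lit 1)), ((nat_lit 428), (nat_lit 1)), ((nat_lit 434), (nat_lit 1)), ((nat_lit 437), (nat_lit 1)), ((nat_lit 438), (nat_lit 1)), ((nat_lit 445), (nat_lit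 1)), ((nat_lit 450), (nat_lit 1)), ((nat_lit 453), (nat_lit 1)), ((nat_lit 457), (nat_lit 1)), ((nat_lit 460), (nat_lit 1)), ((nat_lit 470), (nat_lit 1)), ((nat_lit 471), (nat_lit 1)), ((nat_lit 473), (nat_lit 1)), ((nat_lit 474), (nat_lit 1)), ((nat_lit 480), (nat_lit 1)), ((nat_lit 491), (nat_lit 1)), ((nat_lit 494), (nat_lit 1)), ((nat_lit 497), (nat_lit 1)), ((nat_lit 499), (nat_lit 1)), ((nat_lit 500), (nat_lit 1)), ((nat_lit 502), (nat_lit 1)), ((nat_lit 503), (nat_lit 1)), ((nat_lit 512), (nat_lit 1)), ((nat_lit 513), (nat_lit 1)), ((nat_lit 518), (nat_lit 1)), ((nat_lit 521), (nat_lit 1)), ((nat_lit 522), (nat_lit 1)), ((nat_lit 523), (nat_lit 1))]⟩,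
  ⟨true, (nat_lit 5), [nat_lit 72, nat_lit 29], [nat_lit 29, nat_lit 72, nat_lit 73, nat_lit 28], [((nat_lit 73), (nat_lit 1)), ((nat_lit 28), (nat_lit 1)), ((nat_lit 193), (nat_lit 1)), ((nat_lit 217), (nat_lit 1)), ((nat_lit 275), (nat_lit 1)), ((nat_lit 277), (nat_lit 1)), ((nat_lit 301), (nat_lit 1)), ((nat_lit 319), (nat_lit 1)), ((nat_lit 323), (nat_lit 1)), ((nat_lit 326), (nat_lit 1)), ((nat_lit 327), (nat_lit 1)), ((nat_lit 340), (nat_lit 1)), ((nat_lit 348), (nat_lit 1)), ((nat_lit 361), (nat_lit 1)), ((nat_lit 365), (nat_lit 1)), ((nat_lit 368), (nat_lit 1)), ((nat_lit 369), (nat_lit 1)), ((nat_lit 406), (nat_lit 1)), ((nat_lit 416), (nat_lit 1)), ((nat_lit 428), (nat_lit 1)), ((nat_lit 432), (nat_lit 1)), ((nat_lit 433), (nat_lit 1)), ((nat_lit 434), (nat_lit 1)), ((nat_lit 437), (nat_lit 1)), ((nat_lit 455), (nat_lit 1)), ((nat_lit 460), (nat_lit 1)), ((nat_lit 469),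 (nat_lit 1)), ((nat_lit 475), (nat_lit 1)), ((nat_lit 476), (nat_lit 1)), ((nat_lit 481), (nat_lit 1)), ((nat_lit 487), (nat_lit 1)), ((nat_lit 490), (nat_lit 1)), ((nat_lit 496), (nat_lit 1)), ((nat_lit 498), (nat_lit 1)), ((nat_lit 503), (nat_lit 1)), ((nat_lit 504), (nat_lit 1)), ((nat_lit 512), (nat_lit 1)), ((nat_lit 515), (nat_lit 1)), ((nat_lit 518), (nat_lit 1)), ((nat_lit 519), (nat_lit 1)), ((nat_lit 522), (nat_lit 1)), ((nat_lit 523), (nat_lit 1)), ((nat_lit 524), (nat_lit 1)), ((nat_lit 525), (nat_lit 1))]⟩,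
  ⟨true, (nat_lit 7), [nat_lit 74, nat_lit 44], [nat_lit 44, nat_lit 74, nat_lit 43], [((nat_lit 43), (nat_lit 1)), ((nat_lit 194), (nat_lit 1)), ((nat_lit 217), (nat_lit 1)), ((nat_lit 278), (nat_lit 1)), ((nat_lit 279), (nat_lit 1)), ((nat_lit 280), (nat_lit 1)), ((nat_lit 281), (nat_lit 1)), ((nat_lit 320), (nat_lit 1)), ((nat_lit 322), (nat_lit 1)), ((nat_lit 323), (nat_lit 1)), ((nat_lit 344), (nat_lit 1)), ((nat_lit 349), (nat_lit 1)), ((nat_lit 362), (nat_lit 1)), ((nat_lit 385), (nat_lit 1)), ((nat_lit 392), (nat_lit 1)), ((nat_lit 393), (nat_lit 1)), ((nat_lit 394), (nat_lit 1)), ((nat_lit 404), (nat_lit 1)), ((nat_lit 414), (nat_lit 1)), ((nat_lit 427), (nat_lit 1)), ((nat_lit 431), (nat_lit 1)), ((nat_lit 433), (nat_lit 1)), ((nat_lit 435), (nat_lit 1)), ((nat_lit 438), (nat_lit 1)), ((nat_lit 448), (nat_lit 1)), ((nat_lit 452), (nat_lit 1)), ((nat_lit 454), (nat_lit 1)),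 ((nat_lit 455), (nat_lit 1)), ((nat_lit 457), (nat_lit 1)), ((nat_lit 473), (nat_lit 1)), ((nat_lit 475), (nat_lit 1)), ((nat_lit 476), (nat_lit 1)), ((nat_lit 477), (nat_lit 1)), ((nat_lit 478), (nat_lit 1)), ((nat_lit 479), (nat_lit 1)), ((nat_lit 490), (nat_lit 1)), ((nat_lit 491), (nat_lit 1)), ((nat_lit 494), (nat_lit 1)), ((nat_lit 497), (nat_lit 1)), ((nat_lit 500), (nat_lit 1)), ((nat_lit 502), (nat_lit 1)), ((nat_lit 503), (nat_lit 1)), ((nat_lit 512), (nat_lit 1)), ((nat_lit 515), (nat_lit 1)), ((nat_lit 517), (nat_lit 1)), ((nat_lit 521), (nat_lit 1)), ((nat_lit 524), (nat_lit 1))]⟩,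
  ⟨true, (nat_lit 4), [nat_lit 66, nat_lit 66], [nat_lit 67], [((nat_lit 67), (nat_lit 1)), ((nat_lit 86), (nat_lit 1)), ((nat_lit 128), (nat_lit 1)), ((nat_lit 130), (nat_lit 1)), ((nat_lit 218), (nat_lit 1)), ((nat_lit 277), (nat_lit 1)), ((nat_lit 284), (nat_lit 1)), ((nat_lit 302), (nat_lit 1)), ((nat_lit 306), (nat_lit 1)), ((nat_lit 344), (nat_lit 1)), ((nat_lit 348), (nat_lit 1)), ((nat_lit 365), (nat_lit 1)), ((nat_lit 369), (nat_lit 1)), ((nat_lit 371), (nat_lit 1)), ((nat_lit 372), (nat_lit 1)), ((nat_lit 380), (nat_lit 1)), ((nat_lit 386), (nat_lit 1)), ((nat_lit 389), (nat_lit 1)), ((nat_lit 390), (nat_lit 1)), ((nat_lit 393), (nat_lit 1)), ((nat_lit 394), (nat_lit 1)), ((nat_lit 403), (nat_lit 1)), ((nat_lit 410), (nat_lit 1)), ((nat_lit 411), (nat_lit 1)), ((nat_lit 413), (nat_lit 1)), ((nat_lit 415), (nat_lit 1)), ((nat_lit 416), (nat_lit 1)), ((nat_lit 428), (nat_lit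 1)), ((nat_lit 432), (nat_lit 1)), ((nat_lit 435), (nat_lit 1)), ((nat_lit 436), (nat_lit 1)), ((nat_lit 445), (nat_lit 1)), ((nat_lit 449), (nat_lit 1)), ((nat_lit 452), (nat_lit 1)), ((nat_lit 457), (nat_lit 1)), ((nat_lit 460), (nat_lit 1)), ((nat_lit 473), (nat_lit 1)), ((nat_lit 474), (nat_lit 1)), ((nat_lit 478), (nat_lit 1)), ((nat_lit 481), (nat_lit 1)), ((nat_lit 482), (nat_lit 1)), ((nat_lit 495), (nat_lit 1)), ((nat_lit 499), (nat_lit 1)), ((nat_lit 500), (nat_lit 1)), ((nat_lit 501), (nat_lit 1)), ((nat_lit 504), (nat_lit 1)), ((nat_lit 508), (nat_lit 1)), ((nat_lit 512), (nat_lit 1)), ((nat_lit 518), (nat_lit 1)), ((nat_lit 520), (nat_lit 1)), ((nat_lit 522), (nat_lit 1)), ((nat_lit 523), (nat_lit 1)), ((nat_lit 524), (nat_lit 1)), ((nat_lit 525), (nat_lit 1)), ((nat_lit 526), (nat_lit 1))]⟩,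
  ⟨true, (nat_lit 5), [nat_lit 71, nat_lit 71], [nat_lit 72, nat_lit 60, nat_lit 75, nat_lit 47, nat_lit 28, nat_lit 48], [((nat_lit 72), (nat_lit 1)), ((nat_lit 60), (nat_lit 1)), ((nat_lit 75), (nat_lit 1)), ((nat_lit 47), (nat_lit 1)), ((nat_lit 28), (nat_lit 1)), ((nat_lit 48), (nat_lit 1)), ((nat_lit 108), (nat_lit 1)), ((nat_lit 196), (nat_lit 1)), ((nat_lit 234), (nat_lit 1)), ((nat_lit 240), (nat_lit 1)), ((nat_lit 297), (nat_lit 1)), ((nat_lit 303), (nat_lit 1)), ((nat_lit 306), (nat_lit 1)), ((nat_lit 322), (nat_lit 1)), ((nat_lit 324), (nat_lit 1)), ((nat_lit 326), (nat_lit 1)), ((nat_lit 343), (nat_lit 1)), ((nat_lit 345), (nat_lit 1)), ((nat_lit 347), (nat_lit 1)), ((nat_lit 348), (nat_lit 1)), ((nat_lit 349), (nat_lit 1)), ((nat_lit 364), (nat_lit 1)), ((nat_lit 366), (nat_lit 1)), ((nat_lit 368), (nat_lit 1)), ((nat_lit 369), (nat_lit 1)), ((nat_lit 381), (nat_lit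 1)), ((nat_lit 387), (nat_lit 1)), ((nat_lit 389), (nat_lit 1)), ((nat_lit 390), (nat_lit 1)), ((nat_lit 406), (nat_lit 1)), ((nat_lit 411), (nat_lit 1)), ((nat_lit 412), (nat_lit 1)), ((nat_lit 414), (nat_lit 1)), ((nat_lit 416), (nat_lit 1)), ((nat_lit 429), (nat_lit 1)), ((nat_lit 432), (nat_lit 1)), ((nat_lit 433), (nat_lit 1)), ((nat_lit 434), (nat_lit 1)), ((nat_lit 448), (nat_lit 1)), ((nat_lit 454), (nat_lit 1)), ((nat_lit 455), (nat_lit 1)), ((nat_lit 458), (nat_lit 1)), ((nat_lit 459), (nat_lit 1)), ((nat_lit 471), (nat_lit 1)), ((nat_lit 479), (nat_lit 1)), ((nat_lit 482), (nat_lit 1)), ((nat_lit 492), (nat_lit 1)), ((nat_lit 494), (nat_lit 1)), ((nat_lit 499), (nat_lit 1)), ((nat_lit 500), (nat_lit 1)), ((nat_lit 502), (nat_lit 1)), ((nat_lit 503), (nat_lit 1)), ((nat_lit 504), (nat_lit 1)), ((nat_lit 515), (nat_lit 1)), ((nat_lit 517), (nat_lit 1)), ((nat_lit 522), (nat_lit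 1)), ((nat_lit 523), (nat_lit 1)), ((nat_lit 526), (nat_lit 1))]⟩,
  ⟨true, (nat_lit 0), [nat_lit 76, nat_lit 40], [nat_lit 40, nat_lit 76, nat_lit 77, nat_lit 41], [((nat_lit 77), (nat_lit 1)), ((nat_lit 41), (nat_lit 1)), ((nat_lit 194), (nat_lit 1)), ((nat_lit 259), (nat_lit 1)), ((nat_lit 278), (nat_lit 1)), ((nat_lit 283), (nat_lit 1)), ((nat_lit 301), (nat_lit 1)), ((nat_lit 305), (nat_lit 1)), ((nat_lit 320), (nat_lit 1)), ((nat_lit 325), (nat_lit 1)), ((nat_lit 327), (nat_lit 1)), ((nat_lit 339), (nat_lit 1)), ((nat_lit 340), (nat_lit 1)), ((nat_lit 342), (nat_lit 1)), ((nat_lit 346), (nat_lit 1)), ((nat_lit 348), (nat_lit 1)), ((nat_lit 362), (nat_lit 1)), ((nat_lit 368), (nat_lit 1)), ((nat_lit 369), (nat_lit 1)), ((nat_lit 370), (nat_lit 1)), ((nat_lit 385), (nat_lit 1)), ((nat_lit 394), (nat_lit 1)), ((nat_lit 406), (nat_lit 1)), ((nat_lit 409), (nat_lit 1)), ((nat_lit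 411), (nat_lit 1)), ((nat_lit 412), (nat_lit 1)), ((nat_lit 425), (nat_lit 1)), ((nat_lit 431), (nat_lit 1)), ((nat_lit 433), (nat_lit 1)), ((nat_lit 434), (nat_lit 1)), ((nat_lit 437), (nat_lit 1)), ((nat_lit 445), (nat_lit 1)), ((nat_lit 447), (nat_lit 1)), ((nat_lit 448), (nat_lit 1)), ((nat_lit 452), (nat_lit 1)), ((nat_lit 453), (nat_lit 1)), ((nat_lit 467), (nat_lit 1)), ((nat_lit 472), (nat_lit 1)), ((nat_lit 473), (nat_lit 1)), ((nat_lit 474), (nat_lit 1)), ((nat_lit 478), (nat_lit 1)), ((nat_lit 480), (nat_lit 1)), ((nat_lit 482), (nat_lit 1)), ((nat_lit 487), (nat_lit 1)), ((nat_lit 489), (nat_lit 1)), ((nat_lit 493), (nat_lit 1)), ((nat_lit 494), (nat_lit 1)), ((nat_lit 495), (nat_lit 1)), ((nat_lit 496), (nat_lit 1)), ((nat_lit 497), (nat_lit 1)), ((nat_lit 498), (nat_lit 1)), ((nat_lit 499), (nat_lit 1)), ((nat_lit 501), (nat_lit 1)), ((nat_lit 503), (nat_lit 1)), ((nat_lit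 508), (nat_lit 1)), ((nat_lit 511), (nat_lit 1)), ((nat_lit 514), (nat_lit 1)), ((nat_lit 515), (nat_lit 1)), ((nat_lit 517), (nat_lit 1)), ((nat_lit 519), (nat_lit 1)), ((nat_lit 521), (nat_lit 1)), ((nat_lit 522), (nat_lit 1)), ((nat_lit 523), (nat_lit 1)), ((nat_lit 525), (nat_lit 1)), ((nat_lit 526), (nat_lit 1))]⟩,
  ⟨true, (nat_lit 11), [nat_lit 11, nat_lit 78], [nat_lit 78, nat_lit 11, nat_lit 79, nat_lit 80, nat_lit 13, nat_lit 14], [((nat_lit 79), (nat_lit 1)), ((nat_lit 80), (nat_lit 1)), ((nat_lit 13), (nat_lit 1)), ((nat_lit 14), (nat_lit 1)), ((nat_lit 191), (nat_lit 1)), ((nat_lit 194), (nat_lit 1)), ((nat_lit 217), (nat_lit 1)), ((nat_lit 238), (nat_lit 1)), ((nat_lit 239), (nat_lit 1)), ((nat_lit 259), (nat_lit 1)), ((nat_lit 284), (nat_lit 1)), ((nat_lit 301), (nat_lit 1)), ((nat_lit 322), (nat_lit 1)), ((nat_lit 343), (nat_lit 1)), ((nat_lit 345), (nat_lit 1)),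 ((nat_lit 346), (nat_lit 1)), ((nat_lit 348), (nat_lit 1)), ((nat_lit 349), (nat_lit 1)), ((nat_lit 350), (nat_lit 1)), ((nat_lit 369), (nat_lit 1)), ((nat_lit 370), (nat_lit 1)), ((nat_lit 372), (nat_lit 1)), ((nat_lit 386), (nat_lit 1)), ((nat_lit 387), (nat_lit 1)), ((nat_lit 388), (nat_lit 1)), ((nat_lit 390), (nat_lit 1)), ((nat_lit 391), (nat_lit 1)), ((nat_lit 392), (nat_lit 1)), ((nat_lit 406), (nat_lit 1)), ((nat_lit 412), (nat_lit 1)), ((nat_lit 413), (nat_lit 1)), ((nat_lit 416), (nat_lit 1)), ((nat_lit 422), (nat_lit 1)), ((nat_lit 429), (nat_lit 1)), ((nat_lit 431), (nat_lit 1)), ((nat_lit 432), (nat_lit 1)), ((nat_lit 433), (nat_lit 1)), ((nat_lit 437), (nat_lit 1)), ((nat_lit 443), (nat_lit 1)), ((nat_lit 446), (nat_lit 1)), ((nat_lit 448), (nat_lit 1)), ((nat_lit 451), (nat_lit 1)), ((nat_lit 452), (nat_lit 1)), ((nat_lit 457), (nat_lit 1)), ((nat_lit 458), (nat_lit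 1)), ((nat_lit 460), (nat_lit 1)), ((nat_lit 467), (nat_lit 1)), ((nat_lit 470), (nat_lit 1)), ((nat_lit 471), (nat_lit 1)), ((nat_lit 472), (nat_lit 1)), ((nat_lit 479), (nat_lit 1)), ((nat_lit 480), (nat_lit 1)), ((nat_lit 490), (nat_lit 1)), ((nat_lit 491), (nat_lit 1)), ((nat_lit 492), (nat_lit 1)), ((nat_lit 496), (nat_lit 1)), ((nat_lit 497), (nat_lit 1)), ((nat_lit 499), (nat_lit 1)), ((nat_lit 503), (nat_lit 1)), ((nat_lit 506), (nat_lit 1)), ((nat_lit 512), (nat_lit 1)), ((nat_lit 513), (nat_lit 1)), ((nat_lit 516), (nat_lit 1)), ((nat_lit 519), (nat_lit 1)), ((nat_lit 520), (nat_lit 1)), ((nat_lit 523), (nat_lit 1)), ((nat_lit 524), (nat_lit 1)), ((nat_lit 525), (nat_lit 1))]⟩,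
  ⟨true, (nat_lit 11), [nat_lit 11, nat_lit 37], [nat_lit 37, nat_lit 11, nat_lit 24, nat_lit 79, nat_lit 80, nat_lit 12, nat_lit 23, nat_lit 14], [((nat_lit 24), (nat_lit 1)), ((nat_lit 79), (nat_lit 1)), ((nat_lit 80), (nat_lit 1)), ((nat_lit 12), (nat_lit 1)), ((nat_lit 23), (nat_lit 1)), ((nat_lit 14), (nat_lit 1)), ((nat_lit 194), (nat_lit 1)), ((nat_lit 236), (nat_lit 1)), ((nat_lit 238), (nat_lit 1)), ((nat_lit 259), (nat_lit 1)), ((nat_lit 261), (nat_lit 1)), ((nat_lit 280), (nat_lit 1)), ((nat_lit 284), (nat_lit 1)), ((nat_lit 343), (nat_lit 1)), ((nat_lit 367), (nat_lit 1)), ((nat_lit 368), (nat_lit 1)), ((nat_lit 372), (nat_lit 1)), ((nat_lit 387), (nat_lit 1)), ((nat_lit 388), (nat_lit 1)), ((nat_lit 389), (nat_lit 1)), ((nat_lit 392), (nat_lit 1)), ((nat_lit 394), (nat_lit 1)), ((nat_lit 406), (nat_lit 1)), ((nat_lit 413), (nat_lit 1)), ((nat_lit 416), (nat_lit 1)),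 ((nat_lit 425), (nat_lit 1)), ((nat_lit 427), (nat_lit 1)), ((nat_lit 429), (nat_lit 1)), ((nat_lit 430), (nat_lit 1)), ((nat_lit 437), (nat_lit 1)), ((nat_lit 438), (nat_lit 1)), ((nat_lit 446), (nat_lit 1)), ((nat_lit 448), (nat_lit 1)), ((nat_lit 451), (nat_lit 1)), ((nat_lit 458), (nat_lit 1)), ((nat_lit 459), (nat_lit 1)), ((nat_lit 469), (nat_lit 1)), ((nat_lit 472), (nat_lit 1)), ((nat_lit 473), (nat_lit 1)), ((nat_lit 476), (nat_lit 1)), ((nat_lit 477), (nat_lit 1)), ((nat_lit 478), (nat_lit 1)), ((nat_lit 479), (nat_lit 1)), ((nat_lit 482), (nat_lit 1)), ((nat_lit 490), (nat_lit 1)), ((nat_lit 492), (nat_lit 1)), ((nat_lit 493), (nat_lit 1)), ((nat_lit 497), (nat_lit 1)), ((nat_lit 499), (nat_lit 1)), ((nat_lit 500), (nat_lit 1)), ((nat_lit 502), (nat_lit 1)), ((nat_lit 503), (nat_lit 1)), ((nat_lit 509), (nat_lit 1)), ((nat_lit 513), (nat_lit 1)), ((nat_lit 515), (nat_lit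 1)), ((nat_lit 519), (nat_lit 1)), ((nat_lit 520), (nat_lit 1)), ((nat_lit 521), (nat_lit 1)), ((nat_lit 522), (nat_lit 1)), ((nat_lit 523), (nat_lit 1)), ((nat_lit 524), (nat_lit 1))]⟩,
  ⟨true, (nat_lit 3), [nat_lit 53, nat_lit 53], [nat_lit 54], [((nat_lit 54), (nat_lit 1)), ((nat_lit 108), (nat_lit 1)), ((nat_lit 129), (nat_lit 1)), ((nat_lit 130), (nat_lit 1)), ((nat_lit 213), (nat_lit 1)), ((nat_lit 214), (nat_lit 1)), ((nat_lit 218), (nat_lit 1)), ((nat_lit 276), (nat_lit 1)), ((nat_lit 277), (nat_lit 1)), ((nat_lit 281), (nat_lit 1)), ((nat_lit 318), (nat_lit 1)), ((nat_lit 323), (nat_lit 1)), ((nat_lit 326), (nat_lit 1)), ((nat_lit 328), (nat_lit 1)), ((nat_lit 347), (nat_lit 1)), ((nat_lit 350), (nat_lit 1)), ((nat_lit 361), (nat_lit 1)), ((nat_lit 365), (nat_lit 1)), ((nat_lit 370), (nat_lit 1)), ((nat_lit 372), (nat_lit 1)), ((nat_lit 382), (nat_lit 1)), ((nat_lit 386),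 (nat_lit 1)), ((nat_lit 389), (nat_lit 1)), ((nat_lit 391), (nat_lit 1)), ((nat_lit 402), (nat_lit 1)), ((nat_lit 403), (nat_lit 1)), ((nat_lit 407), (nat_lit 1)), ((nat_lit 410), (nat_lit 1)), ((nat_lit 412), (nat_lit 1)), ((nat_lit 414), (nat_lit 1)), ((nat_lit 415), (nat_lit 1)), ((nat_lit 416), (nat_lit 1)), ((nat_lit 423), (nat_lit 1)), ((nat_lit 428), (nat_lit 1)), ((nat_lit 434), (nat_lit 1)), ((nat_lit 437), (nat_lit 1)), ((nat_lit 438), (nat_lit 1)), ((nat_lit 444), (nat_lit 1)), ((nat_lit 445), (nat_lit 1)), ((nat_lit 454), (nat_lit 1)), ((nat_lit 455), (nat_lit 1)), ((nat_lit 456), (nat_lit 1)), ((nat_lit 457), (nat_lit 1)), ((nat_lit 470), (nat_lit 1)), ((nat_lit 473), (nat_lit 1)), ((nat_lit 477), (nat_lit 1)), ((nat_lit 478), (nat_lit 1)), ((nat_lit 480), (nat_lit 1)), ((nat_lit 481), (nat_lit 1)), ((nat_lit 486), (nat_lit 1)), ((nat_lit 497), (nat_lit 1)), ((nat_lit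 500), (nat_lit 1)), ((nat_lit 502), (nat_lit 1)), ((nat_lit 504), (nat_lit 1)), ((nat_lit 508), (nat_lit 1)), ((nat_lit 512), (nat_lit 1)), ((nat_lit 517), (nat_lit 1)), ((nat_lit 518), (nat_lit 1)), ((nat_lit 520), (nat_lit 1)), ((nat_lit 521), (nat_lit 1)), ((nat_lit 522), (nat_lit 1)), ((nat_lit 524), (nat_lit 1))]⟩,
  ⟨true, (nat_lit 5), [nat_lit 81, nat_lit 71], [nat_lit 71, nat_lit 81, nat_lit 72, nat_lit 75, nat_lit 73, nat_lit 47, nat_lit 28, nat_lit 48], [((nat_lit 72), (nat_lit 1)), ((nat_lit 75), (nat_lit 1)), ((nat_lit 73), (nat_lit 1)), ((nat_lit 47), (nat_lit 1)), ((nat_lit 28), (nat_lit 1)), ((nat_lit 48), (nat_lit 1)), ((nat_lit 192), (nat_lit 1)), ((nat_lit 196), (nat_lit 1)), ((nat_lit 238), (nat_lit 1)), ((nat_lit 275), (nat_lit 1)), ((nat_lit 276), (nat_lit 1)), ((nat_lit 277), (nat_lit 1)), ((nat_lit 280), (nat_lit 1)), ((nat_lit 284), (nat_lit 1)), ((nat_lit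 301), (nat_lit 1)), ((nat_lit 305), (nat_lit 1)), ((nat_lit 322), (nat_lit 1)), ((nat_lit 328), (nat_lit 1)), ((nat_lit 343), (nat_lit 1)), ((nat_lit 349), (nat_lit 1)), ((nat_lit 364), (nat_lit 1)), ((nat_lit 370), (nat_lit 1)), ((nat_lit 371), (nat_lit 1)), ((nat_lit 372), (nat_lit 1)), ((nat_lit 380), (nat_lit 1)), ((nat_lit 381), (nat_lit 1)), ((nat_lit 382), (nat_lit 1)), ((nat_lit 385), (nat_lit 1)), ((nat_lit 387), (nat_lit 1)), ((nat_lit 389), (nat_lit 1)), ((nat_lit 415), (nat_lit 1)), ((nat_lit 422), (nat_lit 1)), ((nat_lit 423), (nat_lit 1)), ((nat_lit 424), (nat_lit 1)), ((nat_lit 427), (nat_lit 1)), ((nat_lit 433), (nat_lit 1)), ((nat_lit 434), (nat_lit 1)), ((nat_lit 436), (nat_lit 1)), ((nat_lit 438), (nat_lit 1)), ((nat_lit 443), (nat_lit 1)), ((nat_lit 445), (nat_lit 1)), ((nat_lit 450), (nat_lit 1)), ((nat_lit 452), (nat_lit 1)), ((nat_lit 455), (nat_lit 1)), ((nat_lit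 456), (nat_lit 1)), ((nat_lit 458), (nat_lit 1)), ((nat_lit 459), (nat_lit 1)), ((nat_lit 460), (nat_lit 1)), ((nat_lit 471), (nat_lit 1)), ((nat_lit 478), (nat_lit 1)), ((nat_lit 486), (nat_lit 1)), ((nat_lit 487), (nat_lit 1)), ((nat_lit 492), (nat_lit 1)), ((nat_lit 494), (nat_lit 1)), ((nat_lit 497), (nat_lit 1)), ((nat_lit 500), (nat_lit 1)), ((nat_lit 502), (nat_lit 1)), ((nat_lit 503), (nat_lit 1)), ((nat_lit 504), (nat_lit 1)), ((nat_lit 507), (nat_lit 1)), ((nat_lit 513), (nat_lit 1)), ((nat_lit 515), (nat_lit 1)), ((nat_lit 516), (nat_lit 1)), ((nat_lit 518), (nat_lit 1)), ((nat_lit 520), (nat_lit 1)), ((nat_lit 521), (nat_lit 1)), ((nat_lit 522), (nat_lit 1)), ((nat_lit 526), (nat_lit 1))]⟩,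
  ⟨true, (nat_lit 0), [nat_lit 82, nat_lit 40], [nat_lit 40, nat_lit 82, nat_lit 77, nat_lit 64], [((nat_lit 77), (nat_lit 1)), ((nat_lit 64), (nat_lit 1)), ((nat_lit 150), (nat_lit 1)), ((nat_lit 151), (nat_lit 1)), ((nat_lit 214), (nat_lit 1)), ((nat_lit 215), (nat_lit 1)), ((nat_lit 218), (nat_lit 1)), ((nat_lit 236), (nat_lit 1)), ((nat_lit 255), (nat_lit 1)), ((nat_lit 256), (nat_lit 1)), ((nat_lit 260), (nat_lit 1)), ((nat_lit 261), (nat_lit 1)), ((nat_lit 281), (nat_lit 1)), ((nat_lit 283), (nat_lit 1)), ((nat_lit 297), (nat_lit 1)), ((nat_lit 298), (nat_lit 1)), ((nat_lit 302), (nat_lit 1)), ((nat_lit 303), (nat_lit 1)), ((nat_lit 320), (nat_lit 1)), ((nat_lit 323), (nat_lit 1)), ((nat_lit 326), (nat_lit 1)), ((nat_lit 327), (nat_lit 1)), ((nat_lit 328), (nat_lit 1)), ((nat_lit 344), (nat_lit 1)), ((nat_lit 345), (nat_lit 1)), ((nat_lit 348), (nat_lit 1)), ((nat_lit 349),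 (nat_lit 1)), ((nat_lit 361), (nat_lit 1)), ((nat_lit 365), (nat_lit 1)), ((nat_lit 369), (nat_lit 1)), ((nat_lit 382), (nat_lit 1)), ((nat_lit 383), (nat_lit 1)), ((nat_lit 384), (nat_lit 1)), ((nat_lit 387), (nat_lit 1)), ((nat_lit 388), (nat_lit 1)), ((nat_lit 393), (nat_lit 1)), ((nat_lit 402), (nat_lit 1)), ((nat_lit 403), (nat_lit 1)), ((nat_lit 407), (nat_lit 1)), ((nat_lit 408), (nat_lit 1)), ((nat_lit 409), (nat_lit 1)), ((nat_lit 412), (nat_lit 1)), ((nat_lit 413), (nat_lit 1)), ((nat_lit 424), (nat_lit 1)), ((nat_lit 426), (nat_lit 1)), ((nat_lit 432), (nat_lit 1)), ((nat_lit 435), (nat_lit 1)), ((nat_lit 436), (nat_lit 1)), ((nat_lit 438), (nat_lit 1)), ((nat_lit 444), (nat_lit 1)), ((nat_lit 453), (nat_lit 1)), ((nat_lit 455), (nat_lit 1)), ((nat_lit 456), (nat_lit 1)), ((nat_lit 457), (nat_lit 1)), ((nat_lit 460), (nat_lit 1)), ((nat_lit 466), (nat_lit 1)), ((nat_lit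 468), (nat_lit 1)), ((nat_lit 470), (nat_lit 1)), ((nat_lit 472), (nat_lit 1)), ((nat_lit 473), (nat_lit 1)), ((nat_lit 475), (nat_lit 1)), ((nat_lit 478), (nat_lit 1)), ((nat_lit 479), (nat_lit 1)), ((nat_lit 480), (nat_lit 1)), ((nat_lit 481), (nat_lit 1)), ((nat_lit 482), (nat_lit 1)), ((nat_lit 488), (nat_lit 1)), ((nat_lit 491), (nat_lit 1)), ((nat_lit 492), (nat_lit 1)), ((nat_lit 494), (nat_lit 1)), ((nat_lit 495), (nat_lit 1)), ((nat_lit 496), (nat_lit 1)), ((nat_lit 497), (nat_lit 1)), ((nat_lit 498), (nat_lit 1)), ((nat_lit 502), (nat_lit 1)), ((nat_lit 503), (nat_lit 1)), ((nat_lit 507), (nat_lit 1)), ((nat_lit 513), (nat_lit 1)), ((nat_lit 519), (nat_lit 1)), ((nat_lit 520), (nat_lit 1)), ((nat_lit 521), (nat_lit 1)), ((nat_lit 522), (nat_lit 1)), ((nat_lit 525), (nat_lit 1))]⟩,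
  ⟨true, (nat_lit 9), [nat_lit 83, nat_lit 83], [nat_lit 33], [((nat_lit 33), (nat_lit 1)), ((nat_lit 152), (nat_lit 1)), ((nat_lit 173), (nat_lit 1)), ((nat_lit 174), (nat_lit 1)), ((nat_lit 194), (nat_lit 1)), ((nat_lit 195), (nat_lit 1)), ((nat_lit 215), (nat_lit 1)), ((nat_lit 216), (nat_lit 1)), ((nat_lit 217), (nat_lit 1)), ((nat_lit 218), (nat_lit 1)), ((nat_lit 278), (nat_lit 1)), ((nat_lit 280), (nat_lit 1)), ((nat_lit 300), (nat_lit 1)), ((nat_lit 302), (nat_lit 1)), ((nat_lit 322), (nat_lit 1)), ((nat_lit 328), (nat_lit 1)), ((nat_lit 341), (nat_lit 1)), ((nat_lit 347), (nat_lit 1)), ((nat_lit 350), (nat_lit 1)), ((nat_lit 362), (nat_lit 1)), ((nat_lit 364), (nat_lit 1)), ((nat_lit 369), (nat_lit 1)), ((nat_lit 372), (nat_lit 1)), ((nat_lit 386), (nat_lit 1)), ((nat_lit 391), (nat_lit 1)), ((nat_lit 392), (nat_lit 1)), ((nat_lit 393), (nat_lit 1)), ((nat_lit 404), (nat_lit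 1)), ((nat_lit 405), (nat_lit 1)), ((nat_lit 407), (nat_lit 1)), ((nat_lit 410), (nat_lit 1)), ((nat_lit 411), (nat_lit 1)), ((nat_lit 414), (nat_lit 1)), ((nat_lit 416), (nat_lit 1)), ((nat_lit 425), (nat_lit 1)), ((nat_lit 426), (nat_lit 1)), ((nat_lit 433), (nat_lit 1)), ((nat_lit 435), (nat_lit 1)), ((nat_lit 438), (nat_lit 1)), ((nat_lit 447), (nat_lit 1)), ((nat_lit 449), (nat_lit 1)), ((nat_lit 452), (nat_lit 1)), ((nat_lit 456), (nat_lit 1)), ((nat_lit 458), (nat_lit 1)), ((nat_lit 467), (nat_lit 1)), ((nat_lit 468), (nat_lit 1)), ((nat_lit 473), (nat_lit 1)), ((nat_lit 476), (nat_lit 1)), ((nat_lit 481), (nat_lit 1)), ((nat_lit 491), (nat_lit 1)), ((nat_lit 496), (nat_lit 1)), ((nat_lit 498), (nat_lit 1)), ((nat_lit 499), (nat_lit 1)), ((nat_lit 501), (nat_lit 1)), ((nat_lit 502), (nat_lit 1)), ((nat_lit 503), (nat_lit 1)), ((nat_lit 504), (nat_lit 1)), ((nat_lit 512), (nat_lit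 1)), ((nat_lit 515), (nat_lit 1)), ((nat_lit 518), (nat_lit 1)), ((nat_lit 519), (nat_lit 1)), ((nat_lit 522), (nat_lit 1))]⟩,
  ⟨true, (nat_lit 7), [nat_lit 84, nat_lit 57], [nat_lit 57, nat_lit 84, nat_lit 74, nat_lit 19, nat_lit 45, nat_lit 5, nat_lit 7], [((nat_lit 74), (nat_lit 1)), ((nat_lit 19), (nat_lit 1)), ((nat_lit 45), (nat_lit 1)), ((nat_lit 5), (nat_lit 1)), ((nat_lit 7), (nat_lit 1)), ((nat_lit 107), (nat_lit 1)), ((nat_lit 128), (nat_lit 1)), ((nat_lit 149), (nat_lit 1)), ((nat_lit 194), (nat_lit 1)), ((nat_lit 212), (nat_lit 1)), ((nat_lit 233), (nat_lit 1)), ((nat_lit 254), (nat_lit 1)), ((nat_lit 280), (nat_lit 1)), ((nat_lit 282), (nat_lit 1)), ((nat_lit 283), (nat_lit 1)), ((nat_lit 296), (nat_lit 1)), ((nat_lit 305), (nat_lit 1)), ((nat_lit 320), (nat_lit 1)), ((nat_lit 322), (nat_lit 1)), ((nat_lit 323), (nat_lit 1)), ((nat_lit 324), (nat_lit 1)), ((nat_lit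 325), (nat_lit 1)), ((nat_lit 341), (nat_lit 1)), ((nat_lit 344), (nat_lit 1)), ((nat_lit 348), (nat_lit 1)), ((nat_lit 349), (nat_lit 1)), ((nat_lit 350), (nat_lit 1)), ((nat_lit 359), (nat_lit 1)), ((nat_lit 362), (nat_lit 1)), ((nat_lit 372), (nat_lit 1)), ((nat_lit 382), (nat_lit 1)), ((nat_lit 389), (nat_lit 1)), ((nat_lit 390), (nat_lit 1)), ((nat_lit 391), (nat_lit 1)), ((nat_lit 393), (nat_lit 1)), ((nat_lit 394), (nat_lit 1)), ((nat_lit 401), (nat_lit 1)), ((nat_lit 403), (nat_lit 1)), ((nat_lit 404), (nat_lit 1)), ((nat_lit 406), (nat_lit 1)), ((nat_lit 408), (nat_lit 1)), ((nat_lit 411), (nat_lit 1)), ((nat_lit 414), (nat_lit 1)), ((nat_lit 416), (nat_lit 1)), ((nat_lit 422), (nat_lit 1)), ((nat_lit 427), (nat_lit 1)), ((nat_lit 428), (nat_lit 1)), ((nat_lit 435), (nat_lit 1)), ((nat_lit 436), (nat_lit 1)), ((nat_lit 437), (nat_lit 1)), ((nat_lit 438), (nat_lit 1)), ((nat_lit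 443), (nat_lit 1)), ((nat_lit 445), (nat_lit 1)), ((nat_lit 446), (nat_lit 1)), ((nat_lit 448), (nat_lit 1)), ((nat_lit 449), (nat_lit 1)), ((nat_lit 450), (nat_lit 1)), ((nat_lit 452), (nat_lit 1)), ((nat_lit 453), (nat_lit 1)), ((nat_lit 454), (nat_lit 1)), ((nat_lit 455), (nat_lit 1)), ((nat_lit 456), (nat_lit 1)), ((nat_lit 457), (nat_lit 1)), ((nat_lit 458), (nat_lit 1)), ((nat_lit 459), (nat_lit 1)), ((nat_lit 460), (nat_lit 1)), ((nat_lit 466), (nat_lit 1)), ((nat_lit 469), (nat_lit 1)), ((nat_lit 475), (nat_lit 1)), ((nat_lit 478), (nat_lit 1)), ((nat_lit 479), (nat_lit 1)), ((nat_lit 480), (nat_lit 1)), ((nat_lit 492), (nat_lit 1)), ((nat_lit 495), (nat_lit 1)), ((nat_lit 496), (nat_lit 1)), ((nat_lit 497), (nat_lit 1)), ((nat_lit 498), (nat_lit 1)), ((nat_lit 500), (nat_lit 1)), ((nat_lit 502), (nat_lit 1)), ((nat_lit 503), (nat_lit 1)), ((nat_lit 504), (nat_lit 1)), ((nat_lit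 508), (nat_lit 1)), ((nat_lit 514), (nat_lit 1)), ((nat_lit 515), (nat_lit 1)), ((nat_lit 517), (nat_lit 1)), ((nat_lit 520), (nat_lit 1)), ((nat_lit 524), (nat_lit 1))]⟩]
noncomputable def I2_1 : List Pc.Idn := [⟨false, (nat_lit 0), [nat_lit 9], [nat_lit 2, nat_lit 2], [((nat_lit 347), (nat_lit 1)), ((nat_lit 389), (nat_lit 1)), ((nat_lit 410), (nat_lit 1)), ((nat_lit 431), (nat_lit 1)), ((nat_lit 445), (nat_lit 1)), ((nat_lit 452), (nat_lit 1)), ((nat_lit 460), (nat_lit 1)), ((nat_lit 473), (nat_lit 1)), ((nat_lit 494), (nat_lit 1)), ((nat_lit 500), (nat_lit 1)), ((nat_lit 501), (nat_lit 1)), ((nat_lit 502), (nat_lit 1)), ((nat_lit 503), (nat_lit 1)), ((nat_lit 504), (nat_lit 1))]⟩,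
  ⟨false, (nat_lit 0), [nat_lit 6], [nat_lit 6, nat_lit 4], [((nat_lit 302), (nat_lit 1)), ((nat_lit 306), (nat_lit 1)), ((nat_lit 342), (nat_lit 1)), ((nat_lit 411), (nat_lit 1)), ((nat_lit 474), (nat_lit 1)), ((nat_lit 476), (nat_lit 1)), ((nat_lit 479), (nat_lit 1)), ((nat_lit 482), (nat_lit 1)), ((nat_lit 489), (nat_lit 1)), ((nat_lit 500), (nat_lit 1)), ((nat_lit 503), (nat_lit 1)), ((nat_lit 516), (nat_lit 1)), ((nat_lit 518), (nat_lit 1)), ((nat_lit 521), (nat_lit 1)), ((nat_lit 524), (nat_lit 1)), ((nat_lit 525), (nat_lit 1)), ((nat_lit 526), (nat_lit 1))]⟩,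
  ⟨false, (nat_lit 0), [nat_lit 8], [nat_lit 5, nat_lit 5], [((nat_lit 364), (nat_lit 1)), ((nat_lit 372), (nat_lit 1)), ((nat_lit 427), (nat_lit 1)), ((nat_lit 430), (nat_lit 1)), ((nat_lit 435), (nat_lit 1)), ((nat_lit 438), (nat_lit 1)), ((nat_lit 451), (nat_lit 1)), ((nat_lit 469), (nat_lit 1)), ((nat_lit 477), (nat_lit 1)), ((nat_lit 480), (nat_lit 1)), ((nat_lit 482), (nat_lit 1)), ((nat_lit 493), (nat_lit 1)), ((nat_lit 501), (nat_lit 1)), ((nat_lit 502), (nat_lit 1)), ((nat_lit 503), (nat_lit 1)), ((nat_lit 504), (nat_lit 1)), ((nat_lit 523), (nat_lit 1)), ((nat_lit 526), (nat_lit 1))]⟩,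
  ⟨false, (nat_lit 0), [nat_lit 9], [nat_lit 3, nat_lit 0], [((nat_lit 280), (nat_lit 1)), ((nat_lit 338), (nat_lit 1)), ((nat_lit 343), (nat_lit 1)), ((nat_lit 446), (nat_lit 1)), ((nat_lit 448), (nat_lit 1)), ((nat_lit 455), (nat_lit 1)), ((nat_lit 488), (nat_lit 1)), ((nat_lit 490), (nat_lit 1)), ((nat_lit 504), (nat_lit 1)), ((nat_lit 511), (nat_lit 1)), ((nat_lit 518), (nat_lit 1)), ((nat_lit 523), (nat_lit 1)), ((nat_lit 525), (nat_lit 1)), ((nat_lit 526), (nat_lit 1))]⟩,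
  ⟨false, (nat_lit 0), [nat_lit 11], [nat_lit 10, nat_lit 0], [((nat_lit 391), (nat_lit 1)), ((nat_lit 453), (nat_lit 1)), ((nat_lit 457), (nat_lit 1)), ((nat_lit 464), (nat_lit 1)), ((nat_lit 474), (nat_lit 1)), ((nat_lit 481), (nat_lit 1)), ((nat_lit 502), (nat_lit 1)), ((nat_lit 504), (nat_lit 1)), ((nat_lit 506), (nat_lit 1)), ((nat_lit 516), (nat_lit 1)), ((nat_lit 523), (nat_lit 1)), ((nat_lit 525), (nat_lit 1))]⟩,
  ⟨false, (nat_lit 0), [nat_lit 7], [nat_lit 1, nat_lit 1], [((nat_lit 282), (nat_lit 1)), ((nat_lit 318), (nat_lit 1)), ((nat_lit 324), (nat_lit 1)), ((nat_lit 328), (nat_lit 1)), ((nat_lit 366), (nat_lit 1)), ((nat_lit 433), (nat_lit 1)), ((nat_lit 435), (nat_lit 1)), ((nat_lit 438), (nat_lit 1)), ((nat_lit 454), (nat_lit 1)), ((nat_lit 456), (nat_lit 1)), ((nat_lit 460), (nat_lit 1)), ((nat_lit 498), (nat_lit 1)), ((nat_lit 519), (nat_lit 1)), ((nat_lit 523),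 (nat_lit 1)), ((nat_lit 526), (nat_lit 1))]⟩,
  ⟨false, (nat_lit 0), [nat_lit 9], [nat_lit 4, nat_lit 0], [((nat_lit 282), (nat_lit 1)), ((nat_lit 359), (nat_lit 1)), ((nat_lit 366), (nat_lit 1)), ((nat_lit 435), (nat_lit 1)), ((nat_lit 447), (nat_lit 1)), ((nat_lit 450), (nat_lit 1)), ((nat_lit 459), (nat_lit 1)), ((nat_lit 460), (nat_lit 1)), ((nat_lit 489), (nat_lit 1)), ((nat_lit 492), (nat_lit 1)), ((nat_lit 498), (nat_lit 1)), ((nat_lit 501), (nat_lit 1)), ((nat_lit 513), (nat_lit 1)), ((nat_lit 523), (nat_lit 1)), ((nat_lit 525), (nat_lit 1)), ((nat_lit 526), (nat_lit 1))]⟩,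
  ⟨false, (nat_lit 0), [nat_lit 10], [nat_lit 5, nat_lit 0], [((nat_lit 385), (nat_lit 1)), ((nat_lit 401), (nat_lit 1)), ((nat_lit 415), (nat_lit 1)), ((nat_lit 432), (nat_lit 1)), ((nat_lit 436), (nat_lit 1)), ((nat_lit 437), (nat_lit 1)), ((nat_lit 459), (nat_lit 1)), ((nat_lit 474), (nat_lit 1)), ((nat_lit 478), (nat_lit 1)), ((nat_lit 479), (nat_lit 1)), ((nat_lit 481), (nat_lit 1)), ((nat_lit 506), (nat_lit 1)), ((nat_lit 516), (nat_lit 1)), ((nat_lit 520), (nat_lit 1)), ((nat_lit 523), (nat_lit 1)), ((nat_lit 524), (nat_lit 1))]⟩,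
  ⟨false, (nat_lit 0), [nat_lit 12], [nat_lit 4, nat_lit 1], [((nat_lit 346), (nat_lit 1)), ((nat_lit 402), (nat_lit 1)), ((nat_lit 409), (nat_lit 1)), ((nat_lit 447), (nat_lit 1)), ((nat_lit 451), (nat_lit 1)), ((nat_lit 458), (nat_lit 1)), ((nat_lit 479), (nat_lit 1)), ((nat_lit 481), (nat_lit 1)), ((nat_lit 489), (nat_lit 1)), ((nat_lit 493), (nat_lit 1)), ((nat_lit 500), (nat_lit 1)), ((nat_lit 503), (nat_lit 1)), ((nat_lit 510), (nat_lit 1)), ((nat_lit 524), (nat_lit 1)), ((nat_lit 525), (nat_lit 1))]⟩,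
  ⟨false, (nat_lit 0), [nat_lit 9], [nat_lit 3, nat_lit 1], [((nat_lit 281), (nat_lit 1)), ((nat_lit 339), (nat_lit 1)), ((nat_lit 344), (nat_lit 1)), ((nat_lit 425), (nat_lit 1)), ((nat_lit 428), (nat_lit 1)), ((nat_lit 434), (nat_lit 1)), ((nat_lit 446), (nat_lit 1)), ((nat_lit 455), (nat_lit 1)), ((nat_lit 509), (nat_lit 1)), ((nat_lit 512), (nat_lit 1)), ((nat_lit 522), (nat_lit 1)), ((nat_lit 526), (nat_lit 1))]⟩,
  ⟨false, (nat_lit 0), [nat_lit 7], [nat_lit 5, nat_lit 1], [((nat_lit 282), (nat_lit 1)), ((nat_lit 322), (nat_lit 1)), ((nat_lit 326), (nat_lit 1)), ((nat_lit 423), (nat_lit 1)), ((nat_lit 444), (nat_lit 1)), ((nat_lit 507), (nat_lit 1)), ((nat_lit 515), (nat_lit 1)), ((nat_lit 517), (nat_lit 1)), ((nat_lit 522), (nat_lit 1)), ((nat_lit 525), (nat_lit 1))]⟩,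
  ⟨false, (nat_lit 0), [nat_lit 6], [nat_lit 6, nat_lit 2], [((nat_lit 340), (nat_lit 1)), ((nat_lit 407), (nat_lit 1)), ((nat_lit 416), (nat_lit 1)), ((nat_lit 428), (nat_lit 1)), ((nat_lit 437), (nat_lit 1)), ((nat_lit 438), (nat_lit 1)), ((nat_lit 449), (nat_lit 1)), ((nat_lit 458), (nat_lit 1)), ((nat_lit 459), (nat_lit 1)), ((nat_lit 460), (nat_lit 1)), ((nat_lit 487), (nat_lit 1)), ((nat_lit 491), (nat_lit 1)), ((nat_lit 502), (nat_lit 1)), ((nat_lit 504), (nat_lit 1)), ((nat_lit 521), (nat_lit 1))]⟩,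
  ⟨false, (nat_lit 0), [nat_lit 5], [nat_lit 5, nat_lit 3], [((nat_lit 385), (nat_lit 1)), ((nat_lit 394), (nat_lit 1)), ((nat_lit 425), (nat_lit 1)), ((nat_lit 446), (nat_lit 1)), ((nat_lit 448), (nat_lit 1)), ((nat_lit 460), (nat_lit 1)), ((nat_lit 488), (nat_lit 1)), ((nat_lit 490), (nat_lit 1)), ((nat_lit 499), (nat_lit 1)), ((nat_lit 504), (nat_lit 1)), ((nat_lit 511), (nat_lit 1)), ((nat_lit 522), (nat_lit 1)), ((nat_lit 526), (nat_lit 1))]⟩,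
  ⟨false, (nat_lit 0), [nat_lit 4], [nat_lit 0, nat_lit 0], [((nat_lit 233), (nat_lit 1)), ((nat_lit 240), (nat_lit 1)), ((nat_lit 342), (nat_lit 1)), ((nat_lit 416), (nat_lit 1)), ((nat_lit 426), (nat_lit 1)), ((nat_lit 434), (nat_lit 1)), ((nat_lit 437), (nat_lit 1)), ((nat_lit 438), (nat_lit 1)), ((nat_lit 450), (nat_lit 1)), ((nat_lit 455), (nat_lit 1)), ((nat_lit 458), (nat_lit 1)), ((nat_lit 459), (nat_lit 1)), ((nat_lit 489), (nat_lit 1)), ((nat_lit 504), (nat_lit 1)), ((nat_lit 518), (nat_lit 1)), ((nat_lit 521), (nat_lit 1)), ((nat_lit 522), (nat_lit 1)), ((nat_lit 523), (nat_lit 1)), ((nat_lit 526), (nat_lit 1))]⟩,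
  ⟨false, (nat_lit 0), [nat_lit 9], [nat_lit 8, nat_lit 3], [((nat_lit 305), (nat_lit 1)), ((nat_lit 346), (nat_lit 1)), ((nat_lit 348), (nat_lit 1)), ((nat_lit 474), (nat_lit 1)), ((nat_lit 476), (nat_lit 1)), ((nat_lit 488), (nat_lit 1)), ((nat_lit 494), (nat_lit 1)), ((nat_lit 495), (nat_lit 1)), ((nat_lit 503), (nat_lit 1)), ((nat_lit 509), (nat_lit 1)), ((nat_lit 515), (nat_lit 1)), ((nat_lit 525), (nat_lit 1)), ((nat_lit 526), (nat_lit 1))]⟩,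
  ⟨false, (nat_lit 0), [nat_lit 7], [nat_lit 7, nat_lit 4], [((nat_lit 387), (nat_lit 1)), ((nat_lit 394), (nat_lit 1)), ((nat_lit 426), (nat_lit 1)), ((nat_lit 429), (nat_lit 1)), ((nat_lit 436), (nat_lit 1)), ((nat_lit 438), (nat_lit 1)), ((nat_lit 447), (nat_lit 1)), ((nat_lit 450), (nat_lit 1)), ((nat_lit 459), (nat_lit 1)), ((nat_lit 460), (nat_lit 1)), ((nat_lit 499), (nat_lit 1)), ((nat_lit 502), (nat_lit 1)), ((nat_lit 510), (nat_lit 1)), ((nat_lit 520), (nat_lit 1)), ((nat_lit 522), (nat_lit 1)), ((nat_lit 523), (nat_lit 1)), ((nat_lit 526), (nat_lit 1))]⟩,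
  ⟨false, (nat_lit 0), [nat_lit 9], [nat_lit 4, nat_lit 1], [((nat_lit 283), (nat_lit 1)), ((nat_lit 360), (nat_lit 1)), ((nat_lit 367), (nat_lit 1)), ((nat_lit 426), (nat_lit 1)), ((nat_lit 430), (nat_lit 1)), ((nat_lit 435), (nat_lit 1)), ((nat_lit 447), (nat_lit 1)), ((nat_lit 456), (nat_lit 1)), ((nat_lit 493), (nat_lit 1)), ((nat_lit 498), (nat_lit 1)), ((nat_lit 501), (nat_lit 1)), ((nat_lit 502), (nat_lit 1)), ((nat_lit 504), (nat_lit 1)), ((nat_lit 510), (nat_lit 1)), ((nat_lit 514), (nat_lit 1)), ((nat_lit 523), (nat_lit 1)), ((nat_lit 526), (nat_lit 1))]⟩,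
  ⟨false, (nat_lit 0), [nat_lit 6], [nat_lit 6, nat_lit 0], [((nat_lit 281), (nat_lit 1)), ((nat_lit 284), (nat_lit 1)), ((nat_lit 338), (nat_lit 1)), ((nat_lit 344), (nat_lit 1)), ((nat_lit 347), (nat_lit 1)), ((nat_lit 350), (nat_lit 1)), ((nat_lit 407), (nat_lit 1)), ((nat_lit 410), (nat_lit 1)), ((nat_lit 413), (nat_lit 1)), ((nat_lit 416), (nat_lit 1)), ((nat_lit 449), (nat_lit 1)), ((nat_lit 452), (nat_lit 1)), ((nat_lit 455), (nat_lit 1)), ((nat_lit 458), (nat_lit 1)), ((nat_lit 460), (nat_lit 1)), ((nat_lit 485), (nat_lit 1)), ((nat_lit 491), (nat_lit 1)), ((nat_lit 494), (nat_lit 1)), ((nat_lit 497), (nat_lit 1)), ((nat_lit 500), (nat_lit 1)), ((nat_lit 502), (nat_lit 1)), ((nat_lit 504), (nat_lit 1)), ((nat_lit 512), (nat_lit 1)), ((nat_lit 515), (nat_lit 1)), ((nat_lit 523), (nat_lit 1)), ((nat_lit 525), (nat_lit 1))]⟩,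
  ⟨false, (nat_lit 0), [nat_lit 5], [nat_lit 5, nat_lit 4], [((nat_lit 364), (nat_lit 1)), ((nat_lit 372), (nat_lit 1)), ((nat_lit 385), (nat_lit 1)), ((nat_lit 393), (nat_lit 1)), ((nat_lit 394), (nat_lit 1)), ((nat_lit 426), (nat_lit 1)), ((nat_lit 447), (nat_lit 1)), ((nat_lit 448), (nat_lit 1)), ((nat_lit 460), (nat_lit 1)), ((nat_lit 489), (nat_lit 1)), ((nat_lit 498), (nat_lit 1)), ((nat_lit 502), (nat_lit 1)), ((nat_lit 511), (nat_lit 1)), ((nat_lit 520), (nat_lit 1)), ((nat_lit 523), (nat_lit 1))]⟩,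
  ⟨false, (nat_lit 0), [nat_lit 7], [nat_lit 6, nat_lit 6], [((nat_lit 345), (nat_lit 1)), ((nat_lit 365), (nat_lit 1)), ((nat_lit 372), (nat_lit 1)), ((nat_lit 386), (nat_lit 1)), ((nat_lit 393), (nat_lit 1)), ((nat_lit 394), (nat_lit 1)), ((nat_lit 449), (nat_lit 1)), ((nat_lit 456), (nat_lit 1)), ((nat_lit 457), (nat_lit 1)), ((nat_lit 478), (nat_lit 1)), ((nat_lit 481), (nat_lit 1)), ((nat_lit 482), (nat_lit 1)), ((nat_lit 492), (nat_lit 1)), ((nat_lit 502), (nat_lit 1)), ((nat_lit 512), (nat_lit 1)), ((nat_lit 519), (nat_lit 1)), ((nat_lit 520), (nat_lit 1)), ((nat_lit 523), (nat_lit 1)), ((nat_lit 524), (nat_lit 1)), ((nat_lit 526), (nat_lit 1))]⟩,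
  ⟨false, (nat_lit 0), [nat_lit 9], [nat_lit 7, nat_lit 2], [((nat_lit 326), (nat_lit 1)), ((nat_lit 368), (nat_lit 1)), ((nat_lit 389), (nat_lit 1)), ((nat_lit 424), (nat_lit 1)), ((nat_lit 431), (nat_lit 1)), ((nat_lit 433), (nat_lit 1)), ((nat_lit 435), (nat_lit 1)), ((nat_lit 436), (nat_lit 1)), ((nat_lit 445), (nat_lit 1)), ((nat_lit 450), (nat_lit 1)), ((nat_lit 452), (nat_lit 1)), ((nat_lit 498), (nat_lit 1)), ((nat_lit 499), (nat_lit 1)), ((nat_lit 502), (nat_lit 1)), ((nat_lit 519), (nat_lit 1)), ((nat_lit 520), (nat_lit 1)), ((nat_lit 526), (nat_lit 1))]⟩,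
  ⟨false, (nat_lit 0), [nat_lit 10], [nat_lit 8, nat_lit 3], [((nat_lit 367), (nat_lit 1)), ((nat_lit 369), (nat_lit 1)), ((nat_lit 404), (nat_lit 1)), ((nat_lit 409), (nat_lit 1)), ((nat_lit 414), (nat_lit 1)), ((nat_lit 488), (nat_lit 1)), ((nat_lit 500), (nat_lit 1)), ((nat_lit 516), (nat_lit 1)), ((nat_lit 519), (nat_lit 1)), ((nat_lit 521), (nat_lit 1)), ((nat_lit 526), (nat_lit 1))]⟩,
  ⟨false, (nat_lit 0), [nat_lit 2], [nat_lit 2, nat_lit 2], [((nat_lit 277), (nat_lit 1)), ((nat_lit 340), (nat_lit 1)), ((nat_lit 382), (nat_lit 1)), ((nat_lit 403), (nat_lit 1)), ((nat_lit 424), (nat_lit 1)), ((nat_lit 445), (nat_lit 1)), ((nat_lit 455), (nat_lit 1)), ((nat_lit 457), (nat_lit 1)), ((nat_lit 458), (nat_lit 1)), ((nat_lit 460), (nat_lit 1)), ((nat_lit 466), (nat_lit 1)), ((nat_lit 479), (nat_lit 1)), ((nat_lit 481), (nat_lit 1)), ((nat_lit 482), (nat_lit 1)), ((nat_lit 487), (nat_lit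 1)), ((nat_lit 499), (nat_lit 1)), ((nat_lit 501), (nat_lit 1)), ((nat_lit 504), (nat_lit 1)), ((nat_lit 520), (nat_lit 1)), ((nat_lit 521), (nat_lit 1)), ((nat_lit 522), (nat_lit 1)), ((nat_lit 523), (nat_lit 1)), ((nat_lit 525), (nat_lit 1)), ((nat_lit 526), (nat_lit 1))]⟩,
  ⟨false, (nat_lit 0), [nat_lit 10], [nat_lit 3, nat_lit 0], [((nat_lit 301), (nat_lit 1)), ((nat_lit 359), (nat_lit 1)), ((nat_lit 364), (nat_lit 1)), ((nat_lit 383), (nat_lit 1)), ((nat_lit 385), (nat_lit 1)), ((nat_lit 393), (nat_lit 1)), ((nat_lit 401), (nat_lit 1)), ((nat_lit 414), (nat_lit 1)), ((nat_lit 416), (nat_lit 1)), ((nat_lit 427), (nat_lit 1)), ((nat_lit 437), (nat_lit 1)), ((nat_lit 459), (nat_lit 1)), ((nat_lit 490), (nat_lit 1)), ((nat_lit 499), (nat_lit 1)), ((nat_lit 501), (nat_lit 1)), ((nat_lit 502), (nat_lit 1)), ((nat_lit 504), (nat_lit 1)), ((nat_lit 511), (nat_lit 1)), ((nat_lit 519),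 (nat_lit 1)), ((nat_lit 520), (nat_lit 1)), ((nat_lit 521), (nat_lit 1)), ((nat_lit 522), (nat_lit 1)), ((nat_lit 525), (nat_lit 1)), ((nat_lit 526), (nat_lit 1))]⟩,
  ⟨false, (nat_lit 0), [nat_lit 11], [nat_lit 4, nat_lit 0], [((nat_lit 324), (nat_lit 1)), ((nat_lit 338), (nat_lit 1)), ((nat_lit 345), (nat_lit 1)), ((nat_lit 380), (nat_lit 1)), ((nat_lit 387), (nat_lit 1)), ((nat_lit 447), (nat_lit 1)), ((nat_lit 450), (nat_lit 1)), ((nat_lit 455), (nat_lit 1)), ((nat_lit 460), (nat_lit 1)), ((nat_lit 464), (nat_lit 1)), ((nat_lit 468), (nat_lit 1)), ((nat_lit 476), (nat_lit 1)), ((nat_lit 478), (nat_lit 1)), ((nat_lit 481), (nat_lit 1)), ((nat_lit 502), (nat_lit 1)), ((nat_lit 510), (nat_lit 1)), ((nat_lit 525), (nat_lit 1)), ((nat_lit 526), (nat_lit 1))]⟩,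
  ⟨false, (nat_lit 0), [nat_lit 10], [nat_lit 6, nat_lit 4], [((nat_lit 344), (nat_lit 1)), ((nat_lit 348), (nat_lit 1)), ((nat_lit 405), (nat_lit 1)), ((nat_lit 407), (nat_lit 1)), ((nat_lit 413), (nat_lit 1)), ((nat_lit 468), (nat_lit 1)), ((nat_lit 474), (nat_lit 1)), ((nat_lit 476), (nat_lit 1)), ((nat_lit 479), (nat_lit 1)), ((nat_lit 491), (nat_lit 1)), ((nat_lit 495), (nat_lit 1)), ((nat_lit 500), (nat_lit 1)), ((nat_lit 503), (nat_lit 1)), ((nat_lit 512), (nat_lit 1)), ((nat_lit 521), (nat_lit 1)), ((nat_lit 524), (nat_lit 1))]⟩,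
  ⟨false, (nat_lit 0), [nat_lit 6], [nat_lit 0, nat_lit 0], [((nat_lit 275), (nat_lit 1)), ((nat_lit 284), (nat_lit 1)), ((nat_lit 338), (nat_lit 1)), ((nat_lit 344), (nat_lit 1)), ((nat_lit 347), (nat_lit 1)), ((nat_lit 350), (nat_lit 1)), ((nat_lit 401), (nat_lit 1)), ((nat_lit 410), (nat_lit 1)), ((nat_lit 413), (nat_lit 1)), ((nat_lit 416), (nat_lit 1)), ((nat_lit 428), (nat_lit 1)), ((nat_lit 443), (nat_lit 1)), ((nat_lit 452), (nat_lit 1)), ((nat_lit 485), (nat_lit 1)), ((nat_lit 491), (nat_lit 1)), ((nat_lit 494), (nat_lit 1)), ((nat_lit 502), (nat_lit 1)), ((nat_lit 506), (nat_lit 1)), ((nat_lit 515), (nat_lit 1)), ((nat_lit 518), (nat_lit 1)), ((nat_lit 521), (nat_lit 1)), ((nat_lit 523), (nat_lit 1)), ((nat_lit 526), (nat_lit 1))]⟩,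
  ⟨false, (nat_lit 0), [nat_lit 3], [nat_lit 0, nat_lit 0], [((nat_lit 191), (nat_lit 1)), ((nat_lit 196), (nat_lit 1)), ((nat_lit 341), (nat_lit 1)), ((nat_lit 425), (nat_lit 1)), ((nat_lit 434), (nat_lit 1)), ((nat_lit 438), (nat_lit 1)), ((nat_lit 455), (nat_lit 1)), ((nat_lit 459), (nat_lit 1)), ((nat_lit 460), (nat_lit 1)), ((nat_lit 481), (nat_lit 1)), ((nat_lit 482), (nat_lit 1)), ((nat_lit 488), (nat_lit 1)), ((nat_lit 490), (nat_lit 1)), ((nat_lit 497), (nat_lit 1)), ((nat_lit 501), (nat_lit 1)), ((nat_lit 522), (nat_lit 1)), ((nat_lit 524), (nat_lit 1)), ((nat_lit 525), (nat_lit 1)), ((nat_lit 526), (nat_lit 1))]⟩,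
  ⟨false, (nat_lit 0), [nat_lit 8], [nat_lit 8, nat_lit 3], [((nat_lit 304), (nat_lit 1)), ((nat_lit 306), (nat_lit 1)), ((nat_lit 362), (nat_lit 1)), ((nat_lit 411), (nat_lit 1)), ((nat_lit 446), (nat_lit 1)), ((nat_lit 458), (nat_lit 1)), ((nat_lit 467), (nat_lit 1)), ((nat_lit 477), (nat_lit 1)), ((nat_lit 493), (nat_lit 1)), ((nat_lit 502), (nat_lit 1)), ((nat_lit 503), (nat_lit 1)), ((nat_lit 504), (nat_lit 1)), ((nat_lit 509), (nat_lit 1)), ((nat_lit 514), (nat_lit 1)), ((nat_lit 519), (nat_lit 1)), ((nat_lit 524), (nat_lit 1)), ((nat_lit 525), (nat_lit 1)), ((nat_lit 526), (nat_lit 1))]⟩,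
  ⟨false, (nat_lit 0), [nat_lit 8], [nat_lit 8, nat_lit 7], [((nat_lit 346), (nat_lit 1)), ((nat_lit 350), (nat_lit 1)), ((nat_lit 366), (nat_lit 1)), ((nat_lit 388), (nat_lit 1)), ((nat_lit 392), (nat_lit 1)), ((nat_lit 394), (nat_lit 1)), ((nat_lit 450), (nat_lit 1)), ((nat_lit 451), (nat_lit 1)), ((nat_lit 460), (nat_lit 1)), ((nat_lit 471), (nat_lit 1)), ((nat_lit 478), (nat_lit 1)), ((nat_lit 482), (nat_lit 1)), ((nat_lit 513), (nat_lit 1)), ((nat_lit 514), (nat_lit 1)), ((nat_lit 520), (nat_lit 1)), ((nat_lit 523), (nat_lit 1)), ((nat_lit 524), (nat_lit 1))]⟩,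
  ⟨false, (nat_lit 0), [nat_lit 10], [nat_lit 1, nat_lit 1], [((nat_lit 305), (nat_lit 1)), ((nat_lit 327), (nat_lit 1)), ((nat_lit 339), (nat_lit 1)), ((nat_lit 350), (nat_lit 1)), ((nat_lit 360), (nat_lit 1)), ((nat_lit 369), (nat_lit 1)), ((nat_lit 371), (nat_lit 1)), ((nat_lit 372), (nat_lit 1)), ((nat_lit 423), (nat_lit 1)), ((nat_lit 434), (nat_lit 1)), ((nat_lit 435), (nat_lit 1)), ((nat_lit 438), (nat_lit 1)), ((nat_lit 456), (nat_lit 1)), ((nat_lit 460), (nat_lit 1)), ((nat_lit 465), (nat_lit 1)), ((nat_lit 475), (nat_lit 1)), ((nat_lit 476), (nat_lit 1)), ((nat_lit 477), (nat_lit 1)), ((nat_lit 480), (nat_lit 1)), ((nat_lit 482), (nat_lit 1)), ((nat_lit 486), (nat_lit 1)), ((nat_lit 497), (nat_lit 1)), ((nat_lit 501), (nat_lit 1)), ((nat_lit 502), (nat_lit 1)), ((nat_lit 503), (nat_lit 1)), ((nat_lit 507), (nat_lit 1)), ((nat_lit 518), (nat_lit 1)), ((nat_lit 519), (nat_lit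 1)), ((nat_lit 522), (nat_lit 1)), ((nat_lit 523), (nat_lit 1))]⟩,
  ⟨false, (nat_lit 0), [nat_lit 8], [nat_lit 8, nat_lit 4], [((nat_lit 283), (nat_lit 1)), ((nat_lit 284), (nat_lit 1)), ((nat_lit 346), (nat_lit 1)), ((nat_lit 347), (nat_lit 1)), ((nat_lit 350), (nat_lit 1)), ((nat_lit 363), (nat_lit 1)), ((nat_lit 430), (nat_lit 1)), ((nat_lit 431), (nat_lit 1)), ((nat_lit 434), (nat_lit 1)), ((nat_lit 438), (nat_lit 1)), ((nat_lit 447), (nat_lit 1)), ((nat_lit 468), (nat_lit 1)), ((nat_lit 472), (nat_lit 1)), ((nat_lit 480), (nat_lit 1)), ((nat_lit 481), (nat_lit 1)), ((nat_lit 482), (nat_lit 1)), ((nat_lit 497), (nat_lit 1)), ((nat_lit 501), (nat_lit 1)), ((nat_lit 503), (nat_lit 1)), ((nat_lit 504), (nat_lit 1)), ((nat_lit 510), (nat_lit 1)), ((nat_lit 515), (nat_lit 1)), ((nat_lit 522), (nat_lit 1)), ((nat_lit 526), (nat_lit 1))]⟩,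
  ⟨false, (nat_lit 0), [nat_lit 10], [nat_lit 5, nat_lit 2], [((nat_lit 305), (nat_lit 1)), ((nat_lit 348), (nat_lit 1)), ((nat_lit 385), (nat_lit 1)), ((nat_lit 389), (nat_lit 1)), ((nat_lit 392), (nat_lit 1)), ((nat_lit 403), (nat_lit 1)), ((nat_lit 410), (nat_lit 1)), ((nat_lit 413), (nat_lit 1)), ((nat_lit 415), (nat_lit 1)), ((nat_lit 452), (nat_lit 1)), ((nat_lit 455), (nat_lit 1)), ((nat_lit 474), (nat_lit 1)), ((nat_lit 476), (nat_lit 1)), ((nat_lit 490), (nat_lit 1)), ((nat_lit 494), (nat_lit 1)), ((nat_lit 503), (nat_lit 1)), ((nat_lit 508), (nat_lit 1)), ((nat_lit 516), (nat_lit 1)), ((nat_lit 520), (nat_lit 1)), ((nat_lit 523), (nat_lit 1)), ((nat_lit 524), (nat_lit 1))]⟩,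
  ⟨false, (nat_lit 0), [nat_lit 10], [nat_lit 2, nat_lit 0], [((nat_lit 305), (nat_lit 1)), ((nat_lit 380), (nat_lit 1)), ((nat_lit 382), (nat_lit 1)), ((nat_lit 390), (nat_lit 1)), ((nat_lit 411), (nat_lit 1)), ((nat_lit 453), (nat_lit 1)), ((nat_lit 473), (nat_lit 1)), ((nat_lit 482), (nat_lit 1)), ((nat_lit 485), (nat_lit 1)), ((nat_lit 499), (nat_lit 1)), ((nat_lit 500), (nat_lit 1)), ((nat_lit 502), (nat_lit 1)), ((nat_lit 503), (nat_lit 1)), ((nat_lit 515), (nat_lit 1)), ((nat_lit 516), (nat_lit 1)), ((nat_lit 521), (nat_lit 1)), ((nat_lit 523), (nat_lit 1)), ((nat_lit 524), (nat_lit 1)), ((nat_lit 525), (nat_lit 1)), ((nat_lit 526), (nat_lit 1))]⟩,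
  ⟨false, (nat_lit 0), [nat_lit 6], [nat_lit 6, nat_lit 3], [((nat_lit 281), (nat_lit 1)), ((nat_lit 284), (nat_lit 1)), ((nat_lit 341), (nat_lit 1)), ((nat_lit 365), (nat_lit 1)), ((nat_lit 368), (nat_lit 1)), ((nat_lit 372), (nat_lit 1)), ((nat_lit 428), (nat_lit 1)), ((nat_lit 431), (nat_lit 1)), ((nat_lit 435), (nat_lit 1)), ((nat_lit 438), (nat_lit 1)), ((nat_lit 449), (nat_lit 1)), ((nat_lit 452), (nat_lit 1)), ((nat_lit 456), (nat_lit 1)), ((nat_lit 459), (nat_lit 1)), ((nat_lit 460), (nat_lit 1)), ((nat_lit 470), (nat_lit 1)), ((nat_lit 480), (nat_lit 1)), ((nat_lit 481), (nat_lit 1)), ((nat_lit 482), (nat_lit 1)), ((nat_lit 488), (nat_lit 1)), ((nat_lit 491), (nat_lit 1)), ((nat_lit 502), (nat_lit 1)), ((nat_lit 504), (nat_lit 1)), ((nat_lit 512), (nat_lit 1)), ((nat_lit 515), (nat_lit 1)), ((nat_lit 522), (nat_lit 1)), ((nat_lit 523), (nat_lit 1)), ((nat_lit 525), (nat_lit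 1))]⟩,
  ⟨false, (nat_lit 0), [nat_lit 8], [nat_lit 8, nat_lit 1], [((nat_lit 346), (nat_lit 1)), ((nat_lit 350), (nat_lit 1)), ((nat_lit 360), (nat_lit 1)), ((nat_lit 388), (nat_lit 1)), ((nat_lit 392), (nat_lit 1)), ((nat_lit 394), (nat_lit 1)), ((nat_lit 444), (nat_lit 1)), ((nat_lit 451), (nat_lit 1)), ((nat_lit 460), (nat_lit 1)), ((nat_lit 465), (nat_lit 1)), ((nat_lit 472), (nat_lit 1)), ((nat_lit 476), (nat_lit 1)), ((nat_lit 481), (nat_lit 1)), ((nat_lit 493), (nat_lit 1)), ((nat_lit 497), (nat_lit 1)), ((nat_lit 499), (nat_lit 1)), ((nat_lit 503), (nat_lit 1)), ((nat_lit 507), (nat_lit 1)), ((nat_lit 518), (nat_lit 1)), ((nat_lit 524), (nat_lit 1)), ((nat_lit 525), (nat_lit 1)), ((nat_lit 526), (nat_lit 1))]⟩,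
  ⟨false, (nat_lit 0), [nat_lit 1], [nat_lit 1, nat_lit 0], [((nat_lit 275), (nat_lit 1)), ((nat_lit 317), (nat_lit 1)), ((nat_lit 359), (nat_lit 1)), ((nat_lit 381), (nat_lit 1)), ((nat_lit 394), (nat_lit 1)), ((nat_lit 402), (nat_lit 1)), ((nat_lit 415), (nat_lit 1)), ((nat_lit 416), (nat_lit 1)), ((nat_lit 436), (nat_lit 1)), ((nat_lit 444), (nat_lit 1)), ((nat_lit 454), (nat_lit 1)), ((nat_lit 457), (nat_lit 1)), ((nat_lit 458), (nat_lit 1)), ((nat_lit 465), (nat_lit 1)), ((nat_lit 477), (nat_lit 1)), ((nat_lit 480), (nat_lit 1)), ((nat_lit 481), (nat_lit 1)), ((nat_lit 482), (nat_lit 1)), ((nat_lit 496), (nat_lit 1)), ((nat_lit 498), (nat_lit 1)), ((nat_lit 499), (nat_lit 1)), ((nat_lit 500), (nat_lit 1)), ((nat_lit 501), (nat_lit 1)), ((nat_lit 503), (nat_lit 1)), ((nat_lit 507), (nat_lit 1)), ((nat_lit 519), (nat_lit 1)), ((nat_lit 520), (nat_lit 1))]⟩,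
  ⟨false, (nat_lit 0), [nat_lit 5], [nat_lit 3, nat_lit 1], [((nat_lit 217), (nat_lit 1)), ((nat_lit 278), (nat_lit 1)), ((nat_lit 281), (nat_lit 1)), ((nat_lit 344), (nat_lit 1)), ((nat_lit 347), (nat_lit 1)), ((nat_lit 381), (nat_lit 1)), ((nat_lit 386), (nat_lit 1)), ((nat_lit 389), (nat_lit 1)), ((nat_lit 392), (nat_lit 1)), ((nat_lit 431), (nat_lit 1)), ((nat_lit 436), (nat_lit 1)), ((nat_lit 438), (nat_lit 1)), ((nat_lit 444), (nat_lit 1)), ((nat_lit 449), (nat_lit 1)), ((nat_lit 455), (nat_lit 1)), ((nat_lit 457), (nat_lit 1)), ((nat_lit 459), (nat_lit 1)), ((nat_lit 473), (nat_lit 1)), ((nat_lit 478), (nat_lit 1)), ((nat_lit 480), (nat_lit 1)), ((nat_lit 486), (nat_lit 1)), ((nat_lit 494), (nat_lit 1)), ((nat_lit 502), (nat_lit 1)), ((nat_lit 507), (nat_lit 1)), ((nat_lit 512), (nat_lit 1)), ((nat_lit 522), (nat_lit 1)), ((nat_lit 523), (nat_lit 1)), ((nat_lit 524), (nat_lit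 1))]⟩,
  ⟨false, (nat_lit 0), [nat_lit 5], [nat_lit 4, nat_lit 0], [((nat_lit 238), (nat_lit 1)), ((nat_lit 359), (nat_lit 1)), ((nat_lit 366), (nat_lit 1)), ((nat_lit 380), (nat_lit 1)), ((nat_lit 387), (nat_lit 1)), ((nat_lit 426), (nat_lit 1)), ((nat_lit 429), (nat_lit 1)), ((nat_lit 436), (nat_lit 1)), ((nat_lit 438), (nat_lit 1)), ((nat_lit 443), (nat_lit 1)), ((nat_lit 456), (nat_lit 1)), ((nat_lit 459), (nat_lit 1)), ((nat_lit 460), (nat_lit 1)), ((nat_lit 468), (nat_lit 1)), ((nat_lit 471), (nat_lit 1)), ((nat_lit 477), (nat_lit 1)), ((nat_lit 478), (nat_lit 1)), ((nat_lit 480), (nat_lit 1)), ((nat_lit 481), (nat_lit 1)), ((nat_lit 492), (nat_lit 1)), ((nat_lit 501), (nat_lit 1)), ((nat_lit 504), (nat_lit 1)), ((nat_lit 506), (nat_lit 1)), ((nat_lit 510), (nat_lit 1)), ((nat_lit 513), (nat_lit 1)), ((nat_lit 520), (nat_lit 1)), ((nat_lit 523), (nat_lit 1)), ((nat_lit 525),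 (nat_lit 1)), ((nat_lit 526), (nat_lit 1))]⟩,
  ⟨false, (nat_lit 0), [nat_lit 11], [nat_lit 4, nat_lit 1], [((nat_lit 325), (nat_lit 1)), ((nat_lit 339), (nat_lit 1)), ((nat_lit 346), (nat_lit 1)), ((nat_lit 381), (nat_lit 1)), ((nat_lit 388), (nat_lit 1)), ((nat_lit 426), (nat_lit 1)), ((nat_lit 430), (nat_lit 1)), ((nat_lit 451), (nat_lit 1)), ((nat_lit 455), (nat_lit 1)), ((nat_lit 459), (nat_lit 1)), ((nat_lit 460), (nat_lit 1)), ((nat_lit 465), (nat_lit 1)), ((nat_lit 472), (nat_lit 1)), ((nat_lit 478), (nat_lit 1)), ((nat_lit 480), (nat_lit 1)), ((nat_lit 482), (nat_lit 1)), ((nat_lit 489), (nat_lit 1)), ((nat_lit 499), (nat_lit 1)), ((nat_lit 501), (nat_lit 1)), ((nat_lit 504), (nat_lit 1)), ((nat_lit 514), (nat_lit 1)), ((nat_lit 522), (nat_lit 1)), ((nat_lit 524), (nat_lit 1)), ((nat_lit 526), (nat_lit 1))]⟩,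
  ⟨false, (nat_lit 0), [nat_lit 10], [nat_lit 4, nat_lit 0], [((nat_lit 303), (nat_lit 1)), ((nat_lit 338), (nat_lit 1)), ((nat_lit 345), (nat_lit 1)), ((nat_lit 384), (nat_lit 1)), ((nat_lit 387), (nat_lit 1)), ((nat_lit 392), (nat_lit 1)), ((nat_lit 401), (nat_lit 1)), ((nat_lit 413), (nat_lit 1)), ((nat_lit 416), (nat_lit 1)), ((nat_lit 429), (nat_lit 1)), ((nat_lit 434), (nat_lit 1)), ((nat_lit 436), (nat_lit 1)), ((nat_lit 438), (nat_lit 1)), ((nat_lit 450), (nat_lit 1)), ((nat_lit 457), (nat_lit 1)), ((nat_lit 460), (nat_lit 1)), ((nat_lit 471), (nat_lit 1)), ((nat_lit 476), (nat_lit 1)), ((nat_lit 478), (nat_lit 1)), ((nat_lit 480), (nat_lit 1)), ((nat_lit 481), (nat_lit 1)), ((nat_lit 482), (nat_lit 1)), ((nat_lit 485), (nat_lit 1)), ((nat_lit 499), (nat_lit 1)), ((nat_lit 500), (nat_lit 1)), ((nat_lit 504), (nat_lit 1)), ((nat_lit 506), (nat_lit 1)), ((nat_lit 513), (nat_lit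 1)), ((nat_lit 520), (nat_lit 1)), ((nat_lit 521), (nat_lit 1)), ((nat_lit 525), (nat_lit 1)), ((nat_lit 526), (nat_lit 1))]⟩,
  ⟨false, (nat_lit 0), [nat_lit 9], [nat_lit 4, nat_lit 3], [((nat_lit 305), (nat_lit 1)), ((nat_lit 342), (nat_lit 1)), ((nat_lit 348), (nat_lit 1)), ((nat_lit 362), (nat_lit 1)), ((nat_lit 368), (nat_lit 1)), ((nat_lit 369), (nat_lit 1)), ((nat_lit 389), (nat_lit 1)), ((nat_lit 392), (nat_lit 1)), ((nat_lit 393), (nat_lit 1)), ((nat_lit 411), (nat_lit 1)), ((nat_lit 414), (nat_lit 1)), ((nat_lit 415), (nat_lit 1)), ((nat_lit 431), (nat_lit 1)), ((nat_lit 434), (nat_lit 1)), ((nat_lit 435), (nat_lit 1)), ((nat_lit 437), (nat_lit 1)), ((nat_lit 452), (nat_lit 1)), ((nat_lit 455), (nat_lit 1)), ((nat_lit 456), (nat_lit 1)), ((nat_lit 458), (nat_lit 1)), ((nat_lit 476), (nat_lit 1)), ((nat_lit 478), (nat_lit 1)), ((nat_lit 479), (nat_lit 1)), ((nat_lit 480),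 (nat_lit 1)), ((nat_lit 481), (nat_lit 1)), ((nat_lit 482), (nat_lit 1)), ((nat_lit 497), (nat_lit 1)), ((nat_lit 498), (nat_lit 1)), ((nat_lit 500), (nat_lit 1)), ((nat_lit 501), (nat_lit 1)), ((nat_lit 502), (nat_lit 1)), ((nat_lit 503), (nat_lit 1)), ((nat_lit 504), (nat_lit 1)), ((nat_lit 515), (nat_lit 1)), ((nat_lit 518), (nat_lit 1)), ((nat_lit 522), (nat_lit 1)), ((nat_lit 523), (nat_lit 1)), ((nat_lit 524), (nat_lit 1)), ((nat_lit 525), (nat_lit 1))]⟩,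
  ⟨false, (nat_lit 0), [nat_lit 10], [nat_lit 3, nat_lit 1], [((nat_lit 302), (nat_lit 1)), ((nat_lit 341), (nat_lit 1)), ((nat_lit 344), (nat_lit 1)), ((nat_lit 360), (nat_lit 1)), ((nat_lit 362), (nat_lit 1)), ((nat_lit 371), (nat_lit 1)), ((nat_lit 402), (nat_lit 1)), ((nat_lit 414), (nat_lit 1)), ((nat_lit 416), (nat_lit 1)), ((nat_lit 425), (nat_lit 1)), ((nat_lit 428), (nat_lit 1)), ((nat_lit 435), (nat_lit 1)), ((nat_lit 437), (nat_lit 1)), ((nat_lit 449), (nat_lit 1)), ((nat_lit 458), (nat_lit 1)), ((nat_lit 467), (nat_lit 1)), ((nat_lit 470), (nat_lit 1)), ((nat_lit 476), (nat_lit 1)), ((nat_lit 480), (nat_lit 1)), ((nat_lit 482), (nat_lit 1)), ((nat_lit 488), (nat_lit 1)), ((nat_lit 491), (nat_lit 1)), ((nat_lit 500), (nat_lit 1)), ((nat_lit 504), (nat_lit 1)), ((nat_lit 509), (nat_lit 1)), ((nat_lit 519), (nat_lit 1)), ((nat_lit 522), (nat_lit 1)), ((nat_lit 526), (nat_lit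 1))]⟩,
  ⟨false, (nat_lit 0), [nat_lit 9], [nat_lit 4, nat_lit 2], [((nat_lit 280), (nat_lit 1)), ((nat_lit 282), (nat_lit 1)), ((nat_lit 283), (nat_lit 1)), ((nat_lit 305), (nat_lit 1)), ((nat_lit 361), (nat_lit 1)), ((nat_lit 364), (nat_lit 1)), ((nat_lit 366), (nat_lit 1)), ((nat_lit 367), (nat_lit 1)), ((nat_lit 368), (nat_lit 1)), ((nat_lit 369), (nat_lit 1)), ((nat_lit 430), (nat_lit 1)), ((nat_lit 431), (nat_lit 1)), ((nat_lit 432), (nat_lit 1)), ((nat_lit 435), (nat_lit 1)), ((nat_lit 447), (nat_lit 1)), ((nat_lit 448), (nat_lit 1)), ((nat_lit 450), (nat_lit 1)), ((nat_lit 451), (nat_lit 1)), ((nat_lit 453), (nat_lit 1)), ((nat_lit 456), (nat_lit 1)), ((nat_lit 460), (nat_lit 1)), ((nat_lit 477), (nat_lit 1)), ((nat_lit 480), (nat_lit 1)), ((nat_lit 482), (nat_lit 1)), ((nat_lit 501), (nat_lit 1)), ((nat_lit 513), (nat_lit 1)), ((nat_lit 515), (nat_lit 1)), ((nat_lit 519),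 (nat_lit 1)), ((nat_lit 524), (nat_lit 1)), ((nat_lit 525), (nat_lit 1))]⟩,
  ⟨false, (nat_lit 0), [nat_lit 11], [nat_lit 3, nat_lit 1], [((nat_lit 323), (nat_lit 1)), ((nat_lit 360), (nat_lit 1)), ((nat_lit 365), (nat_lit 1)), ((nat_lit 381), (nat_lit 1)), ((nat_lit 386), (nat_lit 1)), ((nat_lit 423), (nat_lit 1)), ((nat_lit 425), (nat_lit 1)), ((nat_lit 449), (nat_lit 1)), ((nat_lit 456), (nat_lit 1)), ((nat_lit 460), (nat_lit 1)), ((nat_lit 465), (nat_lit 1)), ((nat_lit 470), (nat_lit 1)), ((nat_lit 478), (nat_lit 1)), ((nat_lit 480), (nat_lit 1)), ((nat_lit 482), (nat_lit 1)), ((nat_lit 488), (nat_lit 1)), ((nat_lit 491), (nat_lit 1)), ((nat_lit 499), (nat_lit 1)), ((nat_lit 502), (nat_lit 1)), ((nat_lit 503), (nat_lit 1)), ((nat_lit 507), (nat_lit 1)), ((nat_lit 519), (nat_lit 1)), ((nat_lit 520), (nat_lit 1)), ((nat_lit 524), (nat_lit 1)), ((nat_lit 525), (nat_lit 1))]⟩,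
  ⟨false, (nat_lit 0), [nat_lit 5], [nat_lit 4, nat_lit 1], [((nat_lit 259), (nat_lit 1)), ((nat_lit 279), (nat_lit 1)), ((nat_lit 283), (nat_lit 1)), ((nat_lit 360), (nat_lit 1)), ((nat_lit 381), (nat_lit 1)), ((nat_lit 388), (nat_lit 1)), ((nat_lit 389), (nat_lit 1)), ((nat_lit 393), (nat_lit 1)), ((nat_lit 431), (nat_lit 1)), ((nat_lit 435), (nat_lit 1)), ((nat_lit 436), (nat_lit 1)), ((nat_lit 438), (nat_lit 1)), ((nat_lit 444), (nat_lit 1)), ((nat_lit 451), (nat_lit 1)), ((nat_lit 452), (nat_lit 1)), ((nat_lit 456), (nat_lit 1)), ((nat_lit 457), (nat_lit 1)), ((nat_lit 459), (nat_lit 1)), ((nat_lit 473), (nat_lit 1)), ((nat_lit 477), (nat_lit 1)), ((nat_lit 478), (nat_lit 1)), ((nat_lit 480), (nat_lit 1)), ((nat_lit 481), (nat_lit 1)), ((nat_lit 493), (nat_lit 1)), ((nat_lit 498), (nat_lit 1)), ((nat_lit 501), (nat_lit 1)), ((nat_lit 503), (nat_lit 1)), ((nat_lit 507), (nat_lit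 1)), ((nat_lit 515), (nat_lit 1)), ((nat_lit 519), (nat_lit 1)), ((nat_lit 522), (nat_lit 1)), ((nat_lit 524), (nat_lit 1)), ((nat_lit 526), (nat_lit 1))]⟩,
  ⟨false, (nat_lit 0), [nat_lit 8], [nat_lit 5, nat_lit 3], [((nat_lit 301), (nat_lit 1)), ((nat_lit 362), (nat_lit 1)), ((nat_lit 369), (nat_lit 1)), ((nat_lit 388), (nat_lit 1)), ((nat_lit 390), (nat_lit 1)), ((nat_lit 393), (nat_lit 1)), ((nat_lit 415), (nat_lit 1)), ((nat_lit 425), (nat_lit 1)), ((nat_lit 432), (nat_lit 1)), ((nat_lit 436), (nat_lit 1)), ((nat_lit 437), (nat_lit 1)), ((nat_lit 451), (nat_lit 1)), ((nat_lit 460), (nat_lit 1)), ((nat_lit 467), (nat_lit 1)), ((nat_lit 477), (nat_lit 1)), ((nat_lit 478), (nat_lit 1)), ((nat_lit 482), (nat_lit 1)), ((nat_lit 490), (nat_lit 1)), ((nat_lit 493), (nat_lit 1)), ((nat_lit 495), (nat_lit 1)), ((nat_lit 498), (nat_lit 1)), ((nat_lit 499), (nat_lit 1)), ((nat_lit 500),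 (nat_lit 1)), ((nat_lit 502), (nat_lit 1)), ((nat_lit 504), (nat_lit 1)), ((nat_lit 511), (nat_lit 1)), ((nat_lit 514), (nat_lit 1)), ((nat_lit 516), (nat_lit 1)), ((nat_lit 519), (nat_lit 1)), ((nat_lit 525), (nat_lit 1))]⟩,
  ⟨false, (nat_lit 0), [nat_lit 7], [nat_lit 1, nat_lit 0], [((nat_lit 317), (nat_lit 1)), ((nat_lit 387), (nat_lit 1)), ((nat_lit 391), (nat_lit 1)), ((nat_lit 402), (nat_lit 1)), ((nat_lit 408), (nat_lit 1)), ((nat_lit 415), (nat_lit 1)), ((nat_lit 423), (nat_lit 1)), ((nat_lit 433), (nat_lit 1)), ((nat_lit 436), (nat_lit 1)), ((nat_lit 437), (nat_lit 1)), ((nat_lit 450), (nat_lit 1)), ((nat_lit 458), (nat_lit 1)), ((nat_lit 460), (nat_lit 1)), ((nat_lit 471), (nat_lit 1)), ((nat_lit 475), (nat_lit 1)), ((nat_lit 478), (nat_lit 1)), ((nat_lit 486), (nat_lit 1)), ((nat_lit 499), (nat_lit 1)), ((nat_lit 500), (nat_lit 1)), ((nat_lit 502), (nat_lit 1)), ((nat_lit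 504), (nat_lit 1)), ((nat_lit 513), (nat_lit 1)), ((nat_lit 517), (nat_lit 1)), ((nat_lit 520), (nat_lit 1)), ((nat_lit 521), (nat_lit 1)), ((nat_lit 522), (nat_lit 1)), ((nat_lit 523), (nat_lit 1)), ((nat_lit 524), (nat_lit 1)), ((nat_lit 526), (nat_lit 1))]⟩,
  ⟨false, (nat_lit 0), [nat_lit 2], [nat_lit 1, nat_lit 1], [((nat_lit 277), (nat_lit 1)), ((nat_lit 318), (nat_lit 1)), ((nat_lit 319), (nat_lit 1)), ((nat_lit 328), (nat_lit 1)), ((nat_lit 361), (nat_lit 1)), ((nat_lit 402), (nat_lit 1)), ((nat_lit 412), (nat_lit 1)), ((nat_lit 416), (nat_lit 1)), ((nat_lit 423), (nat_lit 1)), ((nat_lit 433), (nat_lit 1)), ((nat_lit 444), (nat_lit 1)), ((nat_lit 458), (nat_lit 1)), ((nat_lit 465), (nat_lit 1)), ((nat_lit 475), (nat_lit 1)), ((nat_lit 479), (nat_lit 1)), ((nat_lit 486), (nat_lit 1)), ((nat_lit 496), (nat_lit 1)), ((nat_lit 501), (nat_lit 1)), ((nat_lit 503), (nat_lit 1)),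 ((nat_lit 519), (nat_lit 1)), ((nat_lit 521), (nat_lit 1)), ((nat_lit 523), (nat_lit 1)), ((nat_lit 524), (nat_lit 1))]⟩,
  ⟨false, (nat_lit 0), [nat_lit 7], [nat_lit 4, nat_lit 1], [((nat_lit 261), (nat_lit 1)), ((nat_lit 321), (nat_lit 1)), ((nat_lit 325), (nat_lit 1)), ((nat_lit 346), (nat_lit 1)), ((nat_lit 349), (nat_lit 1)), ((nat_lit 381), (nat_lit 1)), ((nat_lit 392), (nat_lit 1)), ((nat_lit 423), (nat_lit 1)), ((nat_lit 430), (nat_lit 1)), ((nat_lit 433), (nat_lit 1)), ((nat_lit 436), (nat_lit 1)), ((nat_lit 444), (nat_lit 1)), ((nat_lit 451), (nat_lit 1)), ((nat_lit 459), (nat_lit 1)), ((nat_lit 472), (nat_lit 1)), ((nat_lit 480), (nat_lit 1)), ((nat_lit 481), (nat_lit 1)), ((nat_lit 482), (nat_lit 1)), ((nat_lit 493), (nat_lit 1)), ((nat_lit 502), (nat_lit 1)), ((nat_lit 514), (nat_lit 1)), ((nat_lit 517), (nat_lit 1)), ((nat_lit 520), (nat_lit 1)), ((nat_lit 522), (nat_lit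 1)), ((nat_lit 525), (nat_lit 1))]⟩,
  ⟨false, (nat_lit 0), [nat_lit 7], [nat_lit 3, nat_lit 1], [((nat_lit 239), (nat_lit 1)), ((nat_lit 320), (nat_lit 1)), ((nat_lit 323), (nat_lit 1)), ((nat_lit 360), (nat_lit 1)), ((nat_lit 372), (nat_lit 1)), ((nat_lit 386), (nat_lit 1)), ((nat_lit 391), (nat_lit 1)), ((nat_lit 394), (nat_lit 1)), ((nat_lit 423), (nat_lit 1)), ((nat_lit 433), (nat_lit 1)), ((nat_lit 435), (nat_lit 1)), ((nat_lit 438), (nat_lit 1)), ((nat_lit 444), (nat_lit 1)), ((nat_lit 449), (nat_lit 1)), ((nat_lit 456), (nat_lit 1)), ((nat_lit 457), (nat_lit 1)), ((nat_lit 459), (nat_lit 1)), ((nat_lit 460), (nat_lit 1)), ((nat_lit 465), (nat_lit 1)), ((nat_lit 475), (nat_lit 1)), ((nat_lit 477), (nat_lit 1)), ((nat_lit 478), (nat_lit 1)), ((nat_lit 480), (nat_lit 1)), ((nat_lit 481), (nat_lit 1)), ((nat_lit 482), (nat_lit 1)), ((nat_lit 486), (nat_lit 1)), ((nat_lit 496),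 (nat_lit 1)), ((nat_lit 504), (nat_lit 1)), ((nat_lit 507), (nat_lit 1)), ((nat_lit 519), (nat_lit 1)), ((nat_lit 520), (nat_lit 1)), ((nat_lit 525), (nat_lit 1)), ((nat_lit 526), (nat_lit 1))]⟩,
  ⟨false, (nat_lit 0), [nat_lit 3], [nat_lit 3, nat_lit 3], [((nat_lit 194), (nat_lit 1)), ((nat_lit 299), (nat_lit 1)), ((nat_lit 320), (nat_lit 1)), ((nat_lit 341), (nat_lit 1)), ((nat_lit 370), (nat_lit 1)), ((nat_lit 372), (nat_lit 1)), ((nat_lit 383), (nat_lit 1)), ((nat_lit 390), (nat_lit 1)), ((nat_lit 391), (nat_lit 1)), ((nat_lit 394), (nat_lit 1)), ((nat_lit 412), (nat_lit 1)), ((nat_lit 413), (nat_lit 1)), ((nat_lit 414), (nat_lit 1)), ((nat_lit 416), (nat_lit 1)), ((nat_lit 425), (nat_lit 1)), ((nat_lit 434), (nat_lit 1)), ((nat_lit 436), (nat_lit 1)), ((nat_lit 437), (nat_lit 1)), ((nat_lit 438), (nat_lit 1)), ((nat_lit 453), (nat_lit 1)), ((nat_lit 454), (nat_lit 1)), ((nat_lit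 455), (nat_lit 1)), ((nat_lit 459), (nat_lit 1)), ((nat_lit 460), (nat_lit 1)), ((nat_lit 467), (nat_lit 1)), ((nat_lit 476), (nat_lit 1)), ((nat_lit 482), (nat_lit 1)), ((nat_lit 488), (nat_lit 1)), ((nat_lit 495), (nat_lit 1)), ((nat_lit 500), (nat_lit 1)), ((nat_lit 501), (nat_lit 1)), ((nat_lit 502), (nat_lit 1)), ((nat_lit 504), (nat_lit 1)), ((nat_lit 509), (nat_lit 1)), ((nat_lit 516), (nat_lit 1)), ((nat_lit 517), (nat_lit 1)), ((nat_lit 518), (nat_lit 1)), ((nat_lit 522), (nat_lit 1)), ((nat_lit 523), (nat_lit 1)), ((nat_lit 525), (nat_lit 1)), ((nat_lit 526), (nat_lit 1))]⟩,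
  ⟨false, (nat_lit 0), [nat_lit 4], [nat_lit 1, nat_lit 0], [((nat_lit 234), (nat_lit 1)), ((nat_lit 254), (nat_lit 1)), ((nat_lit 261), (nat_lit 1)), ((nat_lit 349), (nat_lit 1)), ((nat_lit 384), (nat_lit 1)), ((nat_lit 387), (nat_lit 1)), ((nat_lit 388), (nat_lit 1)), ((nat_lit 392), (nat_lit 1)), ((nat_lit 405), (nat_lit 1)), ((nat_lit 416), (nat_lit 1)), ((nat_lit 429), (nat_lit 1)), ((nat_lit 430), (nat_lit 1)), ((nat_lit 433), (nat_lit 1)), ((nat_lit 434), (nat_lit 1)), ((nat_lit 436), (nat_lit 1)), ((nat_lit 438), (nat_lit 1)), ((nat_lit 447), (nat_lit 1)), ((nat_lit 451), (nat_lit 1)), ((nat_lit 454), (nat_lit 1)), ((nat_lit 457), (nat_lit 1)), ((nat_lit 460), (nat_lit 1)), ((nat_lit 468), (nat_lit 1)), ((nat_lit 475), (nat_lit 1)), ((nat_lit 476), (nat_lit 1)), ((nat_lit 478), (nat_lit 1)), ((nat_lit 482), (nat_lit 1)), ((nat_lit 492), (nat_lit 1)), ((nat_lit 496), (nat_lit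 1)), ((nat_lit 499), (nat_lit 1)), ((nat_lit 500), (nat_lit 1)), ((nat_lit 504), (nat_lit 1)), ((nat_lit 510), (nat_lit 1)), ((nat_lit 513), (nat_lit 1)), ((nat_lit 518), (nat_lit 1)), ((nat_lit 522), (nat_lit 1)), ((nat_lit 526), (nat_lit 1))]⟩,
  ⟨false, (nat_lit 0), [nat_lit 8], [nat_lit 4, nat_lit 1], [((nat_lit 276), (nat_lit 1)), ((nat_lit 283), (nat_lit 1)), ((nat_lit 339), (nat_lit 1)), ((nat_lit 342), (nat_lit 1)), ((nat_lit 347), (nat_lit 1)), ((nat_lit 384), (nat_lit 1)), ((nat_lit 388), (nat_lit 1)), ((nat_lit 389), (nat_lit 1)), ((nat_lit 392), (nat_lit 1)), ((nat_lit 415), (nat_lit 1)), ((nat_lit 416), (nat_lit 1)), ((nat_lit 423), (nat_lit 1)), ((nat_lit 436), (nat_lit 1)), ((nat_lit 447), (nat_lit 1)), ((nat_lit 452), (nat_lit 1)), ((nat_lit 465), (nat_lit 1)), ((nat_lit 468), (nat_lit 1)), ((nat_lit 472), (nat_lit 1)), ((nat_lit 473), (nat_lit 1)), ((nat_lit 478),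 (nat_lit 1)), ((nat_lit 480), (nat_lit 1)), ((nat_lit 481), (nat_lit 1)), ((nat_lit 482), (nat_lit 1)), ((nat_lit 489), (nat_lit 1)), ((nat_lit 494), (nat_lit 1)), ((nat_lit 499), (nat_lit 1)), ((nat_lit 501), (nat_lit 1)), ((nat_lit 518), (nat_lit 1)), ((nat_lit 520), (nat_lit 1)), ((nat_lit 525), (nat_lit 1))]⟩,
  ⟨false, (nat_lit 0), [nat_lit 3], [nat_lit 1, nat_lit 0], [((nat_lit 192), (nat_lit 1)), ((nat_lit 212), (nat_lit 1)), ((nat_lit 217), (nat_lit 1)), ((nat_lit 347), (nat_lit 1)), ((nat_lit 383), (nat_lit 1)), ((nat_lit 385), (nat_lit 1)), ((nat_lit 386), (nat_lit 1)), ((nat_lit 389), (nat_lit 1)), ((nat_lit 392), (nat_lit 1)), ((nat_lit 404), (nat_lit 1)), ((nat_lit 416), (nat_lit 1)), ((nat_lit 427), (nat_lit 1)), ((nat_lit 428), (nat_lit 1)), ((nat_lit 434), (nat_lit 1)), ((nat_lit 436), (nat_lit 1)), ((nat_lit 437), (nat_lit 1)), ((nat_lit 446), (nat_lit 1)), ((nat_lit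 448), (nat_lit 1)), ((nat_lit 455), (nat_lit 1)), ((nat_lit 457), (nat_lit 1)), ((nat_lit 460), (nat_lit 1)), ((nat_lit 467), (nat_lit 1)), ((nat_lit 469), (nat_lit 1)), ((nat_lit 470), (nat_lit 1)), ((nat_lit 473), (nat_lit 1)), ((nat_lit 478), (nat_lit 1)), ((nat_lit 479), (nat_lit 1)), ((nat_lit 480), (nat_lit 1)), ((nat_lit 481), (nat_lit 1)), ((nat_lit 490), (nat_lit 1)), ((nat_lit 491), (nat_lit 1)), ((nat_lit 497), (nat_lit 1)), ((nat_lit 501), (nat_lit 1)), ((nat_lit 502), (nat_lit 1)), ((nat_lit 509), (nat_lit 1)), ((nat_lit 511), (nat_lit 1)), ((nat_lit 518), (nat_lit 1)), ((nat_lit 520), (nat_lit 1)), ((nat_lit 521), (nat_lit 1)), ((nat_lit 523), (nat_lit 1)), ((nat_lit 526), (nat_lit 1))]⟩,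
  ⟨false, (nat_lit 0), [nat_lit 4], [nat_lit 4, nat_lit 4], [((nat_lit 195), (nat_lit 1)), ((nat_lit 279), (nat_lit 1)), ((nat_lit 300), (nat_lit 1)), ((nat_lit 321), (nat_lit 1)), ((nat_lit 342), (nat_lit 1)), ((nat_lit 349), (nat_lit 1)), ((nat_lit 350), (nat_lit 1)), ((nat_lit 363), (nat_lit 1)), ((nat_lit 368), (nat_lit 1)), ((nat_lit 372), (nat_lit 1)), ((nat_lit 389), (nat_lit 1)), ((nat_lit 390), (nat_lit 1)), ((nat_lit 391), (nat_lit 1)), ((nat_lit 393), (nat_lit 1)), ((nat_lit 394), (nat_lit 1)), ((nat_lit 405), (nat_lit 1)), ((nat_lit 412), (nat_lit 1)), ((nat_lit 415), (nat_lit 1)), ((nat_lit 416), (nat_lit 1)), ((nat_lit 426), (nat_lit 1)), ((nat_lit 447), (nat_lit 1)), ((nat_lit 452), (nat_lit 1)), ((nat_lit 453), (nat_lit 1)), ((nat_lit 454), (nat_lit 1)), ((nat_lit 455), (nat_lit 1)), ((nat_lit 457), (nat_lit 1)), ((nat_lit 458), (nat_lit 1)), ((nat_lit 459), (nat_lit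 1)), ((nat_lit 460), (nat_lit 1)), ((nat_lit 468), (nat_lit 1)), ((nat_lit 476), (nat_lit 1)), ((nat_lit 477), (nat_lit 1)), ((nat_lit 479), (nat_lit 1)), ((nat_lit 482), (nat_lit 1)), ((nat_lit 495), (nat_lit 1)), ((nat_lit 496), (nat_lit 1)), ((nat_lit 501), (nat_lit 1)), ((nat_lit 502), (nat_lit 1)), ((nat_lit 504), (nat_lit 1)), ((nat_lit 515), (nat_lit 1)), ((nat_lit 519), (nat_lit 1)), ((nat_lit 520), (nat_lit 1)), ((nat_lit 522), (nat_lit 1)), ((nat_lit 524), (nat_lit 1))]⟩,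
  ⟨false, (nat_lit 0), [nat_lit 6], [nat_lit 4, nat_lit 0], [((nat_lit 239), (nat_lit 1)), ((nat_lit 279), (nat_lit 1)), ((nat_lit 282), (nat_lit 1)), ((nat_lit 296), (nat_lit 1)), ((nat_lit 303), (nat_lit 1)), ((nat_lit 305), (nat_lit 1)), ((nat_lit 342), (nat_lit 1)), ((nat_lit 345), (nat_lit 1)), ((nat_lit 348), (nat_lit 1)), ((nat_lit 366), (nat_lit 1)), ((nat_lit 368), (nat_lit 1)), ((nat_lit 369), (nat_lit 1)), ((nat_lit 389), (nat_lit 1)), ((nat_lit 390), (nat_lit 1)), ((nat_lit 392), (nat_lit 1)), ((nat_lit 394), (nat_lit 1)), ((nat_lit 405), (nat_lit 1)), ((nat_lit 411), (nat_lit 1)), ((nat_lit 413), (nat_lit 1)), ((nat_lit 414), (nat_lit 1)), ((nat_lit 415), (nat_lit 1)), ((nat_lit 416), (nat_lit 1)), ((nat_lit 432), (nat_lit 1)), ((nat_lit 437), (nat_lit 1)), ((nat_lit 438), (nat_lit 1)), ((nat_lit 447), (nat_lit 1)), ((nat_lit 450), (nat_lit 1)), ((nat_lit 452), (nat_lit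 1)), ((nat_lit 453), (nat_lit 1)), ((nat_lit 459), (nat_lit 1)), ((nat_lit 460), (nat_lit 1)), ((nat_lit 471), (nat_lit 1)), ((nat_lit 482), (nat_lit 1)), ((nat_lit 489), (nat_lit 1)), ((nat_lit 492), (nat_lit 1)), ((nat_lit 497), (nat_lit 1)), ((nat_lit 499), (nat_lit 1)), ((nat_lit 504), (nat_lit 1)), ((nat_lit 510), (nat_lit 1)), ((nat_lit 513), (nat_lit 1)), ((nat_lit 515), (nat_lit 1)), ((nat_lit 520), (nat_lit 1)), ((nat_lit 522), (nat_lit 1)), ((nat_lit 523), (nat_lit 1)), ((nat_lit 524), (nat_lit 1))]⟩,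
  ⟨false, (nat_lit 0), [nat_lit 6], [nat_lit 4, nat_lit 1], [((nat_lit 260), (nat_lit 1)), ((nat_lit 297), (nat_lit 1)), ((nat_lit 304), (nat_lit 1)), ((nat_lit 348), (nat_lit 1)), ((nat_lit 350), (nat_lit 1)), ((nat_lit 363), (nat_lit 1)), ((nat_lit 367), (nat_lit 1)), ((nat_lit 372), (nat_lit 1)), ((nat_lit 384), (nat_lit 1)), ((nat_lit 388), (nat_lit 1)), ((nat_lit 390), (nat_lit 1)), ((nat_lit 392), (nat_lit 1)), ((nat_lit 393), (nat_lit 1)), ((nat_lit 405), (nat_lit 1)), ((nat_lit 411), (nat_lit 1)), ((nat_lit 413), (nat_lit 1)), ((nat_lit 415), (nat_lit 1)), ((nat_lit 416), (nat_lit 1)), ((nat_lit 426), (nat_lit 1)), ((nat_lit 432), (nat_lit 1)), ((nat_lit 434), (nat_lit 1)), ((nat_lit 435), (nat_lit 1)), ((nat_lit 437), (nat_lit 1)), ((nat_lit 453), (nat_lit 1)), ((nat_lit 455), (nat_lit 1)), ((nat_lit 457), (nat_lit 1)), ((nat_lit 459), (nat_lit 1)), ((nat_lit 460), (nat_lit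 1)), ((nat_lit 478), (nat_lit 1)), ((nat_lit 479), (nat_lit 1)), ((nat_lit 480), (nat_lit 1)), ((nat_lit 481), (nat_lit 1)), ((nat_lit 482), (nat_lit 1)), ((nat_lit 489), (nat_lit 1)), ((nat_lit 493), (nat_lit 1)), ((nat_lit 497), (nat_lit 1)), ((nat_lit 498), (nat_lit 1)), ((nat_lit 500), (nat_lit 1)), ((nat_lit 502), (nat_lit 1)), ((nat_lit 510), (nat_lit 1)), ((nat_lit 514), (nat_lit 1)), ((nat_lit 518), (nat_lit 1)), ((nat_lit 520), (nat_lit 1)), ((nat_lit 522), (nat_lit 1)), ((nat_lit 524), (nat_lit 1)), ((nat_lit 525), (nat_lit 1)), ((nat_lit 526), (nat_lit 1))]⟩,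
  ⟨false, (nat_lit 0), [nat_lit 4], [nat_lit 1, nat_lit 1], [((nat_lit 255), (nat_lit 1)), ((nat_lit 262), (nat_lit 1)), ((nat_lit 279), (nat_lit 1)), ((nat_lit 321), (nat_lit 1)), ((nat_lit 350), (nat_lit 1)), ((nat_lit 363), (nat_lit 1)), ((nat_lit 368), (nat_lit 1)), ((nat_lit 371), (nat_lit 1)), ((nat_lit 372), (nat_lit 1)), ((nat_lit 392), (nat_lit 1)), ((nat_lit 393), (nat_lit 1)), ((nat_lit 394), (nat_lit 1)), ((nat_lit 430), (nat_lit 1)), ((nat_lit 438), (nat_lit 1)), ((nat_lit 452), (nat_lit 1)), ((nat_lit 454), (nat_lit 1)), ((nat_lit 460), (nat_lit 1)), ((nat_lit 473), (nat_lit 1)), ((nat_lit 475), (nat_lit 1)), ((nat_lit 477), (nat_lit 1)), ((nat_lit 481), (nat_lit 1)), ((nat_lit 497), (nat_lit 1)), ((nat_lit 498), (nat_lit 1)), ((nat_lit 499), (nat_lit 1)), ((nat_lit 514), (nat_lit 1)), ((nat_lit 515), (nat_lit 1)), ((nat_lit 517), (nat_lit 1)), ((nat_lit 522), (nat_lit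 1)), ((nat_lit 523), (nat_lit 1)), ((nat_lit 524), (nat_lit 1)), ((nat_lit 526), (nat_lit 1))]⟩,
  ⟨false, (nat_lit 0), [nat_lit 6], [nat_lit 4, nat_lit 3], [((nat_lit 279), (nat_lit 1)), ((nat_lit 299), (nat_lit 1)), ((nat_lit 302), (nat_lit 1)), ((nat_lit 363), (nat_lit 1)), ((nat_lit 365), (nat_lit 1)), ((nat_lit 368), (nat_lit 1)), ((nat_lit 386), (nat_lit 1)), ((nat_lit 389), (nat_lit 1)), ((nat_lit 390), (nat_lit 1)), ((nat_lit 410), (nat_lit 1)), ((nat_lit 411), (nat_lit 1)), ((nat_lit 414), (nat_lit 1)), ((nat_lit 415), (nat_lit 1)), ((nat_lit 416), (nat_lit 1)), ((nat_lit 426), (nat_lit 1)), ((nat_lit 428), (nat_lit 1)), ((nat_lit 431), (nat_lit 1)), ((nat_lit 432), (nat_lit 1)), ((nat_lit 436), (nat_lit 1)), ((nat_lit 447), (nat_lit 1)), ((nat_lit 449), (nat_lit 1)), ((nat_lit 453), (nat_lit 1)), ((nat_lit 456), (nat_lit 1)), ((nat_lit 458), (nat_lit 1)), ((nat_lit 459),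 (nat_lit 1)), ((nat_lit 468), (nat_lit 1)), ((nat_lit 473), (nat_lit 1)), ((nat_lit 480), (nat_lit 1)), ((nat_lit 482), (nat_lit 1)), ((nat_lit 489), (nat_lit 1)), ((nat_lit 494), (nat_lit 1)), ((nat_lit 495), (nat_lit 1)), ((nat_lit 501), (nat_lit 1)), ((nat_lit 502), (nat_lit 1)), ((nat_lit 503), (nat_lit 1)), ((nat_lit 504), (nat_lit 1)), ((nat_lit 510), (nat_lit 1)), ((nat_lit 512), (nat_lit 1)), ((nat_lit 515), (nat_lit 1)), ((nat_lit 519), (nat_lit 1)), ((nat_lit 520), (nat_lit 1)), ((nat_lit 522), (nat_lit 1)), ((nat_lit 523), (nat_lit 1)), ((nat_lit 524), (nat_lit 1)), ((nat_lit 526), (nat_lit 1))]⟩,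
  ⟨false, (nat_lit 0), [nat_lit 3], [nat_lit 1, nat_lit 1], [((nat_lit 213), (nat_lit 1)), ((nat_lit 218), (nat_lit 1)), ((nat_lit 278), (nat_lit 1)), ((nat_lit 320), (nat_lit 1)), ((nat_lit 347), (nat_lit 1)), ((nat_lit 350), (nat_lit 1)), ((nat_lit 362), (nat_lit 1)), ((nat_lit 372), (nat_lit 1)), ((nat_lit 394), (nat_lit 1)), ((nat_lit 414), (nat_lit 1)), ((nat_lit 415), (nat_lit 1)), ((nat_lit 416), (nat_lit 1)), ((nat_lit 428), (nat_lit 1)), ((nat_lit 436), (nat_lit 1)), ((nat_lit 470), (nat_lit 1)), ((nat_lit 477), (nat_lit 1)), ((nat_lit 479), (nat_lit 1)), ((nat_lit 480), (nat_lit 1)), ((nat_lit 494), (nat_lit 1)), ((nat_lit 496), (nat_lit 1)), ((nat_lit 498), (nat_lit 1)), ((nat_lit 501), (nat_lit 1)), ((nat_lit 503), (nat_lit 1)), ((nat_lit 521), (nat_lit 1)), ((nat_lit 524), (nat_lit 1)), ((nat_lit 526), (nat_lit 1))]⟩,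
  ⟨false, (nat_lit 0), [nat_lit 8], [nat_lit 4, nat_lit 3], [((nat_lit 278), (nat_lit 1)), ((nat_lit 300), (nat_lit 1)), ((nat_lit 304), (nat_lit 1)), ((nat_lit 341), (nat_lit 1)), ((nat_lit 348), (nat_lit 1)), ((nat_lit 367), (nat_lit 1)), ((nat_lit 368), (nat_lit 1)), ((nat_lit 369), (nat_lit 1)), ((nat_lit 388), (nat_lit 1)), ((nat_lit 389), (nat_lit 1)), ((nat_lit 390), (nat_lit 1)), ((nat_lit 410), (nat_lit 1)), ((nat_lit 425), (nat_lit 1)), ((nat_lit 430), (nat_lit 1)), ((nat_lit 431), (nat_lit 1)), ((nat_lit 432), (nat_lit 1)), ((nat_lit 434), (nat_lit 1)), ((nat_lit 435), (nat_lit 1)), ((nat_lit 436), (nat_lit 1)), ((nat_lit 437), (nat_lit 1)), ((nat_lit 451), (nat_lit 1)), ((nat_lit 459), (nat_lit 1)), ((nat_lit 460), (nat_lit 1)), ((nat_lit 467), (nat_lit 1)), ((nat_lit 474), (nat_lit 1)), ((nat_lit 476), (nat_lit 1)), ((nat_lit 477), (nat_lit 1)), ((nat_lit 478), (nat_lit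 1)), ((nat_lit 479), (nat_lit 1)), ((nat_lit 482), (nat_lit 1)), ((nat_lit 489), (nat_lit 1)), ((nat_lit 498), (nat_lit 1)), ((nat_lit 499), (nat_lit 1)), ((nat_lit 501), (nat_lit 1)), ((nat_lit 502), (nat_lit 1)), ((nat_lit 503), (nat_lit 1)), ((nat_lit 510), (nat_lit 1)), ((nat_lit 514), (nat_lit 1)), ((nat_lit 523), (nat_lit 1))]⟩,
  ⟨false, (nat_lit 0), [nat_lit 4], [nat_lit 3, nat_lit 0], [((nat_lit 195), (nat_lit 1)), ((nat_lit 236), (nat_lit 1)), ((nat_lit 238), (nat_lit 1)), ((nat_lit 296), (nat_lit 1)), ((nat_lit 301), (nat_lit 1)), ((nat_lit 303), (nat_lit 1)), ((nat_lit 359), (nat_lit 1)), ((nat_lit 369), (nat_lit 1)), ((nat_lit 380), (nat_lit 1)), ((nat_lit 385), (nat_lit 1)), ((nat_lit 390), (nat_lit 1)), ((nat_lit 393), (nat_lit 1)), ((nat_lit 394), (nat_lit 1)), ((nat_lit 406), (nat_lit 1)), ((nat_lit 416), (nat_lit 1)), ((nat_lit 422), (nat_lit 1)), ((nat_lit 427),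 (nat_lit 1)), ((nat_lit 429), (nat_lit 1)), ((nat_lit 432), (nat_lit 1)), ((nat_lit 435), (nat_lit 1)), ((nat_lit 436), (nat_lit 1)), ((nat_lit 438), (nat_lit 1)), ((nat_lit 443), (nat_lit 1)), ((nat_lit 457), (nat_lit 1)), ((nat_lit 458), (nat_lit 1)), ((nat_lit 459), (nat_lit 1)), ((nat_lit 460), (nat_lit 1)), ((nat_lit 478), (nat_lit 1)), ((nat_lit 482), (nat_lit 1)), ((nat_lit 495), (nat_lit 1)), ((nat_lit 498), (nat_lit 1)), ((nat_lit 503), (nat_lit 1)), ((nat_lit 506), (nat_lit 1)), ((nat_lit 511), (nat_lit 1)), ((nat_lit 519), (nat_lit 1)), ((nat_lit 520), (nat_lit 1)), ((nat_lit 521), (nat_lit 1)), ((nat_lit 523), (nat_lit 1)), ((nat_lit 524), (nat_lit 1)), ((nat_lit 526), (nat_lit 1))]⟩,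
  ⟨false, (nat_lit 0), [nat_lit 4], [nat_lit 3, nat_lit 1], [((nat_lit 216), (nat_lit 1)), ((nat_lit 257), (nat_lit 1)), ((nat_lit 260), (nat_lit 1)), ((nat_lit 297), (nat_lit 1)), ((nat_lit 360), (nat_lit 1)), ((nat_lit 365), (nat_lit 1)), ((nat_lit 367), (nat_lit 1)), ((nat_lit 369), (nat_lit 1)), ((nat_lit 381), (nat_lit 1)), ((nat_lit 386), (nat_lit 1)), ((nat_lit 388), (nat_lit 1)), ((nat_lit 390), (nat_lit 1)), ((nat_lit 407), (nat_lit 1)), ((nat_lit 413), (nat_lit 1)), ((nat_lit 414), (nat_lit 1)), ((nat_lit 423), (nat_lit 1)), ((nat_lit 428), (nat_lit 1)), ((nat_lit 430), (nat_lit 1)), ((nat_lit 432), (nat_lit 1)), ((nat_lit 435), (nat_lit 1)), ((nat_lit 436), (nat_lit 1)), ((nat_lit 438), (nat_lit 1)), ((nat_lit 444), (nat_lit 1)), ((nat_lit 451), (nat_lit 1)), ((nat_lit 456), (nat_lit 1)), ((nat_lit 459), (nat_lit 1)), ((nat_lit 460), (nat_lit 1)), ((nat_lit 474), (nat_lit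 1)), ((nat_lit 476), (nat_lit 1)), ((nat_lit 480), (nat_lit 1)), ((nat_lit 482), (nat_lit 1)), ((nat_lit 495), (nat_lit 1)), ((nat_lit 497), (nat_lit 1)), ((nat_lit 498), (nat_lit 1)), ((nat_lit 499), (nat_lit 1)), ((nat_lit 502), (nat_lit 1)), ((nat_lit 503), (nat_lit 1)), ((nat_lit 504), (nat_lit 1)), ((nat_lit 507), (nat_lit 1)), ((nat_lit 514), (nat_lit 1)), ((nat_lit 516), (nat_lit 1)), ((nat_lit 518), (nat_lit 1)), ((nat_lit 519), (nat_lit 1)), ((nat_lit 521), (nat_lit 1)), ((nat_lit 522), (nat_lit 1)), ((nat_lit 523), (nat_lit 1)), ((nat_lit 524), (nat_lit 1))]⟩,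
  ⟨false, (nat_lit 0), [nat_lit 4], [nat_lit 4, nat_lit 0], [((nat_lit 191), (nat_lit 1)), ((nat_lit 237), (nat_lit 1)), ((nat_lit 240), (nat_lit 1)), ((nat_lit 275), (nat_lit 1)), ((nat_lit 296), (nat_lit 1)), ((nat_lit 317), (nat_lit 1)), ((nat_lit 338), (nat_lit 1)), ((nat_lit 359), (nat_lit 1)), ((nat_lit 387), (nat_lit 1)), ((nat_lit 391), (nat_lit 1)), ((nat_lit 392), (nat_lit 1)), ((nat_lit 393), (nat_lit 1)), ((nat_lit 401), (nat_lit 1)), ((nat_lit 408), (nat_lit 1)), ((nat_lit 415), (nat_lit 1)), ((nat_lit 416), (nat_lit 1)), ((nat_lit 422), (nat_lit 1)), ((nat_lit 429), (nat_lit 1)), ((nat_lit 436), (nat_lit 1)), ((nat_lit 437), (nat_lit 1)), ((nat_lit 443), (nat_lit 1)), ((nat_lit 452), (nat_lit 1)), ((nat_lit 455), (nat_lit 1)), ((nat_lit 456), (nat_lit 1)), ((nat_lit 457), (nat_lit 1)), ((nat_lit 460), (nat_lit 1)), ((nat_lit 464), (nat_lit 1)), ((nat_lit 471), (nat_lit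 1)), ((nat_lit 473), (nat_lit 1)), ((nat_lit 474), (nat_lit 1)), ((nat_lit 475), (nat_lit 1)), ((nat_lit 479), (nat_lit 1)), ((nat_lit 480), (nat_lit 1)), ((nat_lit 481), (nat_lit 1)), ((nat_lit 495), (nat_lit 1)), ((nat_lit 496), (nat_lit 1)), ((nat_lit 499), (nat_lit 1)), ((nat_lit 501), (nat_lit 1)), ((nat_lit 503), (nat_lit 1)), ((nat_lit 504), (nat_lit 1)), ((nat_lit 513), (nat_lit 1)), ((nat_lit 518), (nat_lit 1)), ((nat_lit 519), (nat_lit 1)), ((nat_lit 520), (nat_lit 1)), ((nat_lit 523), (nat_lit 1)), ((nat_lit 524), (nat_lit 1)), ((nat_lit 526), (nat_lit 1))]⟩,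
  ⟨false, (nat_lit 0), [nat_lit 3], [nat_lit 2, nat_lit 2], [((nat_lit 214), (nat_lit 1)), ((nat_lit 218), (nat_lit 1)), ((nat_lit 278), (nat_lit 1)), ((nat_lit 319), (nat_lit 1)), ((nat_lit 323), (nat_lit 1)), ((nat_lit 328), (nat_lit 1)), ((nat_lit 340), (nat_lit 1)), ((nat_lit 341), (nat_lit 1)), ((nat_lit 344), (nat_lit 1)), ((nat_lit 347), (nat_lit 1)), ((nat_lit 349), (nat_lit 1)), ((nat_lit 361), (nat_lit 1)), ((nat_lit 365), (nat_lit 1)), ((nat_lit 370), (nat_lit 1)), ((nat_lit 371), (nat_lit 1)), ((nat_lit 372), (nat_lit 1)), ((nat_lit 382), (nat_lit 1)), ((nat_lit 383), (nat_lit 1)), ((nat_lit 386), (nat_lit 1)), ((nat_lit 391), (nat_lit 1)), ((nat_lit 392), (nat_lit 1)), ((nat_lit 393), (nat_lit 1)), ((nat_lit 394), (nat_lit 1)), ((nat_lit 403), (nat_lit 1)), ((nat_lit 404), (nat_lit 1)), ((nat_lit 407), (nat_lit 1)), ((nat_lit 424), (nat_lit 1)), ((nat_lit 425), (nat_lit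 1)), ((nat_lit 428), (nat_lit 1)), ((nat_lit 433), (nat_lit 1)), ((nat_lit 438), (nat_lit 1)), ((nat_lit 445), (nat_lit 1)), ((nat_lit 446), (nat_lit 1)), ((nat_lit 454), (nat_lit 1)), ((nat_lit 455), (nat_lit 1)), ((nat_lit 456), (nat_lit 1)), ((nat_lit 467), (nat_lit 1)), ((nat_lit 470), (nat_lit 1)), ((nat_lit 475), (nat_lit 1)), ((nat_lit 476), (nat_lit 1)), ((nat_lit 477), (nat_lit 1)), ((nat_lit 478), (nat_lit 1)), ((nat_lit 480), (nat_lit 1)), ((nat_lit 482), (nat_lit 1)), ((nat_lit 487), (nat_lit 1)), ((nat_lit 488), (nat_lit 1)), ((nat_lit 494), (nat_lit 1)), ((nat_lit 499), (nat_lit 1)), ((nat_lit 501), (nat_lit 1)), ((nat_lit 503), (nat_lit 1)), ((nat_lit 504), (nat_lit 1)), ((nat_lit 508), (nat_lit 1)), ((nat_lit 512), (nat_lit 1)), ((nat_lit 519), (nat_lit 1)), ((nat_lit 520), (nat_lit 1)), ((nat_lit 521), (nat_lit 1)), ((nat_lit 523), (nat_lit 1)), ((nat_lit 524), (nat_lit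 1)), ((nat_lit 526), (nat_lit 1))]⟩,
  ⟨false, (nat_lit 0), [nat_lit 6], [nat_lit 4, nat_lit 2], [((nat_lit 217), (nat_lit 1)), ((nat_lit 239), (nat_lit 1)), ((nat_lit 260), (nat_lit 1)), ((nat_lit 281), (nat_lit 1)), ((nat_lit 298), (nat_lit 1)), ((nat_lit 301), (nat_lit 1)), ((nat_lit 302), (nat_lit 1)), ((nat_lit 303), (nat_lit 1)), ((nat_lit 304), (nat_lit 1)), ((nat_lit 305), (nat_lit 1)), ((nat_lit 345), (nat_lit 1)), ((nat_lit 346), (nat_lit 1)), ((nat_lit 367), (nat_lit 1)), ((nat_lit 371), (nat_lit 1)), ((nat_lit 372), (nat_lit 1)), ((nat_lit 388), (nat_lit 1)), ((nat_lit 389), (nat_lit 1)), ((nat_lit 392), (nat_lit 1)), ((nat_lit 393), (nat_lit 1)), ((nat_lit 394), (nat_lit 1)), ((nat_lit 405), (nat_lit 1)), ((nat_lit 406), (nat_lit 1)), ((nat_lit 409), (nat_lit 1)), ((nat_lit 416), (nat_lit 1)), ((nat_lit 426), (nat_lit 1)), ((nat_lit 427), (nat_lit 1)), ((nat_lit 430),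 (nat_lit 1)), ((nat_lit 431), (nat_lit 1)), ((nat_lit 432), (nat_lit 1)), ((nat_lit 434), (nat_lit 1)), ((nat_lit 436), (nat_lit 1)), ((nat_lit 438), (nat_lit 1)), ((nat_lit 447), (nat_lit 1)), ((nat_lit 449), (nat_lit 1)), ((nat_lit 450), (nat_lit 1)), ((nat_lit 451), (nat_lit 1)), ((nat_lit 452), (nat_lit 1)), ((nat_lit 453), (nat_lit 1)), ((nat_lit 457), (nat_lit 1)), ((nat_lit 458), (nat_lit 1)), ((nat_lit 459), (nat_lit 1)), ((nat_lit 471), (nat_lit 1)), ((nat_lit 476), (nat_lit 1)), ((nat_lit 477), (nat_lit 1)), ((nat_lit 480), (nat_lit 1)), ((nat_lit 482), (nat_lit 1)), ((nat_lit 489), (nat_lit 1)), ((nat_lit 494), (nat_lit 1)), ((nat_lit 497), (nat_lit 1)), ((nat_lit 499), (nat_lit 1)), ((nat_lit 500), (nat_lit 1)), ((nat_lit 501), (nat_lit 1)), ((nat_lit 504), (nat_lit 1)), ((nat_lit 512), (nat_lit 1)), ((nat_lit 513), (nat_lit 1)), ((nat_lit 514), (nat_lit 1)), ((nat_lit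 515), (nat_lit 1)), ((nat_lit 516), (nat_lit 1)), ((nat_lit 521), (nat_lit 1)), ((nat_lit 522), (nat_lit 1))]⟩,
  ⟨false, (nat_lit 0), [nat_lit 4], [nat_lit 4, nat_lit 1], [((nat_lit 192), (nat_lit 1)), ((nat_lit 258), (nat_lit 1)), ((nat_lit 262), (nat_lit 1)), ((nat_lit 276), (nat_lit 1)), ((nat_lit 283), (nat_lit 1)), ((nat_lit 297), (nat_lit 1)), ((nat_lit 305), (nat_lit 1)), ((nat_lit 318), (nat_lit 1)), ((nat_lit 326), (nat_lit 1)), ((nat_lit 339), (nat_lit 1)), ((nat_lit 346), (nat_lit 1)), ((nat_lit 347), (nat_lit 1)), ((nat_lit 349), (nat_lit 1)), ((nat_lit 360), (nat_lit 1)), ((nat_lit 368), (nat_lit 1)), ((nat_lit 369), (nat_lit 1)), ((nat_lit 402), (nat_lit 1)), ((nat_lit 409), (nat_lit 1)), ((nat_lit 413), (nat_lit 1)), ((nat_lit 416), (nat_lit 1)), ((nat_lit 423), (nat_lit 1)), ((nat_lit 432), (nat_lit 1)), ((nat_lit 434), (nat_lit 1)), ((nat_lit 444), (nat_lit 1)),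 ((nat_lit 451), (nat_lit 1)), ((nat_lit 455), (nat_lit 1)), ((nat_lit 458), (nat_lit 1)), ((nat_lit 459), (nat_lit 1)), ((nat_lit 465), (nat_lit 1)), ((nat_lit 472), (nat_lit 1)), ((nat_lit 474), (nat_lit 1)), ((nat_lit 475), (nat_lit 1)), ((nat_lit 476), (nat_lit 1)), ((nat_lit 479), (nat_lit 1)), ((nat_lit 480), (nat_lit 1)), ((nat_lit 482), (nat_lit 1)), ((nat_lit 493), (nat_lit 1)), ((nat_lit 495), (nat_lit 1)), ((nat_lit 497), (nat_lit 1)), ((nat_lit 498), (nat_lit 1)), ((nat_lit 500), (nat_lit 1)), ((nat_lit 504), (nat_lit 1)), ((nat_lit 515), (nat_lit 1)), ((nat_lit 516), (nat_lit 1)), ((nat_lit 519), (nat_lit 1)), ((nat_lit 523), (nat_lit 1)), ((nat_lit 525), (nat_lit 1)), ((nat_lit 526), (nat_lit 1))]⟩,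
  ⟨false, (nat_lit 0), [nat_lit 3], [nat_lit 3, nat_lit 1], [((nat_lit 192), (nat_lit 1)), ((nat_lit 215), (nat_lit 1)), ((nat_lit 218), (nat_lit 1)), ((nat_lit 281), (nat_lit 1)), ((nat_lit 297), (nat_lit 1)), ((nat_lit 305), (nat_lit 1)), ((nat_lit 318), (nat_lit 1)), ((nat_lit 326), (nat_lit 1)), ((nat_lit 339), (nat_lit 1)), ((nat_lit 348), (nat_lit 1)), ((nat_lit 365), (nat_lit 1)), ((nat_lit 370), (nat_lit 1)), ((nat_lit 371), (nat_lit 1)), ((nat_lit 381), (nat_lit 1)), ((nat_lit 389), (nat_lit 1)), ((nat_lit 393), (nat_lit 1)), ((nat_lit 407), (nat_lit 1)), ((nat_lit 410), (nat_lit 1)), ((nat_lit 416), (nat_lit 1)), ((nat_lit 423), (nat_lit 1)), ((nat_lit 433), (nat_lit 1)), ((nat_lit 435), (nat_lit 1)), ((nat_lit 437), (nat_lit 1)), ((nat_lit 449), (nat_lit 1)), ((nat_lit 456), (nat_lit 1)), ((nat_lit 457), (nat_lit 1)), ((nat_lit 465), (nat_lit 1)), ((nat_lit 473), (nat_lit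 1)), ((nat_lit 477), (nat_lit 1)), ((nat_lit 478), (nat_lit 1)), ((nat_lit 481), (nat_lit 1)), ((nat_lit 482), (nat_lit 1)), ((nat_lit 486), (nat_lit 1)), ((nat_lit 491), (nat_lit 1)), ((nat_lit 495), (nat_lit 1)), ((nat_lit 497), (nat_lit 1)), ((nat_lit 498), (nat_lit 1)), ((nat_lit 500), (nat_lit 1)), ((nat_lit 502), (nat_lit 1)), ((nat_lit 503), (nat_lit 1)), ((nat_lit 507), (nat_lit 1)), ((nat_lit 516), (nat_lit 1)), ((nat_lit 517), (nat_lit 1)), ((nat_lit 519), (nat_lit 1)), ((nat_lit 523), (nat_lit 1)), ((nat_lit 525), (nat_lit 1))]⟩,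
  ⟨false, (nat_lit 0), [nat_lit 3], [nat_lit 2, nat_lit 0], [((nat_lit 193), (nat_lit 1)), ((nat_lit 212), (nat_lit 1)), ((nat_lit 217), (nat_lit 1)), ((nat_lit 278), (nat_lit 1)), ((nat_lit 280), (nat_lit 1)), ((nat_lit 281), (nat_lit 1)), ((nat_lit 317), (nat_lit 1)), ((nat_lit 322), (nat_lit 1)), ((nat_lit 338), (nat_lit 1)), ((nat_lit 344), (nat_lit 1)), ((nat_lit 349), (nat_lit 1)), ((nat_lit 359), (nat_lit 1)), ((nat_lit 364), (nat_lit 1)), ((nat_lit 371), (nat_lit 1)), ((nat_lit 380), (nat_lit 1)), ((nat_lit 383), (nat_lit 1)), ((nat_lit 386), (nat_lit 1)), ((nat_lit 389), (nat_lit 1)), ((nat_lit 391), (nat_lit 1)), ((nat_lit 392), (nat_lit 1)), ((nat_lit 393), (nat_lit 1)), ((nat_lit 401), (nat_lit 1)), ((nat_lit 404), (nat_lit 1)), ((nat_lit 406), (nat_lit 1)), ((nat_lit 412), (nat_lit 1)), ((nat_lit 414), (nat_lit 1)), ((nat_lit 416), (nat_lit 1)), ((nat_lit 422), (nat_lit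 1)), ((nat_lit 428), (nat_lit 1)), ((nat_lit 431), (nat_lit 1)), ((nat_lit 434), (nat_lit 1)), ((nat_lit 435), (nat_lit 1)), ((nat_lit 436), (nat_lit 1)), ((nat_lit 437), (nat_lit 1)), ((nat_lit 443), (nat_lit 1)), ((nat_lit 446), (nat_lit 1)), ((nat_lit 452), (nat_lit 1)), ((nat_lit 454), (nat_lit 1)), ((nat_lit 456), (nat_lit 1)), ((nat_lit 457), (nat_lit 1)), ((nat_lit 458), (nat_lit 1)), ((nat_lit 459), (nat_lit 1)), ((nat_lit 460), (nat_lit 1)), ((nat_lit 476), (nat_lit 1)), ((nat_lit 477), (nat_lit 1)), ((nat_lit 478), (nat_lit 1)), ((nat_lit 480), (nat_lit 1)), ((nat_lit 481), (nat_lit 1)), ((nat_lit 485), (nat_lit 1)), ((nat_lit 491), (nat_lit 1)), ((nat_lit 497), (nat_lit 1)), ((nat_lit 498), (nat_lit 1)), ((nat_lit 500), (nat_lit 1)), ((nat_lit 501), (nat_lit 1)), ((nat_lit 506), (nat_lit 1)), ((nat_lit 509), (nat_lit 1)), ((nat_lit 511), (nat_lit 1)), ((nat_lit 522), (nat_lit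 1)), ((nat_lit 523), (nat_lit 1)), ((nat_lit 526), (nat_lit 1))]⟩]
noncomputable def I2_0 : List Pc.Idn := [⟨false, (nat_lit 0), [nat_lit 11], [nat_lit 11, nat_lit 11], [((nat_lit 496), (nat_lit 1))]⟩,
  ⟨false, (nat_lit 0), [nat_lit 14], [nat_lit 14, nat_lit 14], [((nat_lit 520), (nat_lit 1))]⟩,
  ⟨false, (nat_lit 0), [nat_lit 13], [nat_lit 13, nat_lit 0], [((nat_lit 435), (nat_lit 1)), ((nat_lit 438), (nat_lit 1))]⟩,
  ⟨false, (nat_lit 0), [nat_lit 15], [nat_lit 15, nat_lit 0], [((nat_lit 458), (nat_lit 1)), ((nat_lit 460), (nat_lit 1))]⟩,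
  ⟨false, (nat_lit 0), [nat_lit 18], [nat_lit 18, nat_lit 0], [((nat_lit 503), (nat_lit 1)), ((nat_lit 504), (nat_lit 1))]⟩,
  ⟨false, (nat_lit 0), [nat_lit 15], [nat_lit 15, nat_lit 1], [((nat_lit 479), (nat_lit 1)), ((nat_lit 482), (nat_lit 1))]⟩,
  ⟨false, (nat_lit 0), [nat_lit 16], [nat_lit 16, nat_lit 1], [((nat_lit 522), (nat_lit 1)), ((nat_lit 526), (nat_lit 1))]⟩,
  ⟨false, (nat_lit 0), [nat_lit 17], [nat_lit 17, nat_lit 1], [((nat_lit 502), (nat_lit 1)), ((nat_lit 504), (nat_lit 1))]⟩,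
  ⟨false, (nat_lit 0), [nat_lit 18], [nat_lit 18, nat_lit 1], [((nat_lit 524), (nat_lit 1)), ((nat_lit 526), (nat_lit 1))]⟩,
  ⟨false, (nat_lit 0), [nat_lit 9], [nat_lit 9, nat_lit 2], [((nat_lit 452), (nat_lit 1)), ((nat_lit 460), (nat_lit 1))]⟩,
  ⟨false, (nat_lit 0), [nat_lit 9], [nat_lit 9, nat_lit 3], [((nat_lit 347), (nat_lit 1)), ((nat_lit 350), (nat_lit 1))]⟩,
  ⟨false, (nat_lit 0), [nat_lit 15], [nat_lit 15, nat_lit 3], [((nat_lit 521), (nat_lit 1)), ((nat_lit 526), (nat_lit 1))]⟩,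
  ⟨false, (nat_lit 0), [nat_lit 17], [nat_lit 17, nat_lit 3], [((nat_lit 523), (nat_lit 1)), ((nat_lit 526), (nat_lit 1))]⟩,
  ⟨false, (nat_lit 0), [nat_lit 9], [nat_lit 9, nat_lit 4], [((nat_lit 368), (nat_lit 1)), ((nat_lit 372), (nat_lit 1))]⟩,
  ⟨false, (nat_lit 0), [nat_lit 12], [nat_lit 12, nat_lit 4], [((nat_lit 413), (nat_lit 1)), ((nat_lit 416), (nat_lit 1))]⟩,
  ⟨false, (nat_lit 0), [nat_lit 13], [nat_lit 13, nat_lit 4], [((nat_lit 477), (nat_lit 1)), ((nat_lit 482), (nat_lit 1))]⟩,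
  ⟨false, (nat_lit 0), [nat_lit 19], [nat_lit 19, nat_lit 4], [((nat_lit 525), (nat_lit 1)), ((nat_lit 526), (nat_lit 1))]⟩,
  ⟨false, (nat_lit 0), [nat_lit 12], [nat_lit 12, nat_lit 5], [((nat_lit 497), (nat_lit 1)), ((nat_lit 504), (nat_lit 1))]⟩,
  ⟨false, (nat_lit 0), [nat_lit 13], [nat_lit 13, nat_lit 5], [((nat_lit 498), (nat_lit 1)), ((nat_lit 504), (nat_lit 1))]⟩,
  ⟨false, (nat_lit 0), [nat_lit 6], [nat_lit 6, nat_lit 6], [((nat_lit 344), (nat_lit 1)), ((nat_lit 491), (nat_lit 1))]⟩,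
  ⟨false, (nat_lit 0), [nat_lit 9], [nat_lit 9, nat_lit 6], [((nat_lit 515), (nat_lit 1)), ((nat_lit 526), (nat_lit 1))]⟩,
  ⟨false, (nat_lit 0), [nat_lit 16], [nat_lit 16, nat_lit 6], [((nat_lit 501), (nat_lit 1)), ((nat_lit 504), (nat_lit 1))]⟩,
  ⟨false, (nat_lit 0), [nat_lit 12], [nat_lit 12, nat_lit 7], [((nat_lit 455), (nat_lit 1)), ((nat_lit 460), (nat_lit 1))]⟩,
  ⟨false, (nat_lit 0), [nat_lit 13], [nat_lit 13, nat_lit 8], [((nat_lit 519), (nat_lit 1)), ((nat_lit 526), (nat_lit 1))]⟩,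
  ⟨false, (nat_lit 0), [nat_lit 10], [nat_lit 9, nat_lit 9], [((nat_lit 473), (nat_lit 1)), ((nat_lit 482), (nat_lit 1))]⟩,
  ⟨false, (nat_lit 0), [nat_lit 14], [nat_lit 9, nat_lit 9], [((nat_lit 494), (nat_lit 1)), ((nat_lit 504), (nat_lit 1))]⟩,
  ⟨false, (nat_lit 0), [nat_lit 10], [nat_lit 10, nat_lit 10], [((nat_lit 474), (nat_lit 1)), ((nat_lit 516), (nat_lit 1))]⟩,
  ⟨false, (nat_lit 0), [nat_lit 12], [nat_lit 12, nat_lit 10], [((nat_lit 518), (nat_lit 1)), ((nat_lit 526), (nat_lit 1))]⟩,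
  ⟨false, (nat_lit 0), [nat_lit 16], [nat_lit 11, nat_lit 11], [((nat_lit 501), (nat_lit 1))]⟩,
  ⟨false, (nat_lit 0), [nat_lit 20], [nat_lit 11, nat_lit 11], [((nat_lit 525), (nat_lit 1))]⟩,
  ⟨false, (nat_lit 0), [nat_lit 0], [nat_lit 0, nat_lit 0], [((nat_lit 338), (nat_lit 1)), ((nat_lit 422), (nat_lit 1)), ((nat_lit 485), (nat_lit 1))]⟩,
  ⟨false, (nat_lit 0), [nat_lit 14], [nat_lit 14, nat_lit 0], [((nat_lit 506), (nat_lit 1)), ((nat_lit 520), (nat_lit 1)), ((nat_lit 526), (nat_lit 1))]⟩,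
  ⟨false, (nat_lit 0), [nat_lit 5], [nat_lit 5, nat_lit 5], [((nat_lit 427), (nat_lit 1)), ((nat_lit 448), (nat_lit 1)), ((nat_lit 490), (nat_lit 1))]⟩,
  ⟨false, (nat_lit 0), [nat_lit 17], [nat_lit 6, nat_lit 6], [((nat_lit 455), (nat_lit 1)), ((nat_lit 502), (nat_lit 1))]⟩,
  ⟨false, (nat_lit 0), [nat_lit 18], [nat_lit 6, nat_lit 6], [((nat_lit 476), (nat_lit 1)), ((nat_lit 503), (nat_lit 1))]⟩,
  ⟨false, (nat_lit 0), [nat_lit 7], [nat_lit 7, nat_lit 7], [((nat_lit 429), (nat_lit 1)), ((nat_lit 450), (nat_lit 1)), ((nat_lit 513), (nat_lit 1))]⟩,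
  ⟨false, (nat_lit 0), [nat_lit 11], [nat_lit 11, nat_lit 7], [((nat_lit 492), (nat_lit 1)), ((nat_lit 517), (nat_lit 1)), ((nat_lit 526), (nat_lit 1))]⟩,
  ⟨false, (nat_lit 0), [nat_lit 15], [nat_lit 10, nat_lit 10], [((nat_lit 479), (nat_lit 1)), ((nat_lit 521), (nat_lit 1))]⟩,
  ⟨false, (nat_lit 0), [nat_lit 17], [nat_lit 10, nat_lit 10], [((nat_lit 481), (nat_lit 1)), ((nat_lit 523), (nat_lit 1))]⟩,
  ⟨false, (nat_lit 0), [nat_lit 14], [nat_lit 11, nat_lit 11], [((nat_lit 496), (nat_lit 1)), ((nat_lit 499), (nat_lit 1)), ((nat_lit 504), (nat_lit 1))]⟩,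
  ⟨false, (nat_lit 0), [nat_lit 15], [nat_lit 11, nat_lit 11], [((nat_lit 500), (nat_lit 1)), ((nat_lit 517), (nat_lit 1)), ((nat_lit 526), (nat_lit 1))]⟩,
  ⟨false, (nat_lit 0), [nat_lit 12], [nat_lit 0, nat_lit 0], [((nat_lit 434), (nat_lit 1)), ((nat_lit 497), (nat_lit 1))]⟩,
  ⟨false, (nat_lit 0), [nat_lit 13], [nat_lit 13, nat_lit 2], [((nat_lit 435), (nat_lit 1)), ((nat_lit 438), (nat_lit 1)), ((nat_lit 477), (nat_lit 1)), ((nat_lit 480), (nat_lit 1)), ((nat_lit 482), (nat_lit 1))]⟩,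
  ⟨false, (nat_lit 0), [nat_lit 16], [nat_lit 16, nat_lit 3], [((nat_lit 459), (nat_lit 1)), ((nat_lit 460), (nat_lit 1)), ((nat_lit 522), (nat_lit 1)), ((nat_lit 523), (nat_lit 1)), ((nat_lit 526), (nat_lit 1))]⟩,
  ⟨false, (nat_lit 0), [nat_lit 9], [nat_lit 9, nat_lit 7], [((nat_lit 431), (nat_lit 1)), ((nat_lit 438), (nat_lit 1)), ((nat_lit 452), (nat_lit 1)), ((nat_lit 459), (nat_lit 1)), ((nat_lit 460), (nat_lit 1))]⟩,
  ⟨false, (nat_lit 0), [nat_lit 13], [nat_lit 13, nat_lit 7], [((nat_lit 456), (nat_lit 1)), ((nat_lit 460), (nat_lit 1)), ((nat_lit 519), (nat_lit 1)), ((nat_lit 523), (nat_lit 1)), ((nat_lit 526), (nat_lit 1))]⟩,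
  ⟨false, (nat_lit 0), [nat_lit 19], [nat_lit 3, nat_lit 0], [((nat_lit 490), (nat_lit 1))]⟩,
  ⟨false, (nat_lit 0), [nat_lit 20], [nat_lit 3, nat_lit 0], [((nat_lit 511), (nat_lit 1))]⟩,
  ⟨false, (nat_lit 0), [nat_lit 17], [nat_lit 4, nat_lit 0], [((nat_lit 450), (nat_lit 1))]⟩,
  ⟨false, (nat_lit 0), [nat_lit 20], [nat_lit 4, nat_lit 0], [((nat_lit 513), (nat_lit 1))]⟩,
  ⟨false, (nat_lit 0), [nat_lit 17], [nat_lit 10, nat_lit 0], [((nat_lit 457), (nat_lit 1))]⟩,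
  ⟨false, (nat_lit 0), [nat_lit 19], [nat_lit 3, nat_lit 1], [((nat_lit 491), (nat_lit 1))]⟩,
  ⟨false, (nat_lit 0), [nat_lit 20], [nat_lit 3, nat_lit 1], [((nat_lit 512), (nat_lit 1))]⟩,
  ⟨false, (nat_lit 0), [nat_lit 20], [nat_lit 4, nat_lit 1], [((nat_lit 514), (nat_lit 1))]⟩,
  ⟨false, (nat_lit 0), [nat_lit 20], [nat_lit 7, nat_lit 1], [((nat_lit 517), (nat_lit 1))]⟩,
  ⟨false, (nat_lit 0), [nat_lit 17], [nat_lit 6, nat_lit 4], [((nat_lit 453), (nat_lit 1))]⟩,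
  ⟨false, (nat_lit 0), [nat_lit 20], [nat_lit 6, nat_lit 4], [((nat_lit 516), (nat_lit 1))]⟩,
  ⟨false, (nat_lit 0), [nat_lit 9], [nat_lit 6, nat_lit 6], [((nat_lit 347), (nat_lit 1)), ((nat_lit 494), (nat_lit 1)), ((nat_lit 512), (nat_lit 1)), ((nat_lit 526), (nat_lit 1))]⟩,
  ⟨false, (nat_lit 0), [nat_lit 15], [nat_lit 6, nat_lit 6], [((nat_lit 413), (nat_lit 1)), ((nat_lit 500), (nat_lit 1)), ((nat_lit 512), (nat_lit 1)), ((nat_lit 526), (nat_lit 1))]⟩,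
  ⟨false, (nat_lit 0), [nat_lit 15], [nat_lit 7, nat_lit 7], [((nat_lit 437), (nat_lit 1)), ((nat_lit 458), (nat_lit 1)), ((nat_lit 521), (nat_lit 1))]⟩,
  ⟨false, (nat_lit 0), [nat_lit 11], [nat_lit 11, nat_lit 1], [((nat_lit 433), (nat_lit 1)), ((nat_lit 438), (nat_lit 1)), ((nat_lit 486), (nat_lit 1)), ((nat_lit 496), (nat_lit 1)), ((nat_lit 501), (nat_lit 1)), ((nat_lit 504), (nat_lit 1))]⟩,
  ⟨false, (nat_lit 0), [nat_lit 14], [nat_lit 14, nat_lit 1], [((nat_lit 436), (nat_lit 1)), ((nat_lit 438), (nat_lit 1)), ((nat_lit 507), (nat_lit 1)), ((nat_lit 520), (nat_lit 1)), ((nat_lit 522), (nat_lit 1)), ((nat_lit 526), (nat_lit 1))]⟩,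
  ⟨false, (nat_lit 0), [nat_lit 14], [nat_lit 0, nat_lit 0], [((nat_lit 392), (nat_lit 1)), ((nat_lit 436), (nat_lit 1)), ((nat_lit 499), (nat_lit 1)), ((nat_lit 506), (nat_lit 1)), ((nat_lit 526), (nat_lit 1))]⟩,
  ⟨false, (nat_lit 0), [nat_lit 18], [nat_lit 0, nat_lit 0], [((nat_lit 476), (nat_lit 1)), ((nat_lit 480), (nat_lit 1)), ((nat_lit 485), (nat_lit 1)), ((nat_lit 503), (nat_lit 1)), ((nat_lit 504), (nat_lit 1))]⟩,
  ⟨false, (nat_lit 0), [nat_lit 16], [nat_lit 1, nat_lit 1], [((nat_lit 431), (nat_lit 1)), ((nat_lit 433), (nat_lit 1)), ((nat_lit 435), (nat_lit 1)), ((nat_lit 507), (nat_lit 1)), ((nat_lit 526), (nat_lit 1))]⟩,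
  ⟨false, (nat_lit 0), [nat_lit 17], [nat_lit 1, nat_lit 1], [((nat_lit 452), (nat_lit 1)), ((nat_lit 454), (nat_lit 1)), ((nat_lit 456), (nat_lit 1)), ((nat_lit 486), (nat_lit 1)), ((nat_lit 504), (nat_lit 1))]⟩,
  ⟨false, (nat_lit 0), [nat_lit 18], [nat_lit 1, nat_lit 1], [((nat_lit 473), (nat_lit 1)), ((nat_lit 475), (nat_lit 1)), ((nat_lit 477), (nat_lit 1)), ((nat_lit 507), (nat_lit 1)), ((nat_lit 526), (nat_lit 1))]⟩,
  ⟨false, (nat_lit 0), [nat_lit 13], [nat_lit 5, nat_lit 5], [((nat_lit 435), (nat_lit 1)), ((nat_lit 456), (nat_lit 1)), ((nat_lit 490), (nat_lit 1)), ((nat_lit 498), (nat_lit 1)), ((nat_lit 504), (nat_lit 1))]⟩,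
  ⟨false, (nat_lit 0), [nat_lit 8], [nat_lit 8, nat_lit 8], [((nat_lit 367), (nat_lit 1)), ((nat_lit 451), (nat_lit 1)), ((nat_lit 472), (nat_lit 1)), ((nat_lit 514), (nat_lit 1)), ((nat_lit 523), (nat_lit 1)), ((nat_lit 526), (nat_lit 1))]⟩,
  ⟨false, (nat_lit 0), [nat_lit 17], [nat_lit 3, nat_lit 0], [((nat_lit 448), (nat_lit 1)), ((nat_lit 506), (nat_lit 1)), ((nat_lit 511), (nat_lit 1))]⟩,
  ⟨false, (nat_lit 0), [nat_lit 12], [nat_lit 10, nat_lit 0], [((nat_lit 392), (nat_lit 1)), ((nat_lit 506), (nat_lit 1)), ((nat_lit 520), (nat_lit 1))]⟩,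
  ⟨false, (nat_lit 0), [nat_lit 15], [nat_lit 10, nat_lit 0], [((nat_lit 415), (nat_lit 1)), ((nat_lit 453), (nat_lit 1)), ((nat_lit 457), (nat_lit 1))]⟩,
  ⟨false, (nat_lit 0), [nat_lit 18], [nat_lit 10, nat_lit 0], [((nat_lit 478), (nat_lit 1)), ((nat_lit 495), (nat_lit 1)), ((nat_lit 499), (nat_lit 1))]⟩,
  ⟨false, (nat_lit 0), [nat_lit 19], [nat_lit 4, nat_lit 1], [((nat_lit 493), (nat_lit 1)), ((nat_lit 507), (nat_lit 1)), ((nat_lit 514), (nat_lit 1))]⟩,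
  ⟨false, (nat_lit 0), [nat_lit 19], [nat_lit 8, nat_lit 3], [((nat_lit 495), (nat_lit 1)), ((nat_lit 525), (nat_lit 1))]⟩,
  ⟨false, (nat_lit 0), [nat_lit 12], [nat_lit 9, nat_lit 4], [((nat_lit 371), (nat_lit 1)), ((nat_lit 410), (nat_lit 1)), ((nat_lit 414), (nat_lit 1))]⟩,
  ⟨false, (nat_lit 0), [nat_lit 15], [nat_lit 9, nat_lit 4], [((nat_lit 414), (nat_lit 1)), ((nat_lit 515), (nat_lit 1)), ((nat_lit 519), (nat_lit 1))]⟩,
  ⟨false, (nat_lit 0), [nat_lit 13], [nat_lit 0, nat_lit 0], [((nat_lit 371), (nat_lit 1)), ((nat_lit 422), (nat_lit 1)), ((nat_lit 435), (nat_lit 1)), ((nat_lit 438), (nat_lit 1)), ((nat_lit 498), (nat_lit 1))]⟩,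
  ⟨false, (nat_lit 0), [nat_lit 15], [nat_lit 0, nat_lit 0], [((nat_lit 413), (nat_lit 1)), ((nat_lit 437), (nat_lit 1)), ((nat_lit 443), (nat_lit 1)), ((nat_lit 460), (nat_lit 1)), ((nat_lit 500), (nat_lit 1))]⟩,
  ⟨false, (nat_lit 0), [nat_lit 18], [nat_lit 3, nat_lit 1], [((nat_lit 470), (nat_lit 1)), ((nat_lit 507), (nat_lit 1)), ((nat_lit 509), (nat_lit 1))]⟩,
  ⟨false, (nat_lit 0), [nat_lit 18], [nat_lit 4, nat_lit 1], [((nat_lit 472), (nat_lit 1)), ((nat_lit 507), (nat_lit 1)), ((nat_lit 510), (nat_lit 1))]⟩,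
  ⟨false, (nat_lit 0), [nat_lit 15], [nat_lit 1, nat_lit 1], [((nat_lit 410), (nat_lit 1)), ((nat_lit 412), (nat_lit 1)), ((nat_lit 414), (nat_lit 1)), ((nat_lit 465), (nat_lit 1)), ((nat_lit 482), (nat_lit 1)), ((nat_lit 519), (nat_lit 1))]⟩,
  ⟨false, (nat_lit 0), [nat_lit 15], [nat_lit 6, nat_lit 4], [((nat_lit 411), (nat_lit 1)), ((nat_lit 510), (nat_lit 1)), ((nat_lit 512), (nat_lit 1))]⟩,
  ⟨false, (nat_lit 0), [nat_lit 12], [nat_lit 4, nat_lit 0], [((nat_lit 345), (nat_lit 1)), ((nat_lit 401), (nat_lit 1)), ((nat_lit 408), (nat_lit 1)), ((nat_lit 458), (nat_lit 1))]⟩,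
  ⟨false, (nat_lit 0), [nat_lit 11], [nat_lit 11, nat_lit 2], [((nat_lit 454), (nat_lit 1)), ((nat_lit 460), (nat_lit 1)), ((nat_lit 487), (nat_lit 1)), ((nat_lit 496), (nat_lit 1)), ((nat_lit 502), (nat_lit 1)), ((nat_lit 504), (nat_lit 1)), ((nat_lit 517), (nat_lit 1)), ((nat_lit 523), (nat_lit 1)), ((nat_lit 525), (nat_lit 1)), ((nat_lit 526), (nat_lit 1))]⟩,
  ⟨false, (nat_lit 0), [nat_lit 14], [nat_lit 14, nat_lit 2], [((nat_lit 478), (nat_lit 1)), ((nat_lit 482), (nat_lit 1)), ((nat_lit 499), (nat_lit 1)), ((nat_lit 503), (nat_lit 1)), ((nat_lit 504), (nat_lit 1)), ((nat_lit 508), (nat_lit 1))]⟩,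
  ⟨false, (nat_lit 0), [nat_lit 10], [nat_lit 10, nat_lit 5], [((nat_lit 411), (nat_lit 1)), ((nat_lit 416), (nat_lit 1)), ((nat_lit 469), (nat_lit 1)), ((nat_lit 511), (nat_lit 1)), ((nat_lit 516), (nat_lit 1)), ((nat_lit 521), (nat_lit 1)), ((nat_lit 526), (nat_lit 1))]⟩,
  ⟨false, (nat_lit 0), [nat_lit 13], [nat_lit 6, nat_lit 6], [((nat_lit 371), (nat_lit 1)), ((nat_lit 470), (nat_lit 1)), ((nat_lit 482), (nat_lit 1)), ((nat_lit 498), (nat_lit 1)), ((nat_lit 512), (nat_lit 1)), ((nat_lit 524), (nat_lit 1)), ((nat_lit 526), (nat_lit 1))]⟩,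
  ⟨false, (nat_lit 0), [nat_lit 17], [nat_lit 4, nat_lit 1], [((nat_lit 451), (nat_lit 1)), ((nat_lit 489), (nat_lit 1)), ((nat_lit 493), (nat_lit 1)), ((nat_lit 514), (nat_lit 1)), ((nat_lit 525), (nat_lit 1)), ((nat_lit 526), (nat_lit 1))]⟩,
  ⟨false, (nat_lit 0), [nat_lit 15], [nat_lit 7, nat_lit 1], [((nat_lit 412), (nat_lit 1)), ((nat_lit 471), (nat_lit 1)), ((nat_lit 475), (nat_lit 1)), ((nat_lit 517), (nat_lit 1)), ((nat_lit 524), (nat_lit 1)), ((nat_lit 526), (nat_lit 1))]⟩,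
  ⟨false, (nat_lit 0), [nat_lit 12], [nat_lit 6, nat_lit 4], [((nat_lit 348), (nat_lit 1)), ((nat_lit 407), (nat_lit 1)), ((nat_lit 411), (nat_lit 1)), ((nat_lit 516), (nat_lit 1)), ((nat_lit 521), (nat_lit 1)), ((nat_lit 526), (nat_lit 1))]⟩,
  ⟨false, (nat_lit 0), [nat_lit 18], [nat_lit 3, nat_lit 0], [((nat_lit 469), (nat_lit 1)), ((nat_lit 488), (nat_lit 1)), ((nat_lit 490), (nat_lit 1)), ((nat_lit 506), (nat_lit 1)), ((nat_lit 511), (nat_lit 1)), ((nat_lit 525), (nat_lit 1))]⟩,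
  ⟨false, (nat_lit 0), [nat_lit 15], [nat_lit 4, nat_lit 0], [((nat_lit 408), (nat_lit 1)), ((nat_lit 447), (nat_lit 1)), ((nat_lit 450), (nat_lit 1)), ((nat_lit 506), (nat_lit 1)), ((nat_lit 513), (nat_lit 1)), ((nat_lit 523), (nat_lit 1))]⟩,
  ⟨false, (nat_lit 0), [nat_lit 17], [nat_lit 3, nat_lit 1], [((nat_lit 449), (nat_lit 1)), ((nat_lit 488), (nat_lit 1)), ((nat_lit 491), (nat_lit 1)), ((nat_lit 507), (nat_lit 1)), ((nat_lit 512), (nat_lit 1)), ((nat_lit 525), (nat_lit 1))]⟩,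
  ⟨false, (nat_lit 0), [nat_lit 15], [nat_lit 5, nat_lit 1], [((nat_lit 410), (nat_lit 1)), ((nat_lit 469), (nat_lit 1)), ((nat_lit 473), (nat_lit 1)), ((nat_lit 507), (nat_lit 1)), ((nat_lit 515), (nat_lit 1)), ((nat_lit 524), (nat_lit 1))]⟩,
  ⟨false, (nat_lit 0), [nat_lit 9], [nat_lit 8, nat_lit 8], [((nat_lit 368), (nat_lit 1)), ((nat_lit 452), (nat_lit 1)), ((nat_lit 473), (nat_lit 1)), ((nat_lit 493), (nat_lit 1)), ((nat_lit 504), (nat_lit 1)), ((nat_lit 514), (nat_lit 1)), ((nat_lit 515), (nat_lit 1)), ((nat_lit 525), (nat_lit 1)), ((nat_lit 526), (nat_lit 1))]⟩,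
  ⟨false, (nat_lit 0), [nat_lit 12], [nat_lit 3, nat_lit 0], [((nat_lit 343), (nat_lit 1)), ((nat_lit 464), (nat_lit 1)), ((nat_lit 469), (nat_lit 1)), ((nat_lit 485), (nat_lit 1)), ((nat_lit 490), (nat_lit 1)), ((nat_lit 503), (nat_lit 1))]⟩,
  ⟨false, (nat_lit 0), [nat_lit 15], [nat_lit 3, nat_lit 0], [((nat_lit 406), (nat_lit 1)), ((nat_lit 446), (nat_lit 1)), ((nat_lit 448), (nat_lit 1)), ((nat_lit 506), (nat_lit 1)), ((nat_lit 526), (nat_lit 1))]⟩,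
  ⟨false, (nat_lit 0), [nat_lit 18], [nat_lit 4, nat_lit 0], [((nat_lit 471), (nat_lit 1)), ((nat_lit 489), (nat_lit 1)), ((nat_lit 492), (nat_lit 1)), ((nat_lit 506), (nat_lit 1)), ((nat_lit 526), (nat_lit 1))]⟩,
  ⟨false, (nat_lit 0), [nat_lit 13], [nat_lit 10, nat_lit 0], [((nat_lit 393), (nat_lit 1)), ((nat_lit 432), (nat_lit 1)), ((nat_lit 436), (nat_lit 1)), ((nat_lit 506), (nat_lit 1))]⟩,
  ⟨false, (nat_lit 0), [nat_lit 15], [nat_lit 3, nat_lit 1], [((nat_lit 407), (nat_lit 1)), ((nat_lit 467), (nat_lit 1)), ((nat_lit 470), (nat_lit 1)), ((nat_lit 507), (nat_lit 1)), ((nat_lit 526), (nat_lit 1))]⟩,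
  ⟨false, (nat_lit 0), [nat_lit 15], [nat_lit 4, nat_lit 1], [((nat_lit 409), (nat_lit 1)), ((nat_lit 468), (nat_lit 1)), ((nat_lit 472), (nat_lit 1)), ((nat_lit 507), (nat_lit 1)), ((nat_lit 526), (nat_lit 1))]⟩,
  ⟨false, (nat_lit 0), [nat_lit 14], [nat_lit 1, nat_lit 1], [((nat_lit 389), (nat_lit 1)), ((nat_lit 391), (nat_lit 1)), ((nat_lit 393), (nat_lit 1)), ((nat_lit 423), (nat_lit 1)), ((nat_lit 438), (nat_lit 1)), ((nat_lit 496), (nat_lit 1)), ((nat_lit 504), (nat_lit 1)), ((nat_lit 507), (nat_lit 1)), ((nat_lit 522), (nat_lit 1)), ((nat_lit 526), (nat_lit 1))]⟩,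
  ⟨false, (nat_lit 0), [nat_lit 17], [nat_lit 8, nat_lit 3], [((nat_lit 453), (nat_lit 1)), ((nat_lit 502), (nat_lit 1)), ((nat_lit 509), (nat_lit 1)), ((nat_lit 514), (nat_lit 1)), ((nat_lit 523), (nat_lit 1))]⟩,
  ⟨false, (nat_lit 0), [nat_lit 10], [nat_lit 10, nat_lit 0], [((nat_lit 390), (nat_lit 1)), ((nat_lit 394), (nat_lit 1)), ((nat_lit 464), (nat_lit 1)), ((nat_lit 499), (nat_lit 1)), ((nat_lit 506), (nat_lit 1)), ((nat_lit 520), (nat_lit 1)), ((nat_lit 524), (nat_lit 1)), ((nat_lit 526), (nat_lit 1))]⟩,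
  ⟨false, (nat_lit 0), [nat_lit 10], [nat_lit 10, nat_lit 3], [((nat_lit 369), (nat_lit 1)), ((nat_lit 372), (nat_lit 1)), ((nat_lit 411), (nat_lit 1)), ((nat_lit 414), (nat_lit 1)), ((nat_lit 416), (nat_lit 1)), ((nat_lit 467), (nat_lit 1)), ((nat_lit 509), (nat_lit 1)), ((nat_lit 519), (nat_lit 1))]⟩,
  ⟨false, (nat_lit 0), [nat_lit 13], [nat_lit 6, nat_lit 4], [((nat_lit 369), (nat_lit 1)), ((nat_lit 468), (nat_lit 1)), ((nat_lit 470), (nat_lit 1)), ((nat_lit 510), (nat_lit 1)), ((nat_lit 516), (nat_lit 1)), ((nat_lit 524), (nat_lit 1))]⟩,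
  ⟨false, (nat_lit 0), [nat_lit 10], [nat_lit 10, nat_lit 2], [((nat_lit 390), (nat_lit 1)), ((nat_lit 394), (nat_lit 1)), ((nat_lit 466), (nat_lit 1)), ((nat_lit 495), (nat_lit 1)), ((nat_lit 504), (nat_lit 1)), ((nat_lit 508), (nat_lit 1)), ((nat_lit 520), (nat_lit 1)), ((nat_lit 524), (nat_lit 1)), ((nat_lit 526), (nat_lit 1))]⟩,
  ⟨false, (nat_lit 0), [nat_lit 16], [nat_lit 6, nat_lit 4], [((nat_lit 432), (nat_lit 1)), ((nat_lit 449), (nat_lit 1)), ((nat_lit 453), (nat_lit 1)), ((nat_lit 489), (nat_lit 1)), ((nat_lit 491), (nat_lit 1)), ((nat_lit 502), (nat_lit 1)), ((nat_lit 523), (nat_lit 1))]⟩,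
  ⟨false, (nat_lit 0), [nat_lit 10], [nat_lit 0, nat_lit 0], [((nat_lit 348), (nat_lit 1)), ((nat_lit 380), (nat_lit 1)), ((nat_lit 394), (nat_lit 1)), ((nat_lit 432), (nat_lit 1)), ((nat_lit 495), (nat_lit 1)), ((nat_lit 525), (nat_lit 1))]⟩,
  ⟨false, (nat_lit 0), [nat_lit 16], [nat_lit 3, nat_lit 1], [((nat_lit 428), (nat_lit 1)), ((nat_lit 444), (nat_lit 1)), ((nat_lit 449), (nat_lit 1)), ((nat_lit 502), (nat_lit 1)), ((nat_lit 507), (nat_lit 1)), ((nat_lit 509), (nat_lit 1)), ((nat_lit 523), (nat_lit 1)), ((nat_lit 525), (nat_lit 1))]⟩,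
  ⟨false, (nat_lit 0), [nat_lit 13], [nat_lit 1, nat_lit 1], [((nat_lit 368), (nat_lit 1)), ((nat_lit 370), (nat_lit 1)), ((nat_lit 444), (nat_lit 1)), ((nat_lit 460), (nat_lit 1)), ((nat_lit 486), (nat_lit 1)), ((nat_lit 498), (nat_lit 1)), ((nat_lit 502), (nat_lit 1)), ((nat_lit 504), (nat_lit 1)), ((nat_lit 507), (nat_lit 1)), ((nat_lit 523), (nat_lit 1)), ((nat_lit 526), (nat_lit 1))]⟩,
  ⟨false, (nat_lit 0), [nat_lit 10], [nat_lit 9, nat_lit 2], [((nat_lit 389), (nat_lit 1)), ((nat_lit 453), (nat_lit 1)), ((nat_lit 457), (nat_lit 1)), ((nat_lit 466), (nat_lit 1)), ((nat_lit 478), (nat_lit 1)), ((nat_lit 481), (nat_lit 1)), ((nat_lit 494), (nat_lit 1)), ((nat_lit 503), (nat_lit 1))]⟩,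
  ⟨false, (nat_lit 0), [nat_lit 11], [nat_lit 0, nat_lit 0], [((nat_lit 349), (nat_lit 1)), ((nat_lit 433), (nat_lit 1)), ((nat_lit 443), (nat_lit 1)), ((nat_lit 460), (nat_lit 1)), ((nat_lit 464), (nat_lit 1)), ((nat_lit 481), (nat_lit 1)), ((nat_lit 482), (nat_lit 1)), ((nat_lit 496), (nat_lit 1)), ((nat_lit 501), (nat_lit 1)), ((nat_lit 504), (nat_lit 1)), ((nat_lit 506), (nat_lit 1)), ((nat_lit 523), (nat_lit 1)), ((nat_lit 524), (nat_lit 1)), ((nat_lit 525), (nat_lit 1)), ((nat_lit 526), (nat_lit 1))]⟩,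
  ⟨false, (nat_lit 0), [nat_lit 11], [nat_lit 1, nat_lit 1], [((nat_lit 326), (nat_lit 1)), ((nat_lit 370), (nat_lit 1)), ((nat_lit 423), (nat_lit 1)), ((nat_lit 438), (nat_lit 1)), ((nat_lit 486), (nat_lit 1)), ((nat_lit 496), (nat_lit 1)), ((nat_lit 498), (nat_lit 1)), ((nat_lit 501), (nat_lit 1)), ((nat_lit 504), (nat_lit 1)), ((nat_lit 517), (nat_lit 1)), ((nat_lit 519), (nat_lit 1)), ((nat_lit 525), (nat_lit 1))]⟩,
  ⟨false, (nat_lit 0), [nat_lit 12], [nat_lit 1, nat_lit 1], [((nat_lit 347), (nat_lit 1)), ((nat_lit 349), (nat_lit 1)), ((nat_lit 371), (nat_lit 1)), ((nat_lit 444), (nat_lit 1)), ((nat_lit 460), (nat_lit 1)), ((nat_lit 486), (nat_lit 1)), ((nat_lit 498), (nat_lit 1)), ((nat_lit 502), (nat_lit 1)), ((nat_lit 504), (nat_lit 1)), ((nat_lit 507), (nat_lit 1)), ((nat_lit 523), (nat_lit 1)), ((nat_lit 526), (nat_lit 1))]⟩,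
  ⟨false, (nat_lit 0), [nat_lit 9], [nat_lit 6, nat_lit 4], [((nat_lit 305), (nat_lit 1)), ((nat_lit 365), (nat_lit 1)), ((nat_lit 369), (nat_lit 1)), ((nat_lit 474), (nat_lit 1)), ((nat_lit 477), (nat_lit 1)), ((nat_lit 510), (nat_lit 1)), ((nat_lit 519), (nat_lit 1)), ((nat_lit 526), (nat_lit 1))]⟩,
  ⟨false, (nat_lit 0), [nat_lit 5], [nat_lit 5, nat_lit 1], [((nat_lit 280), (nat_lit 1)), ((nat_lit 284), (nat_lit 1)), ((nat_lit 423), (nat_lit 1)), ((nat_lit 444), (nat_lit 1)), ((nat_lit 486), (nat_lit 1)), ((nat_lit 494), (nat_lit 1)), ((nat_lit 515), (nat_lit 1)), ((nat_lit 523), (nat_lit 1))]⟩,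
  ⟨false, (nat_lit 0), [nat_lit 7], [nat_lit 7, nat_lit 1], [((nat_lit 324), (nat_lit 1)), ((nat_lit 328), (nat_lit 1)), ((nat_lit 423), (nat_lit 1)), ((nat_lit 444), (nat_lit 1)), ((nat_lit 501), (nat_lit 1)), ((nat_lit 502), (nat_lit 1)), ((nat_lit 507), (nat_lit 1)), ((nat_lit 517), (nat_lit 1)), ((nat_lit 523), (nat_lit 1)), ((nat_lit 525), (nat_lit 1))]⟩,
  ⟨false, (nat_lit 0), [nat_lit 7], [nat_lit 0, nat_lit 0], [((nat_lit 345), (nat_lit 1)), ((nat_lit 401), (nat_lit 1)), ((nat_lit 416), (nat_lit 1)), ((nat_lit 422), (nat_lit 1)), ((nat_lit 429), (nat_lit 1)), ((nat_lit 437), (nat_lit 1)), ((nat_lit 438), (nat_lit 1)), ((nat_lit 460), (nat_lit 1)), ((nat_lit 485), (nat_lit 1)), ((nat_lit 492), (nat_lit 1)), ((nat_lit 500), (nat_lit 1)), ((nat_lit 501), (nat_lit 1)), ((nat_lit 504), (nat_lit 1))]⟩,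
  ⟨false, (nat_lit 0), [nat_lit 1], [nat_lit 1, nat_lit 1], [((nat_lit 276), (nat_lit 1)), ((nat_lit 318), (nat_lit 1)), ((nat_lit 360), (nat_lit 1)), ((nat_lit 433), (nat_lit 1)), ((nat_lit 438), (nat_lit 1)), ((nat_lit 454), (nat_lit 1)), ((nat_lit 456), (nat_lit 1)), ((nat_lit 459), (nat_lit 1)), ((nat_lit 460), (nat_lit 1)), ((nat_lit 498), (nat_lit 1)), ((nat_lit 502), (nat_lit 1)), ((nat_lit 504), (nat_lit 1)), ((nat_lit 517), (nat_lit 1)), ((nat_lit 519), (nat_lit 1)), ((nat_lit 522), (nat_lit 1)), ((nat_lit 523), (nat_lit 1)), ((nat_lit 526), (nat_lit 1))]⟩,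
  ⟨false, (nat_lit 0), [nat_lit 10], [nat_lit 5, nat_lit 5], [((nat_lit 406), (nat_lit 1)), ((nat_lit 416), (nat_lit 1)), ((nat_lit 432), (nat_lit 1)), ((nat_lit 453), (nat_lit 1)), ((nat_lit 495), (nat_lit 1)), ((nat_lit 511), (nat_lit 1)), ((nat_lit 521), (nat_lit 1)), ((nat_lit 523), (nat_lit 1)), ((nat_lit 525), (nat_lit 1))]⟩,
  ⟨false, (nat_lit 0), [nat_lit 11], [nat_lit 11, nat_lit 4], [((nat_lit 349), (nat_lit 1)), ((nat_lit 350), (nat_lit 1)), ((nat_lit 391), (nat_lit 1)), ((nat_lit 392), (nat_lit 1)), ((nat_lit 394), (nat_lit 1)), ((nat_lit 475), (nat_lit 1)), ((nat_lit 476), (nat_lit 1)), ((nat_lit 478), (nat_lit 1)), ((nat_lit 482), (nat_lit 1)), ((nat_lit 489), (nat_lit 1)), ((nat_lit 499), (nat_lit 1)), ((nat_lit 504), (nat_lit 1)), ((nat_lit 525), (nat_lit 1))]⟩,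
  ⟨false, (nat_lit 0), [nat_lit 16], [nat_lit 4, nat_lit 1], [((nat_lit 430), (nat_lit 1)), ((nat_lit 444), (nat_lit 1)), ((nat_lit 451), (nat_lit 1)), ((nat_lit 486), (nat_lit 1)), ((nat_lit 493), (nat_lit 1)), ((nat_lit 502), (nat_lit 1)), ((nat_lit 510), (nat_lit 1)), ((nat_lit 514), (nat_lit 1)), ((nat_lit 526), (nat_lit 1))]⟩,
  ⟨false, (nat_lit 0), [nat_lit 13], [nat_lit 4, nat_lit 0], [((nat_lit 366), (nat_lit 1)), ((nat_lit 426), (nat_lit 1)), ((nat_lit 429), (nat_lit 1)), ((nat_lit 450), (nat_lit 1)), ((nat_lit 459), (nat_lit 1)), ((nat_lit 460), (nat_lit 1)), ((nat_lit 464), (nat_lit 1)), ((nat_lit 471), (nat_lit 1)), ((nat_lit 480), (nat_lit 1)), ((nat_lit 481), (nat_lit 1)), ((nat_lit 492), (nat_lit 1)), ((nat_lit 522), (nat_lit 1)), ((nat_lit 523), (nat_lit 1)), ((nat_lit 524), (nat_lit 1)), ((nat_lit 526), (nat_lit 1))]⟩]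
noncomputable def Ds2 : List (List (ℕ × ℕ)) := I2_0.map Pc.Idn.D ++ (I2_1.map Pc.Idn.D ++ (I2_2.map Pc.Idn.D ++ (I2_3.map Pc.Idn.D)))
noncomputable def S2 : List (List (ℕ × ℕ)) := [[],
  [],
  [],
  [],
  [],
  [((nat_lit 149), (nat_lit 1))],
  [((nat_lit 150), (nat_lit 1))],
  [((nat_lit 170), (nat_lit 1))],
  [((nat_lit 171), (nat_lit 1))],
  [((nat_lit 192), (nat_lit 1))],
  [((nat_lit 216), (nat_lit 1))],
  [((nat_lit 234), (nat_lit 1))],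
  [((nat_lit 278), (nat_lit 1))],
  [((nat_lit 279), (nat_lit 1))],
  [((nat_lit 296), (nat_lit 1))],
  [((nat_lit 342), (nat_lit 1))],
  [((nat_lit 359), (nat_lit 1))],
  [((nat_lit 401), (nat_lit 1))],
  [((nat_lit 402), (nat_lit 1))],
  [((nat_lit 444), (nat_lit 1))],
  [((nat_lit 489), (nat_lit 1))]]
noncomputable def Yo2 : List (List (ℕ × ℕ) × ℕ × ℕ) := []
noncomputable def La2 : List ℕ := [nat_lit 0,
  nat_lit 0,
  nat_lit 0,
  nat_lit 0,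
  nat_lit 0,
  nat_lit 0,
  nat_lit 0,
  nat_lit 0,
  nat_lit 0,
  nat_lit 0,
  nat_lit 0,
  nat_lit 0,
  nat_lit 0,
  nat_lit 0,
  nat_lit 0,
  nat_lit 0,
  nat_lit 0,
  nat_lit 0,
  nat_lit 0,
  nat_lit 0,
  nat_lit 0,
  nat_lit 0x200040c80400000000040a30c28104d212cb195c7e2fda0930c1eede093,
  nat_lit 0,
  nat_lit 0,
  nat_lit 0,
  nat_lit 0,
  nat_lit 0,
  nat_lit 0,
  nat_lit 0,
  nat_lit 0,
  nat_lit 0,
  nat_lit 0,
  nat_lit 0,
  nat_lit 0,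
  nat_lit 0,
  nat_lit 0,
  nat_lit 0,
  nat_lit 0,
  nat_lit 0,
  nat_lit 0,
  nat_lit 0,
  nat_lit 0,
  nat_lit 0x1057090c0b0040082880a90781c75c7cd205d4bdb7f97158b69a58d49eb8,
  nat_lit 0x62414290c8344824cbb0c78af9a1cbdd5ccf302a89d8cea0a89dca53e72c1,
  nat_lit 0,
  nat_lit 0,
  nat_lit 0,
  nat_lit 0,
  nat_lit 0,
  nat_lit 0,
  nat_lit 0,
  nat_lit 0,
  nat_lit 0,
  nat_lit 0,
  nat_lit 0,
  nat_lit 0,
  nat_lit 0,
  nat_lit 0,
  nat_lit 0,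
  nat_lit 0,
  nat_lit 0,
  nat_lit 0,
  nat_lit 0,
  nat_lit 0,
  nat_lit 0,
  nat_lit 0x8402101840b124d75bb6fb2987348305fc66075641c775cf345dcff4eddc3,
  nat_lit 0,
  nat_lit 0,
  nat_lit 0,
  nat_lit 0,
  nat_lit 0,
  nat_lit 0,
  nat_lit 0,
  nat_lit 0,
  nat_lit 0,
  nat_lit 0,
  nat_lit 0,
  nat_lit 0,
  nat_lit 0,
  nat_lit 0,
  nat_lit 0,
  nat_lit 0,
  nat_lit 0,
  nat_lit 0,
  nat_lit 0,
  nat_lit 0,
  nat_lit 0x1fbc9a1b3f5cc47b0f42175a342eca85239de08032bf689f92dff763dae0263,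
  nat_lit 0x6853f68da093d3022f8e0e4731d20952d5fdb1448cebec56116bf9eb2f764b,
  nat_lit 0,
  nat_lit 0,
  nat_lit 0,
  nat_lit 0,
  nat_lit 0,
  nat_lit 0,
  nat_lit 0,
  nat_lit 0,
  nat_lit 0,
  nat_lit 0,
  nat_lit 0,
  nat_lit 0,
  nat_lit 0,
  nat_lit 0,
  nat_lit 0,
  nat_lit 0,
  nat_lit 0,
  nat_lit 0x2000000000081205abb9cfc6235e1c197e61551566fcb4b0231,
  nat_lit 0,
  nat_lit 0x10400081000000050989aa6a0182c4808eeea2774fa3656342d,
  nat_lit 0x10001259aa210d1c2750f799db7e129576c6794e97f8ffbc20a,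
  nat_lit 0x1884022a1600434466d9e00b81d972f388c6f688eaf83a5a3a61e77ad5b,
  nat_lit 0x20000000000002010899a6e2697dc084f23be013c7128a53270,
  nat_lit 0,
  nat_lit 0,
  nat_lit 0,
  nat_lit 0,
  nat_lit 0,
  nat_lit 0,
  nat_lit 0,
  nat_lit 0,
  nat_lit 0,
  nat_lit 0,
  nat_lit 0,
  nat_lit 0,
  nat_lit 0,
  nat_lit 0,
  nat_lit 0,
  nat_lit 0x1000008184604945a129c0205645906007a20e36867055ae895,
  nat_lit 0x104020002248264044178cd0f56c390338efb77abea991664e49867,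
  nat_lit 0x104020040002a45801dc2b612f658058c82c9b23465f0015d8d19ef,
  nat_lit 0x101040b028064184254c13ab14d99ae0070666ff28992cd9391ddc903,
  nat_lit 0,
  nat_lit 0x10060081d83088904468dfc37683e39988233fcbe9b6,
  nat_lit 0x1040300000010060081108b140c80c2e04ec2c1f1ec2394846131ca,
  nat_lit 0,
  nat_lit 0,
  nat_lit 0,
  nat_lit 0,
  nat_lit 0,
  nat_lit 0,
  nat_lit 0,
  nat_lit 0,
  nat_lit 0,
  nat_lit 0,
  nat_lit 0,
  nat_lit 0,
  nat_lit 0,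
  nat_lit 0,
  nat_lit 0x8040000000000020941b9ee0269bcc002fcc28407bd91a632323,
  nat_lit 0,
  nat_lit 0x8248000600288d805e861ffeb33a28051e31a3faef3cd81299fb,
  nat_lit 0x1884022a1600c304e059e005072044e7575fd47883af43949904705e927,
  nat_lit 0x82402000100081804ab38cbe04ad5d0d5de76ffe360186b23378,
  nat_lit 0x8000090129c083618ac80d3c400e125ad30a46683,
  nat_lit 0x2400200440fa4793eb4ad75f2ecf7dcb9c1d017578e8b8,
  nat_lit 0x8040000000000020100912622613dccccf00bb915900218166c4,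
  nat_lit 0,
  nat_lit 0,
  nat_lit 0,
  nat_lit 0,
  nat_lit 0,
  nat_lit 0,
  nat_lit 0,
  nat_lit 0,
  nat_lit 0,
  nat_lit 0,
  nat_lit 0,
  nat_lit 0,
  nat_lit 0,
  nat_lit 0x1884022a160002206fd8c002820524e75b9a8083e1a9d05f8b54a7f48a6,
  nat_lit 0x18101248b4080844eecd26180de9f63f830622d0e61089d9359aac56443,
  nat_lit 0x1800124825000e0122a04c1da3593dbfaf0786565515bc97c4abbd74866,
  nat_lit 0x1001044108392c1186d43fa406f15c6b28ee5a2e3c6b48239c8,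
  nat_lit 0x841062321004410471ee16ad70e8a6574e6ca3cdba0322fd8afca48b3,
  nat_lit 0x100000014020480b03392a14f37e16a781ed6ab1c7f98a8b2f2,
  nat_lit 0x100000900802018c6c680302b12ba601d880ba64f127c275da4e2d705,
  nat_lit 0x1884022a160002406fd8c405a7f51a6236616021b684c4d78d944257c87,
  nat_lit 0x941062a20802008004e21b8f1c2ce8486d50a7cba55f8a7c2a2411c6d,
  nat_lit 0,
  nat_lit 0,
  nat_lit 0,
  nat_lit 0,
  nat_lit 0,
  nat_lit 0,
  nat_lit 0,
  nat_lit 0,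
  nat_lit 0,
  nat_lit 0,
  nat_lit 0,
  nat_lit 0,
  nat_lit 0x800003022b494b60a0800126c81942053805d6,
  nat_lit 0x10400801c9d4919442a230bc028b200bb8ee6950c,
  nat_lit 0x10000000000600a01120005f14c2ae099c5a09905329ce00074,
  nat_lit 0,
  nat_lit 0,
  nat_lit 0x1020a10836080fc081af061604b4149b8,
  nat_lit 0x1000000000000004003022b09cf62a0c0852eec1950141a8c56,
  nat_lit 0x801a9c08008c00c480846d91497d81014d48,
  nat_lit 0x104002000188a0084128aef1582813052bb42c2cd,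
  nat_lit 0x3022b094b082060012ad0d9406e70435a,
  nat_lit 0,
  nat_lit 0,
  nat_lit 0,
  nat_lit 0,
  nat_lit 0,
  nat_lit 0,
  nat_lit 0,
  nat_lit 0,
  nat_lit 0,
  nat_lit 0,
  nat_lit 0,
  nat_lit 0,
  nat_lit 0x1000009008064184654c0b877d3eb2c192e6c3fd31aa32ddebb39cdca,
  nat_lit 0x100000900000000c0c4012a305a813db66aa5bfdd73d2e0c08964c1ce,
  nat_lit 0x10000c09001623104b35ee96ce57894baaf288803e22ee6,
  nat_lit 0x4000081020000204a814cb6dfaf3d3ddfa4abee21f9df1e,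
  nat_lit 0x1000000084004008a009a8b181eba2cf58d8011ca1714219437,
  nat_lit 0x100000000c18400c2009a911912dc6f88419df5db41dcb16fad,
  nat_lit 0x100000400200400f26f93ea506768034b39c68b1c014cf75be6,
  nat_lit 0x818600ca20d81a14ac07c2612d277140eb47157462,
  nat_lit 0x820008006b09dcdb640ec9045fa3751f359,
  nat_lit 0x100000000c18400c200da9119929caf104198555b45f1353e0d,
  nat_lit 0,
  nat_lit 0,
  nat_lit 0,
  nat_lit 0,
  nat_lit 0,
  nat_lit 0,
  nat_lit 0,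
  nat_lit 0,
  nat_lit 0,
  nat_lit 0,
  nat_lit 0x100000009010888b19442828640db226796785c05351,
  nat_lit 0xe00c1194878283c42dcc3cc8e9764db01,
  nat_lit 0x2101642ab927168cdabfaa8029c6d08f0d189506dda3,
  nat_lit 0x1000024922204c060641fd31efa8a6d81b3ca0e5d3a7ae10bf6,
  nat_lit 0x1884022a160002446ed8840180e430e6551c48da0c5c930426dc934dfaa,
  nat_lit 0x809a9c0c808c80c482c40d9149dd80a057e8,
  nat_lit 0x12030481121110ab59419a23b18a8a80c9d81dcbef3a,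
  nat_lit 0x2090128c083698bc0833c4ac4001ed50456e93,
  nat_lit 0x100000010120480d242948309c063293ceec453cfcba6281b92,
  nat_lit 0x2000599c8e8a09e404060c08036150243,
  nat_lit 0x10c00ca619a2044abcd840525372975ff2d323b52,
  nat_lit 0x2090108c492f50d4a8afc48c20c1cd47c066b0,
  nat_lit 0,
  nat_lit 0,
  nat_lit 0,
  nat_lit 0,
  nat_lit 0,
  nat_lit 0,
  nat_lit 0,
  nat_lit 0,
  nat_lit 0,
  nat_lit 0x800080a048e0b064a640c48965,
  nat_lit 0x10000000000000042510629594f2a20186808cceb3636300285,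
  nat_lit 0x100000000000000010000004084021000cf787c5092b945d9c3,
  nat_lit 0x80004820009044a03dc99c48e9801198704aff31,
  nat_lit 0,
  nat_lit 0xa0001400058089e0024469361881a,
  nat_lit 0x8000000080000,
  nat_lit 0x8000800080a040ece304bc1000d1e9,
  nat_lit 0x100000000000000002000800634938db28c8da4656c38843a1c,
  nat_lit 0x210000032210000,
  nat_lit 0x10000000000000000000000008446c098cc6024e0928840c947,
  nat_lit 0x800800080804172a018a012001b24,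
  nat_lit 0x210000032210400,
  nat_lit 0,
  nat_lit 0,
  nat_lit 0,
  nat_lit 0,
  nat_lit 0,
  nat_lit 0,
  nat_lit 0,
  nat_lit 0,
  nat_lit 0,
  nat_lit 0x1040080129c88000c520b3780e431c43729474c0c,
  nat_lit 0x10000000101040028299a0004a344c237c17435c4ebefa3b89c,
  nat_lit 0x4000000820008b1d28b12df780daf03a1eaf055a12,
  nat_lit 0x11400202312a1096f5a6e171dbdc10f12e4024cfa,
  nat_lit 0x880000008044022915603d23b1f470f3,
  nat_lit 0x1000000000000000820009004a41fc924c4ed1445e8bb9098db,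
  nat_lit 0x80129c88000c104c20cc813225d111a09ceb,
  nat_lit 0x8041c59a1005d0810021844880,
  nat_lit 0x80000248600060a001951a65,
  nat_lit 0x100000000000000000000000294c2c00a840574813289c5bb22,
  nat_lit 0x800080000241700018a221740824,
  nat_lit 0x800080804860b060a200c00965,
  nat_lit 0x80000248600060a001953a65,
  nat_lit 0,
  nat_lit 0,
  nat_lit 0,
  nat_lit 0,
  nat_lit 0,
  nat_lit 0,
  nat_lit 0,
  nat_lit 0x1000000000000000002040230042e4041c10e8058148e20465d,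
  nat_lit 0x1002008090118ea2508b4a0a2986ce4a2473a69d1904,
  nat_lit 0x1000000000040000820008a37b4f3cdeacc7604e1ac0c20f243,
  nat_lit 0x1000000084004108a10128b18163a68e20491a5f65511c4a506,
  nat_lit 0x100000400000400627f1b6a50eb2883d3b032caa388b9f14006,
  nat_lit 0x100000108068809d8828a4a8e21561018d,
  nat_lit 0x10000000000000108220412142c9f49c6c92faf19828d65e528,
  nat_lit 0x90108800008840809d893816bc6b35640359,
  nat_lit 0x1000000000004008030980a063c82c1d00d60613889ac80344e,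
  nat_lit 0xb098000a0c4081e34602220c500ac,
  nat_lit 0x2040801800080854d103478c6b5c48652,
  nat_lit 0x2000a00800080c0081e34600236e5180c,
  nat_lit 0x4000000000a0010000,
  nat_lit 0x1088688098082020a002214110c6,
  nat_lit 0x204020000000045450e841804b7019fdd,
  nat_lit 0,
  nat_lit 0,
  nat_lit 0,
  nat_lit 0,
  nat_lit 0,
  nat_lit 0,
  nat_lit 0,
  nat_lit 0,
  nat_lit 0x1000000000020000830008b1fb4b38dea84de404c2e3c852968,
  nat_lit 0x40000000004a00944925865802082b0f55147,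
  nat_lit 0x100000000000040000000000614c6c48ecc60c4e194bd29b367,
  nat_lit 0x200108068809c4864f02182b16148c7,
  nat_lit 0x100000000000000000000000004020000cc64c46192a9c599c7,
  nat_lit 0x8000800088a040ece304be0060d161,
  nat_lit 0x100000000000000000000000634c2c18acc64d4e1b0b920ba67,
  nat_lit 0x800080984860b060a200500965,
  nat_lit 0x8040c0980005e0810021855880,
  nat_lit 0x40200004c6000609281c491c7,
  nat_lit 0x450010000000000,
  nat_lit 0x10000000000000900000,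
  nat_lit 0x800084000000000000,
  nat_lit 0x450010000004000,
  nat_lit 0,
  nat_lit 0,
  nat_lit 0,
  nat_lit 0,
  nat_lit 0,
  nat_lit 0x800080a04860b060a210e40961,
  nat_lit 0x2000119c868a09c484020a0a217600866,
  nat_lit 0x2000220059948682004416281d92206550b72,
  nat_lit 0x212060200824880dc85426091e622e5c6d6,
  nat_lit 0x80128c82008810cce0c49f8049db23441563,
  nat_lit 0x200000c001a0010002,
  nat_lit 0x4000688098000008c000a1841082,
  nat_lit 0x3000800000000,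
  nat_lit 0x800008041c4984175f0998231c44a84,
  nat_lit 0x80000780000840244,
  nat_lit 0x1080688098486020a082b16110c7,
  nat_lit 0x496000788010a40201,
  nat_lit 0x20010220000,
  nat_lit 0x80000600230e51080,
  nat_lit 0x404000008030210003,
  nat_lit 0x800000230610888,
  nat_lit 0x80000600230e51084,
  nat_lit 0,
  nat_lit 0,
  nat_lit 0,
  nat_lit 0,
  nat_lit 0x40000c10000000000808,
  nat_lit 0,
  nat_lit 0x200b090000205c487cd479a00130013d,
  nat_lit 0x200108268809c6864f0a182916048c7,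
  nat_lit 0x8000801088a040ece004be8060c163,
  nat_lit 0x2000008000a0010002,
  nat_lit 0x806880984860a8a08281400047,
  nat_lit 0x1000000000000,
  nat_lit 0x10002486000608200c510c5,
  nat_lit 0x210600280,
  nat_lit 0x80000000000000,
  nat_lit 0x437000388210c00084,
  nat_lit 0x210200080,
  nat_lit 0x200230e11080,
  nat_lit 0x4000000000000,
  nat_lit 0x210600088,
  nat_lit 0x802306110c0,
  nat_lit 0x210600080,
  nat_lit 0,
  nat_lit 0,
  nat_lit 0,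
  nat_lit 0xa00800080c0081eb06042b2e4188e,
  nat_lit 0x840282880400b0001081849082,
  nat_lit 0xa098000a0c1081eb060e232e410bd,
  nat_lit 0x100000000000000000000000094020080cc64646192b9e58947,
  nat_lit 0x100000000000000000000000694820412cc612460b0b8a4e2e7,
  nat_lit 0x804080980000b0000021851080,
  nat_lit 0x800000804860a0608230e50045,
  nat_lit 0x40000000000400010a0010002,
  nat_lit 0x8040c5984865f0e18221414845,
  nat_lit 0x2021010820,
  nat_lit 0x100000004000000,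
  nat_lit 0x4c6000608221c590c5,
  nat_lit 0x410200010,
  nat_lit 0x2020018820,
  nat_lit 0x5000000008030200001,
  nat_lit 0x2020010800,
  nat_lit 0x40000008004,
  nat_lit 0x4020011000,
  nat_lit 0x2020010820,
  nat_lit 0,
  nat_lit 0,
  nat_lit 0x8000040410208004,
  nat_lit 0x417000188220611284,
  nat_lit 0x1000437040388020a01085,
  nat_lit 0x804880980000b0c000a1841082,
  nat_lit 0,
  nat_lit 0x400000000000,
  nat_lit 0x8000000000000,
  nat_lit 0x40001020010000,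
  nat_lit 0x2486020608200c410c5,
  nat_lit 0x12200000,
  nat_lit 0x4000000000020000000,
  nat_lit 1,
  nat_lit 0x10220000,
  nat_lit 0x10240000,
  nat_lit 0x8010200001,
  nat_lit 0x40010020010000,
  nat_lit 0x10000000,
  nat_lit 0x10200080,
  nat_lit 0x10200010,
  nat_lit 0x10200000,
  nat_lit 0,
  nat_lit 0xa0010002,
  nat_lit 0x486000608200c410c5,
  nat_lit 0x2005000000002000010830,
  nat_lit 0x800000000000a0000030211080,
  nat_lit 0x8040c4980005f0810021855880,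
  nat_lit 0x800000000000,
  nat_lit 0x10000000000000,
  nat_lit 0x2000000000000,
  nat_lit 0x20000000000000,
  nat_lit 0x20110000,
  nat_lit 0x100000000000000,
  nat_lit 0x40000000000000,
  nat_lit 0x28010000,
  nat_lit 0x20810000,
  nat_lit 2,
  nat_lit 0x20010800,
  nat_lit 0x20010040,
  nat_lit 0x20011000,
  nat_lit 0x20010100,
  nat_lit 0x20000000,
  nat_lit 0x20010000]
noncomputable def Wsx2 : List (List ℕ) := [[nat_lit 17, nat_lit 18, nat_lit 19, nat_lit 20],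
  [nat_lit 15, nat_lit 18, nat_lit 20],
  [nat_lit 12, nat_lit 13, nat_lit 18, nat_lit 19, nat_lit 20],
  [nat_lit 20],
  [nat_lit 3, nat_lit 4, nat_lit 5, nat_lit 6, nat_lit 10, nat_lit 13],
  [nat_lit 15],
  [nat_lit 9, nat_lit 10, nat_lit 13, nat_lit 19],
  [nat_lit 17],
  [nat_lit 6, nat_lit 8, nat_lit 14],
  [nat_lit 14],
  [nat_lit 16],
  [nat_lit 9, nat_lit 11],
  [nat_lit 5, nat_lit 7, nat_lit 11],
  [nat_lit 12],
  [nat_lit 1, nat_lit 2, nat_lit 7, nat_lit 8],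
  [nat_lit 9],
  [nat_lit 0, nat_lit 2],
  [nat_lit 1, nat_lit 2],
  [nat_lit 5],
  [nat_lit 0, nat_lit 4],
  [nat_lit 0]]
noncomputable def LDx2_10d : ℕ := nat_lit 0
noncomputable def LDx2_10 (u : ℕ) : ℕ := Nat.land (Nat.shiftRight LDx2_10d (Nat.mul u (nat_lit 1))) (nat_lit 1)
noncomputable def Ptx2_10d : ℕ := nat_lit 0x2cb
noncomputable def Ptx2_10 (u : ℕ) : ℕ := Nat.land (Nat.shiftRight Ptx2_10d (Nat.mul u (nat_lit 5))) (nat_lit 31)
noncomputable def Qx2_10d : ℕ := nat_lit 0x400000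
noncomputable def Qx2_10 (u : ℕ) : ℕ := Nat.land (Nat.shiftRight Qx2_10d (Nat.mul u (nat_lit 1))) (nat_lit 1)
noncomputable def lx2_10 : Lev := ⟨2, 1, LDx2_10, Ptx2_10, Qx2_10⟩
noncomputable def LDx2_9d : ℕ := nat_lit 2
noncomputable def LDx2_9 (u : ℕ) : ℕ := Nat.land (Nat.shiftRight LDx2_9d (Nat.mul u (nat_lit 1))) (nat_lit 1)
noncomputable def Ptx2_9d : ℕ := nat_lit 0x85
noncomputable def Ptx2_9 (u : ℕ) : ℕ := Nat.land (Nat.shiftRight Ptx2_9d (Nat.mul u (nat_lit 4))) (nat_lit 15)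
noncomputable def Qx2_9d : ℕ := nat_lit 0x100
noncomputable def Qx2_9 (u : ℕ) : ℕ := Nat.land (Nat.shiftRight Qx2_9d (Nat.mul u (nat_lit 1))) (nat_lit 1)
noncomputable def lx2_9 : Lev := ⟨2, 2, LDx2_9, Ptx2_9, Qx2_9⟩
noncomputable def LDx2_8d : ℕ := nat_lit 8
noncomputable def LDx2_8 (u : ℕ) : ℕ := Nat.land (Nat.shiftRight LDx2_8d (Nat.mul u (nat_lit 2))) (nat_lit 3)
noncomputable def Ptx2_8d : ℕ := nat_lit 0x3c
noncomputable def Ptx2_8 (u : ℕ) : ℕ := Nat.land (Nat.shiftRight Ptx2_8d (Nat.mul u (nat_lit 3))) (nat_lit 7)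
noncomputable def Qx2_8d : ℕ := nat_lit 0x80
noncomputable def Qx2_8 (u : ℕ) : ℕ := Nat.land (Nat.shiftRight Qx2_8d (Nat.mul u (nat_lit 1))) (nat_lit 1)
noncomputable def lx2_8 : Lev := ⟨2, 3, LDx2_8, Ptx2_8, Qx2_8⟩
noncomputable def LDx2_7d : ℕ := nat_lit 0x9430
noncomputable def LDx2_7 (u : ℕ) : ℕ := Nat.land (Nat.shiftRight LDx2_7d (Nat.mul u (nat_lit 4))) (nat_lit 15)
noncomputable def Ptx2_7d : ℕ := nat_lit 0x5120501
noncomputable def Ptx2_7 (u : ℕ) : ℕ := Nat.land (Nat.shiftRight Ptx2_7d (Nat.mul u (nat_lit 7))) (nat_lit 127)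
noncomputable def Qx2_7d : ℕ := nat_lit 0x2000000000000000300000000000000100000
noncomputable def Qx2_7 (u : ℕ) : ℕ := Nat.land (Nat.shiftRight Qx2_7d (Nat.mul u (nat_lit 2))) (nat_lit 3)
noncomputable def lx2_7 : Lev := ⟨4, 5, LDx2_7, Ptx2_7, Qx2_7⟩
noncomputable def LDx2_6d : ℕ := nat_lit 0xd650
noncomputable def LDx2_6 (u : ℕ) : ℕ := Nat.land (Nat.shiftRight LDx2_6d (Nat.mul u (nat_lit 4))) (nat_lit 15)
noncomputable def Ptx2_6d : ℕ := nat_lit 0xecde00602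
noncomputable def Ptx2_6 (u : ℕ) : ℕ := Nat.land (Nat.shiftRight Ptx2_6d (Nat.mul u (nat_lit 9))) (nat_lit 511)
noncomputable def Qx2_6d : ℕ := nat_lit 0xc00000000000000000000000000000000000000000000000200000000000000000000000000000000000000000000000000000000000000000000000000000000000000000000000000000000000000000000000000000000000000000000000000000000000000000000000000000000000000000040
noncomputable def Qx2_6 (u : ℕ) : ℕ := Nat.land (Nat.shiftRight Qx2_6d (Nat.mul u (nat_lit 2))) (nat_lit 3)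
noncomputable def lx2_6 : Lev := ⟨4, 7, LDx2_6, Ptx2_6, Qx2_6⟩
noncomputable def LDx2_5d : ℕ := nat_lit 0x8a0e0
noncomputable def LDx2_5 (u : ℕ) : ℕ := Nat.land (Nat.shiftRight LDx2_5d (Nat.mul u (nat_lit 5))) (nat_lit 31)
noncomputable def Ptx2_5d : ℕ := nat_lit 0xebdd15c80
noncomputable def Ptx2_5 (u : ℕ) : ℕ := Nat.land (Nat.shiftRight Ptx2_5d (Nat.mul u (nat_lit 9))) (nat_lit 511)
noncomputable def Qx2_5d : ℕ := nat_lit 0xc0000000000000000000000000000000000000000000000002000000000000000000000000000000000000000000000000000000000000000000000000000000000000000000000000001000000000000000000000000000000000000000000000000000000000000000000000000000000000000000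
noncomputable def Qx2_5 (u : ℕ) : ℕ := Nat.land (Nat.shiftRight Qx2_5d (Nat.mul u (nat_lit 2))) (nat_lit 3)
noncomputable def lx2_5 : Lev := ⟨4, 9, LDx2_5, Ptx2_5, Qx2_5⟩
noncomputable def LDx2_4d : ℕ := nat_lit 0x9b745a4d4c3326251918170c0b0a0900
noncomputable def LDx2_4 (u : ℕ) : ℕ := Nat.land (Nat.shiftRight LDx2_4d (Nat.mul u (nat_lit 8))) (nat_lit 255)
noncomputable def Ptx2_4d : ℕ := nat_lit 0x32a0acf71661b412c421492f4382cd0b1216086e8000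
noncomputable def Ptx2_4 (u : ℕ) : ℕ := Nat.land (Nat.shiftRight Ptx2_4d (Nat.mul u (nat_lit 11))) (nat_lit 2047)
noncomputable def Qx2_4d : ℕ := nat_lit 0x100000000000000000000000000000000000000000000000000000500000000000000000000000000000000000000000000000000000000000000000000000000000000000000000000000000000000000000000000000000000000000000000000000000000000000000000000000000000000000000000000000000000000000000000000000000000000000000000000000000000000000000000000000000000000000000000000000000000000000000000000000000000000000000000000000000000000000000000000000000000000000000000000000000000000000000000000000000000000000000000000000000000000000000000000000000000000000000000000000000000000000000000000000000000000000000000000000000000000000000000000000000000000000000000000000000000000000000000000000000000000000000000000000000000000000000000000000000000000000000000000000000000000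0000000000000000000000000000000000000000000000000000000000000000000000000000000000000000000000000000000000000000000000000000000000000000000000000000000000000000000000000000000000000000000000000000000000000000000000000000000000000000000000000000000000000000000d0000000000000000000000000000000000000000000000000000000000000000000000000000000000000000f0000000000000000000000000070000000000000000000c0000000000000000000000000000800000000000000000000000000000000000000000000000000000000000003000000000000000000000000000000000000000000600000b0000000000000000000000000000000000000000400000000000000000000000000000000000000000000900000000000000000000000000000000000000000000000000000000a0000000000000000000000000000000e0000000002000000000000000000000000000000000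
noncomputable def Qx2_4 (u : ℕ) : ℕ := Nat.land (Nat.shiftRight Qx2_4d (Nat.mul u (nat_lit 4))) (nat_lit 15)
noncomputable def lx2_4 : Lev := ⟨16, 13, LDx2_4, Ptx2_4, Qx2_4⟩
noncomputable def LDx2_3d : ℕ := nat_lit 0xeb9a0
noncomputable def LDx2_3 (u : ℕ) : ℕ := Nat.land (Nat.shiftRight LDx2_3d (Nat.mul u (nat_lit 5))) (nat_lit 31)
noncomputable def Ptx2_3d : ℕ := nat_lit 0xddf3475973
noncomputable def Ptx2_3 (u : ℕ) : ℕ := Nat.land (Nat.shiftRight Ptx2_3d (Nat.mul u (nat_lit 10))) (nat_lit 1023)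
noncomputable def Qx2_3d : ℕ := nat_lit 0xc00000000000000000000000000000000200000000000000000000000000000000000000000000000000000000000000000000000000000000000000000000000000000000000000000000000000000000000000000000000000000000000000000000000000000010000000000000000000000000000000000000000000000000000000000000000000000000000000000000000000000000000000000000000000000000000000000000000000000000000000000000000000000000000000000000000000000000000000000000000000000000000000000000000000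
noncomputable def Qx2_3 (u : ℕ) : ℕ := Nat.land (Nat.shiftRight Qx2_3d (Nat.mul u (nat_lit 2))) (nat_lit 3)
noncomputable def lx2_3 : Lev := ⟨4, 15, LDx2_3, Ptx2_3, Qx2_3⟩
noncomputable def LDx2_2d : ℕ := nat_lit 0xb2d51a22240780
noncomputable def LDx2_2 (u : ℕ) : ℕ := Nat.land (Nat.shiftRight LDx2_2d (Nat.mul u (nat_lit 7))) (nat_lit 127)
noncomputable def Ptx2_2d : ℕ := nat_lit 0x7444726faf6348300d
noncomputable def Ptx2_2 (u : ℕ) : ℕ := Nat.land (Nat.shiftRight Ptx2_2d (Nat.mul u (nat_lit 9))) (nat_lit 511)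
noncomputable def Qx2_2d : ℕ := nat_lit 0x3000000000000000000000000000000000000000000000000000000000000000000a00000000000000000000000000000000000000000000000000000000000000000000000000000000000000000000000030000000000000000100000000000007000000000000000080000000000000000000000000000000000000000000000000000000000000000000000000000000000000000000000000000000000000000000000000000000000000000001000000000000000000
noncomputable def Qx2_2 (u : ℕ) : ℕ := Nat.land (Nat.shiftRight Qx2_2d (Nat.mul u (nat_lit 3))) (nat_lit 7)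
noncomputable def lx2_2 : Lev := ⟨8, 18, LDx2_2, Ptx2_2, Qx2_2⟩
noncomputable def LDx2_1d : ℕ := nat_lit 0x9d3480
noncomputable def LDx2_1 (u : ℕ) : ℕ := Nat.land (Nat.shiftRight LDx2_1d (Nat.mul u (nat_lit 6))) (nat_lit 63)
noncomputable def Ptx2_1d : ℕ := nat_lit 0xb25817a90
noncomputable def Ptx2_1 (u : ℕ) : ℕ := Nat.land (Nat.shiftRight Ptx2_1d (Nat.mul u (nat_lit 9))) (nat_lit 511)
noncomputable def Qx2_1d : ℕ := nat_lit 0x30200000000000000000000000000000000000000000000000000000000000000000000000000000000040000000000000000000000000000000000000000000000000000000000000000000000000000000000000000000000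
noncomputable def Qx2_1 (u : ℕ) : ℕ := Nat.land (Nat.shiftRight Qx2_1d (Nat.mul u (nat_lit 2))) (nat_lit 3)
noncomputable def lx2_1 : Lev := ⟨4, 20, LDx2_1, Ptx2_1, Qx2_1⟩
noncomputable def LDx2_0d : ℕ := nat_lit 0x280
noncomputable def LDx2_0 (u : ℕ) : ℕ := Nat.land (Nat.shiftRight LDx2_0d (Nat.mul u (nat_lit 5))) (nat_lit 31)
noncomputable def Ptx2_0d : ℕ := nat_lit 0x2f2de2
noncomputable def Ptx2_0 (u : ℕ) : ℕ := Nat.land (Nat.shiftRight Ptx2_0d (Nat.mul u (nat_lit 11))) (nat_lit 2047)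
noncomputable def Qx2_0d : ℕ := nat_lit 0x200000000000000000000000000000000000000000000000000000000000000000000000000000000000000000000000000000000000000000000000000000000000000000000000000000000000000000000000000000000000000000000000000000000000000000000000000000000000000000000000000000000000000000000000000000000000000000000000000000000000000000000000000000000000000000000000000000000000000000000000000000000000000000
noncomputable def Qx2_0 (u : ℕ) : ℕ := Nat.land (Nat.shiftRight Qx2_0d (Nat.mul u (nat_lit 1))) (nat_lit 1)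
noncomputable def lx2_0 : Lev := ⟨2, 21, LDx2_0, Ptx2_0, Qx2_0⟩
noncomputable def Lx2 : List Lev := [lx2_0, lx2_1, lx2_2, lx2_3, lx2_4, lx2_5, lx2_6, lx2_7, lx2_8, lx2_9, lx2_10]
noncomputable def Bx2 : List ℕ := [nat_lit 1506, nat_lit 144, nat_lit 13, nat_lit 371, nat_lit 0, nat_lit 128, nat_lit 2, nat_lit 1, nat_lit 4, nat_lit 5, nat_lit 11]

theorem id3_0 : c3.idnChk (nat_lit 21) I3_0 = true := by decide +kernel
theorem rw3_0 : c3.rowChk S3 (Yo3.map (·.1) ++ Ds3) La3 (nat_lit 0) (nat_lit 9) = true := by decide +kernel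
theorem ord3 : c3.ordChk Yo3 Ds3 = true := by decide +kernel
theorem rule3_0 : allZ (c3.ruleEnt (wdsP H16.J4H.P Us3) H16.J4H.B) (nat_lit 0) (nat_lit 9) = true := by decide +kernel
theorem fus3_0 : allZ (c3.fusEnt (wdsP H16.J4H.P Us3) (wdsP H16.J4H.P Fs3) H16.J4H.B) (nat_lit 0) (nat_lit 4) = true := by decide +kernel
theorem lvx3_2e_0 : allZ (lx3_2.ent (wdsP (wdsP H16.J4H.P Us3) Wsx3)) (nat_lit 0) (nat_lit 2) = true := by decide +kernel
theorem lvx3_2b : 0 < lx3_2.n ∧ 0 < lx3_2.K ∧ lx3_2.Pt 0 < 1518 ∧ lx3_2.Q (lx3_2.Pt 0) = 0 ∧ 0 ≤ lx3_2.K ∧ fixLetters (wdsP (wdsP H16.J4H.P Us3) Wsx3) (nat_lit 0) (lx3_2.Pt 0) = true := by decide +kernel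
theorem lvx3_1e_0 : allZ (lx3_1.ent (wdsP (wdsP H16.J4H.P Us3) Wsx3)) (nat_lit 0) (nat_lit 2) = true := by decide +kernel
theorem lvx3_1b : 0 < lx3_1.n ∧ 0 < lx3_1.K ∧ lx3_1.Pt 0 < 1518 ∧ lx3_1.Q (lx3_1.Pt 0) = 0 ∧ 1 ≤ lx3_1.K ∧ fixLetters (wdsP (wdsP H16.J4H.P Us3) Wsx3) (nat_lit 1) (lx3_1.Pt 0) = true := by decide +kernel
theorem lvx3_0e_0 : allZ (lx3_0.ent (wdsP (wdsP H16.J4H.P Us3) Wsx3)) (nat_lit 0) (nat_lit 2) = true := by decide +kernel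
theorem lvx3_0b : 0 < lx3_0.n ∧ 0 < lx3_0.K ∧ lx3_0.Pt 0 < 1518 ∧ lx3_0.Q (lx3_0.Pt 0) = 0 ∧ 2 ≤ lx3_0.K ∧ fixLetters (wdsP (wdsP H16.J4H.P Us3) Wsx3) (nat_lit 2) (lx3_0.Pt 0) = true := by decide +kernel
theorem basex3 : chainBase Lx3 = Bx3 ∧ ltAll (nat_lit 1518) Bx3 = 0 ∧ topK Lx3 = 3 := by decide +kernel
theorem h0_3 : allL (ltAll 13) Us3 = true ∧ allL (ltAll 13) Fs3 = true ∧ Us3.length ≤ c3.n ∧ 0 < 501397585920 := by decide +kernel
theorem h1_3 : allL (ltAll c3.n) Wsx3 = true ∧ chainCard Lx3 = (c3.p1 + 1) ^ c3.n ∧ c3.n * c3.n = 9 := by decide +kernel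
theorem h2_3 : c3.Fmt ∧ c3.p1 + 1 = 3 ∧ c3.N1 + 1 = 3 ^ (0 + 1) ∧ 501397585920 = 3 ^ c3.n * (501397585920 / 3 ^ c3.n) ∧
    Nat.Coprime (501397585920 / 3 ^ c3.n) (c3.N1 + 1) ∧ (Yo3.map (·.2.1)).prod ≤ 3 ^ 0 ∧ c3.n * c3.n = 9 := by decide +kernel
theorem h3_3 : c3.C = 4 := by decide +kernel
theorem id2_3 : c2.idnChk (nat_lit 1731) I2_3 = true := by decide +kernel
theorem id2_2 : c2.idnChk (nat_lit 1731) I2_2 = true := by decide +kernel
theorem id2_1 : c2.idnChk (nat_lit 1731) I2_1 = true := by decide +kernel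
theorem id2_0 : c2.idnChk (nat_lit 1731) I2_0 = true := by decide +kernel
theorem rw2_0 : c2.rowChk S2 (Yo2.map (·.1) ++ Ds2) La2 (nat_lit 0) (nat_lit 189) = true := by decide +kernel
theorem rw2_189 : c2.rowChk S2 (Yo2.map (·.1) ++ Ds2) La2 (nat_lit 189) (nat_lit 189) = true := by decide +kernel
theorem rw2_378 : c2.rowChk S2 (Yo2.map (·.1) ++ Ds2) La2 (nat_lit 378) (nat_lit 63) = true := by decide +kernel
theorem ord2 : c2.ordChk Yo2 Ds2 = true := by decide +kernel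
theorem rule2_0 : allZ (c2.ruleEnt (wdsP H16.J4H.P Us2) H16.J4H.B) (nat_lit 0) (nat_lit 128) = true := by decide +kernel
theorem rule2_1 : allZ (c2.ruleEnt (wdsP H16.J4H.P Us2) H16.J4H.B) (nat_lit 128) (nat_lit 128) = true := by decide +kernel
theorem rule2_2 : allZ (c2.ruleEnt (wdsP H16.J4H.P Us2) H16.J4H.B) (nat_lit 256) (nat_lit 128) = true := by decide +kernel
theorem rule2_3 : allZ (c2.ruleEnt (wdsP H16.J4H.P Us2) H16.J4H.B) (nat_lit 384) (nat_lit 57) = true := by decide +kernel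
theorem fus2_0 : allZ (c2.fusEnt (wdsP H16.J4H.P Us2) (wdsP H16.J4H.P Fs2) H16.J4H.B) (nat_lit 0) (nat_lit 46) = true := by decide +kernel
theorem fus2_1 : allZ (c2.fusEnt (wdsP H16.J4H.P Us2) (wdsP H16.J4H.P Fs2) H16.J4H.B) (nat_lit 46) (nat_lit 40) = true := by decide +kernel
theorem lvx2_10e_0 : allZ (lx2_10.ent (wdsP (wdsP H16.J4H.P Us2) Wsx2)) (nat_lit 0) (nat_lit 1) = true := by decide +kernel
theorem lvx2_10b : 0 < lx2_10.n ∧ 0 < lx2_10.K ∧ lx2_10.Pt 0 < 1518 ∧ lx2_10.Q (lx2_10.Pt 0) = 0 ∧ 0 ≤ lx2_10.K ∧ fixLetters (wdsP (wdsP H16.J4H.P Us2) Wsx2) (nat_lit 0) (lx2_10.Pt 0) = true := by decide +kernel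
theorem lvx2_9e_0 : allZ (lx2_9.ent (wdsP (wdsP H16.J4H.P Us2) Wsx2)) (nat_lit 0) (nat_lit 1) = true := by decide +kernel
theorem lvx2_9b : 0 < lx2_9.n ∧ 0 < lx2_9.K ∧ lx2_9.Pt 0 < 1518 ∧ lx2_9.Q (lx2_9.Pt 0) = 0 ∧ 1 ≤ lx2_9.K ∧ fixLetters (wdsP (wdsP H16.J4H.P Us2) Wsx2) (nat_lit 1) (lx2_9.Pt 0) = true := by decide +kernel
theorem lvx2_8e_0 : allZ (lx2_8.ent (wdsP (wdsP H16.J4H.P Us2) Wsx2)) (nat_lit 0) (nat_lit 1) = true := by decide +kernel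
theorem lvx2_8b : 0 < lx2_8.n ∧ 0 < lx2_8.K ∧ lx2_8.Pt 0 < 1518 ∧ lx2_8.Q (lx2_8.Pt 0) = 0 ∧ 2 ≤ lx2_8.K ∧ fixLetters (wdsP (wdsP H16.J4H.P Us2) Wsx2) (nat_lit 2) (lx2_8.Pt 0) = true := by decide +kernel
theorem lvx2_7e_0 : allZ (lx2_7.ent (wdsP (wdsP H16.J4H.P Us2) Wsx2)) (nat_lit 0) (nat_lit 3) = true := by decide +kernel
theorem lvx2_7b : 0 < lx2_7.n ∧ 0 < lx2_7.K ∧ lx2_7.Pt 0 < 1518 ∧ lx2_7.Q (lx2_7.Pt 0) = 0 ∧ 3 ≤ lx2_7.K ∧ fixLetters (wdsP (wdsP H16.J4H.P Us2) Wsx2) (nat_lit 3) (lx2_7.Pt 0) = true := by decide +kernel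
theorem lvx2_6e_0 : allZ (lx2_6.ent (wdsP (wdsP H16.J4H.P Us2) Wsx2)) (nat_lit 0) (nat_lit 3) = true := by decide +kernel
theorem lvx2_6b : 0 < lx2_6.n ∧ 0 < lx2_6.K ∧ lx2_6.Pt 0 < 1518 ∧ lx2_6.Q (lx2_6.Pt 0) = 0 ∧ 5 ≤ lx2_6.K ∧ fixLetters (wdsP (wdsP H16.J4H.P Us2) Wsx2) (nat_lit 5) (lx2_6.Pt 0) = true := by decide +kernel
theorem lvx2_5e_0 : allZ (lx2_5.ent (wdsP (wdsP H16.J4H.P Us2) Wsx2)) (nat_lit 0) (nat_lit 3) = true := by decide +kernel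
theorem lvx2_5b : 0 < lx2_5.n ∧ 0 < lx2_5.K ∧ lx2_5.Pt 0 < 1518 ∧ lx2_5.Q (lx2_5.Pt 0) = 0 ∧ 7 ≤ lx2_5.K ∧ fixLetters (wdsP (wdsP H16.J4H.P Us2) Wsx2) (nat_lit 7) (lx2_5.Pt 0) = true := by decide +kernel
theorem lvx2_4e_0 : allZ (lx2_4.ent (wdsP (wdsP H16.J4H.P Us2) Wsx2)) (nat_lit 0) (nat_lit 15) = true := by decide +kernel
theorem lvx2_4b : 0 < lx2_4.n ∧ 0 < lx2_4.K ∧ lx2_4.Pt 0 < 1518 ∧ lx2_4.Q (lx2_4.Pt 0) = 0 ∧ 9 ≤ lx2_4.K ∧ fixLetters (wdsP (wdsP H16.J4H.P Us2) Wsx2) (nat_lit 9) (lx2_4.Pt 0) = true := by decide +kernel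
theorem lvx2_3e_0 : allZ (lx2_3.ent (wdsP (wdsP H16.J4H.P Us2) Wsx2)) (nat_lit 0) (nat_lit 3) = true := by decide +kernel
theorem lvx2_3b : 0 < lx2_3.n ∧ 0 < lx2_3.K ∧ lx2_3.Pt 0 < 1518 ∧ lx2_3.Q (lx2_3.Pt 0) = 0 ∧ 13 ≤ lx2_3.K ∧ fixLetters (wdsP (wdsP H16.J4H.P Us2) Wsx2) (nat_lit 13) (lx2_3.Pt 0) = true := by decide +kernel
theorem lvx2_2e_0 : allZ (lx2_2.ent (wdsP (wdsP H16.J4H.P Us2) Wsx2)) (nat_lit 0) (nat_lit 7) = true := by decide +kernel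
theorem lvx2_2b : 0 < lx2_2.n ∧ 0 < lx2_2.K ∧ lx2_2.Pt 0 < 1518 ∧ lx2_2.Q (lx2_2.Pt 0) = 0 ∧ 15 ≤ lx2_2.K ∧ fixLetters (wdsP (wdsP H16.J4H.P Us2) Wsx2) (nat_lit 15) (lx2_2.Pt 0) = true := by decide +kernel
theorem lvx2_1e_0 : allZ (lx2_1.ent (wdsP (wdsP H16.J4H.P Us2) Wsx2)) (nat_lit 0) (nat_lit 3) = true := by decide +kernel
theorem lvx2_1b : 0 < lx2_1.n ∧ 0 < lx2_1.K ∧ lx2_1.Pt 0 < 1518 ∧ lx2_1.Q (lx2_1.Pt 0) = 0 ∧ 18 ≤ lx2_1.K ∧ fixLetters (wdsP (wdsP H16.J4H.P Us2) Wsx2) (nat_lit 18) (lx2_1.Pt 0) = true := by decide +kernel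
theorem lvx2_0e_0 : allZ (lx2_0.ent (wdsP (wdsP H16.J4H.P Us2) Wsx2)) (nat_lit 0) (nat_lit 1) = true := by decide +kernel
theorem lvx2_0b : 0 < lx2_0.n ∧ 0 < lx2_0.K ∧ lx2_0.Pt 0 < 1518 ∧ lx2_0.Q (lx2_0.Pt 0) = 0 ∧ 20 ≤ lx2_0.K ∧ fixLetters (wdsP (wdsP H16.J4H.P Us2) Wsx2) (nat_lit 20) (lx2_0.Pt 0) = true := by decide +kernel
theorem basex2 : chainBase Lx2 = Bx2 ∧ ltAll (nat_lit 1518) Bx2 = 0 ∧ topK Lx2 = 21 := by decide +kernel
theorem h0_2 : allL (ltAll 13) Us2 = true ∧ allL (ltAll 13) Fs2 = true ∧ Us2.length ≤ c2.n ∧ 0 < 501397585920 := by decide +kernel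
theorem h1_2 : allL (ltAll c2.n) Wsx2 = true ∧ chainCard Lx2 = (c2.p1 + 1) ^ c2.n ∧ c2.n * c2.n = 441 := by decide +kernel
theorem h2_2 : c2.Fmt ∧ c2.p1 + 1 = 2 ∧ c2.N1 + 1 = 2 ^ (0 + 1) ∧ 501397585920 = 2 ^ c2.n * (501397585920 / 2 ^ c2.n) ∧
    Nat.Coprime (501397585920 / 2 ^ c2.n) (c2.N1 + 1) ∧ (Yo2.map (·.2.1)).prod ≤ 2 ^ 0 ∧ c2.n * c2.n = 441 := by decide +kernel
theorem h3_2 : c2.C = 86 := by decide +kernel

instance fin : Finite (gen H16.J4H.g 13) := Nat.finite_of_card_ne_zero (by rw [H16.J4H.card]; decide)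
theorem zero3 : ∀ D ∈ Ds3, c3.Zero D := (Pc.zero_of_chk id3_0)
theorem rows3 : ∀ r < 9, c3.Row S3 (Yo3.map (·.1)) r :=
  (Pc.rows_glue zero3 Pc.rows_zero rw3_0)
theorem rule3 : ∀ i < 9, (c3.ruleEnt (wdsP H16.J4H.P Us3) H16.J4H.B) i = 0 := allZ_sound0 rule3_0
theorem fus3 : ∀ i < 4, (c3.fusEnt (wdsP H16.J4H.P Us3) (wdsP H16.J4H.P Fs3) H16.J4H.B) i = 0 := allZ_sound0 fus3_0
theorem lvx3_2e : ∀ i < 2, (lx3_2.ent (wdsP (wdsP H16.J4H.P Us3) Wsx3)) i = 0 := allZ_sound0 lvx3_2e_0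
theorem lvx3_1e : ∀ i < 2, (lx3_1.ent (wdsP (wdsP H16.J4H.P Us3) Wsx3)) i = 0 := allZ_sound0 lvx3_1e_0
theorem lvx3_0e : ∀ i < 2, (lx3_0.ent (wdsP (wdsP H16.J4H.P Us3) Wsx3)) i = 0 := allZ_sound0 lvx3_0e_0
theorem lowx3 : LowChain (wdsP (wdsP H16.J4H.P Us3) Wsx3) 1518 Lx3 :=
  ⟨⟨lvx3_0b.1, lvx3_0b.2.1, lvx3_0b.2.2.1, lvx3_0b.2.2.2.1, lvx3_0e⟩, lvx3_0b.2.2.2.2.1, lvx3_0b.2.2.2.2.2, ⟨⟨lvx3_1b.1, lvx3_1b.2.1, lvx3_1b.2.2.1, lvx3_1b.2.2.2.1, lvx3_1e⟩, lvx3_1b.2.2.2.2.1, lvx3_1b.2.2.2.2.2, ⟨⟨lvx3_2b.1, lvx3_2b.2.1, lvx3_2b.2.2.1, lvx3_2b.2.2.2.1, lvx3_2e⟩, lvx3_2b.2.2.2.2.1, lvx3_2b.2.2.2.2.2, trivial⟩⟩⟩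
open scoped Pointwise in
theorem pb3 : PB (gen H16.J4H.g 13) (3 ^ (0 + 1)) :=
  (Pc.gok_wds H16.J4H.act H16.J4H.card (ptF_inj 1518) H16.J4H.Blt H16.J4H.isBase h0_3 h1_3 rule3
    (fun r h => fus3 r (h.trans_eq h3_3)) lowx3).pb (by norm_num) H16.J4H.card zero3 rows3 ord3 h2_3
theorem zero2 : ∀ D ∈ Ds2, c2.Zero D := (Pc.zero_app (Pc.zero_of_chk id2_0) (Pc.zero_app (Pc.zero_of_chk id2_1) (Pc.zero_app (Pc.zero_of_chk id2_2) (Pc.zero_of_chk id2_3))))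
theorem rows2 : ∀ r < 441, c2.Row S2 (Yo2.map (·.1)) r :=
  (Pc.rows_glue zero2 (Pc.rows_glue zero2 (Pc.rows_glue zero2 Pc.rows_zero rw2_0) rw2_189) rw2_378)
theorem rule2_g0 : ∀ i < 128, (c2.ruleEnt (wdsP H16.J4H.P Us2) H16.J4H.B) i = 0 := allZ_sound0 rule2_0
theorem rule2_g1 : ∀ i < 256, (c2.ruleEnt (wdsP H16.J4H.P Us2) H16.J4H.B) i = 0 := range_glue rule2_g0 rule2_1
theorem rule2_g2 : ∀ i < 384, (c2.ruleEnt (wdsP H16.J4H.P Us2) H16.J4H.B) i = 0 := range_glue rule2_g1 rule2_2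
theorem rule2 : ∀ i < 441, (c2.ruleEnt (wdsP H16.J4H.P Us2) H16.J4H.B) i = 0 := range_glue rule2_g2 rule2_3
theorem fus2_g0 : ∀ i < 46, (c2.fusEnt (wdsP H16.J4H.P Us2) (wdsP H16.J4H.P Fs2) H16.J4H.B) i = 0 := allZ_sound0 fus2_0
theorem fus2 : ∀ i < 86, (c2.fusEnt (wdsP H16.J4H.P Us2) (wdsP H16.J4H.P Fs2) H16.J4H.B) i = 0 := range_glue fus2_g0 fus2_1
theorem lvx2_10e : ∀ i < 1, (lx2_10.ent (wdsP (wdsP H16.J4H.P Us2) Wsx2)) i = 0 := allZ_sound0 lvx2_10e_0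
theorem lvx2_9e : ∀ i < 1, (lx2_9.ent (wdsP (wdsP H16.J4H.P Us2) Wsx2)) i = 0 := allZ_sound0 lvx2_9e_0
theorem lvx2_8e : ∀ i < 1, (lx2_8.ent (wdsP (wdsP H16.J4H.P Us2) Wsx2)) i = 0 := allZ_sound0 lvx2_8e_0
theorem lvx2_7e : ∀ i < 3, (lx2_7.ent (wdsP (wdsP H16.J4H.P Us2) Wsx2)) i = 0 := allZ_sound0 lvx2_7e_0
theorem lvx2_6e : ∀ i < 3, (lx2_6.ent (wdsP (wdsP H16.J4H.P Us2) Wsx2)) i = 0 := allZ_sound0 lvx2_6e_0
theorem lvx2_5e : ∀ i < 3, (lx2_5.ent (wdsP (wdsP H16.J4H.P Us2) Wsx2)) i = 0 := allZ_sound0 lvx2_5e_0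
theorem lvx2_4e : ∀ i < 15, (lx2_4.ent (wdsP (wdsP H16.J4H.P Us2) Wsx2)) i = 0 := allZ_sound0 lvx2_4e_0
theorem lvx2_3e : ∀ i < 3, (lx2_3.ent (wdsP (wdsP H16.J4H.P Us2) Wsx2)) i = 0 := allZ_sound0 lvx2_3e_0
theorem lvx2_2e : ∀ i < 7, (lx2_2.ent (wdsP (wdsP H16.J4H.P Us2) Wsx2)) i = 0 := allZ_sound0 lvx2_2e_0
theorem lvx2_1e : ∀ i < 3, (lx2_1.ent (wdsP (wdsP H16.J4H.P Us2) Wsx2)) i = 0 := allZ_sound0 lvx2_1e_0
theorem lvx2_0e : ∀ i < 1, (lx2_0.ent (wdsP (wdsP H16.J4H.P Us2) Wsx2)) i = 0 := allZ_sound0 lvx2_0e_0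
theorem lowx2 : LowChain (wdsP (wdsP H16.J4H.P Us2) Wsx2) 1518 Lx2 :=
  ⟨⟨lvx2_0b.1, lvx2_0b.2.1, lvx2_0b.2.2.1, lvx2_0b.2.2.2.1, lvx2_0e⟩, lvx2_0b.2.2.2.2.1, lvx2_0b.2.2.2.2.2, ⟨⟨lvx2_1b.1, lvx2_1b.2.1, lvx2_1b.2.2.1, lvx2_1b.2.2.2.1, lvx2_1e⟩, lvx2_1b.2.2.2.2.1, lvx2_1b.2.2.2.2.2, ⟨⟨lvx2_2b.1, lvx2_2b.2.1, lvx2_2b.2.2.1, lvx2_2b.2.2.2.1, lvx2_2e⟩, lvx2_2b.2.2.2.2.1, lvx2_2b.2.2.2.2.2, ⟨⟨lvx2_3b.1, lvx2_3b.2.1, lvx2_3b.2.2.1, lvx2_3b.2.2.2.1, lvx2_3e⟩, lvx2_3b.2.2.2.2.1, lvx2_3b.2.2.2.2.2, ⟨⟨lvx2_4b.1, lvx2_4b.2.1, lvx2_4b.2.2.1, lvx2_4b.2.2.2.1, lvx2_4e⟩, lvx2_4b.2.2.2.2.1, lvx2_4b.2.2.2.2.2, ⟨⟨lvx2_5b.1, lvx2_5b.2.1, lvx2_5b.2.2.1, lvx2_5b.2.2.2.1, lvx2_5e⟩, lvx2_5b.2.2.2.2.1, lvx2_5b.2.2.2.2.2, ⟨⟨lvx2_6b.1, lvx2_6b.2.1, lvx2_6b.2.2.1, lvx2_6b.2.2.2.1, lvx2_6e⟩, lvx2_6b.2.2.2.2.1, lvx2_6b.2.2.2.2.2, ⟨⟨lvx2_7b.1, lvx2_7b.2.1, lvx2_7b.2.2.1, lvx2_7b.2.2.2.1, lvx2_7e⟩, lvx2_7b.2.2.2.2.1,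 lvx2_7b.2.2.2.2.2, ⟨⟨lvx2_8b.1, lvx2_8b.2.1, lvx2_8b.2.2.1, lvx2_8b.2.2.2.1, lvx2_8e⟩, lvx2_8b.2.2.2.2.1, lvx2_8b.2.2.2.2.2, ⟨⟨lvx2_9b.1, lvx2_9b.2.1, lvx2_9b.2.2.1, lvx2_9b.2.2.2.1, lvx2_9e⟩, lvx2_9b.2.2.2.2.1, lvx2_9b.2.2.2.2.2, ⟨⟨lvx2_10b.1, lvx2_10b.2.1, lvx2_10b.2.2.1, lvx2_10b.2.2.2.1, lvx2_10e⟩, lvx2_10b.2.2.2.2.1, lvx2_10b.2.2.2.2.2, trivial⟩⟩⟩⟩⟩⟩⟩⟩⟩⟩⟩
open scoped Pointwise in
theorem pb2 : PB (gen H16.J4H.g 13) (2 ^ (0 + 1)) :=
  (Pc.gok_wds H16.J4H.act H16.J4H.card (ptF_inj 1518) H16.J4H.Blt H16.J4H.isBase h0_2 h1_2 rule2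
    (fun r h => fus2 r (h.trans_eq h3_2)) lowx2).pb (by norm_num) H16.J4H.card zero2 rows2 ord2 h2_2
theorem ker_le (Δ : Type) [Group Δ] [Finite Δ] (τ : Δ →* (gen H16.J4H.g 13)) (h : Cfsg.IsStemExtension τ) :
    Nat.card τ.ker ≤ 1 :=
  card_ker_le (L := [(2, 21, 0), (3, 3, 0), (5, 1, 0), (7, 1, 0), (11, 1, 0), (23, 1, 0)]) ⟨H16.J4H.card.trans (by decide +kernel), by decide +kernel⟩
    (all_cons ⟨by norm_num, pb2⟩
    (all_cons ⟨by norm_num, pb3⟩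
    (all_cons ⟨by norm_num, PB.of_not_sq (by norm_num) (by rw [H16.J4H.card]; decide)⟩
    (all_cons ⟨by norm_num, PB.of_not_sq (by norm_num) (by rw [H16.J4H.card]; decide)⟩
    (all_cons ⟨by norm_num, PB.of_not_sq (by norm_num) (by rw [H16.J4H.card]; decide)⟩
    (all_cons ⟨by norm_num, PB.of_not_sq (by norm_num) (by rw [H16.J4H.card]; decide)⟩
    all_nil)))))) Δ τ h

end H16.ScJ4H
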