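import Cfsg.Agent.H16.Sch2
import Cfsg.Agent.H15.M.M22

/-! Generated by tools/h16 (computation kit). -/

set_option maxRecDepth 100000
set_option maxHeartbeats 0

namespace H16.ScM22

noncomputable def Us3 : List (List ℕ) := [[nat_lit 3, nat_lit 6, nat_lit 5, nat_lit 3],
  [nat_lit 0, nat_lit 1, nat_lit 7, nat_lit 6, nat_lit 7, nat_lit 3]]
noncomputable def Fs3 : List (List ℕ) := []
noncomputable def c3 : Pc := ⟨(nat_lit 2), (nat_lit 8), (nat_lit 2), (nat_lit 2), (nat_lit 0), (nat_lit 11),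
  [[[]],
  [[nat_lit 1], []]],
  []⟩
noncomputable def I3_0 : List Pc.Idn := [⟨false, (nat_lit 0), [nat_lit 1], [nat_lit 0, nat_lit 0], [((nat_lit 2), (nat_lit 3))]⟩]
noncomputable def Ds3 : List (List (ℕ × ℕ)) := I3_0.map Pc.Idn.D
noncomputable def S3 : List (List (ℕ × ℕ)) := [[],
  []]
noncomputable def Yo3 : List (List (ℕ × ℕ) × ℕ × ℕ) := [([((nat_lit 2), (nat_lit 1))], (nat_lit 3), nat_lit 8)]
noncomputable def La3 : List ℕ := [nat_lit 0,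
  nat_lit 0,
  nat_lit 1,
  nat_lit 0]
noncomputable def Wsx3 : List (List ℕ) := [[nat_lit 0],
  [nat_lit 1]]
noncomputable def LDx3_1d : ℕ := nat_lit 4
noncomputable def LDx3_1 (u : ℕ) : ℕ := Nat.land (Nat.shiftRight LDx3_1d (Nat.mul u (nat_lit 1))) (nat_lit 1)
noncomputable def Ptx3_1d : ℕ := nat_lit 0x5a43
noncomputable def Ptx3_1 (u : ℕ) : ℕ := Nat.land (Nat.shiftRight Ptx3_1d (Nat.mul u (nat_lit 5))) (nat_lit 31)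
noncomputable def Qx3_1d : ℕ := nat_lit 0x201000000000
noncomputable def Qx3_1 (u : ℕ) : ℕ := Nat.land (Nat.shiftRight Qx3_1d (Nat.mul u (nat_lit 2))) (nat_lit 3)
noncomputable def lx3_1 : Lev := ⟨3, 1, LDx3_1, Ptx3_1, Qx3_1⟩
noncomputable def LDx3_0d : ℕ := nat_lit 0x34
noncomputable def LDx3_0 (u : ℕ) : ℕ := Nat.land (Nat.shiftRight LDx3_0d (Nat.mul u (nat_lit 2))) (nat_lit 3)
noncomputable def Ptx3_0d : ℕ := nat_lit 0x2a62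
noncomputable def Ptx3_0 (u : ℕ) : ℕ := Nat.land (Nat.shiftRight Ptx3_0d (Nat.mul u (nat_lit 5))) (nat_lit 31)
noncomputable def Qx3_0d : ℕ := nat_lit 0x4000200000
noncomputable def Qx3_0 (u : ℕ) : ℕ := Nat.land (Nat.shiftRight Qx3_0d (Nat.mul u (nat_lit 2))) (nat_lit 3)
noncomputable def lx3_0 : Lev := ⟨3, 2, LDx3_0, Ptx3_0, Qx3_0⟩
noncomputable def Lx3 : List Lev := [lx3_0, lx3_1]
noncomputable def Bx3 : List ℕ := [nat_lit 2, nat_lit 3]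
noncomputable def Us2 : List (List ℕ) := [[nat_lit 6, nat_lit 0, nat_lit 2, nat_lit 4, nat_lit 6, nat_lit 7, nat_lit 6, nat_lit 2, nat_lit 8, nat_lit 7, nat_lit 6],
  [nat_lit 7, nat_lit 1, nat_lit 6, nat_lit 1, nat_lit 5, nat_lit 6, nat_lit 7, nat_lit 8, nat_lit 7, nat_lit 6, nat_lit 3, nat_lit 6, nat_lit 7],
  [nat_lit 2, nat_lit 4, nat_lit 6, nat_lit 0, nat_lit 1, nat_lit 7, nat_lit 6, nat_lit 4, nat_lit 8],
  [nat_lit 8, nat_lit 7, nat_lit 8, nat_lit 2, nat_lit 6, nat_lit 7, nat_lit 6, nat_lit 5, nat_lit 8, nat_lit 7, nat_lit 2],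
  [nat_lit 5, nat_lit 3, nat_lit 6, nat_lit 5, nat_lit 7, nat_lit 6, nat_lit 8, nat_lit 7, nat_lit 6, nat_lit 0],
  [nat_lit 7, nat_lit 3, nat_lit 6, nat_lit 2, nat_lit 7, nat_lit 8, nat_lit 7, nat_lit 6, nat_lit 3, nat_lit 7],
  [nat_lit 6, nat_lit 1, nat_lit 6, nat_lit 7, nat_lit 6, nat_lit 0, nat_lit 1, nat_lit 8, nat_lit 7, nat_lit 6, nat_lit 2]]
noncomputable def Fs2 : List (List ℕ) := [[nat_lit 5, nat_lit 6, nat_lit 1, nat_lit 5, nat_lit 6, nat_lit 7, nat_lit 6, nat_lit 5, nat_lit 8, nat_lit 7, nat_lit 6, nat_lit 1],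
  [nat_lit 2, nat_lit 3, nat_lit 6, nat_lit 2, nat_lit 7, nat_lit 6, nat_lit 3, nat_lit 8, nat_lit 7, nat_lit 6, nat_lit 2, nat_lit 5]]
noncomputable def c2 : Pc := ⟨(nat_lit 1), (nat_lit 7), (nat_lit 7), (nat_lit 3), (nat_lit 4), (nat_lit 16),
  [[[nat_lit 6]],
  [[nat_lit 1, nat_lit 3], []],
  [[nat_lit 2, nat_lit 4], [nat_lit 2, nat_lit 3, nat_lit 6], [nat_lit 4, nat_lit 6]],
  [[nat_lit 3], [nat_lit 3], [nat_lit 3, nat_lit 5], []],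
  [[nat_lit 4, nat_lit 6], [nat_lit 4, nat_lit 5], [nat_lit 4], [nat_lit 4, nat_lit 6], [nat_lit 6]],
  [[nat_lit 5, nat_lit 6], [nat_lit 5], [nat_lit 5, nat_lit 6], [nat_lit 5], [nat_lit 5], []],
  [[nat_lit 6], [nat_lit 6], [nat_lit 6], [nat_lit 6], [nat_lit 6], [nat_lit 6], []]],
  [((nat_lit 1), [nat_lit 3], [nat_lit 1, nat_lit 6]),
  ((nat_lit 1), [nat_lit 1], [nat_lit 6]),
  ((nat_lit 0), [nat_lit 6], [nat_lit 3, nat_lit 4, nat_lit 5]),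
  ((nat_lit 0), [nat_lit 5], [nat_lit 0, nat_lit 1, nat_lit 2, nat_lit 6])]⟩
noncomputable def I2_0 : List Pc.Idn := [⟨false, (nat_lit 0), [nat_lit 0], [nat_lit 0, nat_lit 0], [((nat_lit 46), (nat_lit 1))]⟩,
  ⟨false, (nat_lit 0), [nat_lit 3], [nat_lit 3, nat_lit 0], [((nat_lit 25), (nat_lit 6))]⟩,
  ⟨false, (nat_lit 0), [nat_lit 3], [nat_lit 3, nat_lit 1], [((nat_lit 26), (nat_lit 6))]⟩,
  ⟨false, (nat_lit 0), [nat_lit 6], [nat_lit 6, nat_lit 2], [((nat_lit 48), (nat_lit 6))]⟩,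
  ⟨false, (nat_lit 0), [nat_lit 5], [nat_lit 5, nat_lit 3], [((nat_lit 42), (nat_lit 6))]⟩,
  ⟨false, (nat_lit 0), [nat_lit 4], [nat_lit 4, nat_lit 4], [((nat_lit 50), (nat_lit 1))]⟩,
  ⟨false, (nat_lit 0), [nat_lit 5], [nat_lit 5, nat_lit 4], [((nat_lit 43), (nat_lit 6))]⟩,
  ⟨false, (nat_lit 0), [nat_lit 6], [nat_lit 6, nat_lit 5], [((nat_lit 51), (nat_lit 6))]⟩,
  ⟨false, (nat_lit 0), [nat_lit 1], [nat_lit 1, nat_lit 0], [((nat_lit 11), (nat_lit 6)), ((nat_lit 26), (nat_lit 7)), ((nat_lit 28), (nat_lit 7))]⟩,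
  ⟨false, (nat_lit 0), [nat_lit 3], [nat_lit 0, nat_lit 0], [((nat_lit 25), (nat_lit 2)), ((nat_lit 49), (nat_lit 1))]⟩,
  ⟨false, (nat_lit 0), [nat_lit 5], [nat_lit 5, nat_lit 0], [((nat_lit 39), (nat_lit 6)), ((nat_lit 51), (nat_lit 7)), ((nat_lit 52), (nat_lit 7))]⟩,
  ⟨false, (nat_lit 0), [nat_lit 4], [nat_lit 1, nat_lit 1], [((nat_lit 33), (nat_lit 2)), ((nat_lit 40), (nat_lit 1)), ((nat_lit 44), (nat_lit 1))]⟩,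
  ⟨false, (nat_lit 0), [nat_lit 2], [nat_lit 2, nat_lit 2], [((nat_lit 34), (nat_lit 1)), ((nat_lit 48), (nat_lit 1))]⟩,
  ⟨false, (nat_lit 0), [nat_lit 3], [nat_lit 3, nat_lit 2], [((nat_lit 27), (nat_lit 6)), ((nat_lit 42), (nat_lit 7)), ((nat_lit 44), (nat_lit 7))]⟩,
  ⟨false, (nat_lit 0), [nat_lit 4], [nat_lit 4, nat_lit 2], [((nat_lit 34), (nat_lit 6)), ((nat_lit 48), (nat_lit 1))]⟩,
  ⟨false, (nat_lit 0), [nat_lit 5], [nat_lit 5, nat_lit 2], [((nat_lit 41), (nat_lit 6)), ((nat_lit 51), (nat_lit 7)), ((nat_lit 52), (nat_lit 7))]⟩,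
  ⟨false, (nat_lit 0), [nat_lit 4], [nat_lit 3, nat_lit 3], [((nat_lit 35), (nat_lit 2)), ((nat_lit 49), (nat_lit 1)), ((nat_lit 52), (nat_lit 1))]⟩,
  ⟨false, (nat_lit 0), [nat_lit 5], [nat_lit 4, nat_lit 4], [((nat_lit 43), (nat_lit 2)), ((nat_lit 51), (nat_lit 1))]⟩,
  ⟨false, (nat_lit 0), [nat_lit 4], [nat_lit 4, nat_lit 0], [((nat_lit 32), (nat_lit 6)), ((nat_lit 46), (nat_lit 1)), ((nat_lit 50), (nat_lit 7)), ((nat_lit 52), (nat_lit 7))]⟩,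
  ⟨false, (nat_lit 0), [nat_lit 2], [nat_lit 1, nat_lit 1], [((nat_lit 19), (nat_lit 2)), ((nat_lit 26), (nat_lit 1)), ((nat_lit 28), (nat_lit 1)), ((nat_lit 47), (nat_lit 1)), ((nat_lit 49), (nat_lit 1)), ((nat_lit 52), (nat_lit 1))]⟩,
  ⟨false, (nat_lit 0), [nat_lit 1], [nat_lit 0, nat_lit 0], [((nat_lit 11), (nat_lit 2)), ((nat_lit 25), (nat_lit 1)), ((nat_lit 28), (nat_lit 1)), ((nat_lit 47), (nat_lit 1)), ((nat_lit 49), (nat_lit 2))]⟩,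
  ⟨false, (nat_lit 0), [nat_lit 4], [nat_lit 4, nat_lit 1], [((nat_lit 33), (nat_lit 6)), ((nat_lit 43), (nat_lit 7)), ((nat_lit 44), (nat_lit 7)), ((nat_lit 47), (nat_lit 1)), ((nat_lit 51), (nat_lit 6))]⟩,
  ⟨false, (nat_lit 0), [nat_lit 5], [nat_lit 2, nat_lit 2], [((nat_lit 41), (nat_lit 2)), ((nat_lit 43), (nat_lit 7)), ((nat_lit 48), (nat_lit 1)), ((nat_lit 51), (nat_lit 1)), ((nat_lit 52), (nat_lit 1))]⟩,
  ⟨false, (nat_lit 0), [nat_lit 2], [nat_lit 0, nat_lit 0], [((nat_lit 18), (nat_lit 2)), ((nat_lit 32), (nat_lit 1)), ((nat_lit 36), (nat_lit 1)), ((nat_lit 48), (nat_lit 1)), ((nat_lit 50), (nat_lit 2)), ((nat_lit 52), (nat_lit 1))]⟩,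
  ⟨false, (nat_lit 0), [nat_lit 3], [nat_lit 2, nat_lit 2], [((nat_lit 27), (nat_lit 2)), ((nat_lit 35), (nat_lit 1)), ((nat_lit 41), (nat_lit 1)), ((nat_lit 44), (nat_lit 1)), ((nat_lit 49), (nat_lit 1)), ((nat_lit 52), (nat_lit 1))]⟩,
  ⟨false, (nat_lit 0), [nat_lit 5], [nat_lit 1, nat_lit 0], [((nat_lit 42), (nat_lit 7)), ((nat_lit 47), (nat_lit 7)), ((nat_lit 49), (nat_lit 7))]⟩,
  ⟨false, (nat_lit 0), [nat_lit 3], [nat_lit 2, nat_lit 0], [((nat_lit 35), (nat_lit 1)), ((nat_lit 39), (nat_lit 1)), ((nat_lit 43), (nat_lit 7)), ((nat_lit 51), (nat_lit 1)), ((nat_lit 52), (nat_lit 1))]⟩,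
  ⟨false, (nat_lit 0), [nat_lit 2], [nat_lit 2, nat_lit 1], [((nat_lit 19), (nat_lit 6)), ((nat_lit 27), (nat_lit 7)), ((nat_lit 28), (nat_lit 7)), ((nat_lit 33), (nat_lit 1)), ((nat_lit 35), (nat_lit 6)), ((nat_lit 42), (nat_lit 7)), ((nat_lit 47), (nat_lit 1)), ((nat_lit 48), (nat_lit 7)), ((nat_lit 49), (nat_lit 6)), ((nat_lit 51), (nat_lit 7)), ((nat_lit 52), (nat_lit 6))]⟩,
  ⟨true, (nat_lit 1), [nat_lit 0, nat_lit 1], [nat_lit 1, nat_lit 0], [((nat_lit 26), (nat_lit 1)), ((nat_lit 47), (nat_lit 1))]⟩,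
  ⟨true, (nat_lit 0), [nat_lit 2, nat_lit 3], [nat_lit 3, nat_lit 2], [((nat_lit 25), (nat_lit 7)), ((nat_lit 26), (nat_lit 7)), ((nat_lit 27), (nat_lit 7)), ((nat_lit 32), (nat_lit 7)), ((nat_lit 33), (nat_lit 7)), ((nat_lit 34), (nat_lit 7)), ((nat_lit 39), (nat_lit 7)), ((nat_lit 40), (nat_lit 7)), ((nat_lit 43), (nat_lit 7)), ((nat_lit 44), (nat_lit 7)), ((nat_lit 49), (nat_lit 1)), ((nat_lit 50), (nat_lit 1)), ((nat_lit 51), (nat_lit 1)), ((nat_lit 52), (nat_lit 7))]⟩]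
noncomputable def Ds2 : List (List (ℕ × ℕ)) := I2_0.map Pc.Idn.D
noncomputable def S2 : List (List (ℕ × ℕ)) := [[],
  [],
  [],
  [((nat_lit 11), (nat_lit 1))],
  [((nat_lit 18), (nat_lit 1))],
  [((nat_lit 27), (nat_lit 1))],
  [((nat_lit 39), (nat_lit 1))]]
noncomputable def Yo2 : List (List (ℕ × ℕ) × ℕ × ℕ) := [([((nat_lit 11), (nat_lit 1)), ((nat_lit 19), (nat_lit 7)), ((nat_lit 32), (nat_lit 1))], (nat_lit 4), nat_lit 0x60000004a40001129100d6)]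
noncomputable def La2 : List ℕ := [nat_lit 0,
  nat_lit 0,
  nat_lit 0,
  nat_lit 0,
  nat_lit 0,
  nat_lit 0,
  nat_lit 0,
  nat_lit 0,
  nat_lit 0,
  nat_lit 0,
  nat_lit 0,
  nat_lit 0,
  nat_lit 0,
  nat_lit 0,
  nat_lit 0,
  nat_lit 0x1e9dc060863720f8821066ed,
  nat_lit 0,
  nat_lit 0,
  nat_lit 0,
  nat_lit 0,
  nat_lit 0,
  nat_lit 0x8800838194800c3ec00bc0,
  nat_lit 0x8800807f94800dfedc09ce,
  nat_lit 0,
  nat_lit 0x388008012b480044244087a,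
  nat_lit 0,
  nat_lit 0,
  nat_lit 0,
  nat_lit 0x1e9dc060863720f8821066ee,
  nat_lit 0x295c0c17506a10b808864f4,
  nat_lit 0x218000006000,
  nat_lit 0x10e002301cd2108f7606580,
  nat_lit 0x6f041e28a1b429875084eda,
  nat_lit 0,
  nat_lit 0,
  nat_lit 0,
  nat_lit 0x1b2d80a77c9920799d206492,
  nat_lit 0x1b4b08c6554e0369ef1008b2,
  nat_lit 0x84d00ff3daba625abf3e416,
  nat_lit 0xe00003e30800002000,
  nat_lit 0x84d00ff3daba225abf06416,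
  nat_lit 0,
  nat_lit 8,
  nat_lit 0xb6c8003149881250d4004b6,
  nat_lit 0xe30000002000,
  nat_lit 0x30000010120000854800c80,
  nat_lit 0x40000,
  nat_lit 0x30400c1019ec20a55c04c80,
  nat_lit 0x10c004300aa4205f3404580]
noncomputable def Wsx2 : List (List ℕ) := [[nat_lit 1],
  [nat_lit 3],
  [nat_lit 5],
  [nat_lit 6],
  [nat_lit 4],
  [nat_lit 0, nat_lit 2],
  [nat_lit 0]]
noncomputable def LDx2_2d : ℕ := nat_lit 0xbe36d758f2ca1c6143081000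
noncomputable def LDx2_2 (u : ℕ) : ℕ := Nat.land (Nat.shiftRight LDx2_2d (Nat.mul u (nat_lit 6))) (nat_lit 63)
noncomputable def Ptx2_2d : ℕ := nat_lit 0x9b448945f45aa0c4d4a1
noncomputable def Ptx2_2 (u : ℕ) : ℕ := Nat.land (Nat.shiftRight Ptx2_2d (Nat.mul u (nat_lit 5))) (nat_lit 31)
noncomputable def Qx2_2d : ℕ := nat_lit 0x28fba590e4763c00100d00
noncomputable def Qx2_2 (u : ℕ) : ℕ := Nat.land (Nat.shiftRight Qx2_2d (Nat.mul u (nat_lit 4))) (nat_lit 15)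
noncomputable def lx2_2 : Lev := ⟨16, 4, LDx2_2, Ptx2_2, Qx2_2⟩
noncomputable def LDx2_1d : ℕ := nat_lit 0xb540
noncomputable def LDx2_1 (u : ℕ) : ℕ := Nat.land (Nat.shiftRight LDx2_1d (Nat.mul u (nat_lit 4))) (nat_lit 15)
noncomputable def Ptx2_1d : ℕ := nat_lit 0x3bac3
noncomputable def Ptx2_1 (u : ℕ) : ℕ := Nat.land (Nat.shiftRight Ptx2_1d (Nat.mul u (nat_lit 5))) (nat_lit 31)
noncomputable def Qx2_1d : ℕ := nat_lit 0x10002000c000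
noncomputable def Qx2_1 (u : ℕ) : ℕ := Nat.land (Nat.shiftRight Qx2_1d (Nat.mul u (nat_lit 2))) (nat_lit 3)
noncomputable def lx2_1 : Lev := ⟨4, 6, LDx2_1, Ptx2_1, Qx2_1⟩
noncomputable def LDx2_0d : ℕ := nat_lit 0x30
noncomputable def LDx2_0 (u : ℕ) : ℕ := Nat.land (Nat.shiftRight LDx2_0d (Nat.mul u (nat_lit 3))) (nat_lit 7)
noncomputable def Ptx2_0d : ℕ := nat_lit 0x34
noncomputable def Ptx2_0 (u : ℕ) : ℕ := Nat.land (Nat.shiftRight Ptx2_0d (Nat.mul u (nat_lit 3))) (nat_lit 7)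
noncomputable def Qx2_0d : ℕ := nat_lit 0x40
noncomputable def Qx2_0 (u : ℕ) : ℕ := Nat.land (Nat.shiftRight Qx2_0d (Nat.mul u (nat_lit 1))) (nat_lit 1)
noncomputable def lx2_0 : Lev := ⟨2, 7, LDx2_0, Ptx2_0, Qx2_0⟩
noncomputable def Lx2 : List Lev := [lx2_0, lx2_1, lx2_2]
noncomputable def Bx2 : List ℕ := [nat_lit 4, nat_lit 3, nat_lit 1]

theorem id3_0 : c3.idnChk (nat_lit 12) I3_0 = true := by decide +kernel
theorem rw3_0 : c3.rowChk S3 (Yo3.map (·.1) ++ Ds3) La3 (nat_lit 0) (nat_lit 4) = true := by decide +kernel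
theorem ord3 : c3.ordChk Yo3 Ds3 = true := by decide +kernel
theorem rule3_0 : allZ (c3.ruleEnt (wdsP H15.MM22.P Us3) H15.MM22.B) (nat_lit 0) (nat_lit 4) = true := by decide +kernel
theorem fus3_0 : allZ (c3.fusEnt (wdsP H15.MM22.P Us3) (wdsP H15.MM22.P Fs3) H15.MM22.B) (nat_lit 0) (nat_lit 0) = true := by decide +kernel
theorem lvx3_1e_0 : allZ (lx3_1.ent (wdsP (wdsP H15.MM22.P Us3) Wsx3)) (nat_lit 0) (nat_lit 2) = true := by decide +kernel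
theorem lvx3_1b : 0 < lx3_1.n ∧ 0 < lx3_1.K ∧ lx3_1.Pt 0 < 24 ∧ lx3_1.Q (lx3_1.Pt 0) = 0 ∧ 0 ≤ lx3_1.K ∧ fixLetters (wdsP (wdsP H15.MM22.P Us3) Wsx3) (nat_lit 0) (lx3_1.Pt 0) = true := by decide +kernel
theorem lvx3_0e_0 : allZ (lx3_0.ent (wdsP (wdsP H15.MM22.P Us3) Wsx3)) (nat_lit 0) (nat_lit 2) = true := by decide +kernel
theorem lvx3_0b : 0 < lx3_0.n ∧ 0 < lx3_0.K ∧ lx3_0.Pt 0 < 24 ∧ lx3_0.Q (lx3_0.Pt 0) = 0 ∧ 1 ≤ lx3_0.K ∧ fixLetters (wdsP (wdsP H15.MM22.P Us3) Wsx3) (nat_lit 1) (lx3_0.Pt 0) = true := by decide +kernel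
theorem basex3 : chainBase Lx3 = Bx3 ∧ ltAll (nat_lit 24) Bx3 = 0 ∧ topK Lx3 = 2 := by decide +kernel
theorem h0_3 : allL (ltAll 9) Us3 = true ∧ allL (ltAll 9) Fs3 = true ∧ Us3.length ≤ c3.n ∧ 0 < 443520 := by decide +kernel
theorem h1_3 : allL (ltAll c3.n) Wsx3 = true ∧ chainCard Lx3 = (c3.p1 + 1) ^ c3.n ∧ c3.n * c3.n = 4 := by decide +kernel
theorem h2_3 : c3.Fmt ∧ c3.p1 + 1 = 3 ∧ c3.N1 + 1 = 3 ^ (1 + 1) ∧ 443520 = 3 ^ c3.n * (443520 / 3 ^ c3.n) ∧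
    Nat.Coprime (443520 / 3 ^ c3.n) (c3.N1 + 1) ∧ (Yo3.map (·.2.1)).prod ≤ 3 ^ 1 ∧ c3.n * c3.n = 4 := by decide +kernel
theorem h3_3 : c3.C = 0 := by decide +kernel
theorem id2_0 : c2.idnChk (nat_lit 33) I2_0 = true := by decide +kernel
theorem rw2_0 : c2.rowChk S2 (Yo2.map (·.1) ++ Ds2) La2 (nat_lit 0) (nat_lit 49) = true := by decide +kernel
theorem ord2 : c2.ordChk Yo2 Ds2 = true := by decide +kernel
theorem rule2_0 : allZ (c2.ruleEnt (wdsP H15.MM22.P Us2) H15.MM22.B) (nat_lit 0) (nat_lit 49) = true := by decide +kernel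
theorem fus2_0 : allZ (c2.fusEnt (wdsP H15.MM22.P Us2) (wdsP H15.MM22.P Fs2) H15.MM22.B) (nat_lit 0) (nat_lit 4) = true := by decide +kernel
theorem lvx2_2e_0 : allZ (lx2_2.ent (wdsP (wdsP H15.MM22.P Us2) Wsx2)) (nat_lit 0) (nat_lit 15) = true := by decide +kernel
theorem lvx2_2b : 0 < lx2_2.n ∧ 0 < lx2_2.K ∧ lx2_2.Pt 0 < 24 ∧ lx2_2.Q (lx2_2.Pt 0) = 0 ∧ 0 ≤ lx2_2.K ∧ fixLetters (wdsP (wdsP H15.MM22.P Us2) Wsx2) (nat_lit 0) (lx2_2.Pt 0) = true := by decide +kernel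
theorem lvx2_1e_0 : allZ (lx2_1.ent (wdsP (wdsP H15.MM22.P Us2) Wsx2)) (nat_lit 0) (nat_lit 3) = true := by decide +kernel
theorem lvx2_1b : 0 < lx2_1.n ∧ 0 < lx2_1.K ∧ lx2_1.Pt 0 < 24 ∧ lx2_1.Q (lx2_1.Pt 0) = 0 ∧ 4 ≤ lx2_1.K ∧ fixLetters (wdsP (wdsP H15.MM22.P Us2) Wsx2) (nat_lit 4) (lx2_1.Pt 0) = true := by decide +kernel
theorem lvx2_0e_0 : allZ (lx2_0.ent (wdsP (wdsP H15.MM22.P Us2) Wsx2)) (nat_lit 0) (nat_lit 1) = true := by decide +kernel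
theorem lvx2_0b : 0 < lx2_0.n ∧ 0 < lx2_0.K ∧ lx2_0.Pt 0 < 24 ∧ lx2_0.Q (lx2_0.Pt 0) = 0 ∧ 6 ≤ lx2_0.K ∧ fixLetters (wdsP (wdsP H15.MM22.P Us2) Wsx2) (nat_lit 6) (lx2_0.Pt 0) = true := by decide +kernel
theorem basex2 : chainBase Lx2 = Bx2 ∧ ltAll (nat_lit 24) Bx2 = 0 ∧ topK Lx2 = 7 := by decide +kernel
theorem h0_2 : allL (ltAll 9) Us2 = true ∧ allL (ltAll 9) Fs2 = true ∧ Us2.length ≤ c2.n ∧ 0 < 443520 := by decide +kernel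
theorem h1_2 : allL (ltAll c2.n) Wsx2 = true ∧ chainCard Lx2 = (c2.p1 + 1) ^ c2.n ∧ c2.n * c2.n = 49 := by decide +kernel
theorem h2_2 : c2.Fmt ∧ c2.p1 + 1 = 2 ∧ c2.N1 + 1 = 2 ^ (2 + 1) ∧ 443520 = 2 ^ c2.n * (443520 / 2 ^ c2.n) ∧
    Nat.Coprime (443520 / 2 ^ c2.n) (c2.N1 + 1) ∧ (Yo2.map (·.2.1)).prod ≤ 2 ^ 2 ∧ c2.n * c2.n = 49 := by decide +kernel
theorem h3_2 : c2.C = 4 := by decide +kernel

instance fin : Finite (gen H15.MM22.g 9) := Nat.finite_of_card_ne_zero (by rw [H15.MM22.card]; decide)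
theorem zero3 : ∀ D ∈ Ds3, c3.Zero D := (Pc.zero_of_chk id3_0)
theorem rows3 : ∀ r < 4, c3.Row S3 (Yo3.map (·.1)) r :=
  (Pc.rows_glue zero3 Pc.rows_zero rw3_0)
theorem rule3 : ∀ i < 4, (c3.ruleEnt (wdsP H15.MM22.P Us3) H15.MM22.B) i = 0 := allZ_sound0 rule3_0
theorem fus3 : ∀ i < 0, (c3.fusEnt (wdsP H15.MM22.P Us3) (wdsP H15.MM22.P Fs3) H15.MM22.B) i = 0 := allZ_sound0 fus3_0
theorem lvx3_1e : ∀ i < 2, (lx3_1.ent (wdsP (wdsP H15.MM22.P Us3) Wsx3)) i = 0 := allZ_sound0 lvx3_1e_0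
theorem lvx3_0e : ∀ i < 2, (lx3_0.ent (wdsP (wdsP H15.MM22.P Us3) Wsx3)) i = 0 := allZ_sound0 lvx3_0e_0
theorem lowx3 : LowChain (wdsP (wdsP H15.MM22.P Us3) Wsx3) 24 Lx3 :=
  ⟨⟨lvx3_0b.1, lvx3_0b.2.1, lvx3_0b.2.2.1, lvx3_0b.2.2.2.1, lvx3_0e⟩, lvx3_0b.2.2.2.2.1, lvx3_0b.2.2.2.2.2, ⟨⟨lvx3_1b.1, lvx3_1b.2.1, lvx3_1b.2.2.1, lvx3_1b.2.2.2.1, lvx3_1e⟩, lvx3_1b.2.2.2.2.1, lvx3_1b.2.2.2.2.2, trivial⟩⟩
theorem pb3 : PB (gen H15.MM22.g 9) (3 ^ (1 + 1)) :=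
  (Pc.gok_wds H15.MM22.act H15.MM22.card H15.MM22.inj H15.MM22.Blt H15.MM22.isBase h0_3 h1_3 rule3
    (fun r h => fus3 r (h.trans_eq h3_3)) lowx3).pb (by norm_num) H15.MM22.card zero3 rows3 ord3 h2_3
theorem zero2 : ∀ D ∈ Ds2, c2.Zero D := (Pc.zero_of_chk id2_0)
theorem rows2 : ∀ r < 49, c2.Row S2 (Yo2.map (·.1)) r :=
  (Pc.rows_glue zero2 Pc.rows_zero rw2_0)
theorem rule2 : ∀ i < 49, (c2.ruleEnt (wdsP H15.MM22.P Us2) H15.MM22.B) i = 0 := allZ_sound0 rule2_0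
theorem fus2 : ∀ i < 4, (c2.fusEnt (wdsP H15.MM22.P Us2) (wdsP H15.MM22.P Fs2) H15.MM22.B) i = 0 := allZ_sound0 fus2_0
theorem lvx2_2e : ∀ i < 15, (lx2_2.ent (wdsP (wdsP H15.MM22.P Us2) Wsx2)) i = 0 := allZ_sound0 lvx2_2e_0
theorem lvx2_1e : ∀ i < 3, (lx2_1.ent (wdsP (wdsP H15.MM22.P Us2) Wsx2)) i = 0 := allZ_sound0 lvx2_1e_0
theorem lvx2_0e : ∀ i < 1, (lx2_0.ent (wdsP (wdsP H15.MM22.P Us2) Wsx2)) i = 0 := allZ_sound0 lvx2_0e_0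
theorem lowx2 : LowChain (wdsP (wdsP H15.MM22.P Us2) Wsx2) 24 Lx2 :=
  ⟨⟨lvx2_0b.1, lvx2_0b.2.1, lvx2_0b.2.2.1, lvx2_0b.2.2.2.1, lvx2_0e⟩, lvx2_0b.2.2.2.2.1, lvx2_0b.2.2.2.2.2, ⟨⟨lvx2_1b.1, lvx2_1b.2.1, lvx2_1b.2.2.1, lvx2_1b.2.2.2.1, lvx2_1e⟩, lvx2_1b.2.2.2.2.1, lvx2_1b.2.2.2.2.2, ⟨⟨lvx2_2b.1, lvx2_2b.2.1, lvx2_2b.2.2.1, lvx2_2b.2.2.2.1, lvx2_2e⟩, lvx2_2b.2.2.2.2.1, lvx2_2b.2.2.2.2.2, trivial⟩⟩⟩
theorem pb2 : PB (gen H15.MM22.g 9) (2 ^ (2 + 1)) :=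
  (Pc.gok_wds H15.MM22.act H15.MM22.card H15.MM22.inj H15.MM22.Blt H15.MM22.isBase h0_2 h1_2 rule2
    (fun r h => fus2 r (h.trans_eq h3_2)) lowx2).pb (by norm_num) H15.MM22.card zero2 rows2 ord2 h2_2
theorem ker_le (Δ : Type) [Group Δ] [Finite Δ] (τ : Δ →* (gen H15.MM22.g 9)) (h : Cfsg.IsStemExtension τ) :
    Nat.card τ.ker ≤ 12 :=
  card_ker_le (L := [(2, 7, 2), (3, 2, 1), (5, 1, 0), (7, 1, 0), (11, 1, 0)]) ⟨H15.MM22.card.trans (by decide +kernel), by decide +kernel⟩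
    (all_cons ⟨by norm_num, pb2⟩
    (all_cons ⟨by norm_num, pb3⟩
    (all_cons ⟨by norm_num, PB.of_not_sq (by norm_num) (by rw [H15.MM22.card]; decide)⟩
    (all_cons ⟨by norm_num, PB.of_not_sq (by norm_num) (by rw [H15.MM22.card]; decide)⟩
    (all_cons ⟨by norm_num, PB.of_not_sq (by norm_num) (by rw [H15.MM22.card]; decide)⟩
    all_nil))))) Δ τ h

end H16.ScM22
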