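import Cfsg.Agent.H16.Sch3
import Cfsg.Agent.H16.M.O73

/-! Generated by tools/h16 (computation kit). -/

set_option maxRecDepth 100000
set_option maxHeartbeats 0

namespace H16.ScO73

noncomputable def Us3 : List (List ℕ) := [[nat_lit 2, nat_lit 0, nat_lit 3, nat_lit 2, nat_lit 3, nat_lit 0, nat_lit 4, nat_lit 3, nat_lit 1, nat_lit 0, nat_lit 3, nat_lit 6, nat_lit 4, nat_lit 3, nat_lit 5, nat_lit 3, nat_lit 1, nat_lit 0, nat_lit 5, nat_lit 3],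
  [nat_lit 5, nat_lit 0, nat_lit 4, nat_lit 6, nat_lit 1, nat_lit 3, nat_lit 1, nat_lit 3, nat_lit 0, nat_lit 3, nat_lit 4, nat_lit 3, nat_lit 1, nat_lit 3, nat_lit 0, nat_lit 4, nat_lit 3, nat_lit 1, nat_lit 5, nat_lit 3, nat_lit 0, nat_lit 1, nat_lit 1, nat_lit 6],
  [nat_lit 2, nat_lit 3, nat_lit 0, nat_lit 5, nat_lit 3, nat_lit 1, nat_lit 4, nat_lit 6, nat_lit 5, nat_lit 3, nat_lit 5, nat_lit 3, nat_lit 1, nat_lit 0, nat_lit 4, nat_lit 2],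
  [nat_lit 0, nat_lit 2, nat_lit 3, nat_lit 1, nat_lit 3, nat_lit 4, nat_lit 3, nat_lit 2, nat_lit 3, nat_lit 0, nat_lit 2, nat_lit 5, nat_lit 3, nat_lit 1, nat_lit 3, nat_lit 0, nat_lit 2, nat_lit 6, nat_lit 5, nat_lit 3, nat_lit 0, nat_lit 1, nat_lit 1],
  [nat_lit 1, nat_lit 1, nat_lit 4, nat_lit 3, nat_lit 2, nat_lit 2, nat_lit 4, nat_lit 5, nat_lit 3, nat_lit 2, nat_lit 2, nat_lit 3, nat_lit 6, nat_lit 5, nat_lit 3, nat_lit 1, nat_lit 0, nat_lit 6, nat_lit 3, nat_lit 5, nat_lit 1],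
  [nat_lit 2, nat_lit 6, nat_lit 5, nat_lit 6, nat_lit 0, nat_lit 3, nat_lit 2, nat_lit 2, nat_lit 4, nat_lit 3, nat_lit 1, nat_lit 0, nat_lit 2, nat_lit 5, nat_lit 3, nat_lit 5, nat_lit 6, nat_lit 5],
  [nat_lit 0, nat_lit 3, nat_lit 1, nat_lit 4, nat_lit 3, nat_lit 2, nat_lit 2, nat_lit 4, nat_lit 5, nat_lit 3, nat_lit 1, nat_lit 1, nat_lit 5, nat_lit 3, nat_lit 6, nat_lit 5, nat_lit 3, nat_lit 0, nat_lit 5],
  [nat_lit 5, nat_lit 6, nat_lit 1, nat_lit 3, nat_lit 1, nat_lit 4, nat_lit 3, nat_lit 1, nat_lit 5, nat_lit 3, nat_lit 2, nat_lit 4, nat_lit 6, nat_lit 4, nat_lit 3, nat_lit 5, nat_lit 3, nat_lit 1],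
  [nat_lit 0, nat_lit 3, nat_lit 1, nat_lit 0, nat_lit 2, nat_lit 4, nat_lit 3, nat_lit 2, nat_lit 2, nat_lit 4, nat_lit 5, nat_lit 3, nat_lit 1, nat_lit 4, nat_lit 6, nat_lit 5, nat_lit 3, nat_lit 0, nat_lit 1, nat_lit 5, nat_lit 4, nat_lit 3]]
noncomputable def Fs3 : List (List ℕ) := [[nat_lit 2, nat_lit 2, nat_lit 3, nat_lit 4, nat_lit 3, nat_lit 0, nat_lit 1, nat_lit 3, nat_lit 4, nat_lit 5, nat_lit 3, nat_lit 0, nat_lit 1, nat_lit 1, nat_lit 6, nat_lit 4, nat_lit 3, nat_lit 0, nat_lit 2, nat_lit 4],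
  [nat_lit 5, nat_lit 6, nat_lit 2, nat_lit 3, nat_lit 1, nat_lit 1, nat_lit 4, nat_lit 3, nat_lit 2, nat_lit 3, nat_lit 5, nat_lit 3, nat_lit 5, nat_lit 6, nat_lit 4, nat_lit 3, nat_lit 2, nat_lit 2],
  [nat_lit 2, nat_lit 3, nat_lit 0, nat_lit 2, nat_lit 4, nat_lit 3, nat_lit 4, nat_lit 0, nat_lit 2, nat_lit 5, nat_lit 6, nat_lit 5, nat_lit 3, nat_lit 0, nat_lit 6, nat_lit 5, nat_lit 3, nat_lit 2, nat_lit 6, nat_lit 3, nat_lit 6, nat_lit 4, nat_lit 5, nat_lit 3]]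
noncomputable def c3 : Pc := ⟨(nat_lit 2), (nat_lit 8), (nat_lit 9), (nat_lit 3), (nat_lit 12), (nat_lit 18),
  [[[nat_lit 5, nat_lit 5, nat_lit 6, nat_lit 6, nat_lit 7, nat_lit 8, nat_lit 8]],
  [[nat_lit 1, nat_lit 3], [nat_lit 5, nat_lit 5, nat_lit 6, nat_lit 7, nat_lit 7, nat_lit 8, nat_lit 8]],
  [[nat_lit 2, nat_lit 4], [nat_lit 2, nat_lit 3, nat_lit 4, nat_lit 4, nat_lit 5, nat_lit 5, nat_lit 6, nat_lit 6, nat_lit 7, nat_lit 7, nat_lit 8], [nat_lit 8]],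
  [[nat_lit 3, nat_lit 5], [nat_lit 3, nat_lit 5, nat_lit 5], [nat_lit 3, nat_lit 7, nat_lit 8], []],
  [[nat_lit 4, nat_lit 6], [nat_lit 4, nat_lit 5, nat_lit 6, nat_lit 6, nat_lit 7, nat_lit 8], [nat_lit 4, nat_lit 5, nat_lit 5], [nat_lit 4, nat_lit 8], []],
  [[nat_lit 5, nat_lit 7], [nat_lit 5, nat_lit 7, nat_lit 7], [nat_lit 5, nat_lit 8], [nat_lit 5], [nat_lit 5, nat_lit 8], []],
  [[nat_lit 6, nat_lit 7, nat_lit 7, nat_lit 8], [nat_lit 6, nat_lit 7, nat_lit 7, nat_lit 8, nat_lit 8], [nat_lit 6, nat_lit 7, nat_lit 7], [nat_lit 6, nat_lit 8], [nat_lit 6, nat_lit 8], [nat_lit 6], []],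
  [[nat_lit 7, nat_lit 8], [nat_lit 7, nat_lit 8, nat_lit 8], [nat_lit 7, nat_lit 8, nat_lit 8], [nat_lit 7], [nat_lit 7], [nat_lit 7], [nat_lit 7], []],
  [[nat_lit 8], [nat_lit 8], [nat_lit 8], [nat_lit 8], [nat_lit 8], [nat_lit 8], [nat_lit 8], [nat_lit 8], []]],
  [((nat_lit 0), [nat_lit 7], [nat_lit 7]),
  ((nat_lit 0), [nat_lit 2], [nat_lit 2, nat_lit 2, nat_lit 7, nat_lit 7]),
  ((nat_lit 0), [nat_lit 8], [nat_lit 8, nat_lit 8]),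
  ((nat_lit 0), [nat_lit 6], [nat_lit 6, nat_lit 6, nat_lit 7, nat_lit 8, nat_lit 8]),
  ((nat_lit 1), [nat_lit 8], [nat_lit 0, nat_lit 1, nat_lit 3, nat_lit 3, nat_lit 4, nat_lit 5, nat_lit 7, nat_lit 8]),
  ((nat_lit 1), [nat_lit 3, nat_lit 6], [nat_lit 3, nat_lit 6]),
  ((nat_lit 0), [nat_lit 3], [nat_lit 3, nat_lit 5, nat_lit 5, nat_lit 6, nat_lit 6, nat_lit 7]),
  ((nat_lit 0), [nat_lit 4], [nat_lit 4, nat_lit 6, nat_lit 6, nat_lit 7, nat_lit 7, nat_lit 8]),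
  ((nat_lit 0), [nat_lit 5], [nat_lit 5, nat_lit 5, nat_lit 7]),
  ((nat_lit 0), [nat_lit 0], [nat_lit 0, nat_lit 0, nat_lit 3, nat_lit 4, nat_lit 5, nat_lit 6, nat_lit 8]),
  ((nat_lit 2), [nat_lit 7], [nat_lit 0, nat_lit 1, nat_lit 3, nat_lit 4, nat_lit 5, nat_lit 5, nat_lit 6, nat_lit 6, nat_lit 8]),
  ((nat_lit 2), [nat_lit 0, nat_lit 2, nat_lit 4, nat_lit 6], [nat_lit 0, nat_lit 2, nat_lit 5, nat_lit 5, nat_lit 6, nat_lit 6, nat_lit 7, nat_lit 7])]⟩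
noncomputable def I3_0 : List Pc.Idn := [⟨false, (nat_lit 0), [nat_lit 2], [nat_lit 2, nat_lit 2], [((nat_lit 86), (nat_lit 1))]⟩,
  ⟨false, (nat_lit 0), [nat_lit 5], [nat_lit 3, nat_lit 3], [((nat_lit 60), (nat_lit 3))]⟩,
  ⟨false, (nat_lit 0), [nat_lit 7], [nat_lit 3, nat_lit 3], [((nat_lit 78), (nat_lit 3))]⟩,
  ⟨false, (nat_lit 0), [nat_lit 8], [nat_lit 3, nat_lit 3], [((nat_lit 87), (nat_lit 3))]⟩,
  ⟨false, (nat_lit 0), [nat_lit 7], [nat_lit 4, nat_lit 4], [((nat_lit 79), (nat_lit 3))]⟩,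
  ⟨false, (nat_lit 0), [nat_lit 8], [nat_lit 4, nat_lit 4], [((nat_lit 88), (nat_lit 3))]⟩,
  ⟨false, (nat_lit 0), [nat_lit 6], [nat_lit 5, nat_lit 5], [((nat_lit 71), (nat_lit 3))]⟩,
  ⟨false, (nat_lit 0), [nat_lit 7], [nat_lit 5, nat_lit 5], [((nat_lit 80), (nat_lit 3))]⟩,
  ⟨false, (nat_lit 0), [nat_lit 8], [nat_lit 5, nat_lit 5], [((nat_lit 89), (nat_lit 3))]⟩,
  ⟨false, (nat_lit 0), [nat_lit 7], [nat_lit 6, nat_lit 6], [((nat_lit 81), (nat_lit 3))]⟩,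
  ⟨false, (nat_lit 0), [nat_lit 8], [nat_lit 6, nat_lit 6], [((nat_lit 90), (nat_lit 3))]⟩,
  ⟨false, (nat_lit 0), [nat_lit 8], [nat_lit 7, nat_lit 7], [((nat_lit 91), (nat_lit 3))]⟩,
  ⟨false, (nat_lit 0), [nat_lit 8, nat_lit 8], [nat_lit 8, nat_lit 1], [((nat_lit 85), (nat_lit 6))]⟩,
  ⟨false, (nat_lit 0), [nat_lit 8], [nat_lit 1, nat_lit 0], [((nat_lit 87), (nat_lit 8))]⟩,
  ⟨false, (nat_lit 0), [nat_lit 8], [nat_lit 2, nat_lit 0], [((nat_lit 88), (nat_lit 8))]⟩,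
  ⟨false, (nat_lit 0), [nat_lit 8], [nat_lit 3, nat_lit 0], [((nat_lit 89), (nat_lit 8))]⟩,
  ⟨false, (nat_lit 0), [nat_lit 8], [nat_lit 4, nat_lit 0], [((nat_lit 90), (nat_lit 8))]⟩,
  ⟨false, (nat_lit 0), [nat_lit 8], [nat_lit 5, nat_lit 0], [((nat_lit 91), (nat_lit 8))]⟩,
  ⟨false, (nat_lit 0), [nat_lit 4], [nat_lit 3, nat_lit 3], [((nat_lit 51), (nat_lit 3)), ((nat_lit 87), (nat_lit 3)), ((nat_lit 92), (nat_lit 1))]⟩,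
  ⟨false, (nat_lit 0), [nat_lit 6], [nat_lit 3, nat_lit 3], [((nat_lit 69), (nat_lit 3)), ((nat_lit 87), (nat_lit 3)), ((nat_lit 92), (nat_lit 1))]⟩,
  ⟨false, (nat_lit 0), [nat_lit 5], [nat_lit 4, nat_lit 4], [((nat_lit 61), (nat_lit 3)), ((nat_lit 88), (nat_lit 3)), ((nat_lit 92), (nat_lit 1))]⟩,
  ⟨false, (nat_lit 0), [nat_lit 6], [nat_lit 4, nat_lit 4], [((nat_lit 70), (nat_lit 3)), ((nat_lit 88), (nat_lit 3)), ((nat_lit 92), (nat_lit 1))]⟩,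
  ⟨false, (nat_lit 0), [nat_lit 3, nat_lit 3], [nat_lit 3, nat_lit 0], [((nat_lit 39), (nat_lit 6)), ((nat_lit 60), (nat_lit 6)), ((nat_lit 62), (nat_lit 8))]⟩,
  ⟨false, (nat_lit 0), [nat_lit 5, nat_lit 5], [nat_lit 5, nat_lit 0], [((nat_lit 57), (nat_lit 6)), ((nat_lit 80), (nat_lit 6)), ((nat_lit 82), (nat_lit 8))]⟩,
  ⟨false, (nat_lit 0), [nat_lit 5, nat_lit 5], [nat_lit 5, nat_lit 2], [((nat_lit 59), (nat_lit 6)), ((nat_lit 89), (nat_lit 6)), ((nat_lit 92), (nat_lit 8))]⟩,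
  ⟨false, (nat_lit 0), [nat_lit 5], [nat_lit 3, nat_lit 0], [((nat_lit 78), (nat_lit 8)), ((nat_lit 80), (nat_lit 8))]⟩,
  ⟨false, (nat_lit 0), [nat_lit 3, nat_lit 3], [nat_lit 3, nat_lit 1], [((nat_lit 40), (nat_lit 6)), ((nat_lit 60), (nat_lit 6)), ((nat_lit 62), (nat_lit 7))]⟩,
  ⟨false, (nat_lit 0), [nat_lit 5, nat_lit 5], [nat_lit 5, nat_lit 1], [((nat_lit 58), (nat_lit 6)), ((nat_lit 80), (nat_lit 6)), ((nat_lit 82), (nat_lit 7))]⟩,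
  ⟨false, (nat_lit 0), [nat_lit 7, nat_lit 7], [nat_lit 7, nat_lit 1], [((nat_lit 76), (nat_lit 6)), ((nat_lit 91), (nat_lit 6)), ((nat_lit 92), (nat_lit 7))]⟩,
  ⟨false, (nat_lit 0), [nat_lit 6, nat_lit 6], [nat_lit 6, nat_lit 2], [((nat_lit 68), (nat_lit 6)), ((nat_lit 81), (nat_lit 6)), ((nat_lit 82), (nat_lit 7))]⟩,
  ⟨false, (nat_lit 0), [nat_lit 7, nat_lit 7], [nat_lit 7, nat_lit 2], [((nat_lit 77), (nat_lit 6)), ((nat_lit 91), (nat_lit 6)), ((nat_lit 92), (nat_lit 7))]⟩,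
  ⟨false, (nat_lit 0), [nat_lit 7], [nat_lit 3, nat_lit 0], [((nat_lit 80), (nat_lit 8)), ((nat_lit 87), (nat_lit 8)), ((nat_lit 89), (nat_lit 8))]⟩,
  ⟨false, (nat_lit 0), [nat_lit 7], [nat_lit 4, nat_lit 0], [((nat_lit 81), (nat_lit 8)), ((nat_lit 88), (nat_lit 8)), ((nat_lit 90), (nat_lit 8))]⟩,
  ⟨false, (nat_lit 0), [nat_lit 4, nat_lit 4], [nat_lit 4, nat_lit 0], [((nat_lit 48), (nat_lit 6)), ((nat_lit 70), (nat_lit 6)), ((nat_lit 72), (nat_lit 8)), ((nat_lit 88), (nat_lit 8)), ((nat_lit 90), (nat_lit 7)), ((nat_lit 92), (nat_lit 8))]⟩,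
  ⟨false, (nat_lit 0), [nat_lit 7], [nat_lit 1, nat_lit 0], [((nat_lit 78), (nat_lit 8)), ((nat_lit 84), (nat_lit 2)), ((nat_lit 85), (nat_lit 8))]⟩,
  ⟨false, (nat_lit 0), [nat_lit 7], [nat_lit 2, nat_lit 0], [((nat_lit 79), (nat_lit 8)), ((nat_lit 84), (nat_lit 2)), ((nat_lit 86), (nat_lit 8))]⟩,
  ⟨false, (nat_lit 0), [nat_lit 5], [nat_lit 4, nat_lit 0], [((nat_lit 71), (nat_lit 1)), ((nat_lit 79), (nat_lit 8)), ((nat_lit 81), (nat_lit 8)), ((nat_lit 84), (nat_lit 1)), ((nat_lit 90), (nat_lit 8)), ((nat_lit 91), (nat_lit 8))]⟩,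
  ⟨false, (nat_lit 0), [nat_lit 5], [nat_lit 2, nat_lit 0], [((nat_lit 61), (nat_lit 8)), ((nat_lit 77), (nat_lit 8)), ((nat_lit 79), (nat_lit 8)), ((nat_lit 84), (nat_lit 1)), ((nat_lit 91), (nat_lit 7)), ((nat_lit 92), (nat_lit 8))]⟩,
  ⟨false, (nat_lit 0), [nat_lit 3], [nat_lit 1, nat_lit 0], [((nat_lit 57), (nat_lit 2)), ((nat_lit 58), (nat_lit 8)), ((nat_lit 78), (nat_lit 7)), ((nat_lit 80), (nat_lit 1))]⟩,
  ⟨false, (nat_lit 0), [nat_lit 4], [nat_lit 3, nat_lit 0], [((nat_lit 61), (nat_lit 1)), ((nat_lit 69), (nat_lit 8)), ((nat_lit 71), (nat_lit 8)), ((nat_lit 84), (nat_lit 1)), ((nat_lit 89), (nat_lit 7))]⟩,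
  ⟨false, (nat_lit 0), [nat_lit 4, nat_lit 4], [nat_lit 4, nat_lit 2], [((nat_lit 50), (nat_lit 6)), ((nat_lit 61), (nat_lit 6)), ((nat_lit 62), (nat_lit 7)), ((nat_lit 88), (nat_lit 7)), ((nat_lit 89), (nat_lit 4)), ((nat_lit 92), (nat_lit 8))]⟩,
  ⟨false, (nat_lit 0), [nat_lit 5], [nat_lit 1, nat_lit 0], [((nat_lit 60), (nat_lit 8)), ((nat_lit 75), (nat_lit 2)), ((nat_lit 76), (nat_lit 8)), ((nat_lit 87), (nat_lit 7)), ((nat_lit 91), (nat_lit 1))]⟩,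
  ⟨false, (nat_lit 0), [nat_lit 4], [nat_lit 3, nat_lit 2], [((nat_lit 60), (nat_lit 7)), ((nat_lit 79), (nat_lit 1)), ((nat_lit 80), (nat_lit 2)), ((nat_lit 86), (nat_lit 1)), ((nat_lit 88), (nat_lit 1)), ((nat_lit 91), (nat_lit 8))]⟩,
  ⟨false, (nat_lit 0), [nat_lit 3], [nat_lit 2, nat_lit 0], [((nat_lit 51), (nat_lit 1)), ((nat_lit 59), (nat_lit 8)), ((nat_lit 61), (nat_lit 8)), ((nat_lit 75), (nat_lit 1)), ((nat_lit 79), (nat_lit 8)), ((nat_lit 80), (nat_lit 8)), ((nat_lit 84), (nat_lit 1)), ((nat_lit 88), (nat_lit 7))]⟩,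
  ⟨false, (nat_lit 0), [nat_lit 1], [nat_lit 1, nat_lit 1], [((nat_lit 58), (nat_lit 2)), ((nat_lit 67), (nat_lit 1)), ((nat_lit 76), (nat_lit 2)), ((nat_lit 80), (nat_lit 2)), ((nat_lit 81), (nat_lit 1)), ((nat_lit 82), (nat_lit 2)), ((nat_lit 85), (nat_lit 2)), ((nat_lit 91), (nat_lit 3)), ((nat_lit 92), (nat_lit 2))]⟩,
  ⟨false, (nat_lit 0), [nat_lit 4], [nat_lit 2, nat_lit 0], [((nat_lit 57), (nat_lit 2)), ((nat_lit 61), (nat_lit 7)), ((nat_lit 68), (nat_lit 8)), ((nat_lit 70), (nat_lit 8)), ((nat_lit 71), (nat_lit 2)), ((nat_lit 79), (nat_lit 7)), ((nat_lit 80), (nat_lit 1)), ((nat_lit 89), (nat_lit 8)), ((nat_lit 90), (nat_lit 7)), ((nat_lit 92), (nat_lit 8))]⟩,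
  ⟨false, (nat_lit 0), [nat_lit 0], [nat_lit 0, nat_lit 0], [((nat_lit 57), (nat_lit 2)), ((nat_lit 66), (nat_lit 2)), ((nat_lit 75), (nat_lit 1)), ((nat_lit 80), (nat_lit 1)), ((nat_lit 81), (nat_lit 3)), ((nat_lit 82), (nat_lit 2)), ((nat_lit 84), (nat_lit 2)), ((nat_lit 90), (nat_lit 1)), ((nat_lit 91), (nat_lit 4)), ((nat_lit 92), (nat_lit 1))]⟩,
  ⟨false, (nat_lit 0), [nat_lit 6], [nat_lit 2, nat_lit 0], [((nat_lit 70), (nat_lit 8)), ((nat_lit 75), (nat_lit 2)), ((nat_lit 77), (nat_lit 7)), ((nat_lit 79), (nat_lit 8)), ((nat_lit 86), (nat_lit 8)), ((nat_lit 88), (nat_lit 7)), ((nat_lit 92), (nat_lit 8))]⟩,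
  ⟨false, (nat_lit 0), [nat_lit 2, nat_lit 2], [nat_lit 2, nat_lit 0], [((nat_lit 30), (nat_lit 6)), ((nat_lit 50), (nat_lit 6)), ((nat_lit 52), (nat_lit 8)), ((nat_lit 59), (nat_lit 7)), ((nat_lit 61), (nat_lit 5)), ((nat_lit 62), (nat_lit 7)), ((nat_lit 84), (nat_lit 1)), ((nat_lit 86), (nat_lit 7)), ((nat_lit 88), (nat_lit 6)), ((nat_lit 89), (nat_lit 4)), ((nat_lit 92), (nat_lit 7))]⟩,
  ⟨false, (nat_lit 0), [nat_lit 6], [nat_lit 1, nat_lit 0], [((nat_lit 69), (nat_lit 8)), ((nat_lit 75), (nat_lit 2)), ((nat_lit 76), (nat_lit 7)), ((nat_lit 78), (nat_lit 8)), ((nat_lit 84), (nat_lit 2)), ((nat_lit 85), (nat_lit 8)), ((nat_lit 87), (nat_lit 8)), ((nat_lit 91), (nat_lit 8)), ((nat_lit 92), (nat_lit 8))]⟩,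
  ⟨false, (nat_lit 0), [nat_lit 4], [nat_lit 1, nat_lit 0], [((nat_lit 51), (nat_lit 8)), ((nat_lit 57), (nat_lit 1)), ((nat_lit 60), (nat_lit 8)), ((nat_lit 66), (nat_lit 2)), ((nat_lit 67), (nat_lit 8)), ((nat_lit 71), (nat_lit 1)), ((nat_lit 75), (nat_lit 1)), ((nat_lit 82), (nat_lit 1)), ((nat_lit 84), (nat_lit 1)), ((nat_lit 89), (nat_lit 8)), ((nat_lit 91), (nat_lit 2))]⟩,
  ⟨false, (nat_lit 0), [nat_lit 1], [nat_lit 0, nat_lit 0], [((nat_lit 21), (nat_lit 3)), ((nat_lit 39), (nat_lit 3)), ((nat_lit 42), (nat_lit 1)), ((nat_lit 57), (nat_lit 1)), ((nat_lit 58), (nat_lit 2)), ((nat_lit 60), (nat_lit 4)), ((nat_lit 62), (nat_lit 1)), ((nat_lit 67), (nat_lit 2)), ((nat_lit 69), (nat_lit 6)), ((nat_lit 71), (nat_lit 6)), ((nat_lit 76), (nat_lit 1)), ((nat_lit 80), (nat_lit 2)), ((nat_lit 81), (nat_lit 1)), ((nat_lit 82), (nat_lit 3)), ((nat_lit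 85), (nat_lit 2)), ((nat_lit 87), (nat_lit 3)), ((nat_lit 89), (nat_lit 4)), ((nat_lit 90), (nat_lit 5)), ((nat_lit 91), (nat_lit 7)), ((nat_lit 92), (nat_lit 4))]⟩,
  ⟨false, (nat_lit 0), [nat_lit 2], [nat_lit 1, nat_lit 0], [((nat_lit 39), (nat_lit 1)), ((nat_lit 41), (nat_lit 1)), ((nat_lit 48), (nat_lit 2)), ((nat_lit 49), (nat_lit 8)), ((nat_lit 51), (nat_lit 1)), ((nat_lit 57), (nat_lit 2)), ((nat_lit 66), (nat_lit 2)), ((nat_lit 69), (nat_lit 8)), ((nat_lit 70), (nat_lit 8)), ((nat_lit 71), (nat_lit 2)), ((nat_lit 75), (nat_lit 2)), ((nat_lit 78), (nat_lit 1)), ((nat_lit 79), (nat_lit 1)), ((nat_lit 80), (nat_lit 2)), ((nat_lit 82), (nat_lit 2)), ((nat_lit 84), (nat_lit 1)), ((nat_lit 87), (nat_lit 1)), ((nat_lit 88), (nat_lit 2)), ((nat_lit 89), (nat_lit 3)), ((nat_lit 90), (nat_lit 8)), ((nat_lit 91), (nat_lit 2)), ((nat_lit 92),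 (nat_lit 1))]⟩,
  ⟨true, (nat_lit 0), [nat_lit 0, nat_lit 1], [nat_lit 1, nat_lit 0, nat_lit 2, nat_lit 2], [((nat_lit 2), (nat_lit 2)), ((nat_lit 77), (nat_lit 8)), ((nat_lit 86), (nat_lit 7)), ((nat_lit 91), (nat_lit 7))]⟩,
  ⟨true, (nat_lit 0), [nat_lit 3, nat_lit 1], [nat_lit 1, nat_lit 3, nat_lit 0, nat_lit 0], [((nat_lit 0), (nat_lit 2)), ((nat_lit 68), (nat_lit 6)), ((nat_lit 77), (nat_lit 6)), ((nat_lit 82), (nat_lit 7)), ((nat_lit 86), (nat_lit 6)), ((nat_lit 91), (nat_lit 7)), ((nat_lit 92), (nat_lit 7))]⟩,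
  ⟨true, (nat_lit 1), [nat_lit 4, nat_lit 5], [nat_lit 5, nat_lit 4], [((nat_lit 39), (nat_lit 1)), ((nat_lit 40), (nat_lit 1)), ((nat_lit 51), (nat_lit 8)), ((nat_lit 58), (nat_lit 1)), ((nat_lit 60), (nat_lit 8)), ((nat_lit 62), (nat_lit 1)), ((nat_lit 66), (nat_lit 1)), ((nat_lit 67), (nat_lit 1)), ((nat_lit 69), (nat_lit 2)), ((nat_lit 70), (nat_lit 1)), ((nat_lit 71), (nat_lit 1)), ((nat_lit 76), (nat_lit 2)), ((nat_lit 78), (nat_lit 8)), ((nat_lit 81), (nat_lit 1)), ((nat_lit 82), (nat_lit 2)), ((nat_lit 85), (nat_lit 1)), ((nat_lit 87), (nat_lit 3)), ((nat_lit 90), (nat_lit 8)), ((nat_lit 91), (nat_lit 3)), ((nat_lit 92), (nat_lit 3))]⟩,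
  ⟨true, (nat_lit 0), [nat_lit 6, nat_lit 1], [nat_lit 1, nat_lit 6, nat_lit 0, nat_lit 2], [((nat_lit 0), (nat_lit 1)), ((nat_lit 2), (nat_lit 1)), ((nat_lit 41), (nat_lit 8)), ((nat_lit 59), (nat_lit 5)), ((nat_lit 68), (nat_lit 5)), ((nat_lit 77), (nat_lit 8)), ((nat_lit 78), (nat_lit 2)), ((nat_lit 81), (nat_lit 2)), ((nat_lit 82), (nat_lit 6)), ((nat_lit 86), (nat_lit 7)), ((nat_lit 89), (nat_lit 3)), ((nat_lit 91), (nat_lit 5)), ((nat_lit 92), (nat_lit 7))]⟩,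
  ⟨true, (nat_lit 0), [nat_lit 7, nat_lit 1], [nat_lit 1, nat_lit 7, nat_lit 8, nat_lit 8], [((nat_lit 8), (nat_lit 2)), ((nat_lit 50), (nat_lit 8)), ((nat_lit 59), (nat_lit 7)), ((nat_lit 68), (nat_lit 5)), ((nat_lit 71), (nat_lit 8)), ((nat_lit 77), (nat_lit 7)), ((nat_lit 79), (nat_lit 2)), ((nat_lit 80), (nat_lit 6)), ((nat_lit 82), (nat_lit 7)), ((nat_lit 86), (nat_lit 6)), ((nat_lit 89), (nat_lit 3)), ((nat_lit 90), (nat_lit 5)), ((nat_lit 91), (nat_lit 8)), ((nat_lit 92), (nat_lit 7))]⟩,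
  ⟨true, (nat_lit 0), [nat_lit 6, nat_lit 9], [nat_lit 9, nat_lit 6, nat_lit 8], [((nat_lit 8), (nat_lit 1)), ((nat_lit 39), (nat_lit 8)), ((nat_lit 51), (nat_lit 1)), ((nat_lit 57), (nat_lit 7)), ((nat_lit 61), (nat_lit 8)), ((nat_lit 66), (nat_lit 5)), ((nat_lit 69), (nat_lit 8)), ((nat_lit 70), (nat_lit 7)), ((nat_lit 75), (nat_lit 7)), ((nat_lit 78), (nat_lit 7)), ((nat_lit 79), (nat_lit 7)), ((nat_lit 80), (nat_lit 8)), ((nat_lit 81), (nat_lit 2)), ((nat_lit 82), (nat_lit 6)), ((nat_lit 87), (nat_lit 1)), ((nat_lit 88), (nat_lit 7)), ((nat_lit 89), (nat_lit 8)), ((nat_lit 90), (nat_lit 2)), ((nat_lit 91), (nat_lit 6)), ((nat_lit 92), (nat_lit 6))]⟩,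
  ⟨true, (nat_lit 2), [nat_lit 10, nat_lit 11], [nat_lit 11, nat_lit 10], [((nat_lit 21), (nat_lit 8)), ((nat_lit 30), (nat_lit 1)), ((nat_lit 31), (nat_lit 1)), ((nat_lit 39), (nat_lit 8)), ((nat_lit 41), (nat_lit 7)), ((nat_lit 48), (nat_lit 8)), ((nat_lit 49), (nat_lit 1)), ((nat_lit 50), (nat_lit 8)), ((nat_lit 52), (nat_lit 1)), ((nat_lit 58), (nat_lit 2)), ((nat_lit 60), (nat_lit 2)), ((nat_lit 61), (nat_lit 3)), ((nat_lit 67), (nat_lit 2)), ((nat_lit 70), (nat_lit 2)), ((nat_lit 71), (nat_lit 2)), ((nat_lit 72), (nat_lit 1)), ((nat_lit 75), (nat_lit 3)), ((nat_lit 76), (nat_lit 2)), ((nat_lit 77), (nat_lit 1)), ((nat_lit 79), (nat_lit 2)), ((nat_lit 80), (nat_lit 7)), ((nat_lit 81), (nat_lit 4)), ((nat_lit 82), (nat_lit 3)), ((nat_lit 84), (nat_lit 8)), ((nat_lit 85), (nat_lit 1)), ((nat_lit 87), (nat_lit 8)), ((nat_lit 88), (nat_lit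 8)), ((nat_lit 89), (nat_lit 2)), ((nat_lit 91), (nat_lit 6)), ((nat_lit 92), (nat_lit 6))]⟩]
noncomputable def Ds3 : List (List (ℕ × ℕ)) := I3_0.map Pc.Idn.D
noncomputable def S3 : List (List (ℕ × ℕ)) := [[],
  [],
  [],
  [((nat_lit 21), (nat_lit 1))],
  [((nat_lit 30), (nat_lit 1))],
  [((nat_lit 39), (nat_lit 1))],
  [((nat_lit 48), (nat_lit 1))],
  [((nat_lit 57), (nat_lit 1))],
  [((nat_lit 75), (nat_lit 1))]]
noncomputable def Yo3 : List (List (ℕ × ℕ) × ℕ × ℕ) := [([((nat_lit 39), (nat_lit 7)), ((nat_lit 40), (nat_lit 1))], (nat_lit 3), nat_lit 0x1560f5304fe0b8594c7ae2)]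
noncomputable def La3 : List ℕ := [nat_lit 0,
  nat_lit 0,
  nat_lit 0,
  nat_lit 0,
  nat_lit 0,
  nat_lit 0,
  nat_lit 0,
  nat_lit 0,
  nat_lit 0,
  nat_lit 0,
  nat_lit 0,
  nat_lit 0,
  nat_lit 0,
  nat_lit 0,
  nat_lit 0,
  nat_lit 0,
  nat_lit 0,
  nat_lit 0,
  nat_lit 0,
  nat_lit 0x61b0bdc857daa4b0ee473327024fb615bda6fa4b44e960e9,
  nat_lit 0,
  nat_lit 0,
  nat_lit 0,
  nat_lit 0,
  nat_lit 0,
  nat_lit 0,
  nat_lit 0,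
  nat_lit 0,
  nat_lit 1,
  nat_lit 0xcfa791a1118fbe94e71e4af893e5ca823e1c2eb784fa91,
  nat_lit 0x1eade93a0440ab7a71201dac2f3ead6fc4cafc37a7,
  nat_lit 0,
  nat_lit 0,
  nat_lit 0,
  nat_lit 0,
  nat_lit 0,
  nat_lit 0,
  nat_lit 0xd28bba9c6117eae93e49a759258f15cb5a06fb17947890,
  nat_lit 0x2a978df58f6063a629ee561d2aafcd6504fadbfe2efef9ed,
  nat_lit 0x2dc119fda359250337fb196dffd21bef6d9dbfad7f647,
  nat_lit 0x1b24c3a2793a7db2d1461d8a1d41611f4207624b357c863f,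
  nat_lit 0,
  nat_lit 0,
  nat_lit 0,
  nat_lit 0,
  nat_lit 0,
  nat_lit 0x3dc6f8b1ca5a1c6084e7efddf9e45ca3,
  nat_lit 0x2dc11fa20c61e3e0cba86d65f10dc33e771f93e9774ec,
  nat_lit 0x2dc28e63e1b434451d5a5f03988142a51a10042f9a885,
  nat_lit 0xe4c5047ce9b62c7487fc3ff6db8b69aa09b8b00d30e88,
  nat_lit 0x112859ca58da98c1b7293011b959cfef798dda9d1de879,
  nat_lit 0,
  nat_lit 0,
  nat_lit 0,
  nat_lit 0x5b81f03ed13790452ba5a4834f03f81f9e7a515b6b4ad,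
  nat_lit 0x140462e9d2872b573b09fe5cf98b8b3dfa3f815c541f95,
  nat_lit 0x5b831511c81225ba79f14bcb7d85f67ca87d8503ba96c,
  nat_lit 0x16e0775a827ea67a19e243d32e9d79964d00ef0e34912b,
  nat_lit 0xb7046c9a0e56a8bc49062c3bc21afd8469bc666d4a855,
  nat_lit 0x2dc28e63e1650a3612cdc9fa8fcd7e757b69916bd9cfb,
  nat_lit 0x152c350ed74702a849c16dff6da1938087f1939d44,
  nat_lit 0,
  nat_lit 0,
  nat_lit 0,
  nat_lit 0x16e07f1d4d565d187319798368d43953bbc44d13f3b9ba,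
  nat_lit 0x1128618c02de54520cfbeadfffb71693854805280bd6bb,
  nat_lit 0x2b56ef687f3aaa018c748ba3f0,
  nat_lit 0x16e06c12163ea138e06ea6179693c3a144d7356944ee33,
  nat_lit 0xd8b237765d38908a9de0a323e5,
  nat_lit 0x79e4362dc384f74d14a13d714ab,
  nat_lit 0x82047e95cf99e9e0db9c2869c9,
  nat_lit 0,
  nat_lit 0xb7044563f2903270e7f070cc5070a99819bc824669680,
  nat_lit 0xe4c50a2152beeb4f8ce32981fbc0c5dcf675069193a8f,
  nat_lit 9,
  nat_lit 0x6808177148fd,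
  nat_lit 0x3a848d3353b25,
  nat_lit 0x20ea902353c2cd,
  nat_lit 0x1283f4532f8bd75,
  nat_lit 0xa6a396ecabea91d,
  nat_lit 0x1128634f6240689c3c26f3a3713bc29370be87031867cc]
noncomputable def Wsx3 : List (List ℕ) := [[nat_lit 0, nat_lit 1, nat_lit 2, nat_lit 3, nat_lit 3, nat_lit 4, nat_lit 4, nat_lit 5, nat_lit 5, nat_lit 6, nat_lit 8, nat_lit 8],
  [nat_lit 8],
  [nat_lit 3, nat_lit 5, nat_lit 5, nat_lit 6, nat_lit 7, nat_lit 7],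
  [nat_lit 4],
  [nat_lit 5],
  [nat_lit 0, nat_lit 1, nat_lit 6, nat_lit 7],
  [nat_lit 0]]
noncomputable def LDx3_4d : ℕ := nat_lit 4
noncomputable def LDx3_4 (u : ℕ) : ℕ := Nat.land (Nat.shiftRight LDx3_4d (Nat.mul u (nat_lit 1))) (nat_lit 1)
noncomputable def Ptx3_4d : ℕ := nat_lit 0xa2a601
noncomputable def Ptx3_4 (u : ℕ) : ℕ := Nat.land (Nat.shiftRight Ptx3_4d (Nat.mul u (nat_lit 9))) (nat_lit 511)
noncomputable def Qx3_4d : ℕ := nat_lit 0x40000000000000000000000000000000000000000000000000000000000000000000000000000000000000000000000000000000000000000000000000000000000000000000000000000200000000000000000000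
noncomputable def Qx3_4 (u : ℕ) : ℕ := Nat.land (Nat.shiftRight Qx3_4d (Nat.mul u (nat_lit 2))) (nat_lit 3)
noncomputable def lx3_4 : Lev := ⟨3, 1, LDx3_4, Ptx3_4, Qx3_4⟩
noncomputable def LDx3_3d : ℕ := nat_lit 0x11720c520820
noncomputable def LDx3_3 (u : ℕ) : ℕ := Nat.land (Nat.shiftRight LDx3_3d (Nat.mul u (nat_lit 5))) (nat_lit 31)
noncomputable def Ptx3_3d : ℕ := nat_lit 0xf230b850d5455d1cda00
noncomputable def Ptx3_3 (u : ℕ) : ℕ := Nat.land (Nat.shiftRight Ptx3_3d (Nat.mul u (nat_lit 9))) (nat_lit 511)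
noncomputable def Qx3_3d : ℕ := nat_lit 0x40000000000002000000000000000000000000000000000000000000000000000000000000000000000000000000000000800000000000000006000000000000000000000000000000000000000000000000000003000000000000000000000000000000000000500000000000000000000000010000000000070000000000000000000000000000000000000000000000000000000000000000000000000000000000000000000000000
noncomputable def Qx3_3 (u : ℕ) : ℕ := Nat.land (Nat.shiftRight Qx3_3d (Nat.mul u (nat_lit 4))) (nat_lit 15)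
noncomputable def lx3_3 : Lev := ⟨9, 3, LDx3_3, Ptx3_3, Qx3_3⟩
noncomputable def LDx3_2d : ℕ := nat_lit 0x226133892040c0
noncomputable def LDx3_2 (u : ℕ) : ℕ := Nat.land (Nat.shiftRight LDx3_2d (Nat.mul u (nat_lit 6))) (nat_lit 63)
noncomputable def Ptx3_2d : ℕ := nat_lit 0xdc0b3506063404003212
noncomputable def Ptx3_2 (u : ℕ) : ℕ := Nat.land (Nat.shiftRight Ptx3_2d (Nat.mul u (nat_lit 9))) (nat_lit 511)
noncomputable def Qx3_2d : ℕ := nat_lit 0x20000000000000000000000000000000000080000000600000000000000000000000000000000000000000000000000000000000000000000000000000000000300000000000000000000000000004000000000000000000000000000000000000000000000000005000000000000000000000010070000000000000000000000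
noncomputable def Qx3_2 (u : ℕ) : ℕ := Nat.land (Nat.shiftRight Qx3_2d (Nat.mul u (nat_lit 4))) (nat_lit 15)
noncomputable def lx3_2 : Lev := ⟨9, 5, LDx3_2, Ptx3_2, Qx3_2⟩
noncomputable def LDx3_1d : ℕ := nat_lit 0xb50
noncomputable def LDx3_1 (u : ℕ) : ℕ := Nat.land (Nat.shiftRight LDx3_1d (Nat.mul u (nat_lit 4))) (nat_lit 15)
noncomputable def Ptx3_1d : ℕ := nat_lit 0x57a745a
noncomputable def Ptx3_1 (u : ℕ) : ℕ := Nat.land (Nat.shiftRight Ptx3_1d (Nat.mul u (nat_lit 9))) (nat_lit 511)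
noncomputable def Qx3_1d : ℕ := nat_lit 0x20000000000000000010000000000000000000000000000000000000000000000000000000000000000000000000000000000000000000000000000000000000000000000000000000000000000000000000000000000000
noncomputable def Qx3_1 (u : ℕ) : ℕ := Nat.land (Nat.shiftRight Qx3_1d (Nat.mul u (nat_lit 2))) (nat_lit 3)
noncomputable def lx3_1 : Lev := ⟨3, 6, LDx3_1, Ptx3_1, Qx3_1⟩
noncomputable def LDx3_0d : ℕ := nat_lit 0x8b8476615a4c3e3a3735302e292523221b191412110d0c0b0a0600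
noncomputable def LDx3_0 (u : ℕ) : ℕ := Nat.land (Nat.shiftRight LDx3_0d (Nat.mul u (nat_lit 8))) (nat_lit 255)
noncomputable def Ptx3_0d : ℕ := nat_lit 0x47686f39d138b48585c5c335d6e5796cfe9010825270b3508c801818e0003
noncomputable def Ptx3_0 (u : ℕ) : ℕ := Nat.land (Nat.shiftRight Ptx3_0d (Nat.mul u (nat_lit 9))) (nat_lit 511)
noncomputable def Qx3_0d : ℕ := nat_lit 0x3a00000000000000000000000000000000c80000000005c0000000000000000000000400000000b0034000000900000000000000980000000000001030000000000000c0000000000000000000000000000f0000000006000000000000000000000000000000000000340000000000000000000000000000000000000000000000000000000000028000004000000000000000000000000000000000001000000000054000000000000058000000001400028000000000000000000000300000000000000000000000000022001c000240000000000000000000000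
noncomputable def Qx3_0 (u : ℕ) : ℕ := Nat.land (Nat.shiftRight Qx3_0d (Nat.mul u (nat_lit 5))) (nat_lit 31)
noncomputable def lx3_0 : Lev := ⟨27, 7, LDx3_0, Ptx3_0, Qx3_0⟩
noncomputable def Lx3 : List Lev := [lx3_0, lx3_1, lx3_2, lx3_3, lx3_4]
noncomputable def Bx3 : List ℕ := [nat_lit 3, nat_lit 90, nat_lit 18, nat_lit 0, nat_lit 1]
noncomputable def Us2 : List (List ℕ) := [[nat_lit 5, nat_lit 0, nat_lit 3, nat_lit 1, nat_lit 0, nat_lit 4, nat_lit 3, nat_lit 2, nat_lit 2, nat_lit 4, nat_lit 3, nat_lit 0, nat_lit 4, nat_lit 5, nat_lit 3, nat_lit 2, nat_lit 3],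
  [nat_lit 5, nat_lit 1, nat_lit 1, nat_lit 0, nat_lit 3, nat_lit 0, nat_lit 1, nat_lit 3, nat_lit 1, nat_lit 4, nat_lit 3, nat_lit 0, nat_lit 2, nat_lit 4, nat_lit 3, nat_lit 4, nat_lit 5, nat_lit 3],
  [nat_lit 5, nat_lit 4, nat_lit 2, nat_lit 0, nat_lit 3, nat_lit 2, nat_lit 2, nat_lit 2, nat_lit 3, nat_lit 4, nat_lit 3, nat_lit 0, nat_lit 1, nat_lit 5, nat_lit 3],
  [nat_lit 0, nat_lit 5, nat_lit 3, nat_lit 0, nat_lit 5],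
  [nat_lit 1, nat_lit 3, nat_lit 0, nat_lit 4, nat_lit 3, nat_lit 4, nat_lit 0, nat_lit 1, nat_lit 5, nat_lit 3, nat_lit 1, nat_lit 0, nat_lit 5, nat_lit 4, nat_lit 3, nat_lit 0, nat_lit 2, nat_lit 4],
  [nat_lit 1, nat_lit 4, nat_lit 3, nat_lit 0, nat_lit 5, nat_lit 3, nat_lit 2, nat_lit 4, nat_lit 5, nat_lit 3, nat_lit 0, nat_lit 2, nat_lit 5],
  [nat_lit 5, nat_lit 3, nat_lit 0, nat_lit 1, nat_lit 4, nat_lit 3, nat_lit 4, nat_lit 2, nat_lit 3, nat_lit 5],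
  [nat_lit 1, nat_lit 3, nat_lit 2, nat_lit 3],
  [nat_lit 5, nat_lit 3, nat_lit 0, nat_lit 1, nat_lit 3, nat_lit 4, nat_lit 3, nat_lit 2, nat_lit 3, nat_lit 5]]
noncomputable def Fs2 : List (List ℕ) := [[nat_lit 3, nat_lit 5, nat_lit 0, nat_lit 2, nat_lit 3, nat_lit 0, nat_lit 4, nat_lit 3, nat_lit 1, nat_lit 3, nat_lit 0, nat_lit 5, nat_lit 3, nat_lit 1, nat_lit 0, nat_lit 5],
  [nat_lit 2, nat_lit 2, nat_lit 0, nat_lit 3, nat_lit 0, nat_lit 1, nat_lit 3, nat_lit 1, nat_lit 4, nat_lit 3, nat_lit 2, nat_lit 3, nat_lit 4, nat_lit 5, nat_lit 3, nat_lit 5, nat_lit 3, nat_lit 5],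
  [nat_lit 3, nat_lit 4, nat_lit 5, nat_lit 2, nat_lit 2, nat_lit 3, nat_lit 1, nat_lit 3, nat_lit 0, nat_lit 4, nat_lit 3, nat_lit 4, nat_lit 2, nat_lit 3],
  [nat_lit 0, nat_lit 1, nat_lit 3, nat_lit 1, nat_lit 4, nat_lit 3, nat_lit 2, nat_lit 3, nat_lit 0, nat_lit 2, nat_lit 5, nat_lit 3, nat_lit 0, nat_lit 2, nat_lit 4, nat_lit 3],
  [nat_lit 4, nat_lit 3, nat_lit 1, nat_lit 1, nat_lit 4, nat_lit 3, nat_lit 2, nat_lit 5, nat_lit 6, nat_lit 4, nat_lit 3, nat_lit 2, nat_lit 6, nat_lit 4],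
  [nat_lit 1, nat_lit 3, nat_lit 1, nat_lit 3, nat_lit 4, nat_lit 3, nat_lit 1, nat_lit 0, nat_lit 3, nat_lit 5, nat_lit 3, nat_lit 5, nat_lit 3, nat_lit 1]]
noncomputable def c2 : Pc := ⟨(nat_lit 1), (nat_lit 3), (nat_lit 9), (nat_lit 4), (nat_lit 13), (nat_lit 14),
  [[[nat_lit 4, nat_lit 5, nat_lit 6, nat_lit 7]],
  [[nat_lit 1, nat_lit 4], [nat_lit 5, nat_lit 6, nat_lit 7, nat_lit 8]],
  [[nat_lit 2, nat_lit 5], [nat_lit 2, nat_lit 4, nat_lit 5, nat_lit 8], [nat_lit 4, nat_lit 7]],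
  [[nat_lit 3, nat_lit 6], [nat_lit 3, nat_lit 6], [nat_lit 3], []],
  [[nat_lit 4, nat_lit 7], [nat_lit 4, nat_lit 7], [nat_lit 4, nat_lit 8], [nat_lit 4], []],
  [[nat_lit 5, nat_lit 7, nat_lit 8], [nat_lit 5, nat_lit 8], [nat_lit 5, nat_lit 7], [nat_lit 5], [nat_lit 5, nat_lit 8], [nat_lit 8]],
  [[nat_lit 6], [nat_lit 6], [nat_lit 6], [nat_lit 6], [nat_lit 6], [nat_lit 6], []],
  [[nat_lit 7, nat_lit 8], [nat_lit 7, nat_lit 8], [nat_lit 7, nat_lit 8], [nat_lit 7], [nat_lit 7], [nat_lit 7], [nat_lit 7], []],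
  [[nat_lit 8], [nat_lit 8], [nat_lit 8], [nat_lit 8], [nat_lit 8], [nat_lit 8], [nat_lit 8], [nat_lit 8], []]],
  [((nat_lit 1), [nat_lit 3], [nat_lit 3, nat_lit 6]),
  ((nat_lit 1), [nat_lit 2], [nat_lit 2]),
  ((nat_lit 3), [nat_lit 3], [nat_lit 3]),
  ((nat_lit 3), [nat_lit 0, nat_lit 1, nat_lit 2], [nat_lit 7, nat_lit 8]),
  ((nat_lit 4), [nat_lit 8], [nat_lit 0, nat_lit 1, nat_lit 4, nat_lit 5]),
  ((nat_lit 4), [nat_lit 3], [nat_lit 3]),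
  ((nat_lit 0), [nat_lit 7], [nat_lit 6]),
  ((nat_lit 0), [nat_lit 4], [nat_lit 0, nat_lit 1, nat_lit 3, nat_lit 4, nat_lit 5, nat_lit 6]),
  ((nat_lit 2), [nat_lit 4], [nat_lit 6]),
  ((nat_lit 2), [nat_lit 0, nat_lit 1, nat_lit 5], [nat_lit 3, nat_lit 8]),
  ((nat_lit 3), [nat_lit 5], [nat_lit 5, nat_lit 7]),
  ((nat_lit 5), [nat_lit 5], [nat_lit 0, nat_lit 2]),
  ((nat_lit 5), [nat_lit 3], [nat_lit 0, nat_lit 1, nat_lit 5, nat_lit 6, nat_lit 8])]⟩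
noncomputable def I2_0 : List Pc.Idn := [⟨false, (nat_lit 0), [nat_lit 6], [nat_lit 6, nat_lit 1], [((nat_lit 68), (nat_lit 2))]⟩,
  ⟨false, (nat_lit 0), [nat_lit 3], [nat_lit 3, nat_lit 2], [((nat_lit 42), (nat_lit 2))]⟩,
  ⟨false, (nat_lit 0), [nat_lit 6], [nat_lit 6, nat_lit 2], [((nat_lit 69), (nat_lit 2))]⟩,
  ⟨false, (nat_lit 0), [nat_lit 5], [nat_lit 3, nat_lit 3], [((nat_lit 61), (nat_lit 2))]⟩,
  ⟨false, (nat_lit 0), [nat_lit 6], [nat_lit 6, nat_lit 3], [((nat_lit 70), (nat_lit 2))]⟩,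
  ⟨false, (nat_lit 0), [nat_lit 6], [nat_lit 6, nat_lit 4], [((nat_lit 71), (nat_lit 2))]⟩,
  ⟨false, (nat_lit 0), [nat_lit 7], [nat_lit 7, nat_lit 4], [((nat_lit 80), (nat_lit 2))]⟩,
  ⟨false, (nat_lit 0), [nat_lit 5], [nat_lit 5, nat_lit 5], [((nat_lit 90), (nat_lit 1))]⟩,
  ⟨false, (nat_lit 0), [nat_lit 6], [nat_lit 6, nat_lit 5], [((nat_lit 72), (nat_lit 2))]⟩,
  ⟨false, (nat_lit 0), [nat_lit 3], [nat_lit 3, nat_lit 0], [((nat_lit 40), (nat_lit 2)), ((nat_lit 70), (nat_lit 3)), ((nat_lit 73), (nat_lit 3))]⟩,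
  ⟨false, (nat_lit 0), [nat_lit 4], [nat_lit 4, nat_lit 0], [((nat_lit 49), (nat_lit 2)), ((nat_lit 80), (nat_lit 3)), ((nat_lit 83), (nat_lit 3))]⟩,
  ⟨false, (nat_lit 0), [nat_lit 7], [nat_lit 7, nat_lit 0], [((nat_lit 76), (nat_lit 2)), ((nat_lit 92), (nat_lit 3)), ((nat_lit 93), (nat_lit 3))]⟩,
  ⟨false, (nat_lit 0), [nat_lit 3], [nat_lit 3, nat_lit 1], [((nat_lit 41), (nat_lit 2)), ((nat_lit 70), (nat_lit 3)), ((nat_lit 73), (nat_lit 3))]⟩,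
  ⟨false, (nat_lit 0), [nat_lit 4], [nat_lit 4, nat_lit 1], [((nat_lit 50), (nat_lit 2)), ((nat_lit 80), (nat_lit 3)), ((nat_lit 83), (nat_lit 3))]⟩,
  ⟨false, (nat_lit 0), [nat_lit 7], [nat_lit 7, nat_lit 1], [((nat_lit 77), (nat_lit 2)), ((nat_lit 92), (nat_lit 3)), ((nat_lit 93), (nat_lit 3))]⟩,
  ⟨false, (nat_lit 0), [nat_lit 4], [nat_lit 4, nat_lit 2], [((nat_lit 51), (nat_lit 2)), ((nat_lit 89), (nat_lit 3)), ((nat_lit 93), (nat_lit 3))]⟩,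
  ⟨false, (nat_lit 0), [nat_lit 7], [nat_lit 7, nat_lit 2], [((nat_lit 78), (nat_lit 2)), ((nat_lit 92), (nat_lit 3)), ((nat_lit 93), (nat_lit 3))]⟩,
  ⟨false, (nat_lit 0), [nat_lit 5], [nat_lit 5, nat_lit 3], [((nat_lit 61), (nat_lit 2)), ((nat_lit 88), (nat_lit 1))]⟩,
  ⟨false, (nat_lit 0), [nat_lit 5], [nat_lit 4, nat_lit 4], [((nat_lit 62), (nat_lit 2)), ((nat_lit 89), (nat_lit 1)), ((nat_lit 93), (nat_lit 1))]⟩,
  ⟨false, (nat_lit 0), [nat_lit 6], [nat_lit 5, nat_lit 5], [((nat_lit 72), (nat_lit 2)), ((nat_lit 91), (nat_lit 1))]⟩,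
  ⟨false, (nat_lit 0), [nat_lit 7], [nat_lit 5, nat_lit 5], [((nat_lit 81), (nat_lit 2)), ((nat_lit 92), (nat_lit 1))]⟩,
  ⟨false, (nat_lit 0), [nat_lit 5], [nat_lit 5, nat_lit 1], [((nat_lit 59), (nat_lit 2)), ((nat_lit 86), (nat_lit 1)), ((nat_lit 90), (nat_lit 3)), ((nat_lit 93), (nat_lit 3))]⟩,
  ⟨false, (nat_lit 0), [nat_lit 2], [nat_lit 2, nat_lit 2], [((nat_lit 51), (nat_lit 1)), ((nat_lit 78), (nat_lit 1)), ((nat_lit 92), (nat_lit 1)), ((nat_lit 93), (nat_lit 1))]⟩,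
  ⟨false, (nat_lit 0), [nat_lit 3], [nat_lit 2, nat_lit 2], [((nat_lit 42), (nat_lit 2)), ((nat_lit 52), (nat_lit 1)), ((nat_lit 79), (nat_lit 1))]⟩,
  ⟨false, (nat_lit 0), [nat_lit 6], [nat_lit 2, nat_lit 2], [((nat_lit 69), (nat_lit 2)), ((nat_lit 71), (nat_lit 3)), ((nat_lit 82), (nat_lit 1))]⟩,
  ⟨false, (nat_lit 0), [nat_lit 4], [nat_lit 2, nat_lit 2], [((nat_lit 51), (nat_lit 2)), ((nat_lit 80), (nat_lit 1)), ((nat_lit 87), (nat_lit 1)), ((nat_lit 93), (nat_lit 1))]⟩,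
  ⟨false, (nat_lit 0), [nat_lit 6], [nat_lit 1, nat_lit 0], [((nat_lit 71), (nat_lit 3))]⟩,
  ⟨false, (nat_lit 0), [nat_lit 6], [nat_lit 2, nat_lit 0], [((nat_lit 72), (nat_lit 3))]⟩,
  ⟨false, (nat_lit 0), [nat_lit 5], [nat_lit 3, nat_lit 2], [((nat_lit 79), (nat_lit 3))]⟩,
  ⟨false, (nat_lit 0), [nat_lit 5], [nat_lit 5, nat_lit 2], [((nat_lit 60), (nat_lit 2)), ((nat_lit 81), (nat_lit 3)), ((nat_lit 83), (nat_lit 3)), ((nat_lit 87), (nat_lit 1)), ((nat_lit 92), (nat_lit 2))]⟩,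
  ⟨false, (nat_lit 0), [nat_lit 5], [nat_lit 5, nat_lit 0], [((nat_lit 58), (nat_lit 2)), ((nat_lit 81), (nat_lit 3)), ((nat_lit 83), (nat_lit 3)), ((nat_lit 85), (nat_lit 1)), ((nat_lit 90), (nat_lit 3)), ((nat_lit 92), (nat_lit 3)), ((nat_lit 93), (nat_lit 3))]⟩,
  ⟨false, (nat_lit 0), [nat_lit 5], [nat_lit 2, nat_lit 2], [((nat_lit 60), (nat_lit 2)), ((nat_lit 62), (nat_lit 3)), ((nat_lit 78), (nat_lit 1)), ((nat_lit 81), (nat_lit 1)), ((nat_lit 83), (nat_lit 1)), ((nat_lit 92), (nat_lit 3))]⟩,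
  ⟨false, (nat_lit 0), [nat_lit 2], [nat_lit 2, nat_lit 0], [((nat_lit 31), (nat_lit 2)), ((nat_lit 49), (nat_lit 1)), ((nat_lit 60), (nat_lit 3)), ((nat_lit 63), (nat_lit 3)), ((nat_lit 76), (nat_lit 1)), ((nat_lit 81), (nat_lit 3))]⟩,
  ⟨false, (nat_lit 0), [nat_lit 3], [nat_lit 2, nat_lit 0], [((nat_lit 61), (nat_lit 1)), ((nat_lit 69), (nat_lit 3)), ((nat_lit 72), (nat_lit 3))]⟩,
  ⟨false, (nat_lit 0), [nat_lit 7], [nat_lit 0, nat_lit 0], [((nat_lit 76), (nat_lit 2)), ((nat_lit 80), (nat_lit 3)), ((nat_lit 81), (nat_lit 3)), ((nat_lit 82), (nat_lit 3)), ((nat_lit 85), (nat_lit 1)), ((nat_lit 93), (nat_lit 1))]⟩,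
  ⟨false, (nat_lit 0), [nat_lit 1], [nat_lit 1, nat_lit 1], [((nat_lit 59), (nat_lit 1)), ((nat_lit 68), (nat_lit 1)), ((nat_lit 77), (nat_lit 1)), ((nat_lit 86), (nat_lit 1)), ((nat_lit 91), (nat_lit 1)), ((nat_lit 92), (nat_lit 1)), ((nat_lit 93), (nat_lit 1))]⟩,
  ⟨false, (nat_lit 0), [nat_lit 7], [nat_lit 1, nat_lit 1], [((nat_lit 77), (nat_lit 2)), ((nat_lit 81), (nat_lit 3)), ((nat_lit 82), (nat_lit 3)), ((nat_lit 86), (nat_lit 1)), ((nat_lit 92), (nat_lit 1)), ((nat_lit 93), (nat_lit 1))]⟩,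
  ⟨false, (nat_lit 0), [nat_lit 3], [nat_lit 1, nat_lit 0], [((nat_lit 52), (nat_lit 1)), ((nat_lit 67), (nat_lit 1)), ((nat_lit 68), (nat_lit 3))]⟩,
  ⟨false, (nat_lit 0), [nat_lit 0], [nat_lit 0, nat_lit 0], [((nat_lit 49), (nat_lit 1)), ((nat_lit 58), (nat_lit 1)), ((nat_lit 67), (nat_lit 1)), ((nat_lit 76), (nat_lit 1)), ((nat_lit 81), (nat_lit 1)), ((nat_lit 83), (nat_lit 1)), ((nat_lit 91), (nat_lit 1)), ((nat_lit 92), (nat_lit 1)), ((nat_lit 93), (nat_lit 1))]⟩,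
  ⟨false, (nat_lit 0), [nat_lit 4], [nat_lit 1, nat_lit 0], [((nat_lit 76), (nat_lit 1)), ((nat_lit 77), (nat_lit 3)), ((nat_lit 89), (nat_lit 3))]⟩,
  ⟨false, (nat_lit 0), [nat_lit 3], [nat_lit 0, nat_lit 0], [((nat_lit 40), (nat_lit 2)), ((nat_lit 52), (nat_lit 1)), ((nat_lit 61), (nat_lit 1)), ((nat_lit 67), (nat_lit 1)), ((nat_lit 70), (nat_lit 1)), ((nat_lit 73), (nat_lit 1)), ((nat_lit 79), (nat_lit 1)), ((nat_lit 82), (nat_lit 2))]⟩,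
  ⟨false, (nat_lit 0), [nat_lit 4], [nat_lit 1, nat_lit 1], [((nat_lit 50), (nat_lit 2)), ((nat_lit 62), (nat_lit 1)), ((nat_lit 71), (nat_lit 1)), ((nat_lit 77), (nat_lit 1)), ((nat_lit 80), (nat_lit 1)), ((nat_lit 83), (nat_lit 1)), ((nat_lit 89), (nat_lit 1)), ((nat_lit 91), (nat_lit 1)), ((nat_lit 92), (nat_lit 1)), ((nat_lit 93), (nat_lit 1))]⟩,
  ⟨false, (nat_lit 0), [nat_lit 2], [nat_lit 2, nat_lit 1], [((nat_lit 32), (nat_lit 2)), ((nat_lit 50), (nat_lit 1)), ((nat_lit 51), (nat_lit 3)), ((nat_lit 53), (nat_lit 3)), ((nat_lit 60), (nat_lit 3)), ((nat_lit 62), (nat_lit 3)), ((nat_lit 63), (nat_lit 3)), ((nat_lit 77), (nat_lit 1)), ((nat_lit 80), (nat_lit 3)), ((nat_lit 81), (nat_lit 3)), ((nat_lit 87), (nat_lit 3)), ((nat_lit 90), (nat_lit 2)), ((nat_lit 92), (nat_lit 3)), ((nat_lit 93), (nat_lit 2))]⟩,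
  ⟨true, (nat_lit 1), [nat_lit 0, nat_lit 1], [nat_lit 1, nat_lit 0], [((nat_lit 69), (nat_lit 3))]⟩,
  ⟨true, (nat_lit 3), [nat_lit 2, nat_lit 3], [nat_lit 3, nat_lit 2], [((nat_lit 40), (nat_lit 1)), ((nat_lit 41), (nat_lit 1)), ((nat_lit 42), (nat_lit 1)), ((nat_lit 68), (nat_lit 1)), ((nat_lit 73), (nat_lit 1)), ((nat_lit 79), (nat_lit 1)), ((nat_lit 88), (nat_lit 1))]⟩,
  ⟨true, (nat_lit 4), [nat_lit 4, nat_lit 5], [nat_lit 5, nat_lit 4], [((nat_lit 40), (nat_lit 1)), ((nat_lit 41), (nat_lit 1)), ((nat_lit 52), (nat_lit 3)), ((nat_lit 61), (nat_lit 3)), ((nat_lit 68), (nat_lit 1)), ((nat_lit 73), (nat_lit 1)), ((nat_lit 88), (nat_lit 1))]⟩,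
  ⟨true, (nat_lit 0), [nat_lit 6, nat_lit 7], [nat_lit 7, nat_lit 6], [((nat_lit 67), (nat_lit 3)), ((nat_lit 68), (nat_lit 3)), ((nat_lit 70), (nat_lit 3)), ((nat_lit 71), (nat_lit 3)), ((nat_lit 72), (nat_lit 3)), ((nat_lit 80), (nat_lit 1))]⟩,
  ⟨true, (nat_lit 2), [nat_lit 8, nat_lit 9], [nat_lit 9, nat_lit 8], [((nat_lit 49), (nat_lit 1)), ((nat_lit 50), (nat_lit 1)), ((nat_lit 62), (nat_lit 3)), ((nat_lit 70), (nat_lit 3)), ((nat_lit 77), (nat_lit 1)), ((nat_lit 83), (nat_lit 1)), ((nat_lit 90), (nat_lit 1)), ((nat_lit 91), (nat_lit 1))]⟩,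
  ⟨true, (nat_lit 3), [nat_lit 10, nat_lit 3], [nat_lit 3, nat_lit 10], [((nat_lit 58), (nat_lit 1)), ((nat_lit 59), (nat_lit 1)), ((nat_lit 60), (nat_lit 1)), ((nat_lit 77), (nat_lit 1)), ((nat_lit 78), (nat_lit 1)), ((nat_lit 81), (nat_lit 1)), ((nat_lit 83), (nat_lit 1)), ((nat_lit 86), (nat_lit 1)), ((nat_lit 87), (nat_lit 1)), ((nat_lit 90), (nat_lit 1)), ((nat_lit 92), (nat_lit 2)), ((nat_lit 93), (nat_lit 2))]⟩,
  ⟨true, (nat_lit 5), [nat_lit 11, nat_lit 12], [nat_lit 12, nat_lit 11], [((nat_lit 22), (nat_lit 1)), ((nat_lit 31), (nat_lit 3)), ((nat_lit 32), (nat_lit 3)), ((nat_lit 51), (nat_lit 3)), ((nat_lit 58), (nat_lit 1)), ((nat_lit 59), (nat_lit 1)), ((nat_lit 60), (nat_lit 3)), ((nat_lit 61), (nat_lit 1)), ((nat_lit 63), (nat_lit 3)), ((nat_lit 67), (nat_lit 1)), ((nat_lit 69), (nat_lit 3)), ((nat_lit 71), (nat_lit 1)), ((nat_lit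 72), (nat_lit 3)), ((nat_lit 77), (nat_lit 1)), ((nat_lit 82), (nat_lit 3)), ((nat_lit 85), (nat_lit 1)), ((nat_lit 86), (nat_lit 3)), ((nat_lit 89), (nat_lit 3)), ((nat_lit 90), (nat_lit 3)), ((nat_lit 91), (nat_lit 1)), ((nat_lit 92), (nat_lit 2))]⟩]
noncomputable def Ds2 : List (List (ℕ × ℕ)) := I2_0.map Pc.Idn.D
noncomputable def S2 : List (List (ℕ × ℕ)) := [[],
  [],
  [],
  [],
  [((nat_lit 22), (nat_lit 1))],
  [((nat_lit 31), (nat_lit 1))],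
  [((nat_lit 40), (nat_lit 1))],
  [((nat_lit 49), (nat_lit 1))],
  [((nat_lit 76), (nat_lit 1))]]
noncomputable def Yo2 : List (List (ℕ × ℕ) × ℕ × ℕ) := [([((nat_lit 40), (nat_lit 3)), ((nat_lit 41), (nat_lit 1))], (nat_lit 2), nat_lit 0x3040000)]
noncomputable def La2 : List ℕ := [nat_lit 0,
  nat_lit 0,
  nat_lit 0,
  nat_lit 0,
  nat_lit 0,
  nat_lit 0,
  nat_lit 0,
  nat_lit 0,
  nat_lit 0,
  nat_lit 0,
  nat_lit 0,
  nat_lit 0,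
  nat_lit 0,
  nat_lit 0,
  nat_lit 0,
  nat_lit 0,
  nat_lit 0,
  nat_lit 0,
  nat_lit 0,
  nat_lit 0x3ad919fbc7a2c04c1d62595b39,
  nat_lit 0,
  nat_lit 0,
  nat_lit 0,
  nat_lit 0,
  nat_lit 0,
  nat_lit 0,
  nat_lit 0,
  nat_lit 0,
  nat_lit 1,
  nat_lit 0x170820300301002802040c7a,
  nat_lit 0,
  nat_lit 0,
  nat_lit 0,
  nat_lit 0,
  nat_lit 0,
  nat_lit 0,
  nat_lit 0,
  nat_lit 0x14a3a9840c54d2a62f30c390a,
  nat_lit 0xad83f0cc16d02779a63ecca31,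
  nat_lit 0x2a00002006030000000808a0,
  nat_lit 0x2192d79a8f30c3e8f7f061503b,
  nat_lit 0,
  nat_lit 0,
  nat_lit 0,
  nat_lit 0,
  nat_lit 0x8730a6a52f43f2153c3d381d5,
  nat_lit 0x8a125b7b0bf76a16a8276316a,
  nat_lit 0x6aa13f3a1b6cb8fc1a34bdaac,
  nat_lit 0x80122ac323b7eb0860045b14c,
  nat_lit 0x22039280202caabe123489222,
  nat_lit 0x6aa13f3ada6db0bc5a18bdaac,
  nat_lit 0,
  nat_lit 0,
  nat_lit 0,
  nat_lit 0x8890cacb0915fbaaa815f3b46,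
  nat_lit 0x8a104b4b0bdf69aaa83fd116a,
  nat_lit 0x80322a4221ad6908e00cb9384,
  nat_lit 0x89204b480baf59aba83e9113b,
  nat_lit 0x40000000003000,
  nat_lit 0x1000000000c0000,
  nat_lit 0x8b20c9c809a5fba9a815b3319,
  nat_lit 0,
  nat_lit 0,
  nat_lit 0,
  nat_lit 0x21000020a006c003002000,
  nat_lit 0xa78150443e7021dbae2644a13,
  nat_lit 0xc00000000000000,
  nat_lit 0x8580e2c42f5f83c5bc2ac9831,
  nat_lit 0x8a008aa80b2b2a4a283ca202a,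
  nat_lit 0x200080020ec200800821208,
  nat_lit 0x8f80624c25f5814f94264b813,
  nat_lit 0,
  nat_lit 0xfa0e0ee2a5e0baf9428d9a93,
  nat_lit 0x20a2a200a88168001292280,
  nat_lit 0x8582c2c40f548bad9c3ac3831,
  nat_lit 0x200082022a82018008a2288,
  nat_lit 0xa02a0882aa20a62381088022,
  nat_lit 0x10000,
  nat_lit 0x200010000080000,
  nat_lit 0x20200c0002800000,
  nat_lit 0x2020040001800000]
noncomputable def Wsx2 : List (List ℕ) := [[nat_lit 0, nat_lit 1, nat_lit 5, nat_lit 6, nat_lit 7],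
  [nat_lit 4, nat_lit 7, nat_lit 8],
  [nat_lit 7],
  [nat_lit 3],
  [nat_lit 4],
  [nat_lit 6],
  [nat_lit 2],
  [nat_lit 5],
  [nat_lit 0]]
noncomputable def LDx2_5d : ℕ := nat_lit 0
noncomputable def LDx2_5 (u : ℕ) : ℕ := Nat.land (Nat.shiftRight LDx2_5d (Nat.mul u (nat_lit 1))) (nat_lit 1)
noncomputable def Ptx2_5d : ℕ := nat_lit 0x388
noncomputable def Ptx2_5 (u : ℕ) : ℕ := Nat.land (Nat.shiftRight Ptx2_5d (Nat.mul u (nat_lit 5))) (nat_lit 31)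
noncomputable def Qx2_5d : ℕ := nat_lit 0x10000000
noncomputable def Qx2_5 (u : ℕ) : ℕ := Nat.land (Nat.shiftRight Qx2_5d (Nat.mul u (nat_lit 1))) (nat_lit 1)
noncomputable def lx2_5 : Lev := ⟨2, 1, LDx2_5, Ptx2_5, Qx2_5⟩
noncomputable def LDx2_4d : ℕ := nat_lit 2
noncomputable def LDx2_4 (u : ℕ) : ℕ := Nat.land (Nat.shiftRight LDx2_4d (Nat.mul u (nat_lit 1))) (nat_lit 1)
noncomputable def Ptx2_4d : ℕ := nat_lit 0xa2
noncomputable def Ptx2_4 (u : ℕ) : ℕ := Nat.land (Nat.shiftRight Ptx2_4d (Nat.mul u (nat_lit 4))) (nat_lit 15)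
noncomputable def Qx2_4d : ℕ := nat_lit 0x400
noncomputable def Qx2_4 (u : ℕ) : ℕ := Nat.land (Nat.shiftRight Qx2_4d (Nat.mul u (nat_lit 1))) (nat_lit 1)
noncomputable def lx2_4 : Lev := ⟨2, 2, LDx2_4, Ptx2_4, Qx2_4⟩
noncomputable def LDx2_3d : ℕ := nat_lit 8
noncomputable def LDx2_3 (u : ℕ) : ℕ := Nat.land (Nat.shiftRight LDx2_3d (Nat.mul u (nat_lit 2))) (nat_lit 3)
noncomputable def Ptx2_3d : ℕ := nat_lit 0xc52
noncomputable def Ptx2_3 (u : ℕ) : ℕ := Nat.land (Nat.shiftRight Ptx2_3d (Nat.mul u (nat_lit 6))) (nat_lit 63)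
noncomputable def Qx2_3d : ℕ := nat_lit 0x2000000000000
noncomputable def Qx2_3 (u : ℕ) : ℕ := Nat.land (Nat.shiftRight Qx2_3d (Nat.mul u (nat_lit 1))) (nat_lit 1)
noncomputable def lx2_3 : Lev := ⟨2, 3, LDx2_3, Ptx2_3, Qx2_3⟩
noncomputable def LDx2_2d : ℕ := nat_lit 0xec56a29060
noncomputable def LDx2_2 (u : ℕ) : ℕ := Nat.land (Nat.shiftRight LDx2_2d (Nat.mul u (nat_lit 5))) (nat_lit 31)
noncomputable def Ptx2_2d : ℕ := nat_lit 0x9814c6499f5344801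
noncomputable def Ptx2_2 (u : ℕ) : ℕ := Nat.land (Nat.shiftRight Ptx2_2d (Nat.mul u (nat_lit 9))) (nat_lit 511)
noncomputable def Qx2_2d : ℕ := nat_lit 0x100000000000c0000000000000000000000000000000000000000000000000000000000000000000000000000000000000000000000000000000000000000000000000000000000000000000000000000000000000000000a00000000000000000020000000000000000000000000001000000000000e00000000030000
noncomputable def Qx2_2 (u : ℕ) : ℕ := Nat.land (Nat.shiftRight Qx2_2d (Nat.mul u (nat_lit 3))) (nat_lit 7)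
noncomputable def lx2_2 : Lev := ⟨8, 6, LDx2_2, Ptx2_2, Qx2_2⟩
noncomputable def LDx2_1d : ℕ := nat_lit 0xf760
noncomputable def LDx2_1 (u : ℕ) : ℕ := Nat.land (Nat.shiftRight LDx2_1d (Nat.mul u (nat_lit 4))) (nat_lit 15)
noncomputable def Ptx2_1d : ℕ := nat_lit 0x7c132b820
noncomputable def Ptx2_1 (u : ℕ) : ℕ := Nat.land (Nat.shiftRight Ptx2_1d (Nat.mul u (nat_lit 9))) (nat_lit 511)
noncomputable def Qx2_1d : ℕ := nat_lit 0x1000000000000000000000000000000000000000000000000030000000000000000000000000000000000000000000000000000000000000000000000000000000000000200000000000000000000000000000000000000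
noncomputable def Qx2_1 (u : ℕ) : ℕ := Nat.land (Nat.shiftRight Qx2_1d (Nat.mul u (nat_lit 2))) (nat_lit 3)
noncomputable def lx2_1 : Lev := ⟨4, 8, LDx2_1, Ptx2_1, Qx2_1⟩
noncomputable def LDx2_0d : ℕ := nat_lit 0x80
noncomputable def LDx2_0 (u : ℕ) : ℕ := Nat.land (Nat.shiftRight LDx2_0d (Nat.mul u (nat_lit 4))) (nat_lit 15)
noncomputable def Ptx2_0d : ℕ := nat_lit 0x9e34
noncomputable def Ptx2_0 (u : ℕ) : ℕ := Nat.land (Nat.shiftRight Ptx2_0d (Nat.mul u (nat_lit 8))) (nat_lit 255)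
noncomputable def Qx2_0d : ℕ := nat_lit 0x4000000000000000000000000000000000000000
noncomputable def Qx2_0 (u : ℕ) : ℕ := Nat.land (Nat.shiftRight Qx2_0d (Nat.mul u (nat_lit 1))) (nat_lit 1)
noncomputable def lx2_0 : Lev := ⟨2, 9, LDx2_0, Ptx2_0, Qx2_0⟩
noncomputable def Lx2 : List Lev := [lx2_0, lx2_1, lx2_2, lx2_3, lx2_4, lx2_5]
noncomputable def Bx2 : List ℕ := [nat_lit 52, nat_lit 32, nat_lit 1, nat_lit 18, nat_lit 2, nat_lit 8]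

theorem id3_0 : c3.idnChk (nat_lit 239) I3_0 = true := by decide +kernel
theorem rw3_0 : c3.rowChk S3 (Yo3.map (·.1) ++ Ds3) La3 (nat_lit 0) (nat_lit 81) = true := by decide +kernel
theorem ord3 : c3.ordChk Yo3 Ds3 = true := by decide +kernel
theorem rule3_0 : allZ (c3.ruleEnt (wdsP H16.O73.P Us3) H16.O73.B) (nat_lit 0) (nat_lit 81) = true := by decide +kernel
theorem fus3_0 : allZ (c3.fusEnt (wdsP H16.O73.P Us3) (wdsP H16.O73.P Fs3) H16.O73.B) (nat_lit 0) (nat_lit 12) = true := by decide +kernel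
theorem lvx3_4e_0 : allZ (lx3_4.ent (wdsP (wdsP H16.O73.P Us3) Wsx3)) (nat_lit 0) (nat_lit 2) = true := by decide +kernel
theorem lvx3_4b : 0 < lx3_4.n ∧ 0 < lx3_4.K ∧ lx3_4.Pt 0 < 351 ∧ lx3_4.Q (lx3_4.Pt 0) = 0 ∧ 0 ≤ lx3_4.K ∧ fixLetters (wdsP (wdsP H16.O73.P Us3) Wsx3) (nat_lit 0) (lx3_4.Pt 0) = true := by decide +kernel
theorem lvx3_3e_0 : allZ (lx3_3.ent (wdsP (wdsP H16.O73.P Us3) Wsx3)) (nat_lit 0) (nat_lit 8) = true := by decide +kernel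
theorem lvx3_3b : 0 < lx3_3.n ∧ 0 < lx3_3.K ∧ lx3_3.Pt 0 < 351 ∧ lx3_3.Q (lx3_3.Pt 0) = 0 ∧ 1 ≤ lx3_3.K ∧ fixLetters (wdsP (wdsP H16.O73.P Us3) Wsx3) (nat_lit 1) (lx3_3.Pt 0) = true := by decide +kernel
theorem lvx3_2e_0 : allZ (lx3_2.ent (wdsP (wdsP H16.O73.P Us3) Wsx3)) (nat_lit 0) (nat_lit 8) = true := by decide +kernel
theorem lvx3_2b : 0 < lx3_2.n ∧ 0 < lx3_2.K ∧ lx3_2.Pt 0 < 351 ∧ lx3_2.Q (lx3_2.Pt 0) = 0 ∧ 3 ≤ lx3_2.K ∧ fixLetters (wdsP (wdsP H16.O73.P Us3) Wsx3) (nat_lit 3) (lx3_2.Pt 0) = true := by decide +kernel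
theorem lvx3_1e_0 : allZ (lx3_1.ent (wdsP (wdsP H16.O73.P Us3) Wsx3)) (nat_lit 0) (nat_lit 2) = true := by decide +kernel
theorem lvx3_1b : 0 < lx3_1.n ∧ 0 < lx3_1.K ∧ lx3_1.Pt 0 < 351 ∧ lx3_1.Q (lx3_1.Pt 0) = 0 ∧ 5 ≤ lx3_1.K ∧ fixLetters (wdsP (wdsP H16.O73.P Us3) Wsx3) (nat_lit 5) (lx3_1.Pt 0) = true := by decide +kernel
theorem lvx3_0e_0 : allZ (lx3_0.ent (wdsP (wdsP H16.O73.P Us3) Wsx3)) (nat_lit 0) (nat_lit 26) = true := by decide +kernel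
theorem lvx3_0b : 0 < lx3_0.n ∧ 0 < lx3_0.K ∧ lx3_0.Pt 0 < 351 ∧ lx3_0.Q (lx3_0.Pt 0) = 0 ∧ 6 ≤ lx3_0.K ∧ fixLetters (wdsP (wdsP H16.O73.P Us3) Wsx3) (nat_lit 6) (lx3_0.Pt 0) = true := by decide +kernel
theorem basex3 : chainBase Lx3 = Bx3 ∧ ltAll (nat_lit 351) Bx3 = 0 ∧ topK Lx3 = 7 := by decide +kernel
theorem h0_3 : allL (ltAll 7) Us3 = true ∧ allL (ltAll 7) Fs3 = true ∧ Us3.length ≤ c3.n ∧ 0 < 4585351680 := by decide +kernel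
theorem h1_3 : allL (ltAll c3.n) Wsx3 = true ∧ chainCard Lx3 = (c3.p1 + 1) ^ c3.n ∧ c3.n * c3.n = 81 := by decide +kernel
theorem h2_3 : c3.Fmt ∧ c3.p1 + 1 = 3 ∧ c3.N1 + 1 = 3 ^ (1 + 1) ∧ 4585351680 = 3 ^ c3.n * (4585351680 / 3 ^ c3.n) ∧
    Nat.Coprime (4585351680 / 3 ^ c3.n) (c3.N1 + 1) ∧ (Yo3.map (·.2.1)).prod ≤ 3 ^ 1 ∧ c3.n * c3.n = 81 := by decide +kernel
theorem h3_3 : c3.C = 12 := by decide +kernel
theorem id2_0 : c2.idnChk (nat_lit 74) I2_0 = true := by decide +kernel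
theorem rw2_0 : c2.rowChk S2 (Yo2.map (·.1) ++ Ds2) La2 (nat_lit 0) (nat_lit 81) = true := by decide +kernel
theorem ord2 : c2.ordChk Yo2 Ds2 = true := by decide +kernel
theorem rule2_0 : allZ (c2.ruleEnt (wdsP H16.O73.P Us2) H16.O73.B) (nat_lit 0) (nat_lit 81) = true := by decide +kernel
theorem fus2_0 : allZ (c2.fusEnt (wdsP H16.O73.P Us2) (wdsP H16.O73.P Fs2) H16.O73.B) (nat_lit 0) (nat_lit 13) = true := by decide +kernel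
theorem lvx2_5e_0 : allZ (lx2_5.ent (wdsP (wdsP H16.O73.P Us2) Wsx2)) (nat_lit 0) (nat_lit 1) = true := by decide +kernel
theorem lvx2_5b : 0 < lx2_5.n ∧ 0 < lx2_5.K ∧ lx2_5.Pt 0 < 351 ∧ lx2_5.Q (lx2_5.Pt 0) = 0 ∧ 0 ≤ lx2_5.K ∧ fixLetters (wdsP (wdsP H16.O73.P Us2) Wsx2) (nat_lit 0) (lx2_5.Pt 0) = true := by decide +kernel
theorem lvx2_4e_0 : allZ (lx2_4.ent (wdsP (wdsP H16.O73.P Us2) Wsx2)) (nat_lit 0) (nat_lit 1) = true := by decide +kernel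
theorem lvx2_4b : 0 < lx2_4.n ∧ 0 < lx2_4.K ∧ lx2_4.Pt 0 < 351 ∧ lx2_4.Q (lx2_4.Pt 0) = 0 ∧ 1 ≤ lx2_4.K ∧ fixLetters (wdsP (wdsP H16.O73.P Us2) Wsx2) (nat_lit 1) (lx2_4.Pt 0) = true := by decide +kernel
theorem lvx2_3e_0 : allZ (lx2_3.ent (wdsP (wdsP H16.O73.P Us2) Wsx2)) (nat_lit 0) (nat_lit 1) = true := by decide +kernel
theorem lvx2_3b : 0 < lx2_3.n ∧ 0 < lx2_3.K ∧ lx2_3.Pt 0 < 351 ∧ lx2_3.Q (lx2_3.Pt 0) = 0 ∧ 2 ≤ lx2_3.K ∧ fixLetters (wdsP (wdsP H16.O73.P Us2) Wsx2) (nat_lit 2) (lx2_3.Pt 0) = true := by decide +kernel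
theorem lvx2_2e_0 : allZ (lx2_2.ent (wdsP (wdsP H16.O73.P Us2) Wsx2)) (nat_lit 0) (nat_lit 7) = true := by decide +kernel
theorem lvx2_2b : 0 < lx2_2.n ∧ 0 < lx2_2.K ∧ lx2_2.Pt 0 < 351 ∧ lx2_2.Q (lx2_2.Pt 0) = 0 ∧ 3 ≤ lx2_2.K ∧ fixLetters (wdsP (wdsP H16.O73.P Us2) Wsx2) (nat_lit 3) (lx2_2.Pt 0) = true := by decide +kernel
theorem lvx2_1e_0 : allZ (lx2_1.ent (wdsP (wdsP H16.O73.P Us2) Wsx2)) (nat_lit 0) (nat_lit 3) = true := by decide +kernel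
theorem lvx2_1b : 0 < lx2_1.n ∧ 0 < lx2_1.K ∧ lx2_1.Pt 0 < 351 ∧ lx2_1.Q (lx2_1.Pt 0) = 0 ∧ 6 ≤ lx2_1.K ∧ fixLetters (wdsP (wdsP H16.O73.P Us2) Wsx2) (nat_lit 6) (lx2_1.Pt 0) = true := by decide +kernel
theorem lvx2_0e_0 : allZ (lx2_0.ent (wdsP (wdsP H16.O73.P Us2) Wsx2)) (nat_lit 0) (nat_lit 1) = true := by decide +kernel
theorem lvx2_0b : 0 < lx2_0.n ∧ 0 < lx2_0.K ∧ lx2_0.Pt 0 < 351 ∧ lx2_0.Q (lx2_0.Pt 0) = 0 ∧ 8 ≤ lx2_0.K ∧ fixLetters (wdsP (wdsP H16.O73.P Us2) Wsx2) (nat_lit 8) (lx2_0.Pt 0) = true := by decide +kernel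
theorem basex2 : chainBase Lx2 = Bx2 ∧ ltAll (nat_lit 351) Bx2 = 0 ∧ topK Lx2 = 9 := by decide +kernel
theorem h0_2 : allL (ltAll 7) Us2 = true ∧ allL (ltAll 7) Fs2 = true ∧ Us2.length ≤ c2.n ∧ 0 < 4585351680 := by decide +kernel
theorem h1_2 : allL (ltAll c2.n) Wsx2 = true ∧ chainCard Lx2 = (c2.p1 + 1) ^ c2.n ∧ c2.n * c2.n = 81 := by decide +kernel
theorem h2_2 : c2.Fmt ∧ c2.p1 + 1 = 2 ∧ c2.N1 + 1 = 2 ^ (1 + 1) ∧ 4585351680 = 2 ^ c2.n * (4585351680 / 2 ^ c2.n) ∧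
    Nat.Coprime (4585351680 / 2 ^ c2.n) (c2.N1 + 1) ∧ (Yo2.map (·.2.1)).prod ≤ 2 ^ 1 ∧ c2.n * c2.n = 81 := by decide +kernel
theorem h3_2 : c2.C = 13 := by decide +kernel

instance fin : Finite (gen H16.O73.g 7) := Nat.finite_of_card_ne_zero (by rw [H16.O73.card]; decide)
theorem zero3 : ∀ D ∈ Ds3, c3.Zero D := (Pc.zero_of_chk id3_0)
theorem rows3 : ∀ r < 81, c3.Row S3 (Yo3.map (·.1)) r :=
  (Pc.rows_glue zero3 Pc.rows_zero rw3_0)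
theorem rule3 : ∀ i < 81, (c3.ruleEnt (wdsP H16.O73.P Us3) H16.O73.B) i = 0 := allZ_sound0 rule3_0
theorem fus3 : ∀ i < 12, (c3.fusEnt (wdsP H16.O73.P Us3) (wdsP H16.O73.P Fs3) H16.O73.B) i = 0 := allZ_sound0 fus3_0
theorem lvx3_4e : ∀ i < 2, (lx3_4.ent (wdsP (wdsP H16.O73.P Us3) Wsx3)) i = 0 := allZ_sound0 lvx3_4e_0
theorem lvx3_3e : ∀ i < 8, (lx3_3.ent (wdsP (wdsP H16.O73.P Us3) Wsx3)) i = 0 := allZ_sound0 lvx3_3e_0
theorem lvx3_2e : ∀ i < 8, (lx3_2.ent (wdsP (wdsP H16.O73.P Us3) Wsx3)) i = 0 := allZ_sound0 lvx3_2e_0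
theorem lvx3_1e : ∀ i < 2, (lx3_1.ent (wdsP (wdsP H16.O73.P Us3) Wsx3)) i = 0 := allZ_sound0 lvx3_1e_0
theorem lvx3_0e : ∀ i < 26, (lx3_0.ent (wdsP (wdsP H16.O73.P Us3) Wsx3)) i = 0 := allZ_sound0 lvx3_0e_0
theorem lowx3 : LowChain (wdsP (wdsP H16.O73.P Us3) Wsx3) 351 Lx3 :=
  ⟨⟨lvx3_0b.1, lvx3_0b.2.1, lvx3_0b.2.2.1, lvx3_0b.2.2.2.1, lvx3_0e⟩, lvx3_0b.2.2.2.2.1, lvx3_0b.2.2.2.2.2, ⟨⟨lvx3_1b.1, lvx3_1b.2.1, lvx3_1b.2.2.1, lvx3_1b.2.2.2.1, lvx3_1e⟩, lvx3_1b.2.2.2.2.1, lvx3_1b.2.2.2.2.2, ⟨⟨lvx3_2b.1, lvx3_2b.2.1, lvx3_2b.2.2.1, lvx3_2b.2.2.2.1, lvx3_2e⟩, lvx3_2b.2.2.2.2.1, lvx3_2b.2.2.2.2.2, ⟨⟨lvx3_3b.1, lvx3_3b.2.1, lvx3_3b.2.2.1, lvx3_3b.2.2.2.1, lvx3_3e⟩, lvx3_3b.2.2.2.2.1, lvx3_3b.2.2.2.2.2, ⟨⟨lvx3_4b.1, lvx3_4b.2.1, lvx3_4b.2.2.1, lvx3_4b.2.2.2.1, lvx3_4e⟩, lvx3_4b.2.2.2.2.1, lvx3_4b.2.2.2.2.2, trivial⟩⟩⟩⟩⟩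
open scoped Pointwise in
theorem pb3 : PB (gen H16.O73.g 7) (3 ^ (1 + 1)) :=
  (Pc.gok_wds H16.O73.act H16.O73.card (ptF_inj 351) H16.O73.Blt H16.O73.isBase h0_3 h1_3 rule3
    (fun r h => fus3 r (h.trans_eq h3_3)) lowx3).pb (by norm_num) H16.O73.card zero3 rows3 ord3 h2_3
theorem zero2 : ∀ D ∈ Ds2, c2.Zero D := (Pc.zero_of_chk id2_0)
theorem rows2 : ∀ r < 81, c2.Row S2 (Yo2.map (·.1)) r :=
  (Pc.rows_glue zero2 Pc.rows_zero rw2_0)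
theorem rule2 : ∀ i < 81, (c2.ruleEnt (wdsP H16.O73.P Us2) H16.O73.B) i = 0 := allZ_sound0 rule2_0
theorem fus2 : ∀ i < 13, (c2.fusEnt (wdsP H16.O73.P Us2) (wdsP H16.O73.P Fs2) H16.O73.B) i = 0 := allZ_sound0 fus2_0
theorem lvx2_5e : ∀ i < 1, (lx2_5.ent (wdsP (wdsP H16.O73.P Us2) Wsx2)) i = 0 := allZ_sound0 lvx2_5e_0
theorem lvx2_4e : ∀ i < 1, (lx2_4.ent (wdsP (wdsP H16.O73.P Us2) Wsx2)) i = 0 := allZ_sound0 lvx2_4e_0
theorem lvx2_3e : ∀ i < 1, (lx2_3.ent (wdsP (wdsP H16.O73.P Us2) Wsx2)) i = 0 := allZ_sound0 lvx2_3e_0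
theorem lvx2_2e : ∀ i < 7, (lx2_2.ent (wdsP (wdsP H16.O73.P Us2) Wsx2)) i = 0 := allZ_sound0 lvx2_2e_0
theorem lvx2_1e : ∀ i < 3, (lx2_1.ent (wdsP (wdsP H16.O73.P Us2) Wsx2)) i = 0 := allZ_sound0 lvx2_1e_0
theorem lvx2_0e : ∀ i < 1, (lx2_0.ent (wdsP (wdsP H16.O73.P Us2) Wsx2)) i = 0 := allZ_sound0 lvx2_0e_0
theorem lowx2 : LowChain (wdsP (wdsP H16.O73.P Us2) Wsx2) 351 Lx2 :=
  ⟨⟨lvx2_0b.1, lvx2_0b.2.1, lvx2_0b.2.2.1, lvx2_0b.2.2.2.1, lvx2_0e⟩, lvx2_0b.2.2.2.2.1, lvx2_0b.2.2.2.2.2, ⟨⟨lvx2_1b.1, lvx2_1b.2.1, lvx2_1b.2.2.1, lvx2_1b.2.2.2.1, lvx2_1e⟩, lvx2_1b.2.2.2.2.1, lvx2_1b.2.2.2.2.2, ⟨⟨lvx2_2b.1, lvx2_2b.2.1, lvx2_2b.2.2.1, lvx2_2b.2.2.2.1, lvx2_2e⟩, lvx2_2b.2.2.2.2.1, lvx2_2b.2.2.2.2.2, ⟨⟨lvx2_3b.1, lvx2_3b.2.1, lvx2_3b.2.2.1, lvx2_3b.2.2.2.1, lvx2_3e⟩, lvx2_3b.2.2.2.2.1, lvx2_3b.2.2.2.2.2, ⟨⟨lvx2_4b.1, lvx2_4b.2.1, lvx2_4b.2.2.1, lvx2_4b.2.2.2.1,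 lvx2_4e⟩, lvx2_4b.2.2.2.2.1, lvx2_4b.2.2.2.2.2, ⟨⟨lvx2_5b.1, lvx2_5b.2.1, lvx2_5b.2.2.1, lvx2_5b.2.2.2.1, lvx2_5e⟩, lvx2_5b.2.2.2.2.1, lvx2_5b.2.2.2.2.2, trivial⟩⟩⟩⟩⟩⟩
open scoped Pointwise in
theorem pb2 : PB (gen H16.O73.g 7) (2 ^ (1 + 1)) :=
  (Pc.gok_wds H16.O73.act H16.O73.card (ptF_inj 351) H16.O73.Blt H16.O73.isBase h0_2 h1_2 rule2
    (fun r h => fus2 r (h.trans_eq h3_2)) lowx2).pb (by norm_num) H16.O73.card zero2 rows2 ord2 h2_2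
theorem ker_le (Δ : Type) [Group Δ] [Finite Δ] (τ : Δ →* (gen H16.O73.g 7)) (h : Cfsg.IsStemExtension τ) :
    Nat.card τ.ker ≤ 6 :=
  card_ker_le (L := [(2, 9, 1), (3, 9, 1), (5, 1, 0), (7, 1, 0), (13, 1, 0)]) ⟨H16.O73.card.trans (by decide +kernel), by decide +kernel⟩
    (all_cons ⟨by norm_num, pb2⟩
    (all_cons ⟨by norm_num, pb3⟩
    (all_cons ⟨by norm_num, PB.of_not_sq (by norm_num) (by rw [H16.O73.card]; decide)⟩
    (all_cons ⟨by norm_num, PB.of_not_sq (by norm_num) (by rw [H16.O73.card]; decide)⟩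
    (all_cons ⟨by norm_num, PB.of_not_sq (by norm_num) (by rw [H16.O73.card]; decide)⟩
    all_nil))))) Δ τ h

end H16.ScO73
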