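import Cfsg.Agent.H16.Sch2
import Cfsg.Agent.H15.M.Ru

/-! Generated by tools/h16 (computation kit). -/

set_option maxRecDepth 100000
set_option maxHeartbeats 0

namespace H16.ScRu

noncomputable def Us5 : List (List ℕ) := [[nat_lit 1, nat_lit 3, nat_lit 0, nat_lit 4, nat_lit 1, nat_lit 2, nat_lit 5, nat_lit 1, nat_lit 3, nat_lit 5, nat_lit 0, nat_lit 4, nat_lit 5, nat_lit 6, nat_lit 5, nat_lit 1, nat_lit 3, nat_lit 6, nat_lit 0, nat_lit 5, nat_lit 1, nat_lit 3, nat_lit 6, nat_lit 5, nat_lit 1],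
  [nat_lit 4, nat_lit 6, nat_lit 0, nat_lit 6, nat_lit 4, nat_lit 1, nat_lit 3, nat_lit 6, nat_lit 5, nat_lit 6, nat_lit 1, nat_lit 4, nat_lit 6, nat_lit 5, nat_lit 6, nat_lit 5, nat_lit 0, nat_lit 3, nat_lit 6, nat_lit 5, nat_lit 1, nat_lit 2],
  [nat_lit 1, nat_lit 1, nat_lit 3, nat_lit 0, nat_lit 5, nat_lit 0, nat_lit 5, nat_lit 6, nat_lit 5, nat_lit 1, nat_lit 2, nat_lit 6, nat_lit 5, nat_lit 0, nat_lit 0, nat_lit 6, nat_lit 5, nat_lit 0, nat_lit 5, nat_lit 0, nat_lit 0, nat_lit 0]]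
noncomputable def Fs5 : List (List ℕ) := [[nat_lit 0, nat_lit 2, nat_lit 3, nat_lit 0, nat_lit 3, nat_lit 3, nat_lit 5, nat_lit 1, nat_lit 4, nat_lit 0, nat_lit 5, nat_lit 1, nat_lit 1, nat_lit 4, nat_lit 6, nat_lit 5, nat_lit 0, nat_lit 0, nat_lit 5, nat_lit 1, nat_lit 5, nat_lit 0, nat_lit 6],
  [nat_lit 3, nat_lit 6, nat_lit 0, nat_lit 0, nat_lit 6, nat_lit 4, nat_lit 6, nat_lit 0, nat_lit 5, nat_lit 1, nat_lit 5, nat_lit 3, nat_lit 1, nat_lit 5, nat_lit 6, nat_lit 5, nat_lit 1, nat_lit 4, nat_lit 6, nat_lit 5, nat_lit 6, nat_lit 0]]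
noncomputable def c5 : Pc := ⟨(nat_lit 4), (nat_lit 4), (nat_lit 3), (nat_lit 2), (nat_lit 4), (nat_lit 10),
  [[[]],
  [[nat_lit 1, nat_lit 2], []],
  [[nat_lit 2], [nat_lit 2], []]],
  [((nat_lit 0), [nat_lit 2], [nat_lit 2]),
  ((nat_lit 0), [nat_lit 1], [nat_lit 1, nat_lit 1]),
  ((nat_lit 1), [nat_lit 2], [nat_lit 2]),
  ((nat_lit 1), [nat_lit 0], [nat_lit 0, nat_lit 0, nat_lit 2, nat_lit 2])]⟩
noncomputable def I5_0 : List Pc.Idn := [⟨false, (nat_lit 0), [nat_lit 1], [nat_lit 0, nat_lit 0], [((nat_lit 12), (nat_lit 1))]⟩,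
  ⟨true, (nat_lit 0), [nat_lit 0, nat_lit 1], [nat_lit 1, nat_lit 0], [((nat_lit 11), (nat_lit 4))]⟩,
  ⟨true, (nat_lit 1), [nat_lit 2, nat_lit 3], [nat_lit 3, nat_lit 2], [((nat_lit 10), (nat_lit 4))]⟩]
noncomputable def Ds5 : List (List (ℕ × ℕ)) := I5_0.map Pc.Idn.D
noncomputable def S5 : List (List (ℕ × ℕ)) := [[],
  [],
  [((nat_lit 7), (nat_lit 1))]]
noncomputable def Yo5 : List (List (ℕ × ℕ) × ℕ × ℕ) := []
noncomputable def La5 : List ℕ := [nat_lit 0,
  nat_lit 0,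
  nat_lit 0,
  nat_lit 0,
  nat_lit 0,
  nat_lit 0,
  nat_lit 0x64,
  nat_lit 0x14,
  nat_lit 1]
noncomputable def Wsx5 : List (List ℕ) := [[nat_lit 0, nat_lit 1, nat_lit 1, nat_lit 1, nat_lit 2],
  [nat_lit 2],
  [nat_lit 0]]
noncomputable def LDx5_2d : ℕ := nat_lit 0x390
noncomputable def LDx5_2 (u : ℕ) : ℕ := Nat.land (Nat.shiftRight LDx5_2d (Nat.mul u (nat_lit 2))) (nat_lit 3)
noncomputable def Ptx5_2d : ℕ := nat_lit 0x1d844d843872000
noncomputable def Ptx5_2 (u : ℕ) : ℕ := Nat.land (Nat.shiftRight Ptx5_2d (Nat.mul u (nat_lit 12))) (nat_lit 4095)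
noncomputable def Qx5_2d : BT := (.node (.node (.leaf (nat_lit 0x4000000000000000000000000000000000000000000000000000000000000000000000000000000000000000000000000000000000000000000000000000000000000000000000000000000000000000000000000000000000000000000000000000000000000000000000000000000000000000000000000000000000000000000000000000000000000000000000000000000000000000000000000000000000000000000000000000000000000000000)) (.leaf (nat_lit 0x40000000000000000000000000000000000400000000000000000000000000000000000000000000000000))) (.node (.leaf (nat_lit 0x18000000000000000000000000000000000000000000000000000000000)) (.leaf (nat_lit 0))))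
noncomputable def Qx5_2 (u : ℕ) : ℕ := force (Nat.shiftRight u (nat_lit 10)) fun j => Nat.land (Nat.shiftRight (Qx5_2d.get j) (Nat.mul (Nat.land u (nat_lit 1023)) (nat_lit 3))) (nat_lit 7)
noncomputable def lx5_2 : Lev := ⟨5, 1, LDx5_2, Ptx5_2, Qx5_2⟩
noncomputable def LDx5_1d : ℕ := nat_lit 0x7ac8
noncomputable def LDx5_1 (u : ℕ) : ℕ := Nat.land (Nat.shiftRight LDx5_1d (Nat.mul u (nat_lit 3))) (nat_lit 7)
noncomputable def Ptx5_1d : ℕ := nat_lit 0x8ebc0c181e8f02b
noncomputable def Ptx5_1 (u : ℕ) : ℕ := Nat.land (Nat.shiftRight Ptx5_1d (Nat.mul u (nat_lit 12))) (nat_lit 4095)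
noncomputable def Qx5_1d : BT := (.node (.node (.leaf (nat_lit 0x10000000000000000000000000000000000000000000000000000000000000000000000000000000000000000000000000000000000000000000000000000000000000000000000000000000000000000000000000000000000000000000000000000000000000000000000000000000000000000000000000000000000000000000000000000000000000000000000000)) (.leaf (nat_lit 0x800000000000000000000000000000000000000000000000000000000000000000000000000000000000000000000000000000000000000000000000000000000000000000000000000000000000000000000000000000000))) (.node (.leaf (nat_lit 0)) (.leaf (nat_lit 0x200000000000000000000000000000000000000000000000000000000000000000000000000000000000000000000000000000000000000000000000000000000000000000000000000000000000000000000000000000000000000000000000000000000000000000000000000000000000000000000000000000000000000000000000000000000000000000000000000000000000000000000000000000000000000000000000000000000000000000000000000000000000000000000000000000000000000000000000000000000000000000000000000000000000000000000000000000000000000000000000003000000000))))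
noncomputable def Qx5_1 (u : ℕ) : ℕ := force (Nat.shiftRight u (nat_lit 10)) fun j => Nat.land (Nat.shiftRight (Qx5_1d.get j) (Nat.mul (Nat.land u (nat_lit 1023)) (nat_lit 3))) (nat_lit 7)
noncomputable def lx5_1 : Lev := ⟨5, 2, LDx5_1, Ptx5_1, Qx5_1⟩
noncomputable def LDx5_0d : ℕ := nat_lit 0xb8520
noncomputable def LDx5_0 (u : ℕ) : ℕ := Nat.land (Nat.shiftRight LDx5_0d (Nat.mul u (nat_lit 4))) (nat_lit 15)
noncomputable def Ptx5_0d : ℕ := nat_lit 0x51eb7141da2e10b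
noncomputable def Ptx5_0 (u : ℕ) : ℕ := Nat.land (Nat.shiftRight Ptx5_0d (Nat.mul u (nat_lit 12))) (nat_lit 4095)
noncomputable def Qx5_0d : BT := (.node (.node (.leaf (nat_lit 0)) (.leaf (nat_lit 0x18000000000000000000000000000000000000000000000000000000000000000000000000000000000000000000000000000000000000000000000000000000000000000000000000000000000000000000000000000000000000000000000000000000000000000000000000000000000000000000000000040000000000000000000000000000000000000000000000000000000000000000000000000000000000000000000000000000000000000000000000000000000000000000000000000000000000000000000000000000000000000000000000000000000000000000000000000000000000000000000000000000000000000000000000000000000000000000000000000000000000000000000000000000000000000000000000000000000000000000000000000000000000000000000000000000000000000000000000000000000000))) (.node (.leaf (nat_lit 0x100000000000000000000000000000000000000000000000000000000000000000000000000000000000000000000000000000000000000000000000000000000000000000000000000000000000000000000000000000000000000000000000010000000000000000000000))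 (.leaf (nat_lit 0))))
noncomputable def Qx5_0 (u : ℕ) : ℕ := force (Nat.shiftRight u (nat_lit 10)) fun j => Nat.land (Nat.shiftRight (Qx5_0d.get j) (Nat.mul (Nat.land u (nat_lit 1023)) (nat_lit 3))) (nat_lit 7)
noncomputable def lx5_0 : Lev := ⟨5, 3, LDx5_0, Ptx5_0, Qx5_0⟩
noncomputable def Lx5 : List Lev := [lx5_0, lx5_1, lx5_2]
noncomputable def Bx5 : List ℕ := [nat_lit 267, nat_lit 43, nat_lit 0]
noncomputable def Us3 : List (List ℕ) := [[nat_lit 0, nat_lit 4, nat_lit 0, nat_lit 0, nat_lit 4, nat_lit 1, nat_lit 2, nat_lit 5, nat_lit 1, nat_lit 1, nat_lit 4, nat_lit 5, nat_lit 0, nat_lit 2, nat_lit 5],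
  [nat_lit 0, nat_lit 2, nat_lit 3, nat_lit 1, nat_lit 3, nat_lit 5, nat_lit 0, nat_lit 2, nat_lit 4, nat_lit 5, nat_lit 1, nat_lit 3, nat_lit 5, nat_lit 2],
  [nat_lit 3, nat_lit 3, nat_lit 1, nat_lit 4, nat_lit 1, nat_lit 5, nat_lit 0, nat_lit 3, nat_lit 3, nat_lit 5, nat_lit 0, nat_lit 5, nat_lit 2, nat_lit 0]]
noncomputable def Fs3 : List (List ℕ) := [[nat_lit 0, nat_lit 3, nat_lit 0, nat_lit 4, nat_lit 2, nat_lit 0, nat_lit 4, nat_lit 4, nat_lit 5, nat_lit 1, nat_lit 3, nat_lit 0, nat_lit 2],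
  [nat_lit 5, nat_lit 0, nat_lit 2, nat_lit 6, nat_lit 3, nat_lit 0, nat_lit 2, nat_lit 3, nat_lit 6, nat_lit 5, nat_lit 0, nat_lit 5, nat_lit 0, nat_lit 5, nat_lit 1, nat_lit 3]]
noncomputable def c3 : Pc := ⟨(nat_lit 2), (nat_lit 2), (nat_lit 3), (nat_lit 2), (nat_lit 4), (nat_lit 9),
  [[[]],
  [[nat_lit 1, nat_lit 2], []],
  [[nat_lit 2], [nat_lit 2], []]],
  [((nat_lit 0), [nat_lit 2], [nat_lit 2]),
  ((nat_lit 0), [nat_lit 0], [nat_lit 1]),
  ((nat_lit 1), [nat_lit 2], [nat_lit 0]),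
  ((nat_lit 1), [nat_lit 1], [nat_lit 2])]⟩
noncomputable def I3_0 : List Pc.Idn := [⟨false, (nat_lit 0), [nat_lit 1], [nat_lit 0, nat_lit 0], [((nat_lit 12), (nat_lit 1))]⟩,
  ⟨true, (nat_lit 0), [nat_lit 0, nat_lit 1], [nat_lit 1, nat_lit 0], [((nat_lit 10), (nat_lit 1)), ((nat_lit 11), (nat_lit 2))]⟩,
  ⟨true, (nat_lit 1), [nat_lit 2, nat_lit 3], [nat_lit 3, nat_lit 2], [((nat_lit 10), (nat_lit 1)), ((nat_lit 11), (nat_lit 1))]⟩]
noncomputable def Ds3 : List (List (ℕ × ℕ)) := I3_0.map Pc.Idn.D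
noncomputable def S3 : List (List (ℕ × ℕ)) := [[],
  [],
  [((nat_lit 7), (nat_lit 1))]]
noncomputable def Yo3 : List (List (ℕ × ℕ) × ℕ × ℕ) := []
noncomputable def La3 : List ℕ := [nat_lit 0,
  nat_lit 0,
  nat_lit 0,
  nat_lit 0,
  nat_lit 0,
  nat_lit 0,
  nat_lit 0x18,
  nat_lit 0x15,
  nat_lit 1]
noncomputable def Wsx3 : List (List ℕ) := [[nat_lit 2],
  [nat_lit 0],
  [nat_lit 1]]
noncomputable def LDx3_1d : ℕ := nat_lit 4
noncomputable def LDx3_1 (u : ℕ) : ℕ := Nat.land (Nat.shiftRight LDx3_1d (Nat.mul u (nat_lit 1))) (nat_lit 1)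
noncomputable def Ptx3_1d : ℕ := nat_lit 0x6d9e71001
noncomputable def Ptx3_1 (u : ℕ) : ℕ := Nat.land (Nat.shiftRight Ptx3_1d (Nat.mul u (nat_lit 12))) (nat_lit 4095)
noncomputable def Qx3_1d : ℕ := nat_lit 0x40000000000000000000000000000000000000000000000000000000000000000000000000000000000000000000000000000000000000000000000000000000000000000000000000000000000000000000000000000000000000000000000000000000000000000000000000000000000000000000000000000000000000000000000000000000000000000000000000000000000000000000000000000000000000000000000000000000000000000000000000000000000000000000000000000000000000000000000000000000000000000000000000000000000000000000000000000000000000000000000000000000000000000000000000000000000000000000000000000000000000000000000000000000000000000000000000000000000000000000000000000000000000000000000000000000000000000000000000000000000000000000000000000000000000000000000000000000000000000000000000000000000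00000000000000000000000000000000000000000000000000000000000000000000000000000000000000000000000000000000000000000000000000000000000000000000000000000000000000000000000000000000000000000000000000000000000000000000000000000000000000000000000008000000000000000000000000000000000000000000000000000000000000000000000000000000000000000000000000000000000000000000000000000000000000000000000000000000000000000000000000000000000000000000000000000000000000000000000000000000000000000000000000000000000000000000000000000000000000000000000000000000000000000000000000000000000000000000000000000000000000000000000000000000000000000000000000000000000000000000000000000000000000000000000000000000000000000000000000000000000000000000000000000000000000000000000000000000000000000000000000000000000000000000000000000000000000000000000000000000000000000000000000000000000000000000000000000000000000000000000000000000000000000000000000000000000000000000000000000000000000000000000000000000000000000000000000000000000000000000000000000000000000000000000000000000000000000000000000000000000000000000000000000000000000000000000000000000000000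
noncomputable def Qx3_1 (u : ℕ) : ℕ := Nat.land (Nat.shiftRight Qx3_1d (Nat.mul u (nat_lit 2))) (nat_lit 3)
noncomputable def lx3_1 : Lev := ⟨3, 1, LDx3_1, Ptx3_1, Qx3_1⟩
noncomputable def LDx3_0d : ℕ := nat_lit 0x1472d0520820
noncomputable def LDx3_0 (u : ℕ) : ℕ := Nat.land (Nat.shiftRight LDx3_0d (Nat.mul u (nat_lit 5))) (nat_lit 31)
noncomputable def Ptx3_0d : ℕ := nat_lit 0xf8dd244993f9d1075e932d3c009
noncomputable def Ptx3_0 (u : ℕ) : ℕ := Nat.land (Nat.shiftRight Ptx3_0d (Nat.mul u (nat_lit 12))) (nat_lit 4095)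
noncomputable def Qx3_0d : BT := (.node (.node (.leaf (nat_lit 0x5000000000000000000000000000000000000000000000000000000000000000000000000000000000000000000000000000000000000000000000000000000000000000000000000000000000000000000000000000000000000000000000000000000000000000000000000000000000000000000000000000000000000000000000000000000000000000000000000000000000000000000000000000000000000000000000000000000000000000000000000000000000000000000000000000000000000000000000000000000000000000000000000000000000000000000000000000000000000000000000000000000000000000000000000000000000000000000000000000000000000000000000000000000000000000000000000000000000000000000000000000000000000000000000000000000000000000000000000000000000000000000000000000000000000000000000000000000000000000000000000000000000000000000000000000000000000000000000000000000000000000000000000000000000000000000000000000000000000000000000000000000000000000000000000000000000000000000000000000000000000000000000000000000000000000000000000000000000000000000000000000000000000000000000000000000000000000000000000000000000))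 (.leaf (nat_lit 0x2000000000000000000000000000000000000000000000000000000000000000000000000000000000000000000000000000000000000000000000000000000000000000000000000000000000000000000000000000000000000000000000000000000000000000000000000000000000000000000000000000000000000000000000000000000000000000000000000000000000000000000))) (.node (.leaf (nat_lit 0x30000000000000000000000000000000000000000000000000000000000000000000000000000000000000000000000000000000000000000000000000000000000000000000000000000000000000000000000000000000000000000000000000000000000000000000000000000000000000000000000000000000000000000000000000000000000000000000000000000000000000000000000000000000000000000000000000000000000000000000000000000000000000000000000000000000000000000000000000000000000000000000000000000000000000000000000000000000000000000000000000000000000000000000000000000000000000000000000000000000000000000000000000000000000000000000000000000000000000000000000000000000000000000000000000000000000000000000000000000000000000000000000000000000000000000000000000000000000006000000000000000000000000000000000000000000000000000000000000000000000000000000000000000000000000000000000000000000000000000000000000000000000000000000000))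 (.leaf (nat_lit 0x8000000000000000000000000000000000000000000000000000000000000000000000000000000000000000000000000000000000000000000000000000000000000000000000000000000000000000000000000000000000000000000000000000000000000000000000000000000000000000000000000000000000000000000000000000000000000000000000000000000000000000000000000000000000000000000000000000000000000000000000000000000000000000000000000000000000000000000000000000000000000000000000000000000000000000000000000000000000000000000000000000000000000000000000000000000000000000000000000000000000000000000000000000000000000000000000000000000000000000010000000000000000000000070000000000000000000400000000000000000000000000000000000000000000000000000000000000000000000000000000000000000000000000000000000000000000000000000000000000000000000000000000000000000000000000000000000000000000000000000000000000000000000000000000000000000000000000000000000000000000000000000000))))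
noncomputable def Qx3_0 (u : ℕ) : ℕ := force (Nat.shiftRight u (nat_lit 10)) fun j => Nat.land (Nat.shiftRight (Qx3_0d.get j) (Nat.mul (Nat.land u (nat_lit 1023)) (nat_lit 4))) (nat_lit 15)
noncomputable def lx3_0 : Lev := ⟨9, 3, LDx3_0, Ptx3_0, Qx3_0⟩
noncomputable def Lx3 : List Lev := [lx3_0, lx3_1]
noncomputable def Bx3 : List ℕ := [nat_lit 9, nat_lit 1]
noncomputable def Us2 : List (List ℕ) := [[nat_lit 1, nat_lit 3, nat_lit 6, nat_lit 4, nat_lit 1, nat_lit 3, nat_lit 6, nat_lit 5, nat_lit 0, nat_lit 2, nat_lit 0, nat_lit 5, nat_lit 6, nat_lit 5, nat_lit 0, nat_lit 6, nat_lit 5, nat_lit 0, nat_lit 5, nat_lit 6, nat_lit 5, nat_lit 1, nat_lit 5, nat_lit 6, nat_lit 5, nat_lit 0, nat_lit 4, nat_lit 0],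
  [nat_lit 0, nat_lit 2, nat_lit 3, nat_lit 1, nat_lit 3, nat_lit 5, nat_lit 0, nat_lit 5, nat_lit 1, nat_lit 5, nat_lit 6, nat_lit 5, nat_lit 6, nat_lit 1, nat_lit 6, nat_lit 5, nat_lit 1, nat_lit 6, nat_lit 5, nat_lit 1, nat_lit 4, nat_lit 1, nat_lit 2],
  [nat_lit 2, nat_lit 3, nat_lit 3, nat_lit 0, nat_lit 4, nat_lit 0, nat_lit 5, nat_lit 1, nat_lit 1, nat_lit 3, nat_lit 5, nat_lit 0, nat_lit 2, nat_lit 3, nat_lit 6, nat_lit 5, nat_lit 6, nat_lit 0, nat_lit 5, nat_lit 0, nat_lit 5, nat_lit 0, nat_lit 0, nat_lit 0],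
  [nat_lit 0, nat_lit 0, nat_lit 3, nat_lit 1, nat_lit 5, nat_lit 1, nat_lit 3, nat_lit 5, nat_lit 0, nat_lit 5, nat_lit 0, nat_lit 0, nat_lit 5, nat_lit 6, nat_lit 5, nat_lit 0, nat_lit 5, nat_lit 1, nat_lit 6, nat_lit 4, nat_lit 6],
  [nat_lit 0, nat_lit 5, nat_lit 6, nat_lit 0, nat_lit 2, nat_lit 1, nat_lit 3, nat_lit 1, nat_lit 1, nat_lit 3, nat_lit 3, nat_lit 0, nat_lit 5, nat_lit 0, nat_lit 2, nat_lit 3, nat_lit 6, nat_lit 5, nat_lit 1, nat_lit 1],
  [nat_lit 2, nat_lit 1, nat_lit 3, nat_lit 3, nat_lit 1, nat_lit 4, nat_lit 0, nat_lit 5, nat_lit 0, nat_lit 3, nat_lit 3, nat_lit 5, nat_lit 0, nat_lit 2, nat_lit 6, nat_lit 5, nat_lit 1, nat_lit 4, nat_lit 6, nat_lit 5, nat_lit 0, nat_lit 5, nat_lit 1, nat_lit 6],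
  [nat_lit 0, nat_lit 2, nat_lit 1, nat_lit 4, nat_lit 6, nat_lit 0, nat_lit 4, nat_lit 6, nat_lit 5, nat_lit 0, nat_lit 0, nat_lit 5, nat_lit 6, nat_lit 5, nat_lit 0, nat_lit 4, nat_lit 6, nat_lit 5, nat_lit 0, nat_lit 3, nat_lit 2, nat_lit 1, nat_lit 1, nat_lit 6, nat_lit 2],
  [nat_lit 0, nat_lit 3, nat_lit 0, nat_lit 4, nat_lit 0, nat_lit 4, nat_lit 5, nat_lit 1, nat_lit 1, nat_lit 3, nat_lit 6, nat_lit 5, nat_lit 1, nat_lit 5, nat_lit 6, nat_lit 5, nat_lit 1, nat_lit 4, nat_lit 4],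
  [nat_lit 2, nat_lit 0, nat_lit 3, nat_lit 1, nat_lit 1, nat_lit 4, nat_lit 0, nat_lit 4, nat_lit 1, nat_lit 3, nat_lit 5, nat_lit 1, nat_lit 1, nat_lit 3, nat_lit 5, nat_lit 1, nat_lit 1, nat_lit 3, nat_lit 6, nat_lit 5, nat_lit 1, nat_lit 5, nat_lit 1, nat_lit 6, nat_lit 1, nat_lit 5, nat_lit 4],
  [nat_lit 0, nat_lit 2, nat_lit 0, nat_lit 6, nat_lit 3, nat_lit 1, nat_lit 6, nat_lit 4, nat_lit 5, nat_lit 0, nat_lit 4, nat_lit 5, nat_lit 1, nat_lit 1, nat_lit 1, nat_lit 3, nat_lit 1, nat_lit 6, nat_lit 5, nat_lit 1, nat_lit 3, nat_lit 6, nat_lit 5, nat_lit 6, nat_lit 5, nat_lit 6],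
  [nat_lit 2, nat_lit 0, nat_lit 4, nat_lit 0, nat_lit 5, nat_lit 0, nat_lit 4, nat_lit 5, nat_lit 1, nat_lit 2, nat_lit 6, nat_lit 5, nat_lit 0, nat_lit 3, nat_lit 5, nat_lit 1, nat_lit 4, nat_lit 5, nat_lit 1, nat_lit 5, nat_lit 1, nat_lit 5, nat_lit 4],
  [nat_lit 3, nat_lit 6, nat_lit 3, nat_lit 1, nat_lit 6, nat_lit 5, nat_lit 6, nat_lit 1, nat_lit 3, nat_lit 6, nat_lit 5, nat_lit 0, nat_lit 3, nat_lit 1, nat_lit 6, nat_lit 5, nat_lit 1, nat_lit 1, nat_lit 6, nat_lit 5, nat_lit 0, nat_lit 2],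
  [nat_lit 0, nat_lit 2, nat_lit 1, nat_lit 3, nat_lit 3, nat_lit 5, nat_lit 1, nat_lit 3, nat_lit 0, nat_lit 5, nat_lit 6, nat_lit 0, nat_lit 5, nat_lit 1, nat_lit 5, nat_lit 0, nat_lit 5, nat_lit 6, nat_lit 0, nat_lit 5, nat_lit 6, nat_lit 3, nat_lit 0, nat_lit 0],
  [nat_lit 0, nat_lit 2, nat_lit 0, nat_lit 6, nat_lit 4, nat_lit 0, nat_lit 2, nat_lit 3, nat_lit 6, nat_lit 5, nat_lit 1, nat_lit 2, nat_lit 4, nat_lit 5, nat_lit 1, nat_lit 3, nat_lit 5, nat_lit 6, nat_lit 5, nat_lit 0, nat_lit 3, nat_lit 6, nat_lit 5, nat_lit 0, nat_lit 6, nat_lit 5, nat_lit 1, nat_lit 1]]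
noncomputable def Fs2 : List (List ℕ) := [[nat_lit 0, nat_lit 6, nat_lit 3, nat_lit 0, nat_lit 3, nat_lit 6, nat_lit 2, nat_lit 1, nat_lit 5, nat_lit 1, nat_lit 1, nat_lit 3, nat_lit 0, nat_lit 6, nat_lit 5, nat_lit 0, nat_lit 6, nat_lit 5, nat_lit 1, nat_lit 5, nat_lit 1, nat_lit 3, nat_lit 6, nat_lit 0],
  [nat_lit 2, nat_lit 1, nat_lit 6, nat_lit 4, nat_lit 6, nat_lit 0, nat_lit 3, nat_lit 5, nat_lit 0, nat_lit 0, nat_lit 5, nat_lit 6, nat_lit 1, nat_lit 4, nat_lit 6, nat_lit 5, nat_lit 1, nat_lit 6, nat_lit 5, nat_lit 1, nat_lit 5, nat_lit 0, nat_lit 5, nat_lit 4, nat_lit 1],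
  [nat_lit 2, nat_lit 3, nat_lit 6, nat_lit 0, nat_lit 4, nat_lit 6, nat_lit 5, nat_lit 1, nat_lit 2, nat_lit 5, nat_lit 1, nat_lit 5, nat_lit 6, nat_lit 5, nat_lit 1, nat_lit 5, nat_lit 6, nat_lit 5, nat_lit 0, nat_lit 6, nat_lit 4, nat_lit 1],
  [nat_lit 2, nat_lit 1, nat_lit 6, nat_lit 3, nat_lit 1, nat_lit 4, nat_lit 6, nat_lit 5, nat_lit 1, nat_lit 4, nat_lit 5, nat_lit 1, nat_lit 5, nat_lit 6, nat_lit 5, nat_lit 0, nat_lit 5, nat_lit 0, nat_lit 4, nat_lit 1, nat_lit 6]]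
noncomputable def c2 : Pc := ⟨(nat_lit 1), (nat_lit 3), (nat_lit 14), (nat_lit 3), (nat_lit 14), (nat_lit 17),
  [[[nat_lit 10, nat_lit 12, nat_lit 13]],
  [[nat_lit 1, nat_lit 3], [nat_lit 11]],
  [[nat_lit 2, nat_lit 4], [nat_lit 2, nat_lit 5], [nat_lit 3, nat_lit 4, nat_lit 5, nat_lit 6, nat_lit 7, nat_lit 8, nat_lit 9, nat_lit 13]],
  [[nat_lit 3, nat_lit 11, nat_lit 13], [nat_lit 3], [nat_lit 3, nat_lit 6], [nat_lit 13]],
  [[nat_lit 4, nat_lit 8, nat_lit 11], [nat_lit 4, nat_lit 7], [nat_lit 4, nat_lit 6, nat_lit 7, nat_lit 8, nat_lit 9, nat_lit 10, nat_lit 11, nat_lit 13], [nat_lit 4, nat_lit 8, nat_lit 10, nat_lit 12], [nat_lit 8, nat_lit 12, nat_lit 13]],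
  [[nat_lit 5, nat_lit 6, nat_lit 7, nat_lit 8, nat_lit 9, nat_lit 12, nat_lit 13], [nat_lit 5, nat_lit 11, nat_lit 12, nat_lit 13], [nat_lit 5, nat_lit 7], [nat_lit 5, nat_lit 11, nat_lit 12], [nat_lit 5, nat_lit 9], [nat_lit 11, nat_lit 13]],
  [[nat_lit 6, nat_lit 8], [nat_lit 6, nat_lit 11, nat_lit 12, nat_lit 13], [nat_lit 6, nat_lit 8, nat_lit 10, nat_lit 12], [nat_lit 6, nat_lit 12], [nat_lit 6, nat_lit 10], [nat_lit 6, nat_lit 13], [nat_lit 12]],
  [[nat_lit 7, nat_lit 8, nat_lit 10, nat_lit 11, nat_lit 12, nat_lit 13], [nat_lit 7, nat_lit 12, nat_lit 13], [nat_lit 7, nat_lit 9], [nat_lit 7, nat_lit 11, nat_lit 12], [nat_lit 7, nat_lit 13], [nat_lit 7], [nat_lit 7, nat_lit 11], [nat_lit 12]],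
  [[nat_lit 8], [nat_lit 8, nat_lit 12, nat_lit 13], [nat_lit 8, nat_lit 10], [nat_lit 8, nat_lit 13], [nat_lit 8], [nat_lit 8, nat_lit 11, nat_lit 12, nat_lit 13], [nat_lit 8, nat_lit 13], [nat_lit 8], []],
  [[nat_lit 9, nat_lit 10, nat_lit 12, nat_lit 13], [nat_lit 9, nat_lit 13], [nat_lit 9, nat_lit 12, nat_lit 13], [nat_lit 9, nat_lit 11, nat_lit 13], [nat_lit 9, nat_lit 11, nat_lit 12], [nat_lit 9], [nat_lit 9, nat_lit 12], [nat_lit 9], [nat_lit 9, nat_lit 13], [nat_lit 13]],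
  [[nat_lit 10, nat_lit 13], [nat_lit 10, nat_lit 11], [nat_lit 10, nat_lit 11, nat_lit 12], [nat_lit 10, nat_lit 13], [nat_lit 10, nat_lit 13], [nat_lit 10, nat_lit 12], [nat_lit 10], [nat_lit 10, nat_lit 13], [nat_lit 10], [nat_lit 10], []],
  [[nat_lit 11, nat_lit 13], [nat_lit 11], [nat_lit 11, nat_lit 12], [nat_lit 11], [nat_lit 11, nat_lit 13], [nat_lit 11], [nat_lit 11], [nat_lit 11], [nat_lit 11], [nat_lit 11], [nat_lit 11], []],
  [[nat_lit 12, nat_lit 13], [nat_lit 12], [nat_lit 12, nat_lit 13], [nat_lit 12], [nat_lit 12], [nat_lit 12], [nat_lit 12], [nat_lit 12], [nat_lit 12], [nat_lit 12], [nat_lit 12], [nat_lit 12], []],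
  [[nat_lit 13], [nat_lit 13], [nat_lit 13], [nat_lit 13], [nat_lit 13], [nat_lit 13], [nat_lit 13], [nat_lit 13], [nat_lit 13], [nat_lit 13], [nat_lit 13], [nat_lit 13], [nat_lit 13], []]],
  [((nat_lit 0), [nat_lit 9], [nat_lit 3, nat_lit 11, nat_lit 13]),
  ((nat_lit 0), [nat_lit 5], [nat_lit 1, nat_lit 8, nat_lit 10, nat_lit 11, nat_lit 13]),
  ((nat_lit 1), [nat_lit 8], [nat_lit 8, nat_lit 9, nat_lit 11]),
  ((nat_lit 1), [nat_lit 3], [nat_lit 1, nat_lit 8, nat_lit 10, nat_lit 13]),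
  ((nat_lit 1), [nat_lit 13], [nat_lit 12, nat_lit 13]),
  ((nat_lit 3), [nat_lit 8, nat_lit 9], [nat_lit 13]),
  ((nat_lit 3), [nat_lit 1, nat_lit 6, nat_lit 9], [nat_lit 1, nat_lit 6, nat_lit 7, nat_lit 9, nat_lit 10, nat_lit 11]),
  ((nat_lit 2), [nat_lit 3, nat_lit 4, nat_lit 6, nat_lit 11], [nat_lit 13]),
  ((nat_lit 2), [nat_lit 0], [nat_lit 0, nat_lit 1, nat_lit 2, nat_lit 3, nat_lit 4, nat_lit 8, nat_lit 9, nat_lit 12, nat_lit 13]),
  ((nat_lit 1), [nat_lit 5], [nat_lit 1, nat_lit 3, nat_lit 7, nat_lit 11, nat_lit 13]),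
  ((nat_lit 1), [nat_lit 11], [nat_lit 13]),
  ((nat_lit 1), [nat_lit 12], [nat_lit 11]),
  ((nat_lit 1), [nat_lit 1], [nat_lit 3, nat_lit 6, nat_lit 7, nat_lit 10, nat_lit 11]),
  ((nat_lit 1), [nat_lit 7], [nat_lit 1, nat_lit 3, nat_lit 5, nat_lit 9, nat_lit 12, nat_lit 13])]⟩
noncomputable def I2_0 : List Pc.Idn := [⟨false, (nat_lit 0), [nat_lit 1], [nat_lit 1, nat_lit 1], [((nat_lit 169), (nat_lit 1))]⟩,
  ⟨false, (nat_lit 0), [nat_lit 12], [nat_lit 12, nat_lit 1], [((nat_lit 183), (nat_lit 2))]⟩,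
  ⟨false, (nat_lit 0), [nat_lit 3], [nat_lit 3, nat_lit 3], [((nat_lit 199), (nat_lit 1))]⟩,
  ⟨false, (nat_lit 0), [nat_lit 12], [nat_lit 12, nat_lit 3], [((nat_lit 185), (nat_lit 2))]⟩,
  ⟨false, (nat_lit 0), [nat_lit 8], [nat_lit 8, nat_lit 4], [((nat_lit 130), (nat_lit 2))]⟩,
  ⟨false, (nat_lit 0), [nat_lit 11], [nat_lit 11, nat_lit 5], [((nat_lit 173), (nat_lit 2))]⟩,
  ⟨false, (nat_lit 0), [nat_lit 6], [nat_lit 6, nat_lit 6], [((nat_lit 188), (nat_lit 1))]⟩,
  ⟨false, (nat_lit 0), [nat_lit 10], [nat_lit 10, nat_lit 6], [((nat_lit 160), (nat_lit 2))]⟩,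
  ⟨false, (nat_lit 0), [nat_lit 13], [nat_lit 13, nat_lit 6], [((nat_lit 202), (nat_lit 2))]⟩,
  ⟨false, (nat_lit 0), [nat_lit 7], [nat_lit 7, nat_lit 7], [((nat_lit 189), (nat_lit 1))]⟩,
  ⟨false, (nat_lit 0), [nat_lit 8], [nat_lit 8, nat_lit 7], [((nat_lit 133), (nat_lit 2))]⟩,
  ⟨false, (nat_lit 0), [nat_lit 13], [nat_lit 13, nat_lit 8], [((nat_lit 204), (nat_lit 2))]⟩,
  ⟨false, (nat_lit 0), [nat_lit 9], [nat_lit 9, nat_lit 9], [((nat_lit 205), (nat_lit 1))]⟩,
  ⟨false, (nat_lit 0), [nat_lit 10], [nat_lit 10, nat_lit 9], [((nat_lit 163), (nat_lit 2))]⟩,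
  ⟨false, (nat_lit 0), [nat_lit 12], [nat_lit 12, nat_lit 10], [((nat_lit 192), (nat_lit 2))]⟩,
  ⟨false, (nat_lit 0), [nat_lit 12], [nat_lit 12, nat_lit 11], [((nat_lit 193), (nat_lit 2))]⟩,
  ⟨false, (nat_lit 0), [nat_lit 13], [nat_lit 13, nat_lit 11], [((nat_lit 207), (nat_lit 2))]⟩,
  ⟨false, (nat_lit 0), [nat_lit 13], [nat_lit 13, nat_lit 12], [((nat_lit 208), (nat_lit 2))]⟩,
  ⟨false, (nat_lit 0), [nat_lit 10], [nat_lit 10, nat_lit 0], [((nat_lit 154), (nat_lit 2)), ((nat_lit 206), (nat_lit 3)), ((nat_lit 209), (nat_lit 3))]⟩,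
  ⟨false, (nat_lit 0), [nat_lit 11], [nat_lit 11, nat_lit 0], [((nat_lit 168), (nat_lit 2)), ((nat_lit 207), (nat_lit 3)), ((nat_lit 209), (nat_lit 3))]⟩,
  ⟨false, (nat_lit 0), [nat_lit 12], [nat_lit 12, nat_lit 0], [((nat_lit 182), (nat_lit 2)), ((nat_lit 208), (nat_lit 3)), ((nat_lit 209), (nat_lit 3))]⟩,
  ⟨false, (nat_lit 0), [nat_lit 3], [nat_lit 3, nat_lit 1], [((nat_lit 57), (nat_lit 2)), ((nat_lit 197), (nat_lit 1))]⟩,
  ⟨false, (nat_lit 0), [nat_lit 3], [nat_lit 1, nat_lit 1], [((nat_lit 57), (nat_lit 2)), ((nat_lit 171), (nat_lit 1))]⟩,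
  ⟨false, (nat_lit 0), [nat_lit 10], [nat_lit 10, nat_lit 1], [((nat_lit 155), (nat_lit 2)), ((nat_lit 178), (nat_lit 3)), ((nat_lit 179), (nat_lit 3))]⟩,
  ⟨false, (nat_lit 0), [nat_lit 12], [nat_lit 1, nat_lit 1], [((nat_lit 183), (nat_lit 2)), ((nat_lit 193), (nat_lit 3))]⟩,
  ⟨false, (nat_lit 0), [nat_lit 13], [nat_lit 1, nat_lit 1], [((nat_lit 197), (nat_lit 2)), ((nat_lit 207), (nat_lit 3))]⟩,
  ⟨false, (nat_lit 0), [nat_lit 8], [nat_lit 8, nat_lit 2], [((nat_lit 128), (nat_lit 2)), ((nat_lit 162), (nat_lit 3)), ((nat_lit 164), (nat_lit 3))]⟩,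
  ⟨false, (nat_lit 0), [nat_lit 11], [nat_lit 11, nat_lit 2], [((nat_lit 170), (nat_lit 2)), ((nat_lit 193), (nat_lit 3)), ((nat_lit 194), (nat_lit 3))]⟩,
  ⟨false, (nat_lit 0), [nat_lit 12], [nat_lit 12, nat_lit 2], [((nat_lit 184), (nat_lit 2)), ((nat_lit 208), (nat_lit 3)), ((nat_lit 209), (nat_lit 3))]⟩,
  ⟨false, (nat_lit 0), [nat_lit 8], [nat_lit 8, nat_lit 3], [((nat_lit 129), (nat_lit 2)), ((nat_lit 204), (nat_lit 3)), ((nat_lit 209), (nat_lit 3))]⟩,
  ⟨false, (nat_lit 0), [nat_lit 10], [nat_lit 10, nat_lit 3], [((nat_lit 157), (nat_lit 2)), ((nat_lit 206), (nat_lit 3)), ((nat_lit 209), (nat_lit 3))]⟩,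
  ⟨false, (nat_lit 0), [nat_lit 12], [nat_lit 3, nat_lit 3], [((nat_lit 185), (nat_lit 2)), ((nat_lit 208), (nat_lit 1))]⟩,
  ⟨false, (nat_lit 0), [nat_lit 10], [nat_lit 10, nat_lit 4], [((nat_lit 158), (nat_lit 2)), ((nat_lit 206), (nat_lit 3)), ((nat_lit 209), (nat_lit 3))]⟩,
  ⟨false, (nat_lit 0), [nat_lit 11], [nat_lit 11, nat_lit 4], [((nat_lit 172), (nat_lit 2)), ((nat_lit 207), (nat_lit 3)), ((nat_lit 209), (nat_lit 3))]⟩,
  ⟨false, (nat_lit 0), [nat_lit 5], [nat_lit 5, nat_lit 5], [((nat_lit 173), (nat_lit 1)), ((nat_lit 201), (nat_lit 1))]⟩,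
  ⟨false, (nat_lit 0), [nat_lit 7], [nat_lit 7, nat_lit 5], [((nat_lit 117), (nat_lit 2)), ((nat_lit 187), (nat_lit 1))]⟩,
  ⟨false, (nat_lit 0), [nat_lit 9], [nat_lit 9, nat_lit 5], [((nat_lit 145), (nat_lit 2)), ((nat_lit 201), (nat_lit 1))]⟩,
  ⟨false, (nat_lit 0), [nat_lit 10], [nat_lit 10, nat_lit 5], [((nat_lit 159), (nat_lit 2)), ((nat_lit 192), (nat_lit 3)), ((nat_lit 194), (nat_lit 3))]⟩,
  ⟨false, (nat_lit 0), [nat_lit 8], [nat_lit 8, nat_lit 6], [((nat_lit 132), (nat_lit 2)), ((nat_lit 204), (nat_lit 3)), ((nat_lit 209), (nat_lit 3))]⟩,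
  ⟨false, (nat_lit 0), [nat_lit 10], [nat_lit 6, nat_lit 6], [((nat_lit 160), (nat_lit 2)), ((nat_lit 192), (nat_lit 1))]⟩,
  ⟨false, (nat_lit 0), [nat_lit 8], [nat_lit 7, nat_lit 7], [((nat_lit 133), (nat_lit 2)), ((nat_lit 190), (nat_lit 1))]⟩,
  ⟨false, (nat_lit 0), [nat_lit 9], [nat_lit 9, nat_lit 7], [((nat_lit 147), (nat_lit 2)), ((nat_lit 203), (nat_lit 1))]⟩,
  ⟨false, (nat_lit 0), [nat_lit 9], [nat_lit 7, nat_lit 7], [((nat_lit 147), (nat_lit 2)), ((nat_lit 191), (nat_lit 1))]⟩,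
  ⟨false, (nat_lit 0), [nat_lit 10], [nat_lit 10, nat_lit 7], [((nat_lit 161), (nat_lit 2)), ((nat_lit 206), (nat_lit 3)), ((nat_lit 209), (nat_lit 3))]⟩,
  ⟨false, (nat_lit 0), [nat_lit 9], [nat_lit 8, nat_lit 8], [((nat_lit 148), (nat_lit 2)), ((nat_lit 204), (nat_lit 1)), ((nat_lit 209), (nat_lit 1))]⟩,
  ⟨false, (nat_lit 0), [nat_lit 10], [nat_lit 9, nat_lit 9], [((nat_lit 163), (nat_lit 2)), ((nat_lit 206), (nat_lit 1))]⟩,
  ⟨false, (nat_lit 0), [nat_lit 9], [nat_lit 9, nat_lit 1], [((nat_lit 141), (nat_lit 2)), ((nat_lit 197), (nat_lit 1)), ((nat_lit 205), (nat_lit 3)), ((nat_lit 209), (nat_lit 3))]⟩,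
  ⟨false, (nat_lit 0), [nat_lit 9], [nat_lit 1, nat_lit 1], [((nat_lit 141), (nat_lit 2)), ((nat_lit 177), (nat_lit 1)), ((nat_lit 197), (nat_lit 1)), ((nat_lit 209), (nat_lit 1))]⟩,
  ⟨false, (nat_lit 0), [nat_lit 6], [nat_lit 6, nat_lit 3], [((nat_lit 101), (nat_lit 2)), ((nat_lit 185), (nat_lit 1)), ((nat_lit 188), (nat_lit 3)), ((nat_lit 194), (nat_lit 3))]⟩,
  ⟨false, (nat_lit 0), [nat_lit 4], [nat_lit 4, nat_lit 4], [((nat_lit 130), (nat_lit 1)), ((nat_lit 186), (nat_lit 1)), ((nat_lit 200), (nat_lit 1))]⟩,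
  ⟨false, (nat_lit 0), [nat_lit 7], [nat_lit 7, nat_lit 4], [((nat_lit 116), (nat_lit 2)), ((nat_lit 186), (nat_lit 1)), ((nat_lit 203), (nat_lit 3)), ((nat_lit 209), (nat_lit 3))]⟩,
  ⟨false, (nat_lit 0), [nat_lit 6], [nat_lit 6, nat_lit 5], [((nat_lit 103), (nat_lit 2)), ((nat_lit 187), (nat_lit 1)), ((nat_lit 202), (nat_lit 3)), ((nat_lit 209), (nat_lit 3))]⟩,
  ⟨false, (nat_lit 0), [nat_lit 7], [nat_lit 5, nat_lit 5], [((nat_lit 117), (nat_lit 2)), ((nat_lit 175), (nat_lit 1)), ((nat_lit 203), (nat_lit 1))]⟩,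
  ⟨false, (nat_lit 0), [nat_lit 9], [nat_lit 5, nat_lit 5], [((nat_lit 145), (nat_lit 2)), ((nat_lit 177), (nat_lit 1)), ((nat_lit 205), (nat_lit 1))]⟩,
  ⟨false, (nat_lit 0), [nat_lit 8], [nat_lit 6, nat_lit 6], [((nat_lit 132), (nat_lit 2)), ((nat_lit 190), (nat_lit 1)), ((nat_lit 202), (nat_lit 1)), ((nat_lit 209), (nat_lit 1))]⟩,
  ⟨false, (nat_lit 0), [nat_lit 9], [nat_lit 6, nat_lit 6], [((nat_lit 146), (nat_lit 2)), ((nat_lit 188), (nat_lit 1)), ((nat_lit 191), (nat_lit 1)), ((nat_lit 194), (nat_lit 1))]⟩,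
  ⟨false, (nat_lit 0), [nat_lit 10], [nat_lit 7, nat_lit 7], [((nat_lit 161), (nat_lit 2)), ((nat_lit 192), (nat_lit 1)), ((nat_lit 203), (nat_lit 1)), ((nat_lit 209), (nat_lit 1))]⟩,
  ⟨false, (nat_lit 0), [nat_lit 8], [nat_lit 8, nat_lit 1], [((nat_lit 127), (nat_lit 2)), ((nat_lit 190), (nat_lit 3)), ((nat_lit 194), (nat_lit 3)), ((nat_lit 204), (nat_lit 3)), ((nat_lit 208), (nat_lit 3)), ((nat_lit 209), (nat_lit 3))]⟩,
  ⟨false, (nat_lit 0), [nat_lit 10], [nat_lit 10, nat_lit 2], [((nat_lit 156), (nat_lit 2)), ((nat_lit 178), (nat_lit 3)), ((nat_lit 179), (nat_lit 3)), ((nat_lit 192), (nat_lit 3)), ((nat_lit 193), (nat_lit 3)), ((nat_lit 194), (nat_lit 3))]⟩,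
  ⟨false, (nat_lit 0), [nat_lit 8], [nat_lit 4, nat_lit 4], [((nat_lit 130), (nat_lit 2)), ((nat_lit 190), (nat_lit 1)), ((nat_lit 204), (nat_lit 1))]⟩,
  ⟨false, (nat_lit 0), [nat_lit 0], [nat_lit 0, nat_lit 0], [((nat_lit 154), (nat_lit 1)), ((nat_lit 182), (nat_lit 1)), ((nat_lit 196), (nat_lit 1)), ((nat_lit 208), (nat_lit 1)), ((nat_lit 209), (nat_lit 1))]⟩,
  ⟨false, (nat_lit 0), [nat_lit 13], [nat_lit 2, nat_lit 0], [((nat_lit 200), (nat_lit 3))]⟩,
  ⟨false, (nat_lit 0), [nat_lit 8], [nat_lit 0, nat_lit 0], [((nat_lit 126), (nat_lit 2)), ((nat_lit 162), (nat_lit 1)), ((nat_lit 190), (nat_lit 1)), ((nat_lit 204), (nat_lit 1))]⟩,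
  ⟨false, (nat_lit 0), [nat_lit 6], [nat_lit 6, nat_lit 4], [((nat_lit 102), (nat_lit 2)), ((nat_lit 160), (nat_lit 3)), ((nat_lit 164), (nat_lit 3)), ((nat_lit 186), (nat_lit 1)), ((nat_lit 192), (nat_lit 2))]⟩,
  ⟨false, (nat_lit 0), [nat_lit 6], [nat_lit 5, nat_lit 5], [((nat_lit 103), (nat_lit 2)), ((nat_lit 174), (nat_lit 1)), ((nat_lit 201), (nat_lit 1)), ((nat_lit 202), (nat_lit 1)), ((nat_lit 209), (nat_lit 1))]⟩,
  ⟨false, (nat_lit 0), [nat_lit 7], [nat_lit 7, nat_lit 6], [((nat_lit 118), (nat_lit 2)), ((nat_lit 175), (nat_lit 3)), ((nat_lit 179), (nat_lit 3)), ((nat_lit 188), (nat_lit 1)), ((nat_lit 193), (nat_lit 2))]⟩,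
  ⟨false, (nat_lit 0), [nat_lit 3], [nat_lit 3, nat_lit 0], [((nat_lit 56), (nat_lit 2)), ((nat_lit 171), (nat_lit 3)), ((nat_lit 179), (nat_lit 3)), ((nat_lit 196), (nat_lit 1)), ((nat_lit 199), (nat_lit 3)), ((nat_lit 207), (nat_lit 3)), ((nat_lit 209), (nat_lit 3))]⟩,
  ⟨false, (nat_lit 0), [nat_lit 8], [nat_lit 4, nat_lit 0], [((nat_lit 176), (nat_lit 1))]⟩,
  ⟨false, (nat_lit 0), [nat_lit 10], [nat_lit 0, nat_lit 0], [((nat_lit 154), (nat_lit 2)), ((nat_lit 192), (nat_lit 1)), ((nat_lit 196), (nat_lit 1)), ((nat_lit 206), (nat_lit 1)), ((nat_lit 209), (nat_lit 1))]⟩,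
  ⟨false, (nat_lit 0), [nat_lit 7], [nat_lit 7, nat_lit 1], [((nat_lit 113), (nat_lit 2)), ((nat_lit 183), (nat_lit 1)), ((nat_lit 189), (nat_lit 3)), ((nat_lit 194), (nat_lit 3)), ((nat_lit 203), (nat_lit 3)), ((nat_lit 208), (nat_lit 3)), ((nat_lit 209), (nat_lit 3))]⟩,
  ⟨false, (nat_lit 0), [nat_lit 7], [nat_lit 1, nat_lit 1], [((nat_lit 113), (nat_lit 2)), ((nat_lit 175), (nat_lit 1)), ((nat_lit 183), (nat_lit 1)), ((nat_lit 194), (nat_lit 1)), ((nat_lit 197), (nat_lit 1)), ((nat_lit 208), (nat_lit 1)), ((nat_lit 209), (nat_lit 1))]⟩,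
  ⟨false, (nat_lit 0), [nat_lit 8], [nat_lit 1, nat_lit 1], [((nat_lit 127), (nat_lit 2)), ((nat_lit 176), (nat_lit 1)), ((nat_lit 183), (nat_lit 1)), ((nat_lit 194), (nat_lit 1)), ((nat_lit 197), (nat_lit 1)), ((nat_lit 208), (nat_lit 1)), ((nat_lit 209), (nat_lit 1))]⟩,
  ⟨false, (nat_lit 0), [nat_lit 9], [nat_lit 9, nat_lit 2], [((nat_lit 142), (nat_lit 2)), ((nat_lit 191), (nat_lit 3)), ((nat_lit 194), (nat_lit 3)), ((nat_lit 198), (nat_lit 1)), ((nat_lit 205), (nat_lit 3)), ((nat_lit 208), (nat_lit 3)), ((nat_lit 209), (nat_lit 3))]⟩,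
  ⟨false, (nat_lit 0), [nat_lit 9], [nat_lit 9, nat_lit 3], [((nat_lit 143), (nat_lit 2)), ((nat_lit 177), (nat_lit 3)), ((nat_lit 179), (nat_lit 3)), ((nat_lit 199), (nat_lit 1)), ((nat_lit 205), (nat_lit 3)), ((nat_lit 207), (nat_lit 3)), ((nat_lit 209), (nat_lit 3))]⟩,
  ⟨false, (nat_lit 0), [nat_lit 9], [nat_lit 3, nat_lit 3], [((nat_lit 143), (nat_lit 2)), ((nat_lit 171), (nat_lit 1)), ((nat_lit 179), (nat_lit 1)), ((nat_lit 199), (nat_lit 1)), ((nat_lit 205), (nat_lit 1)), ((nat_lit 207), (nat_lit 1)), ((nat_lit 209), (nat_lit 1))]⟩,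
  ⟨false, (nat_lit 0), [nat_lit 1], [nat_lit 1, nat_lit 0], [((nat_lit 28), (nat_lit 2)), ((nat_lit 57), (nat_lit 3)), ((nat_lit 59), (nat_lit 3)), ((nat_lit 168), (nat_lit 1)), ((nat_lit 171), (nat_lit 2)), ((nat_lit 207), (nat_lit 3))]⟩,
  ⟨false, (nat_lit 0), [nat_lit 6], [nat_lit 6, nat_lit 0], [((nat_lit 98), (nat_lit 2)), ((nat_lit 132), (nat_lit 3)), ((nat_lit 134), (nat_lit 3)), ((nat_lit 182), (nat_lit 1)), ((nat_lit 190), (nat_lit 2)), ((nat_lit 204), (nat_lit 3))]⟩,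
  ⟨false, (nat_lit 0), [nat_lit 11], [nat_lit 0, nat_lit 0], [((nat_lit 168), (nat_lit 2)), ((nat_lit 178), (nat_lit 3)), ((nat_lit 193), (nat_lit 1)), ((nat_lit 196), (nat_lit 1)), ((nat_lit 207), (nat_lit 1)), ((nat_lit 209), (nat_lit 1))]⟩,
  ⟨false, (nat_lit 0), [nat_lit 7], [nat_lit 7, nat_lit 2], [((nat_lit 114), (nat_lit 2)), ((nat_lit 147), (nat_lit 3)), ((nat_lit 149), (nat_lit 3)), ((nat_lit 184), (nat_lit 1)), ((nat_lit 191), (nat_lit 2)), ((nat_lit 208), (nat_lit 3))]⟩,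
  ⟨false, (nat_lit 0), [nat_lit 7], [nat_lit 4, nat_lit 4], [((nat_lit 116), (nat_lit 2)), ((nat_lit 133), (nat_lit 1)), ((nat_lit 189), (nat_lit 1)), ((nat_lit 200), (nat_lit 1)), ((nat_lit 203), (nat_lit 1)), ((nat_lit 209), (nat_lit 1))]⟩,
  ⟨false, (nat_lit 0), [nat_lit 12], [nat_lit 1, nat_lit 0], [((nat_lit 185), (nat_lit 3)), ((nat_lit 197), (nat_lit 3)), ((nat_lit 199), (nat_lit 3))]⟩,
  ⟨false, (nat_lit 0), [nat_lit 3], [nat_lit 3, nat_lit 2], [((nat_lit 58), (nat_lit 2)), ((nat_lit 101), (nat_lit 3)), ((nat_lit 104), (nat_lit 3)), ((nat_lit 188), (nat_lit 3)), ((nat_lit 194), (nat_lit 3)), ((nat_lit 198), (nat_lit 1)), ((nat_lit 202), (nat_lit 2)), ((nat_lit 208), (nat_lit 3))]⟩,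
  ⟨false, (nat_lit 0), [nat_lit 7], [nat_lit 5, nat_lit 4], [((nat_lit 147), (nat_lit 1)), ((nat_lit 201), (nat_lit 3)), ((nat_lit 205), (nat_lit 3))]⟩,
  ⟨false, (nat_lit 0), [nat_lit 8], [nat_lit 8, nat_lit 5], [((nat_lit 131), (nat_lit 2)), ((nat_lit 176), (nat_lit 3)), ((nat_lit 179), (nat_lit 3)), ((nat_lit 190), (nat_lit 3)), ((nat_lit 193), (nat_lit 3)), ((nat_lit 194), (nat_lit 3)), ((nat_lit 204), (nat_lit 3)), ((nat_lit 207), (nat_lit 3)), ((nat_lit 208), (nat_lit 3)), ((nat_lit 209), (nat_lit 3))]⟩,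
  ⟨false, (nat_lit 0), [nat_lit 8], [nat_lit 2, nat_lit 0], [((nat_lit 130), (nat_lit 3)), ((nat_lit 154), (nat_lit 1)), ((nat_lit 158), (nat_lit 3))]⟩,
  ⟨false, (nat_lit 0), [nat_lit 12], [nat_lit 2, nat_lit 0], [((nat_lit 186), (nat_lit 3)), ((nat_lit 196), (nat_lit 1)), ((nat_lit 198), (nat_lit 3))]⟩,
  ⟨false, (nat_lit 0), [nat_lit 9], [nat_lit 9, nat_lit 0], [((nat_lit 140), (nat_lit 2)), ((nat_lit 163), (nat_lit 3)), ((nat_lit 164), (nat_lit 3)), ((nat_lit 191), (nat_lit 3)), ((nat_lit 192), (nat_lit 3)), ((nat_lit 194), (nat_lit 3)), ((nat_lit 196), (nat_lit 1)), ((nat_lit 205), (nat_lit 3)), ((nat_lit 206), (nat_lit 3)), ((nat_lit 208), (nat_lit 3)), ((nat_lit 209), (nat_lit 3))]⟩,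
  ⟨false, (nat_lit 0), [nat_lit 5], [nat_lit 1, nat_lit 1], [((nat_lit 85), (nat_lit 2)), ((nat_lit 169), (nat_lit 1)), ((nat_lit 173), (nat_lit 1)), ((nat_lit 179), (nat_lit 1)), ((nat_lit 183), (nat_lit 1)), ((nat_lit 193), (nat_lit 1)), ((nat_lit 194), (nat_lit 1)), ((nat_lit 197), (nat_lit 1)), ((nat_lit 207), (nat_lit 1)), ((nat_lit 208), (nat_lit 1)), ((nat_lit 209), (nat_lit 1))]⟩,
  ⟨false, (nat_lit 0), [nat_lit 6], [nat_lit 6, nat_lit 1], [((nat_lit 99), (nat_lit 2)), ((nat_lit 174), (nat_lit 3)), ((nat_lit 179), (nat_lit 3)), ((nat_lit 183), (nat_lit 1)), ((nat_lit 188), (nat_lit 3)), ((nat_lit 193), (nat_lit 3)), ((nat_lit 194), (nat_lit 3)), ((nat_lit 202), (nat_lit 3)), ((nat_lit 207), (nat_lit 3)), ((nat_lit 208), (nat_lit 3)), ((nat_lit 209), (nat_lit 3))]⟩,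
  ⟨false, (nat_lit 0), [nat_lit 7], [nat_lit 5, nat_lit 2], [((nat_lit 145), (nat_lit 3)), ((nat_lit 147), (nat_lit 3))]⟩,
  ⟨false, (nat_lit 0), [nat_lit 5], [nat_lit 3, nat_lit 3], [((nat_lit 87), (nat_lit 2)), ((nat_lit 171), (nat_lit 1)), ((nat_lit 179), (nat_lit 1)), ((nat_lit 185), (nat_lit 1)), ((nat_lit 193), (nat_lit 1)), ((nat_lit 194), (nat_lit 1)), ((nat_lit 201), (nat_lit 1)), ((nat_lit 207), (nat_lit 2)), ((nat_lit 208), (nat_lit 2))]⟩,
  ⟨false, (nat_lit 0), [nat_lit 4], [nat_lit 1, nat_lit 1], [((nat_lit 71), (nat_lit 2)), ((nat_lit 113), (nat_lit 1)), ((nat_lit 119), (nat_lit 1)), ((nat_lit 172), (nat_lit 1)), ((nat_lit 175), (nat_lit 2)), ((nat_lit 193), (nat_lit 1)), ((nat_lit 194), (nat_lit 1)), ((nat_lit 203), (nat_lit 2)), ((nat_lit 208), (nat_lit 1)), ((nat_lit 209), (nat_lit 1))]⟩,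
  ⟨false, (nat_lit 0), [nat_lit 5], [nat_lit 5, nat_lit 2], [((nat_lit 86), (nat_lit 2)), ((nat_lit 117), (nat_lit 3)), ((nat_lit 119), (nat_lit 3)), ((nat_lit 170), (nat_lit 1)), ((nat_lit 175), (nat_lit 2)), ((nat_lit 193), (nat_lit 3)), ((nat_lit 198), (nat_lit 1)), ((nat_lit 203), (nat_lit 2))]⟩,
  ⟨false, (nat_lit 0), [nat_lit 8], [nat_lit 7, nat_lit 2], [((nat_lit 148), (nat_lit 1)), ((nat_lit 161), (nat_lit 3)), ((nat_lit 163), (nat_lit 3)), ((nat_lit 205), (nat_lit 3)), ((nat_lit 206), (nat_lit 1))]⟩,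
  ⟨false, (nat_lit 0), [nat_lit 5], [nat_lit 5, nat_lit 4], [((nat_lit 88), (nat_lit 2)), ((nat_lit 145), (nat_lit 3)), ((nat_lit 149), (nat_lit 3)), ((nat_lit 172), (nat_lit 1)), ((nat_lit 177), (nat_lit 2)), ((nat_lit 200), (nat_lit 1)), ((nat_lit 205), (nat_lit 2)), ((nat_lit 207), (nat_lit 3))]⟩,
  ⟨false, (nat_lit 0), [nat_lit 6], [nat_lit 4, nat_lit 4], [((nat_lit 102), (nat_lit 2)), ((nat_lit 132), (nat_lit 1)), ((nat_lit 158), (nat_lit 1)), ((nat_lit 164), (nat_lit 1)), ((nat_lit 188), (nat_lit 1)), ((nat_lit 192), (nat_lit 2)), ((nat_lit 202), (nat_lit 1)), ((nat_lit 208), (nat_lit 1)), ((nat_lit 209), (nat_lit 1))]⟩,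
  ⟨false, (nat_lit 0), [nat_lit 10], [nat_lit 5, nat_lit 4], [((nat_lit 163), (nat_lit 3)), ((nat_lit 186), (nat_lit 1)), ((nat_lit 191), (nat_lit 3)), ((nat_lit 201), (nat_lit 3)), ((nat_lit 205), (nat_lit 3)), ((nat_lit 208), (nat_lit 1))]⟩,
  ⟨false, (nat_lit 0), [nat_lit 7], [nat_lit 6, nat_lit 4], [((nat_lit 161), (nat_lit 1)), ((nat_lit 172), (nat_lit 1)), ((nat_lit 178), (nat_lit 3)), ((nat_lit 202), (nat_lit 3)), ((nat_lit 206), (nat_lit 3)), ((nat_lit 209), (nat_lit 1))]⟩,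
  ⟨false, (nat_lit 0), [nat_lit 8], [nat_lit 1, nat_lit 0], [((nat_lit 129), (nat_lit 3)), ((nat_lit 182), (nat_lit 1)), ((nat_lit 185), (nat_lit 3)), ((nat_lit 196), (nat_lit 1)), ((nat_lit 199), (nat_lit 3)), ((nat_lit 208), (nat_lit 3))]⟩,
  ⟨false, (nat_lit 0), [nat_lit 6], [nat_lit 0, nat_lit 0], [((nat_lit 98), (nat_lit 2)), ((nat_lit 126), (nat_lit 1)), ((nat_lit 134), (nat_lit 1)), ((nat_lit 160), (nat_lit 1)), ((nat_lit 162), (nat_lit 2)), ((nat_lit 188), (nat_lit 1)), ((nat_lit 190), (nat_lit 2)), ((nat_lit 202), (nat_lit 1)), ((nat_lit 204), (nat_lit 2))]⟩,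
  ⟨false, (nat_lit 0), [nat_lit 9], [nat_lit 2, nat_lit 1], [((nat_lit 145), (nat_lit 3)), ((nat_lit 183), (nat_lit 1)), ((nat_lit 187), (nat_lit 3)), ((nat_lit 197), (nat_lit 1)), ((nat_lit 198), (nat_lit 3)), ((nat_lit 208), (nat_lit 1))]⟩,
  ⟨false, (nat_lit 0), [nat_lit 10], [nat_lit 2, nat_lit 1], [((nat_lit 159), (nat_lit 3)), ((nat_lit 169), (nat_lit 1)), ((nat_lit 170), (nat_lit 3)), ((nat_lit 183), (nat_lit 1)), ((nat_lit 193), (nat_lit 3)), ((nat_lit 194), (nat_lit 3))]⟩,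
  ⟨false, (nat_lit 0), [nat_lit 8], [nat_lit 3, nat_lit 2], [((nat_lit 132), (nat_lit 3)), ((nat_lit 157), (nat_lit 3)), ((nat_lit 160), (nat_lit 3)), ((nat_lit 198), (nat_lit 1)), ((nat_lit 206), (nat_lit 2)), ((nat_lit 209), (nat_lit 3))]⟩,
  ⟨false, (nat_lit 0), [nat_lit 10], [nat_lit 1, nat_lit 0], [((nat_lit 157), (nat_lit 3)), ((nat_lit 168), (nat_lit 1)), ((nat_lit 171), (nat_lit 3)), ((nat_lit 197), (nat_lit 3)), ((nat_lit 199), (nat_lit 3))]⟩,
  ⟨false, (nat_lit 0), [nat_lit 11], [nat_lit 2, nat_lit 0], [((nat_lit 172), (nat_lit 3)), ((nat_lit 182), (nat_lit 1)), ((nat_lit 186), (nat_lit 3)), ((nat_lit 198), (nat_lit 3)), ((nat_lit 200), (nat_lit 3))]⟩,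
  ⟨false, (nat_lit 0), [nat_lit 3], [nat_lit 2, nat_lit 1], [((nat_lit 87), (nat_lit 1)), ((nat_lit 99), (nat_lit 1)), ((nat_lit 103), (nat_lit 3)), ((nat_lit 174), (nat_lit 1)), ((nat_lit 179), (nat_lit 1)), ((nat_lit 188), (nat_lit 1)), ((nat_lit 193), (nat_lit 1)), ((nat_lit 194), (nat_lit 1))]⟩,
  ⟨false, (nat_lit 0), [nat_lit 2], [nat_lit 1, nat_lit 1], [((nat_lit 43), (nat_lit 2)), ((nat_lit 85), (nat_lit 1)), ((nat_lit 89), (nat_lit 1)), ((nat_lit 170), (nat_lit 1)), ((nat_lit 173), (nat_lit 2)), ((nat_lit 179), (nat_lit 1)), ((nat_lit 187), (nat_lit 2)), ((nat_lit 193), (nat_lit 1)), ((nat_lit 194), (nat_lit 1)), ((nat_lit 207), (nat_lit 2)), ((nat_lit 208), (nat_lit 2)), ((nat_lit 209), (nat_lit 1))]⟩,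
  ⟨false, (nat_lit 0), [nat_lit 10], [nat_lit 5, nat_lit 2], [((nat_lit 161), (nat_lit 3)), ((nat_lit 173), (nat_lit 3)), ((nat_lit 175), (nat_lit 3)), ((nat_lit 184), (nat_lit 1)), ((nat_lit 187), (nat_lit 3)), ((nat_lit 193), (nat_lit 3)), ((nat_lit 207), (nat_lit 3))]⟩,
  ⟨false, (nat_lit 0), [nat_lit 7], [nat_lit 2, nat_lit 1], [((nat_lit 117), (nat_lit 3)), ((nat_lit 141), (nat_lit 1)), ((nat_lit 145), (nat_lit 3)), ((nat_lit 184), (nat_lit 3)), ((nat_lit 187), (nat_lit 3)), ((nat_lit 191), (nat_lit 1)), ((nat_lit 198), (nat_lit 3)), ((nat_lit 205), (nat_lit 1))]⟩,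
  ⟨false, (nat_lit 0), [nat_lit 4], [nat_lit 4, nat_lit 1], [((nat_lit 71), (nat_lit 2)), ((nat_lit 116), (nat_lit 3)), ((nat_lit 119), (nat_lit 3)), ((nat_lit 127), (nat_lit 1)), ((nat_lit 133), (nat_lit 2)), ((nat_lit 183), (nat_lit 1)), ((nat_lit 189), (nat_lit 2)), ((nat_lit 190), (nat_lit 3)), ((nat_lit 197), (nat_lit 1)), ((nat_lit 203), (nat_lit 3)), ((nat_lit 208), (nat_lit 1))]⟩,
  ⟨false, (nat_lit 0), [nat_lit 10], [nat_lit 3, nat_lit 2], [((nat_lit 160), (nat_lit 3)), ((nat_lit 171), (nat_lit 3)), ((nat_lit 174), (nat_lit 3)), ((nat_lit 185), (nat_lit 3)), ((nat_lit 188), (nat_lit 3)), ((nat_lit 198), (nat_lit 1)), ((nat_lit 202), (nat_lit 3)), ((nat_lit 207), (nat_lit 3)), ((nat_lit 208), (nat_lit 3))]⟩,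
  ⟨false, (nat_lit 0), [nat_lit 6], [nat_lit 6, nat_lit 2], [((nat_lit 100), (nat_lit 2)), ((nat_lit 132), (nat_lit 3)), ((nat_lit 134), (nat_lit 3)), ((nat_lit 160), (nat_lit 3)), ((nat_lit 162), (nat_lit 3)), ((nat_lit 164), (nat_lit 3)), ((nat_lit 184), (nat_lit 1)), ((nat_lit 188), (nat_lit 3)), ((nat_lit 190), (nat_lit 3)), ((nat_lit 192), (nat_lit 3)), ((nat_lit 194), (nat_lit 3)), ((nat_lit 204), (nat_lit 3)), ((nat_lit 206), (nat_lit 2)), ((nat_lit 208), (nat_lit 2))]⟩,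
  ⟨false, (nat_lit 0), [nat_lit 4], [nat_lit 3, nat_lit 3], [((nat_lit 73), (nat_lit 2)), ((nat_lit 129), (nat_lit 1)), ((nat_lit 134), (nat_lit 1)), ((nat_lit 157), (nat_lit 1)), ((nat_lit 162), (nat_lit 1)), ((nat_lit 164), (nat_lit 1)), ((nat_lit 185), (nat_lit 1)), ((nat_lit 190), (nat_lit 1)), ((nat_lit 192), (nat_lit 1)), ((nat_lit 194), (nat_lit 1)), ((nat_lit 200), (nat_lit 1)), ((nat_lit 204), (nat_lit 2)), ((nat_lit 206), (nat_lit 1)), ((nat_lit 208), (nat_lit 2)), ((nat_lit 209), (nat_lit 1))]⟩,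
  ⟨false, (nat_lit 0), [nat_lit 5], [nat_lit 4, nat_lit 4], [((nat_lit 88), (nat_lit 2)), ((nat_lit 131), (nat_lit 1)), ((nat_lit 144), (nat_lit 1)), ((nat_lit 149), (nat_lit 1)), ((nat_lit 177), (nat_lit 2)), ((nat_lit 179), (nat_lit 1)), ((nat_lit 187), (nat_lit 1)), ((nat_lit 194), (nat_lit 1)), ((nat_lit 201), (nat_lit 1)), ((nat_lit 207), (nat_lit 2)), ((nat_lit 208), (nat_lit 2)), ((nat_lit 209), (nat_lit 1))]⟩,
  ⟨false, (nat_lit 0), [nat_lit 6], [nat_lit 5, nat_lit 4], [((nat_lit 146), (nat_lit 1)), ((nat_lit 159), (nat_lit 3)), ((nat_lit 163), (nat_lit 3)), ((nat_lit 191), (nat_lit 3)), ((nat_lit 192), (nat_lit 1)), ((nat_lit 200), (nat_lit 1)), ((nat_lit 205), (nat_lit 3)), ((nat_lit 206), (nat_lit 3)), ((nat_lit 208), (nat_lit 3))]⟩,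
  ⟨false, (nat_lit 0), [nat_lit 4], [nat_lit 4, nat_lit 0], [((nat_lit 70), (nat_lit 2)), ((nat_lit 126), (nat_lit 1)), ((nat_lit 130), (nat_lit 3)), ((nat_lit 134), (nat_lit 3)), ((nat_lit 172), (nat_lit 3)), ((nat_lit 176), (nat_lit 3)), ((nat_lit 179), (nat_lit 3)), ((nat_lit 182), (nat_lit 1)), ((nat_lit 190), (nat_lit 2)), ((nat_lit 193), (nat_lit 2)), ((nat_lit 196), (nat_lit 1)), ((nat_lit 204), (nat_lit 3)), ((nat_lit 207), (nat_lit 3))]⟩,
  ⟨false, (nat_lit 0), [nat_lit 6], [nat_lit 2, nat_lit 0], [((nat_lit 102), (nat_lit 3)), ((nat_lit 126), (nat_lit 1)), ((nat_lit 128), (nat_lit 3)), ((nat_lit 154), (nat_lit 1)), ((nat_lit 162), (nat_lit 3)), ((nat_lit 164), (nat_lit 3)), ((nat_lit 182), (nat_lit 1)), ((nat_lit 186), (nat_lit 3)), ((nat_lit 190), (nat_lit 3)), ((nat_lit 192), (nat_lit 3)), ((nat_lit 208), (nat_lit 1)), ((nat_lit 209), (nat_lit 1))]⟩,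
  ⟨false, (nat_lit 0), [nat_lit 1], [nat_lit 0, nat_lit 0], [((nat_lit 28), (nat_lit 2)), ((nat_lit 56), (nat_lit 1)), ((nat_lit 59), (nat_lit 1)), ((nat_lit 155), (nat_lit 1)), ((nat_lit 157), (nat_lit 2)), ((nat_lit 171), (nat_lit 2)), ((nat_lit 179), (nat_lit 1)), ((nat_lit 183), (nat_lit 1)), ((nat_lit 185), (nat_lit 2)), ((nat_lit 193), (nat_lit 1)), ((nat_lit 197), (nat_lit 1)), ((nat_lit 199), (nat_lit 1)), ((nat_lit 206), (nat_lit 1)), ((nat_lit 207), (nat_lit 1)), ((nat_lit 208), (nat_lit 1)), ((nat_lit 209), (nat_lit 2))]⟩,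
  ⟨false, (nat_lit 0), [nat_lit 7], [nat_lit 3, nat_lit 2], [((nat_lit 118), (nat_lit 3)), ((nat_lit 143), (nat_lit 3)), ((nat_lit 146), (nat_lit 3)), ((nat_lit 170), (nat_lit 1)), ((nat_lit 177), (nat_lit 2)), ((nat_lit 179), (nat_lit 3)), ((nat_lit 184), (nat_lit 1)), ((nat_lit 188), (nat_lit 3)), ((nat_lit 191), (nat_lit 3)), ((nat_lit 193), (nat_lit 3)), ((nat_lit 202), (nat_lit 3))]⟩,
  ⟨false, (nat_lit 0), [nat_lit 5], [nat_lit 3, nat_lit 2], [((nat_lit 103), (nat_lit 1)), ((nat_lit 115), (nat_lit 3)), ((nat_lit 118), (nat_lit 3)), ((nat_lit 170), (nat_lit 1)), ((nat_lit 175), (nat_lit 3)), ((nat_lit 179), (nat_lit 3)), ((nat_lit 184), (nat_lit 1)), ((nat_lit 189), (nat_lit 3)), ((nat_lit 193), (nat_lit 3)), ((nat_lit 203), (nat_lit 1)), ((nat_lit 207), (nat_lit 1)), ((nat_lit 208), (nat_lit 2)), ((nat_lit 209), (nat_lit 1))]⟩,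
  ⟨false, (nat_lit 0), [nat_lit 9], [nat_lit 1, nat_lit 0], [((nat_lit 143), (nat_lit 3)), ((nat_lit 155), (nat_lit 3)), ((nat_lit 157), (nat_lit 3)), ((nat_lit 171), (nat_lit 3)), ((nat_lit 178), (nat_lit 3)), ((nat_lit 179), (nat_lit 3)), ((nat_lit 183), (nat_lit 3)), ((nat_lit 185), (nat_lit 3)), ((nat_lit 196), (nat_lit 1)), ((nat_lit 197), (nat_lit 3)), ((nat_lit 206), (nat_lit 2)), ((nat_lit 207), (nat_lit 3)), ((nat_lit 208), (nat_lit 3)), ((nat_lit 209), (nat_lit 3))]⟩,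
  ⟨false, (nat_lit 0), [nat_lit 5], [nat_lit 2, nat_lit 1], [((nat_lit 113), (nat_lit 1)), ((nat_lit 117), (nat_lit 3)), ((nat_lit 170), (nat_lit 3)), ((nat_lit 173), (nat_lit 3)), ((nat_lit 175), (nat_lit 3)), ((nat_lit 184), (nat_lit 3)), ((nat_lit 189), (nat_lit 1)), ((nat_lit 198), (nat_lit 3)), ((nat_lit 203), (nat_lit 3)), ((nat_lit 208), (nat_lit 1))]⟩,
  ⟨false, (nat_lit 0), [nat_lit 8], [nat_lit 2, nat_lit 1], [((nat_lit 131), (nat_lit 3)), ((nat_lit 155), (nat_lit 1)), ((nat_lit 159), (nat_lit 3)), ((nat_lit 178), (nat_lit 3)), ((nat_lit 184), (nat_lit 3)), ((nat_lit 187), (nat_lit 3)), ((nat_lit 193), (nat_lit 1)), ((nat_lit 194), (nat_lit 3)), ((nat_lit 198), (nat_lit 3)), ((nat_lit 207), (nat_lit 1)), ((nat_lit 208), (nat_lit 2)), ((nat_lit 209), (nat_lit 3))]⟩,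
  ⟨false, (nat_lit 0), [nat_lit 6], [nat_lit 1, nat_lit 0], [((nat_lit 101), (nat_lit 3)), ((nat_lit 127), (nat_lit 3)), ((nat_lit 129), (nat_lit 3)), ((nat_lit 168), (nat_lit 1)), ((nat_lit 171), (nat_lit 3)), ((nat_lit 176), (nat_lit 3)), ((nat_lit 182), (nat_lit 1)), ((nat_lit 190), (nat_lit 2)), ((nat_lit 193), (nat_lit 3)), ((nat_lit 194), (nat_lit 3)), ((nat_lit 196), (nat_lit 1)), ((nat_lit 204), (nat_lit 3)), ((nat_lit 207), (nat_lit 3))]⟩,
  ⟨false, (nat_lit 0), [nat_lit 4], [nat_lit 3, nat_lit 1], [((nat_lit 115), (nat_lit 3)), ((nat_lit 127), (nat_lit 1)), ((nat_lit 133), (nat_lit 3)), ((nat_lit 155), (nat_lit 1)), ((nat_lit 161), (nat_lit 3)), ((nat_lit 183), (nat_lit 1)), ((nat_lit 189), (nat_lit 3)), ((nat_lit 192), (nat_lit 1)), ((nat_lit 206), (nat_lit 1)), ((nat_lit 208), (nat_lit 3))]⟩,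
  ⟨false, (nat_lit 0), [nat_lit 2], [nat_lit 0, nat_lit 0], [((nat_lit 42), (nat_lit 2)), ((nat_lit 70), (nat_lit 1)), ((nat_lit 74), (nat_lit 1)), ((nat_lit 134), (nat_lit 1)), ((nat_lit 156), (nat_lit 1)), ((nat_lit 158), (nat_lit 2)), ((nat_lit 162), (nat_lit 1)), ((nat_lit 172), (nat_lit 2)), ((nat_lit 176), (nat_lit 1)), ((nat_lit 179), (nat_lit 1)), ((nat_lit 184), (nat_lit 1)), ((nat_lit 190), (nat_lit 1)), ((nat_lit 192), (nat_lit 1)), ((nat_lit 193), (nat_lit 2)), ((nat_lit 194), (nat_lit 1)), ((nat_lit 198), (nat_lit 1)), ((nat_lit 204), (nat_lit 1)), ((nat_lit 206), (nat_lit 1)), ((nat_lit 207), (nat_lit 2)), ((nat_lit 209), (nat_lit 3))]⟩,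
  ⟨false, (nat_lit 0), [nat_lit 3], [nat_lit 2, nat_lit 0], [((nat_lit 73), (nat_lit 1)), ((nat_lit 98), (nat_lit 1)), ((nat_lit 102), (nat_lit 3)), ((nat_lit 132), (nat_lit 1)), ((nat_lit 134), (nat_lit 1)), ((nat_lit 160), (nat_lit 1)), ((nat_lit 162), (nat_lit 1)), ((nat_lit 170), (nat_lit 3)), ((nat_lit 172), (nat_lit 3)), ((nat_lit 174), (nat_lit 1)), ((nat_lit 176), (nat_lit 1)), ((nat_lit 186), (nat_lit 3)), ((nat_lit 188), (nat_lit 1)), ((nat_lit 190), (nat_lit 1)), ((nat_lit 193), (nat_lit 1)), ((nat_lit 198), (nat_lit 3)), ((nat_lit 200), (nat_lit 3)), ((nat_lit 202), (nat_lit 1)), ((nat_lit 206), (nat_lit 1)), ((nat_lit 207), (nat_lit 1))]⟩,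
  ⟨false, (nat_lit 0), [nat_lit 9], [nat_lit 2, nat_lit 0], [((nat_lit 144), (nat_lit 3)), ((nat_lit 156), (nat_lit 3)), ((nat_lit 158), (nat_lit 3)), ((nat_lit 172), (nat_lit 3)), ((nat_lit 178), (nat_lit 3)), ((nat_lit 179), (nat_lit 3)), ((nat_lit 182), (nat_lit 1)), ((nat_lit 184), (nat_lit 3)), ((nat_lit 186), (nat_lit 3)), ((nat_lit 192), (nat_lit 2)), ((nat_lit 193), (nat_lit 2)), ((nat_lit 194), (nat_lit 3)), ((nat_lit 196), (nat_lit 1)), ((nat_lit 198), (nat_lit 3)), ((nat_lit 200), (nat_lit 3)), ((nat_lit 206), (nat_lit 3)), ((nat_lit 207), (nat_lit 2)), ((nat_lit 208), (nat_lit 3)), ((nat_lit 209), (nat_lit 3))]⟩,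
  ⟨false, (nat_lit 0), [nat_lit 7], [nat_lit 2, nat_lit 2], [((nat_lit 114), (nat_lit 2)), ((nat_lit 115), (nat_lit 3)), ((nat_lit 116), (nat_lit 3)), ((nat_lit 117), (nat_lit 3)), ((nat_lit 118), (nat_lit 3)), ((nat_lit 133), (nat_lit 1)), ((nat_lit 142), (nat_lit 1)), ((nat_lit 147), (nat_lit 1)), ((nat_lit 149), (nat_lit 1)), ((nat_lit 172), (nat_lit 3)), ((nat_lit 173), (nat_lit 3)), ((nat_lit 174), (nat_lit 3)), ((nat_lit 179), (nat_lit 3)), ((nat_lit 186), (nat_lit 3)), ((nat_lit 187), (nat_lit 3)), ((nat_lit 188), (nat_lit 3)), ((nat_lit 189), (nat_lit 3)), ((nat_lit 190), (nat_lit 1)), ((nat_lit 191), (nat_lit 3)), ((nat_lit 203), (nat_lit 1)), ((nat_lit 205), (nat_lit 1)), ((nat_lit 207), (nat_lit 3)), ((nat_lit 208), (nat_lit 1))]⟩,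
  ⟨false, (nat_lit 0), [nat_lit 4], [nat_lit 1, nat_lit 0], [((nat_lit 73), (nat_lit 3)), ((nat_lit 112), (nat_lit 1)), ((nat_lit 115), (nat_lit 3)), ((nat_lit 127), (nat_lit 3)), ((nat_lit 129), (nat_lit 3)), ((nat_lit 161), (nat_lit 3)), ((nat_lit 162), (nat_lit 3)), ((nat_lit 169), (nat_lit 3)), ((nat_lit 171), (nat_lit 3)), ((nat_lit 175), (nat_lit 1)), ((nat_lit 178), (nat_lit 1)), ((nat_lit 185), (nat_lit 3)), ((nat_lit 189), (nat_lit 3)), ((nat_lit 193), (nat_lit 2)), ((nat_lit 194), (nat_lit 3)), ((nat_lit 199), (nat_lit 3)), ((nat_lit 204), (nat_lit 3)), ((nat_lit 207), (nat_lit 2)), ((nat_lit 208), (nat_lit 2)), ((nat_lit 209), (nat_lit 3))]⟩,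
  ⟨false, (nat_lit 0), [nat_lit 7], [nat_lit 2, nat_lit 0], [((nat_lit 116), (nat_lit 3)), ((nat_lit 128), (nat_lit 3)), ((nat_lit 130), (nat_lit 3)), ((nat_lit 140), (nat_lit 1)), ((nat_lit 144), (nat_lit 3)), ((nat_lit 148), (nat_lit 3)), ((nat_lit 156), (nat_lit 3)), ((nat_lit 163), (nat_lit 1)), ((nat_lit 170), (nat_lit 3)), ((nat_lit 177), (nat_lit 1)), ((nat_lit 178), (nat_lit 1)), ((nat_lit 179), (nat_lit 3)), ((nat_lit 184), (nat_lit 3)), ((nat_lit 186), (nat_lit 3)), ((nat_lit 191), (nat_lit 1)), ((nat_lit 192), (nat_lit 1)), ((nat_lit 193), (nat_lit 3)), ((nat_lit 194), (nat_lit 3)), ((nat_lit 198), (nat_lit 3)), ((nat_lit 200), (nat_lit 3)), ((nat_lit 204), (nat_lit 3)), ((nat_lit 206), (nat_lit 3)), ((nat_lit 207), (nat_lit 1)), ((nat_lit 209), (nat_lit 3))]⟩,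
  ⟨false, (nat_lit 0), [nat_lit 5], [nat_lit 2, nat_lit 2], [((nat_lit 86), (nat_lit 2)), ((nat_lit 87), (nat_lit 3)), ((nat_lit 88), (nat_lit 3)), ((nat_lit 103), (nat_lit 1)), ((nat_lit 114), (nat_lit 1)), ((nat_lit 117), (nat_lit 1)), ((nat_lit 119), (nat_lit 1)), ((nat_lit 131), (nat_lit 1)), ((nat_lit 133), (nat_lit 2)), ((nat_lit 146), (nat_lit 3)), ((nat_lit 147), (nat_lit 1)), ((nat_lit 148), (nat_lit 3)), ((nat_lit 172), (nat_lit 3)), ((nat_lit 173), (nat_lit 3)), ((nat_lit 174), (nat_lit 1)), ((nat_lit 175), (nat_lit 1)), ((nat_lit 176), (nat_lit 1)), ((nat_lit 177), (nat_lit 3)), ((nat_lit 186), (nat_lit 3)), ((nat_lit 187), (nat_lit 3)), ((nat_lit 188), (nat_lit 3)), ((nat_lit 189), (nat_lit 1)), ((nat_lit 190), (nat_lit 1)), ((nat_lit 191), (nat_lit 2)), ((nat_lit 202), (nat_lit 1)), ((nat_lit 205), (nat_lit 3)), ((nat_lit 207), (nat_lit 3)), ((nat_lit 208), (nat_lit 2))]⟩,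
  ⟨false, (nat_lit 0), [nat_lit 5], [nat_lit 5, nat_lit 0], [((nat_lit 84), (nat_lit 2)), ((nat_lit 103), (nat_lit 3)), ((nat_lit 104), (nat_lit 3)), ((nat_lit 117), (nat_lit 3)), ((nat_lit 118), (nat_lit 3)), ((nat_lit 119), (nat_lit 3)), ((nat_lit 131), (nat_lit 3)), ((nat_lit 132), (nat_lit 3)), ((nat_lit 133), (nat_lit 3)), ((nat_lit 134), (nat_lit 3)), ((nat_lit 145), (nat_lit 3)), ((nat_lit 146), (nat_lit 3)), ((nat_lit 147), (nat_lit 3)), ((nat_lit 148), (nat_lit 3)), ((nat_lit 149), (nat_lit 3)), ((nat_lit 168), (nat_lit 1)), ((nat_lit 174), (nat_lit 3)), ((nat_lit 175), (nat_lit 2)), ((nat_lit 176), (nat_lit 1)), ((nat_lit 177), (nat_lit 2)), ((nat_lit 179), (nat_lit 3)), ((nat_lit 187), (nat_lit 3)), ((nat_lit 189), (nat_lit 3)), ((nat_lit 190), (nat_lit 1)), ((nat_lit 193), (nat_lit 2)), ((nat_lit 194), (nat_lit 1)), ((nat_lit 196), (nat_lit 1)), ((nat_lit 201), (nat_lit 3)), ((nat_lit 202), (nat_lit 3)), ((nat_lit 203),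 (nat_lit 3)), ((nat_lit 204), (nat_lit 3)), ((nat_lit 205), (nat_lit 2)), ((nat_lit 207), (nat_lit 2)), ((nat_lit 208), (nat_lit 3)), ((nat_lit 209), (nat_lit 1))]⟩,
  ⟨false, (nat_lit 0), [nat_lit 2], [nat_lit 1, nat_lit 0], [((nat_lit 58), (nat_lit 1)), ((nat_lit 71), (nat_lit 3)), ((nat_lit 73), (nat_lit 3)), ((nat_lit 84), (nat_lit 1)), ((nat_lit 87), (nat_lit 3)), ((nat_lit 88), (nat_lit 3)), ((nat_lit 102), (nat_lit 1)), ((nat_lit 103), (nat_lit 1)), ((nat_lit 104), (nat_lit 1)), ((nat_lit 115), (nat_lit 3)), ((nat_lit 131), (nat_lit 3)), ((nat_lit 133), (nat_lit 3)), ((nat_lit 143), (nat_lit 3)), ((nat_lit 147), (nat_lit 3)), ((nat_lit 160), (nat_lit 1)), ((nat_lit 162), (nat_lit 1)), ((nat_lit 177), (nat_lit 3)), ((nat_lit 178), (nat_lit 3)), ((nat_lit 179), (nat_lit 2)), ((nat_lit 187), (nat_lit 3)), ((nat_lit 188), (nat_lit 1)), ((nat_lit 191), (nat_lit 3)), ((nat_lit 193), (nat_lit 2)), ((nat_lit 194), (nat_lit 3)),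 ((nat_lit 202), (nat_lit 1)), ((nat_lit 207), (nat_lit 3)), ((nat_lit 208), (nat_lit 2))]⟩,
  ⟨false, (nat_lit 0), [nat_lit 5], [nat_lit 2, nat_lit 0], [((nat_lit 88), (nat_lit 3)), ((nat_lit 100), (nat_lit 3)), ((nat_lit 102), (nat_lit 3)), ((nat_lit 112), (nat_lit 1)), ((nat_lit 114), (nat_lit 3)), ((nat_lit 118), (nat_lit 3)), ((nat_lit 128), (nat_lit 3)), ((nat_lit 142), (nat_lit 3)), ((nat_lit 146), (nat_lit 3)), ((nat_lit 147), (nat_lit 1)), ((nat_lit 149), (nat_lit 3)), ((nat_lit 161), (nat_lit 3)), ((nat_lit 162), (nat_lit 3)), ((nat_lit 163), (nat_lit 3)), ((nat_lit 164), (nat_lit 3)), ((nat_lit 172), (nat_lit 3)), ((nat_lit 175), (nat_lit 3)), ((nat_lit 176), (nat_lit 2)), ((nat_lit 177), (nat_lit 2)), ((nat_lit 178), (nat_lit 2)), ((nat_lit 184), (nat_lit 3)), ((nat_lit 191), (nat_lit 1)), ((nat_lit 192), (nat_lit 2)), ((nat_lit 193), (nat_lit 2)), ((nat_lit 194), (nat_lit 3)), ((nat_lit 198), (nat_lit 3)), ((nat_lit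 203), (nat_lit 1)), ((nat_lit 205), (nat_lit 3)), ((nat_lit 206), (nat_lit 3)), ((nat_lit 207), (nat_lit 1)), ((nat_lit 208), (nat_lit 2)), ((nat_lit 209), (nat_lit 2))]⟩,
  ⟨false, (nat_lit 0), [nat_lit 2], [nat_lit 2, nat_lit 1], [((nat_lit 43), (nat_lit 2)), ((nat_lit 57), (nat_lit 1)), ((nat_lit 71), (nat_lit 1)), ((nat_lit 85), (nat_lit 1)), ((nat_lit 86), (nat_lit 3)), ((nat_lit 89), (nat_lit 3)), ((nat_lit 99), (nat_lit 1)), ((nat_lit 103), (nat_lit 2)), ((nat_lit 113), (nat_lit 1)), ((nat_lit 118), (nat_lit 1)), ((nat_lit 127), (nat_lit 1)), ((nat_lit 131), (nat_lit 2)), ((nat_lit 133), (nat_lit 3)), ((nat_lit 141), (nat_lit 1)), ((nat_lit 145), (nat_lit 2)), ((nat_lit 147), (nat_lit 3)), ((nat_lit 188), (nat_lit 1)), ((nat_lit 189), (nat_lit 3)), ((nat_lit 190), (nat_lit 3)), ((nat_lit 191), (nat_lit 2)), ((nat_lit 193), (nat_lit 2)), ((nat_lit 194), (nat_lit 1)), ((nat_lit 197), (nat_lit 1)), ((nat_lit 201), (nat_lit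 3)), ((nat_lit 205), (nat_lit 3)), ((nat_lit 208), (nat_lit 1))]⟩,
  ⟨false, (nat_lit 0), [nat_lit 2], [nat_lit 2, nat_lit 2], [((nat_lit 58), (nat_lit 1)), ((nat_lit 72), (nat_lit 1)), ((nat_lit 86), (nat_lit 1)), ((nat_lit 100), (nat_lit 1)), ((nat_lit 102), (nat_lit 1)), ((nat_lit 104), (nat_lit 1)), ((nat_lit 114), (nat_lit 1)), ((nat_lit 117), (nat_lit 1)), ((nat_lit 119), (nat_lit 1)), ((nat_lit 128), (nat_lit 1)), ((nat_lit 131), (nat_lit 1)), ((nat_lit 132), (nat_lit 1)), ((nat_lit 133), (nat_lit 1)), ((nat_lit 134), (nat_lit 1)), ((nat_lit 142), (nat_lit 1)), ((nat_lit 145), (nat_lit 1)), ((nat_lit 146), (nat_lit 1)), ((nat_lit 147), (nat_lit 2)), ((nat_lit 148), (nat_lit 1)), ((nat_lit 149), (nat_lit 1)), ((nat_lit 160), (nat_lit 1)), ((nat_lit 161), (nat_lit 2)), ((nat_lit 162), (nat_lit 2)), ((nat_lit 163), (nat_lit 2)), ((nat_lit 164), (nat_lit 2)), ((nat_lit 173), (nat_lit 1)), ((nat_lit 177), (nat_lit 1)), ((nat_lit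 179), (nat_lit 1)), ((nat_lit 187), (nat_lit 1)), ((nat_lit 188), (nat_lit 1)), ((nat_lit 189), (nat_lit 2)), ((nat_lit 190), (nat_lit 3)), ((nat_lit 191), (nat_lit 1)), ((nat_lit 192), (nat_lit 3)), ((nat_lit 193), (nat_lit 2)), ((nat_lit 194), (nat_lit 3)), ((nat_lit 198), (nat_lit 1)), ((nat_lit 202), (nat_lit 1)), ((nat_lit 203), (nat_lit 2)), ((nat_lit 204), (nat_lit 2)), ((nat_lit 207), (nat_lit 2))]⟩,
  ⟨true, (nat_lit 0), [nat_lit 0, nat_lit 1], [nat_lit 1, nat_lit 0], [((nat_lit 57), (nat_lit 3)), ((nat_lit 129), (nat_lit 1)), ((nat_lit 145), (nat_lit 1)), ((nat_lit 157), (nat_lit 1)), ((nat_lit 169), (nat_lit 3)), ((nat_lit 171), (nat_lit 1)), ((nat_lit 176), (nat_lit 3)), ((nat_lit 178), (nat_lit 3)), ((nat_lit 197), (nat_lit 3)), ((nat_lit 199), (nat_lit 1)), ((nat_lit 204), (nat_lit 3)), ((nat_lit 209), (nat_lit 1))]⟩,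
  ⟨true, (nat_lit 1), [nat_lit 2, nat_lit 3], [nat_lit 3, nat_lit 2, nat_lit 4], [((nat_lit 4), (nat_lit 1)), ((nat_lit 127), (nat_lit 3)), ((nat_lit 129), (nat_lit 1)), ((nat_lit 141), (nat_lit 3)), ((nat_lit 148), (nat_lit 3)), ((nat_lit 162), (nat_lit 1)), ((nat_lit 163), (nat_lit 1)), ((nat_lit 169), (nat_lit 3)), ((nat_lit 176), (nat_lit 3)), ((nat_lit 178), (nat_lit 3)), ((nat_lit 190), (nat_lit 3)), ((nat_lit 191), (nat_lit 3)), ((nat_lit 192), (nat_lit 3)), ((nat_lit 193), (nat_lit 3)), ((nat_lit 204), (nat_lit 1)), ((nat_lit 206), (nat_lit 3)), ((nat_lit 209), (nat_lit 3))]⟩,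
  ⟨true, (nat_lit 3), [nat_lit 5, nat_lit 6], [nat_lit 6, nat_lit 5], [((nat_lit 127), (nat_lit 1)), ((nat_lit 132), (nat_lit 1)), ((nat_lit 141), (nat_lit 1)), ((nat_lit 146), (nat_lit 1)), ((nat_lit 148), (nat_lit 3)), ((nat_lit 188), (nat_lit 1)), ((nat_lit 191), (nat_lit 1)), ((nat_lit 194), (nat_lit 1)), ((nat_lit 197), (nat_lit 3)), ((nat_lit 202), (nat_lit 3)), ((nat_lit 203), (nat_lit 3)), ((nat_lit 205), (nat_lit 1)), ((nat_lit 206), (nat_lit 3)), ((nat_lit 207), (nat_lit 3)), ((nat_lit 208), (nat_lit 2)), ((nat_lit 209), (nat_lit 1))]⟩,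
  ⟨true, (nat_lit 2), [nat_lit 7, nat_lit 8], [nat_lit 8, nat_lit 7], [((nat_lit 56), (nat_lit 1)), ((nat_lit 70), (nat_lit 1)), ((nat_lit 98), (nat_lit 1)), ((nat_lit 132), (nat_lit 1)), ((nat_lit 134), (nat_lit 1)), ((nat_lit 168), (nat_lit 1)), ((nat_lit 172), (nat_lit 1)), ((nat_lit 176), (nat_lit 1)), ((nat_lit 179), (nat_lit 1)), ((nat_lit 196), (nat_lit 3)), ((nat_lit 197), (nat_lit 3)), ((nat_lit 198), (nat_lit 3)), ((nat_lit 199), (nat_lit 3)), ((nat_lit 205), (nat_lit 3)), ((nat_lit 207), (nat_lit 1)), ((nat_lit 208), (nat_lit 3)), ((nat_lit 209), (nat_lit 2))]⟩,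
  ⟨true, (nat_lit 1), [nat_lit 2, nat_lit 9], [nat_lit 9, nat_lit 2, nat_lit 10, nat_lit 11, nat_lit 4], [((nat_lit 10), (nat_lit 1)), ((nat_lit 11), (nat_lit 1)), ((nat_lit 4), (nat_lit 1)), ((nat_lit 127), (nat_lit 3)), ((nat_lit 129), (nat_lit 3)), ((nat_lit 131), (nat_lit 1)), ((nat_lit 133), (nat_lit 3)), ((nat_lit 141), (nat_lit 3)), ((nat_lit 143), (nat_lit 3)), ((nat_lit 147), (nat_lit 3)), ((nat_lit 169), (nat_lit 3)), ((nat_lit 171), (nat_lit 3)), ((nat_lit 176), (nat_lit 1)), ((nat_lit 177), (nat_lit 1)), ((nat_lit 185), (nat_lit 3)), ((nat_lit 189), (nat_lit 3)), ((nat_lit 191), (nat_lit 3)), ((nat_lit 193), (nat_lit 2)), ((nat_lit 204), (nat_lit 1)), ((nat_lit 205), (nat_lit 3)), ((nat_lit 209), (nat_lit 3))]⟩,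
  ⟨true, (nat_lit 1), [nat_lit 3, nat_lit 12], [nat_lit 12, nat_lit 3], [((nat_lit 57), (nat_lit 2)), ((nat_lit 99), (nat_lit 1)), ((nat_lit 113), (nat_lit 1)), ((nat_lit 129), (nat_lit 3)), ((nat_lit 132), (nat_lit 3)), ((nat_lit 133), (nat_lit 3)), ((nat_lit 155), (nat_lit 1)), ((nat_lit 157), (nat_lit 3)), ((nat_lit 160), (nat_lit 3)), ((nat_lit 161), (nat_lit 3)), ((nat_lit 162), (nat_lit 1)), ((nat_lit 169), (nat_lit 1)), ((nat_lit 175), (nat_lit 1)), ((nat_lit 176), (nat_lit 1)), ((nat_lit 178), (nat_lit 2)), ((nat_lit 179), (nat_lit 1)), ((nat_lit 189), (nat_lit 1)), ((nat_lit 194), (nat_lit 1)), ((nat_lit 199), (nat_lit 3)), ((nat_lit 202), (nat_lit 3)), ((nat_lit 203), (nat_lit 1)), ((nat_lit 206), (nat_lit 1)), ((nat_lit 207), (nat_lit 3)), ((nat_lit 208), (nat_lit 1)), ((nat_lit 209), (nat_lit 3))]⟩,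
  ⟨true, (nat_lit 1), [nat_lit 13, nat_lit 3], [nat_lit 3, nat_lit 13, nat_lit 10, nat_lit 11], [((nat_lit 10), (nat_lit 1)), ((nat_lit 11), (nat_lit 1)), ((nat_lit 57), (nat_lit 3)), ((nat_lit 85), (nat_lit 3)), ((nat_lit 115), (nat_lit 1)), ((nat_lit 127), (nat_lit 1)), ((nat_lit 129), (nat_lit 1)), ((nat_lit 131), (nat_lit 1)), ((nat_lit 141), (nat_lit 3)), ((nat_lit 148), (nat_lit 3)), ((nat_lit 155), (nat_lit 1)), ((nat_lit 157), (nat_lit 1)), ((nat_lit 159), (nat_lit 1)), ((nat_lit 163), (nat_lit 1)), ((nat_lit 171), (nat_lit 3)), ((nat_lit 173), (nat_lit 3)), ((nat_lit 176), (nat_lit 1)), ((nat_lit 177), (nat_lit 1)), ((nat_lit 178), (nat_lit 2)), ((nat_lit 179), (nat_lit 1)), ((nat_lit 183), (nat_lit 3)), ((nat_lit 185), (nat_lit 1)), ((nat_lit 187), (nat_lit 1)), ((nat_lit 192), (nat_lit 2)), ((nat_lit 193), (nat_lit 1)), ((nat_lit 194), (nat_lit 1)), ((nat_lit 204), (nat_lit 3)), ((nat_lit 206), (nat_lit 3)), ((nat_lit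 207), (nat_lit 2)), ((nat_lit 208), (nat_lit 3)), ((nat_lit 209), (nat_lit 1))]⟩]
noncomputable def Ds2 : List (List (ℕ × ℕ)) := I2_0.map Pc.Idn.D
noncomputable def S2 : List (List (ℕ × ℕ)) := [[],
  [],
  [],
  [((nat_lit 28), (nat_lit 1))],
  [((nat_lit 42), (nat_lit 1))],
  [((nat_lit 43), (nat_lit 1))],
  [((nat_lit 58), (nat_lit 1))],
  [((nat_lit 71), (nat_lit 1))],
  [((nat_lit 98), (nat_lit 1))],
  [((nat_lit 114), (nat_lit 1))],
  [((nat_lit 128), (nat_lit 1))],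
  [((nat_lit 155), (nat_lit 1))],
  [((nat_lit 170), (nat_lit 1))],
  [((nat_lit 182), (nat_lit 1))]]
noncomputable def Yo2 : List (List (ℕ × ℕ) × ℕ × ℕ) := [([((nat_lit 42), (nat_lit 2)), ((nat_lit 56), (nat_lit 2)), ((nat_lit 59), (nat_lit 2)), ((nat_lit 70), (nat_lit 1)), ((nat_lit 74), (nat_lit 3)), ((nat_lit 85), (nat_lit 1))], (nat_lit 2), nat_lit 0x800000800082000082820229be003a2aa7bd1a0f44988001e83b0ea08c2d908b20461)]
noncomputable def La2 : List ℕ := [nat_lit 0,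
  nat_lit 0,
  nat_lit 0,
  nat_lit 0,
  nat_lit 0,
  nat_lit 0,
  nat_lit 0,
  nat_lit 0,
  nat_lit 0,
  nat_lit 0,
  nat_lit 0,
  nat_lit 0,
  nat_lit 0,
  nat_lit 0,
  nat_lit 0,
  nat_lit 0,
  nat_lit 0,
  nat_lit 0,
  nat_lit 0,
  nat_lit 0,
  nat_lit 0,
  nat_lit 0,
  nat_lit 0,
  nat_lit 0,
  nat_lit 0,
  nat_lit 0,
  nat_lit 0,
  nat_lit 0,
  nat_lit 0,
  nat_lit 0,
  nat_lit 0,
  nat_lit 0,
  nat_lit 0,
  nat_lit 0,
  nat_lit 0,
  nat_lit 0,
  nat_lit 0,
  nat_lit 0,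
  nat_lit 0,
  nat_lit 0,
  nat_lit 0,
  nat_lit 0,
  nat_lit 0x30000808003000200384e28200088e237d62f8a2160a23dbd5098ba88db3451288e99c,
  nat_lit 0x100008020a8080200060c988100c4200f423991f2c0f37414d2706e811b9ec86c6fe8c,
  nat_lit 0,
  nat_lit 0x3000080808a080200124e80820008ea15d524a803e0e81d977218121bf892d9a3a8344,
  nat_lit 0,
  nat_lit 0,
  nat_lit 0,
  nat_lit 0,
  nat_lit 0,
  nat_lit 0,
  nat_lit 0,
  nat_lit 0,
  nat_lit 0,
  nat_lit 0,
  nat_lit 0x2a692000220ba10a02b8ce4d90da2060ebddad663252a6773de01e99e739b420a9987ea3e,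
  nat_lit 0,
  nat_lit 0x8a176538c8eb07846dd5d24b3b47b56944d634e04a398d4f7359b93d41b564f3701ea358,
  nat_lit 0x80008220c2820c0b032803138220a686340e7fa74b0ac8b62e58536c2a1cae19ce11c0e0,
  nat_lit 0x22692000b3070bb304a8cd3c06586870a03f415933e1e5a6ab36bc8df6d4174303eaba59a,
  nat_lit 0,
  nat_lit 0,
  nat_lit 0,
  nat_lit 0,
  nat_lit 0,
  nat_lit 0,
  nat_lit 0,
  nat_lit 0,
  nat_lit 0,
  nat_lit 0x2a2a01980e704026e812bf63c5c28d0fed0a31c930a02e5cea79859205ed8dd9efb9f2026,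
  nat_lit 0x8000000910ca8b9063003f3b6824810c962e635019343f3be56a23413cda16baa5044f0d,
  nat_lit 0x43112e00854d68c80a604a4786e127fecec180c60e16b819031ba4cfc9732774a4d2f19c,
  nat_lit 0xc3020a080e07480006be8afcdfa200e2503ead3fa037a7cb8627ac91a5e5f6bba6b65b5c,
  nat_lit 0x178502d8391ef0a988e3406946d3865ff72d1d795fc39a53a7c0c843d1e99373607fdf741,
  nat_lit 0x820000033a4a8930c94ab919c01c834a3e29904819089f1d7e058660a772baa83e16fc4f,
  nat_lit 0,
  nat_lit 0,
  nat_lit 0,
  nat_lit 0,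
  nat_lit 0,
  nat_lit 0,
  nat_lit 0,
  nat_lit 0,
  nat_lit 0,
  nat_lit 0x358d02681bba70af88f08221ed908e655f2da7e05de1e22b3dc2c052f058085bc28897dcb,
  nat_lit 0x1f852e597516d22dcb6bef414898ad7d830dff6e7c639cbd46e29795d5b9abe9a5fc76399,
  nat_lit 0x319f22c81baa722b881a3381e24aae6b230790d6ec70441f7ed5bcb0c01c0f63834bde05b,
  nat_lit 0x80a8c80200889ab082004882422a2811306c15a2b2d512cb1c62823e12c8c20,
  nat_lit 0x31bf22c89bfa0e27881a400e0ae8aee33204d3ed6743bc1def8924f3509658043045e1787,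
  nat_lit 0x319f22c81baa722b881a33c9e24bae6ec30725ccc651c477bcffdc68f134870021324793b,
  nat_lit 0,
  nat_lit 0,
  nat_lit 0,
  nat_lit 0,
  nat_lit 0,
  nat_lit 0,
  nat_lit 0,
  nat_lit 0x80008230c488ac8b232089fb8a00a60b1e2d2e651a1883301672824f998392083f340de4,
  nat_lit 0x138502e8b91ad0ad8a5066cc6d3386e304ad5a4959421a653d30c9836f51c818dc9b8ee2d,
  nat_lit 0,
  nat_lit 0x13972248397ad22988ba450e5a6aa6291a0731667d009432bc837c930f9cae3c63de6ac41,
  nat_lit 0x1020a080202084036a29cb174920c28d80c1220570fe8fa86fb5804acfc9c51c6126ca4,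
  nat_lit 0x39ad22e81b3250a78af88686c7eaaecf6e2dadd1f8731809d595f85a5dfa4018f23c1b35f,
  nat_lit 0x80200200028cc0400a2cd025e2300e0860b0a22184100835ba6f0c97753d4d1d35a2516c,
  nat_lit 0x138502e8b93ad0ad88508e044d20866fe4ad6f5350d31a037f33c9fad75882736e5e3134d,
  nat_lit 0,
  nat_lit 0,
  nat_lit 0,
  nat_lit 0,
  nat_lit 0,
  nat_lit 0,
  nat_lit 0x222a008022a08202002022909880084aa86a8aa5bbf264712a3a9cb0e1a38eaaa0ba4e662,
  nat_lit 0x319d22c81b3a502b881a0fcfda4baeafe92d25fbf7816484d7549c58b7a4a8a6a09c1f573,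
  nat_lit 0,
  nat_lit 0x20000000208a000080888682000008022200252a22a848e2892802281be443120000a80,
  nat_lit 0x200000000000080280028a2a8200800a00820a0b90688781987a0081aa0a2889be18408,
  nat_lit 0x2a2a00a0a28c28020002e3ca26020816e608d4882090a846418e2a4100f830cd0b08270c6,
  nat_lit 0x220a008022a0828a02a0200ab20208c2822a08a587f2407faa911230620f8c8a28ae506ea,
  nat_lit 0x200000000000080280028a2a8200801a00820a0b90688a81987a0081aa0a2889bd18408,
  nat_lit 0x220a008022a0828a02a00882b20008ca02ea228faff0c077a8b3b29049068c10ea3c7a4ea,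
  nat_lit 0,
  nat_lit 0,
  nat_lit 0,
  nat_lit 0,
  nat_lit 0,
  nat_lit 0x229a200492aaa09e0f58e173b8eae0a0898a530d2e11af1e6d6c466db18f8ba2ab31d79ce,
  nat_lit 0x318d22c81b3a50a7889ae40ec348aee3c22d25fbd871308dd59852017f31e28a1a9e301ff,
  nat_lit 0x8022080c0684604010807c3f049206665a9753c78c25ae1107b8904ef11f3001c93902fc,
  nat_lit 0x220a008802a0422a0880044ad8238cc64aaabe9595f0eabfa39208284c97dbb6504460c3a,
  nat_lit 0x82000208084000102a20b82280200bc8600c93baa31c8e8889df888bbb238ae8019a698c,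
  nat_lit 0x100040000000000000000000000c800000000004001000,
  nat_lit 0x20000820008a240aa08b02a8208400aaa2092507b2c240a893120a2a962457cbaf3c6d4,
  nat_lit 0x2000c0000000000000000000000480000000000c003000,
  nat_lit 0x220a00880280082a0880c0c303818c0ee188959087919af44171d841321628c5026d435ca,
  nat_lit 0x800002000280008022248ca06a00020ca00b51a2221c0e441b0523339db60f179b1ac968,
  nat_lit 0,
  nat_lit 0,
  nat_lit 0,
  nat_lit 0,
  nat_lit 0x220a008022202a0200a0820822820802802808ad806020c0082100a20022a67b620a2e042,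
  nat_lit 0,
  nat_lit 0x820020302e8a130c1243b9a882c8548728199ba0c2c1827ed243dfe388a782265d1528c,
  nat_lit 0x222a0080a2200a0a0220048218000842a228c8ad1950c8598a945ab8cf986457f85cc2cea,
  nat_lit 0x222a008022202a0a02208082080008c28a288aa78bf0484789b97aa24188ac57ebb43644a,
  nat_lit 0x220a00802220a00a00a08b888a22088a080aa182a280208a2a2182828aa0404338a30a83e,
  nat_lit 0x200000000000880280028a2a8200882a0082001400280e82ab4a8083ae02080a1812088,
  nat_lit 0x20000000a02200028042c32081008cc120171721319816c06cb94bb1100c1cccf7efda8,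
  nat_lit 0x28200000802080000a240008a2810048208322880c211aa0000,
  nat_lit 0x222a008802202a2a0a002a0202008c0222a8828d862022e883af41080b05a4e1ac5aa48e2,
  nat_lit 0x28200000802080000a2c0008a28300c820812e8804233aa0000,
  nat_lit 0,
  nat_lit 0,
  nat_lit 0,
  nat_lit 0xa022000000144a180300ccca20171d39f1a09b41ab00487c9bc92c91cfc7dc0,
  nat_lit 4,
  nat_lit 0,
  nat_lit 0x20000000000000000080820020088000a802222a080a2a828a0a08802262880888a808,
  nat_lit 0x220a00802200a00a02a06040aa010806680a9fb8ab33206ce82182db12b9caaa9a6f957ea,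
  nat_lit 0x200080000000000000000000000cc00000000008001000,
  nat_lit 0x220a00802220a00a00a008088a820882880a0aa2e0a22032aa2aa078aaa2800020a8632aa,
  nat_lit 0x220a00802220a00a00a008088a800882880a0aa2a0a22042aa29a020aaa08020a0a8202aa,
  nat_lit 0x10000000000000000000000000000000000,
  nat_lit 0x220800802220a00a0020a880828008820000a0aaa0a0a08a900a00228a032130422a20022,
  nat_lit 0x220a00802220280200a082082282080280080aa380202040082100a200029882220826022,
  nat_lit 0x220a00802220280200a082082282080280080aa1802020c0082300a20002a88222082e022,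
  nat_lit 0,
  nat_lit 0,
  nat_lit 0,
  nat_lit 0x220a00802220a00a00a088888a22088a080aa182a280208a2a2182828a90404338a30a83a,
  nat_lit 0x8000020002800080222604a26a000a44e009f300083c0c6c3ba52fb91f8e0289bfb253e8,
  nat_lit 0x222a00802200a0020020220280800882020a22a888a0882ae8a8282080384a003280ac082,
  nat_lit 0x2000000000000802802a020a8000008a00a82a2802a82c82892a0028ab02b24a8880288,
  nat_lit 0x220a00802220a00a00a008088a80088a880a0aa2a0a22002aa2aa0b0aaa08020a028222aa,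
  nat_lit 0x4000,
  nat_lit 0x100000,
  nat_lit 0x20000000022080000220e00002000000022a20800,
  nat_lit 0x800000000000000000004008000000000008002000,
  nat_lit 0x200000000000000000000000000000001000010c0001c0000008,
  nat_lit 0x20000000000000200000020c082100200020,
  nat_lit 0x200000000000002000000104082300200020,
  nat_lit 0,
  nat_lit 0x220a008022202a0200a0820822820802802808a780202040082300a20020aeba620a260c2,
  nat_lit 0x20000000000000000080820020088000a802222a080a2a828a0a08802232880888a808,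
  nat_lit 0x8080880802000a82a08200808a02e828a080a08220a402888a30e2e198e022088,
  nat_lit 0x40,
  nat_lit 0x28882002008080002a2021b240a20133f000ab0308ba411eb8e80,
  nat_lit 0x2000800000000000000000000004800000000008003000,
  nat_lit 0x2000000080a8000080a080aa020080280282020882081aa22aa8b2a2a9a010e228ea220,
  nat_lit 0x800000000000000000001008000000000008002000,
  nat_lit 0x28882002008880002a2022a200a202000080a90308ba42ba8aa80,
  nat_lit 0x4000000,
  nat_lit 0x28802002008880002a20222200a282000080a82388b6628a82a00,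
  nat_lit 0x30200000000000,
  nat_lit 0x28802002008880002a2a22a2002282020080a821807b628a8aa80,
  nat_lit 0x28802002008880002a2a22a2002282020080a8218038628a8aa80]
noncomputable def Wsx2 : List (List ℕ) := [[nat_lit 8, nat_lit 11],
  [nat_lit 13],
  [nat_lit 10, nat_lit 11],
  [nat_lit 6, nat_lit 9, nat_lit 11, nat_lit 12],
  [nat_lit 8],
  [nat_lit 12],
  [nat_lit 4],
  [nat_lit 7, nat_lit 9],
  [nat_lit 6],
  [nat_lit 3, nat_lit 5],
  [nat_lit 0, nat_lit 2, nat_lit 5],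
  [nat_lit 2],
  [nat_lit 0],
  [nat_lit 1]]
noncomputable def LDx2_8d : ℕ := nat_lit 0
noncomputable def LDx2_8 (u : ℕ) : ℕ := Nat.land (Nat.shiftRight LDx2_8d (Nat.mul u (nat_lit 1))) (nat_lit 1)
noncomputable def Ptx2_8d : ℕ := nat_lit 0xc800
noncomputable def Ptx2_8 (u : ℕ) : ℕ := Nat.land (Nat.shiftRight Ptx2_8d (Nat.mul u (nat_lit 8))) (nat_lit 255)
noncomputable def Qx2_8d : ℕ := nat_lit 0x100000000000000000000000000000000000000000000000000
noncomputable def Qx2_8 (u : ℕ) : ℕ := Nat.land (Nat.shiftRight Qx2_8d (Nat.mul u (nat_lit 1))) (nat_lit 1)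
noncomputable def lx2_8 : Lev := ⟨2, 1, LDx2_8, Ptx2_8, Qx2_8⟩
noncomputable def LDx2_7d : ℕ := nat_lit 0xa88
noncomputable def LDx2_7 (u : ℕ) : ℕ := Nat.land (Nat.shiftRight LDx2_7d (Nat.mul u (nat_lit 3))) (nat_lit 7)
noncomputable def Ptx2_7d : ℕ := nat_lit 0xf7ca63a99003
noncomputable def Ptx2_7 (u : ℕ) : ℕ := Nat.land (Nat.shiftRight Ptx2_7d (Nat.mul u (nat_lit 12))) (nat_lit 4095)
noncomputable def Qx2_7d : ℕ := nat_lit 0x3000000000000000000000000000000000000000000000000000000000000000000000000000000000000000000000000000000000000000000000000000000000000000000000000000000000000000000000000000000000000000000000000000000000000000000000000000000000000000000000000000000000000000000000000000000000000000000000000000000000000000000000000000000000000000000000000000000000000000000000000000000000000000000000000000000000000000000000000000000000000000000000000000000000000000000000000000000000000000000000000000000000000000000000000000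00000000000000000000000000000000000000000000000000000000000000000000000000000000000000000000000000000000000000000000004000000000000000000000000008000000000000000000000000000000000000000000000000000000000000000000000000000000000000000000000000000000000000000000000000000000000000000000000000000000000000000000000000000000000000000000000000000000000000000000000000000000000000000000000000000000000000000000000000000000000000000000000000000000000000000000000000000000000000000000000000000000000000000000000000000000000000000000000000000000000000000000000000000000000000000000000000000000000000000000000000000000000000000000000000000000000000000000000000000000000000000000000000000000000000000000000000000000000000000000000000000000000000000000000000000000000000000000000000000000000000000000000000000000000000000000000000000000000000000000000000000000000000000000000000000000000000000000000000000000000000000000000000000000000000000000000000000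000000000000000000000000000000000000000000000000000000000000000000000000000000000000000000000000000000000000000000000000000000000000000000000000000000000000000000000000000000000000000000000000000000000000000000000000000000000000000000000000000000000000000000000000000000000000000000000000000000000000000000000000000000000000000000000000000000000000000000000000000000000000000000000000000000000000000000000000000000000000000000000000000000000000000000000000000000000000000000000000000000000000000000000000000000000000000000000000000000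
noncomputable def Qx2_7 (u : ℕ) : ℕ := Nat.land (Nat.shiftRight Qx2_7d (Nat.mul u (nat_lit 2))) (nat_lit 3)
noncomputable def lx2_7 : Lev := ⟨4, 3, LDx2_7, Ptx2_7, Qx2_7⟩
noncomputable def LDx2_6d : ℕ := nat_lit 0xc
noncomputable def LDx2_6 (u : ℕ) : ℕ := Nat.land (Nat.shiftRight LDx2_6d (Nat.mul u (nat_lit 2))) (nat_lit 3)
noncomputable def Ptx2_6d : ℕ := nat_lit 0xea60f3
noncomputable def Ptx2_6 (u : ℕ) : ℕ := Nat.land (Nat.shiftRight Ptx2_6d (Nat.mul u (nat_lit 12))) (nat_lit 4095)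
noncomputable def Qx2_6d : ℕ := nat_lit 0x40000000000000000000000000000000000000000000000000000000000000000000000000000000000000000000000000000000000000000000000000000000000000000000000000000000000000000000000000000000000000000000000000000000000000000000000000000000000000000000000000000000000000000000000000000000000000000000000000000000000000000000000000000000000000000000000000000000000000000000000000000000000000000000000000000000000000000000000000000000000000000000000000000000000000000000000000000000000000000000000000000000000000000000000000000000000000000000000000000000000000000000000000000000000000000000000000000000000000000000000000000000000000000000000000000000000000000000000000000000000000000000000000000000000000000000000000000000000000000000000000000000000000000000000000000000000000000000000000000000000000000000000000000000000000000000000000000000000000000000000000000000000000000000000000000000000000000000000000000000000000000000000000000000000000000000000000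
noncomputable def Qx2_6 (u : ℕ) : ℕ := Nat.land (Nat.shiftRight Qx2_6d (Nat.mul u (nat_lit 1))) (nat_lit 1)
noncomputable def lx2_6 : Lev := ⟨2, 4, LDx2_6, Ptx2_6, Qx2_6⟩
noncomputable def LDx2_5d : ℕ := nat_lit 0xb540
noncomputable def LDx2_5 (u : ℕ) : ℕ := Nat.land (Nat.shiftRight LDx2_5d (Nat.mul u (nat_lit 4))) (nat_lit 15)
noncomputable def Ptx2_5d : ℕ := nat_lit 0x403bebe3204c
noncomputable def Ptx2_5 (u : ℕ) : ℕ := Nat.land (Nat.shiftRight Ptx2_5d (Nat.mul u (nat_lit 12))) (nat_lit 4095)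
noncomputable def Qx2_5d : ℕ := nat_lit 0x1000000000000000000000000000000000000000000000000000000000000000000000000000000000000000000000000000000000000000000000000000000000000000000000000000000000000000000000000000000000000000000000000000000000000000000000000000000000000000000000000000000000000000000000000000000000000000000000000000800000000000000000000000000000000000000000000000000000000000000000000000000000000000000000000000000000000000000000000000000000000000000000000000000000000000000000000000000000000000000000000000000000000000000000000000000000000000000000000000000000000000000000000000000000000000000000000000000000000000000000000000000000000000000000000000000000000000000000000000000000000000000000000000000000000000000000000000000000000000000000000000000000000000000000000000000000000000000000000000000000000000000000000000000000000000000000000000000000000000000000000000000000000000000000000000000000000000000000000000000000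0000000000000000000000000000000000000000000000000000000000000000000000000000000000000000000000000000000000000000000000000000000000000000000000000000000000000000000000000000000000000000000000000000000000000000000000000000000000000000000000000000000000000000000000000000000000000000000000000000000000000000000000000000000000000000000000000000000000000000000000000000000000000000000000000000000000000000000000c000000000000000000000000000000000000000000000000000000000000000000000000000000000000000000000000000000000000000000000000000000000000000000000000000000000000000000000000000000000000000000000000000000000000000000000000000000000000000000000000000000000000000000000000000000000000000000000000000000000000000000000000000000000000000000000000000000000000000000000000000000000000000000000000000000000000000000000000000000000000000000000000000000000000000000000000000000000000000000000000000000000000000000000000000000000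
noncomputable def Qx2_5 (u : ℕ) : ℕ := Nat.land (Nat.shiftRight Qx2_5d (Nat.mul u (nat_lit 2))) (nat_lit 3)
noncomputable def lx2_5 : Lev := ⟨4, 6, LDx2_5, Ptx2_5, Qx2_5⟩
noncomputable def LDx2_4d : ℕ := nat_lit 0x30
noncomputable def LDx2_4 (u : ℕ) : ℕ := Nat.land (Nat.shiftRight LDx2_4d (Nat.mul u (nat_lit 3))) (nat_lit 7)
noncomputable def Ptx2_4d : ℕ := nat_lit 0xd4246b
noncomputable def Ptx2_4 (u : ℕ) : ℕ := Nat.land (Nat.shiftRight Ptx2_4d (Nat.mul u (nat_lit 12))) (nat_lit 4095)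
noncomputable def Qx2_4d : ℕ := nat_lit 0x400000000000000000000000000000000000000000000000000000000000000000000000000000000000000000000000000000000000000000000000000000000000000000000000000000000000000000000000000000000000000000000000000000000000000000000000000000000000000000000000000000000000000000000000000000000000000000000000000000000000000000000000000000000000000000000000000000000000000000000000000000000000000000000000000000000000000000000000000000000000000000000000000000000000000000000000000000000000000000000000000000000000000000000000000000000000000000000000000000000000000000000000000000000000000000000000000000000000000000000000000000000000000000000000000000000000000000000000000000000000000000000000000000000000000000000000000000000000000000000000000000000000000000000000000000000000000000000000000000000000000000000000000000000000000000000000000000000000000000000000000000000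
noncomputable def Qx2_4 (u : ℕ) : ℕ := Nat.land (Nat.shiftRight Qx2_4d (Nat.mul u (nat_lit 1))) (nat_lit 1)
noncomputable def lx2_4 : Lev := ⟨2, 7, LDx2_4, Ptx2_4, Qx2_4⟩
noncomputable def LDx2_3d : ℕ := nat_lit 0x38
noncomputable def LDx2_3 (u : ℕ) : ℕ := Nat.land (Nat.shiftRight LDx2_3d (Nat.mul u (nat_lit 3))) (nat_lit 7)
noncomputable def Ptx2_3d : ℕ := nat_lit 0xc98467
noncomputable def Ptx2_3 (u : ℕ) : ℕ := Nat.land (Nat.shiftRight Ptx2_3d (Nat.mul u (nat_lit 12))) (nat_lit 4095)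
noncomputable def Qx2_3d : ℕ := nat_lit 0x100000000000000000000000000000000000000000000000000000000000000000000000000000000000000000000000000000000000000000000000000000000000000000000000000000000000000000000000000000000000000000000000000000000000000000000000000000000000000000000000000000000000000000000000000000000000000000000000000000000000000000000000000000000000000000000000000000000000000000000000000000000000000000000000000000000000000000000000000000000000000000000000000000000000000000000000000000000000000000000000000000000000000000000000000000000000000000000000000000000000000000000000000000000000000000000000000000000000000000000000000000000000000000000000000000000000000000000000000000000000000000000000000000000000000000000000000000000000000000000000000000000000000000000000000000000000000000000000000000000000000000000000000000000000000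
noncomputable def Qx2_3 (u : ℕ) : ℕ := Nat.land (Nat.shiftRight Qx2_3d (Nat.mul u (nat_lit 1))) (nat_lit 1)
noncomputable def lx2_3 : Lev := ⟨2, 8, LDx2_3, Ptx2_3, Qx2_3⟩
noncomputable def LDx2_2d : ℕ := nat_lit 0xda0554289200
noncomputable def LDx2_2 (u : ℕ) : ℕ := Nat.land (Nat.shiftRight LDx2_2d (Nat.mul u (nat_lit 6))) (nat_lit 63)
noncomputable def Ptx2_2d : ℕ := nat_lit 0xc98467d27d4280146b480090
noncomputable def Ptx2_2 (u : ℕ) : ℕ := Nat.land (Nat.shiftRight Ptx2_2d (Nat.mul u (nat_lit 12))) (nat_lit 4095)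
noncomputable def Qx2_2d : BT := (.node (.node (.leaf (nat_lit 0)) (.leaf (nat_lit 0x18))) (.node (.leaf (nat_lit 0x1000000000000000400c00000000000000000000000000000000000000000000000000000000000000000000000000000)) (.leaf (nat_lit 0x100000000000000000000a00000000000000000000000000000000000000000000000000000000000000000000000000000000000000000000000000000000007000000000000000000000000000000000000000000000000000000000000000000000000000000000000000000000000000000000000000000))))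
noncomputable def Qx2_2 (u : ℕ) : ℕ := force (Nat.shiftRight u (nat_lit 10)) fun j => Nat.land (Nat.shiftRight (Qx2_2d.get j) (Nat.mul (Nat.land u (nat_lit 1023)) (nat_lit 3))) (nat_lit 7)
noncomputable def lx2_2 : Lev := ⟨8, 11, LDx2_2, Ptx2_2, Qx2_2⟩
noncomputable def LDx2_1d : ℕ := nat_lit 0xb0
noncomputable def LDx2_1 (u : ℕ) : ℕ := Nat.land (Nat.shiftRight LDx2_1d (Nat.mul u (nat_lit 4))) (nat_lit 15)
noncomputable def Ptx2_1d : ℕ := nat_lit 0xef3c75
noncomputable def Ptx2_1 (u : ℕ) : ℕ := Nat.land (Nat.shiftRight Ptx2_1d (Nat.mul u (nat_lit 12))) (nat_lit 4095)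
noncomputable def Qx2_1d : ℕ := nat_lit 0x800000000000000000000000000000000000000000000000000000000000000000000000000000000000000000000000000000000000000000000000000000000000000000000000000000000000000000000000000000000000000000000000000000000000000000000000000000000000000000000000000000000000000000000000000000000000000000000000000000000000000000000000000000000000000000000000000000000000000000000000000000000000000000000000000000000000000000000000000000000000000000000000000000000000000000000000000000000000000000000000000000000000000000000000000000000000000000000000000000000000000000000000000000000000000000000000000000000000000000000000000000000000000000000000000000000000000000000000000000000000000000000000000000000000000000000000000000000000000000000000000000000000000000000000000000000000000000000000000000000000000000000000000000000000000000000000000000000000000000000000000000000000000000000000000000000000000000000000000000000000000000000000000000000000000000000000000000000000000000000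
noncomputable def Qx2_1 (u : ℕ) : ℕ := Nat.land (Nat.shiftRight Qx2_1d (Nat.mul u (nat_lit 1))) (nat_lit 1)
noncomputable def lx2_1 : Lev := ⟨2, 12, LDx2_1, Ptx2_1, Qx2_1⟩
noncomputable def LDx2_0d : ℕ := nat_lit 0xdb580
noncomputable def LDx2_0 (u : ℕ) : ℕ := Nat.land (Nat.shiftRight LDx2_0d (Nat.mul u (nat_lit 5))) (nat_lit 31)
noncomputable def Ptx2_0d : ℕ := nat_lit 0xc75ef380b5e6
noncomputable def Ptx2_0 (u : ℕ) : ℕ := Nat.land (Nat.shiftRight Ptx2_0d (Nat.mul u (nat_lit 12))) (nat_lit 4095)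
noncomputable def Qx2_0d : ℕ := nat_lit 0x8000000000000000000000000000000000000000000000000000000000000000000000000000000000000000000000000000000000000000000000000000000000000000000000000000000000000000000000000000000000000000000000000000000000000000000000000000000000000000000000000000000000000000000000000000000000000000000000000000000000000000000000000000000c00000000000000000000000000000000000000000000000000000000000000000000000000000000000000000000000000000000000000000000000000000000000000000000000000000000000000000000000000000000000000000000000000000000000000000000000000000000000000000000000000000000000000000000000000000000000000000000000000000000000000000000000000000000000000000000000000000000000000000000000000000000000000000000000000000000000000000000000000000000000000000000000000000000000000000000000000000000000000000000000000000000000000000000000000000000000000000000000000000000000000000000000000000000000040000000000000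00000000000000000000000000000000000000000000000000000000000000000000000000000000000000000000000000000000000000000000000000000000000000000000000000000000000000000000000000000000000000000000000000000000000000000000000000000000000000000000000000000000000000000000000000000000000000000000000000000000000000000000000000000000000000000000000000000000000000000000000000000000000000000000000000000000000000000000000000000000000000000000000000000000000000000000000000000000000000000000000000000000000000000000000000000000000000000000000000000000000000000000000000000000000000000000000000000000000000000000000000000000000000000000000000000000000000000000000000000000000000000000000000000000000000000000000000000000000000000000000000000000000000000000000000000000000000000000000000000000000000000000000000000000000000000000000000000000000000000000000000000000000000000000000000000000000000000000000000000000000000000000000000000000000000000000000000000000000000000000000000000000000000000000000000000000000000000000000000000000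
noncomputable def Qx2_0 (u : ℕ) : ℕ := Nat.land (Nat.shiftRight Qx2_0d (Nat.mul u (nat_lit 2))) (nat_lit 3)
noncomputable def lx2_0 : Lev := ⟨4, 14, LDx2_0, Ptx2_0, Qx2_0⟩
noncomputable def Lx2 : List Lev := [lx2_0, lx2_1, lx2_2, lx2_3, lx2_4, lx2_5, lx2_6, lx2_7, lx2_8]
noncomputable def Bx2 : List ℕ := [nat_lit 1510, nat_lit 3189, nat_lit 144, nat_lit 1127, nat_lit 1131, nat_lit 76, nat_lit 243, nat_lit 3, nat_lit 0]

theorem id5_0 : c5.idnChk (nat_lit 43) I5_0 = true := by decide +kernel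
theorem rw5_0 : c5.rowChk S5 (Yo5.map (·.1) ++ Ds5) La5 (nat_lit 0) (nat_lit 9) = true := by decide +kernel
theorem ord5 : c5.ordChk Yo5 Ds5 = true := by decide +kernel
theorem rule5_0 : allZ (c5.ruleEnt (wdsP H15.Ru.P Us5) H15.Ru.B) (nat_lit 0) (nat_lit 9) = true := by decide +kernel
theorem fus5_0 : allZ (c5.fusEnt (wdsP H15.Ru.P Us5) (wdsP H15.Ru.P Fs5) H15.Ru.B) (nat_lit 0) (nat_lit 4) = true := by decide +kernel
theorem lvx5_2e_0 : allZ (lx5_2.ent (wdsP (wdsP H15.Ru.P Us5) Wsx5)) (nat_lit 0) (nat_lit 4) = true := by decide +kernel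
theorem lvx5_2b : 0 < lx5_2.n ∧ 0 < lx5_2.K ∧ lx5_2.Pt 0 < 4060 ∧ lx5_2.Q (lx5_2.Pt 0) = 0 ∧ 0 ≤ lx5_2.K ∧ fixLetters (wdsP (wdsP H15.Ru.P Us5) Wsx5) (nat_lit 0) (lx5_2.Pt 0) = true := by decide +kernel
theorem lvx5_1e_0 : allZ (lx5_1.ent (wdsP (wdsP H15.Ru.P Us5) Wsx5)) (nat_lit 0) (nat_lit 4) = true := by decide +kernel
theorem lvx5_1b : 0 < lx5_1.n ∧ 0 < lx5_1.K ∧ lx5_1.Pt 0 < 4060 ∧ lx5_1.Q (lx5_1.Pt 0) = 0 ∧ 1 ≤ lx5_1.K ∧ fixLetters (wdsP (wdsP H15.Ru.P Us5) Wsx5) (nat_lit 1) (lx5_1.Pt 0) = true := by decide +kernel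
theorem lvx5_0e_0 : allZ (lx5_0.ent (wdsP (wdsP H15.Ru.P Us5) Wsx5)) (nat_lit 0) (nat_lit 4) = true := by decide +kernel
theorem lvx5_0b : 0 < lx5_0.n ∧ 0 < lx5_0.K ∧ lx5_0.Pt 0 < 4060 ∧ lx5_0.Q (lx5_0.Pt 0) = 0 ∧ 2 ≤ lx5_0.K ∧ fixLetters (wdsP (wdsP H15.Ru.P Us5) Wsx5) (nat_lit 2) (lx5_0.Pt 0) = true := by decide +kernel
theorem basex5 : chainBase Lx5 = Bx5 ∧ ltAll (nat_lit 4060) Bx5 = 0 ∧ topK Lx5 = 3 := by decide +kernel
theorem h0_5 : allL (ltAll 7) Us5 = true ∧ allL (ltAll 7) Fs5 = true ∧ Us5.length ≤ c5.n ∧ 0 < 145926144000 := by decide +kernel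
theorem h1_5 : allL (ltAll c5.n) Wsx5 = true ∧ chainCard Lx5 = (c5.p1 + 1) ^ c5.n ∧ c5.n * c5.n = 9 := by decide +kernel
theorem h2_5 : c5.Fmt ∧ c5.p1 + 1 = 5 ∧ c5.N1 + 1 = 5 ^ (0 + 1) ∧ 145926144000 = 5 ^ c5.n * (145926144000 / 5 ^ c5.n) ∧
    Nat.Coprime (145926144000 / 5 ^ c5.n) (c5.N1 + 1) ∧ (Yo5.map (·.2.1)).prod ≤ 5 ^ 0 ∧ c5.n * c5.n = 9 := by decide +kernel
theorem h3_5 : c5.C = 4 := by decide +kernel
theorem id3_0 : c3.idnChk (nat_lit 21) I3_0 = true := by decide +kernel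
theorem rw3_0 : c3.rowChk S3 (Yo3.map (·.1) ++ Ds3) La3 (nat_lit 0) (nat_lit 9) = true := by decide +kernel
theorem ord3 : c3.ordChk Yo3 Ds3 = true := by decide +kernel
theorem rule3_0 : allZ (c3.ruleEnt (wdsP H15.Ru.P Us3) H15.Ru.B) (nat_lit 0) (nat_lit 9) = true := by decide +kernel
theorem fus3_0 : allZ (c3.fusEnt (wdsP H15.Ru.P Us3) (wdsP H15.Ru.P Fs3) H15.Ru.B) (nat_lit 0) (nat_lit 4) = true := by decide +kernel
theorem lvx3_1e_0 : allZ (lx3_1.ent (wdsP (wdsP H15.Ru.P Us3) Wsx3)) (nat_lit 0) (nat_lit 2) = true := by decide +kernel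
theorem lvx3_1b : 0 < lx3_1.n ∧ 0 < lx3_1.K ∧ lx3_1.Pt 0 < 4060 ∧ lx3_1.Q (lx3_1.Pt 0) = 0 ∧ 0 ≤ lx3_1.K ∧ fixLetters (wdsP (wdsP H15.Ru.P Us3) Wsx3) (nat_lit 0) (lx3_1.Pt 0) = true := by decide +kernel
theorem lvx3_0e_0 : allZ (lx3_0.ent (wdsP (wdsP H15.Ru.P Us3) Wsx3)) (nat_lit 0) (nat_lit 8) = true := by decide +kernel
theorem lvx3_0b : 0 < lx3_0.n ∧ 0 < lx3_0.K ∧ lx3_0.Pt 0 < 4060 ∧ lx3_0.Q (lx3_0.Pt 0) = 0 ∧ 1 ≤ lx3_0.K ∧ fixLetters (wdsP (wdsP H15.Ru.P Us3) Wsx3) (nat_lit 1) (lx3_0.Pt 0) = true := by decide +kernel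
theorem basex3 : chainBase Lx3 = Bx3 ∧ ltAll (nat_lit 4060) Bx3 = 0 ∧ topK Lx3 = 3 := by decide +kernel
theorem h0_3 : allL (ltAll 7) Us3 = true ∧ allL (ltAll 7) Fs3 = true ∧ Us3.length ≤ c3.n ∧ 0 < 145926144000 := by decide +kernel
theorem h1_3 : allL (ltAll c3.n) Wsx3 = true ∧ chainCard Lx3 = (c3.p1 + 1) ^ c3.n ∧ c3.n * c3.n = 9 := by decide +kernel
theorem h2_3 : c3.Fmt ∧ c3.p1 + 1 = 3 ∧ c3.N1 + 1 = 3 ^ (0 + 1) ∧ 145926144000 = 3 ^ c3.n * (145926144000 / 3 ^ c3.n) ∧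
    Nat.Coprime (145926144000 / 3 ^ c3.n) (c3.N1 + 1) ∧ (Yo3.map (·.2.1)).prod ≤ 3 ^ 0 ∧ c3.n * c3.n = 9 := by decide +kernel
theorem h3_3 : c3.C = 4 := by decide +kernel
theorem id2_0 : c2.idnChk (nat_lit 175) I2_0 = true := by decide +kernel
theorem rw2_0 : c2.rowChk S2 (Yo2.map (·.1) ++ Ds2) La2 (nat_lit 0) (nat_lit 196) = true := by decide +kernel
theorem ord2 : c2.ordChk Yo2 Ds2 = true := by decide +kernel
theorem rule2_0 : allZ (c2.ruleEnt (wdsP H15.Ru.P Us2) H15.Ru.B) (nat_lit 0) (nat_lit 192) = true := by decide +kernel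
theorem rule2_1 : allZ (c2.ruleEnt (wdsP H15.Ru.P Us2) H15.Ru.B) (nat_lit 192) (nat_lit 4) = true := by decide +kernel
theorem fus2_0 : allZ (c2.fusEnt (wdsP H15.Ru.P Us2) (wdsP H15.Ru.P Fs2) H15.Ru.B) (nat_lit 0) (nat_lit 14) = true := by decide +kernel
theorem lvx2_8e_0 : allZ (lx2_8.ent (wdsP (wdsP H15.Ru.P Us2) Wsx2)) (nat_lit 0) (nat_lit 1) = true := by decide +kernel
theorem lvx2_8b : 0 < lx2_8.n ∧ 0 < lx2_8.K ∧ lx2_8.Pt 0 < 4060 ∧ lx2_8.Q (lx2_8.Pt 0) = 0 ∧ 0 ≤ lx2_8.K ∧ fixLetters (wdsP (wdsP H15.Ru.P Us2) Wsx2) (nat_lit 0) (lx2_8.Pt 0) = true := by decide +kernel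
theorem lvx2_7e_0 : allZ (lx2_7.ent (wdsP (wdsP H15.Ru.P Us2) Wsx2)) (nat_lit 0) (nat_lit 3) = true := by decide +kernel
theorem lvx2_7b : 0 < lx2_7.n ∧ 0 < lx2_7.K ∧ lx2_7.Pt 0 < 4060 ∧ lx2_7.Q (lx2_7.Pt 0) = 0 ∧ 1 ≤ lx2_7.K ∧ fixLetters (wdsP (wdsP H15.Ru.P Us2) Wsx2) (nat_lit 1) (lx2_7.Pt 0) = true := by decide +kernel
theorem lvx2_6e_0 : allZ (lx2_6.ent (wdsP (wdsP H15.Ru.P Us2) Wsx2)) (nat_lit 0) (nat_lit 1) = true := by decide +kernel
theorem lvx2_6b : 0 < lx2_6.n ∧ 0 < lx2_6.K ∧ lx2_6.Pt 0 < 4060 ∧ lx2_6.Q (lx2_6.Pt 0) = 0 ∧ 3 ≤ lx2_6.K ∧ fixLetters (wdsP (wdsP H15.Ru.P Us2) Wsx2) (nat_lit 3) (lx2_6.Pt 0) = true := by decide +kernel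
theorem lvx2_5e_0 : allZ (lx2_5.ent (wdsP (wdsP H15.Ru.P Us2) Wsx2)) (nat_lit 0) (nat_lit 3) = true := by decide +kernel
theorem lvx2_5b : 0 < lx2_5.n ∧ 0 < lx2_5.K ∧ lx2_5.Pt 0 < 4060 ∧ lx2_5.Q (lx2_5.Pt 0) = 0 ∧ 4 ≤ lx2_5.K ∧ fixLetters (wdsP (wdsP H15.Ru.P Us2) Wsx2) (nat_lit 4) (lx2_5.Pt 0) = true := by decide +kernel
theorem lvx2_4e_0 : allZ (lx2_4.ent (wdsP (wdsP H15.Ru.P Us2) Wsx2)) (nat_lit 0) (nat_lit 1) = true := by decide +kernel
theorem lvx2_4b : 0 < lx2_4.n ∧ 0 < lx2_4.K ∧ lx2_4.Pt 0 < 4060 ∧ lx2_4.Q (lx2_4.Pt 0) = 0 ∧ 6 ≤ lx2_4.K ∧ fixLetters (wdsP (wdsP H15.Ru.P Us2) Wsx2) (nat_lit 6) (lx2_4.Pt 0) = true := by decide +kernel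
theorem lvx2_3e_0 : allZ (lx2_3.ent (wdsP (wdsP H15.Ru.P Us2) Wsx2)) (nat_lit 0) (nat_lit 1) = true := by decide +kernel
theorem lvx2_3b : 0 < lx2_3.n ∧ 0 < lx2_3.K ∧ lx2_3.Pt 0 < 4060 ∧ lx2_3.Q (lx2_3.Pt 0) = 0 ∧ 7 ≤ lx2_3.K ∧ fixLetters (wdsP (wdsP H15.Ru.P Us2) Wsx2) (nat_lit 7) (lx2_3.Pt 0) = true := by decide +kernel
theorem lvx2_2e_0 : allZ (lx2_2.ent (wdsP (wdsP H15.Ru.P Us2) Wsx2)) (nat_lit 0) (nat_lit 7) = true := by decide +kernel
theorem lvx2_2b : 0 < lx2_2.n ∧ 0 < lx2_2.K ∧ lx2_2.Pt 0 < 4060 ∧ lx2_2.Q (lx2_2.Pt 0) = 0 ∧ 8 ≤ lx2_2.K ∧ fixLetters (wdsP (wdsP H15.Ru.P Us2) Wsx2) (nat_lit 8) (lx2_2.Pt 0) = true := by decide +kernel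
theorem lvx2_1e_0 : allZ (lx2_1.ent (wdsP (wdsP H15.Ru.P Us2) Wsx2)) (nat_lit 0) (nat_lit 1) = true := by decide +kernel
theorem lvx2_1b : 0 < lx2_1.n ∧ 0 < lx2_1.K ∧ lx2_1.Pt 0 < 4060 ∧ lx2_1.Q (lx2_1.Pt 0) = 0 ∧ 11 ≤ lx2_1.K ∧ fixLetters (wdsP (wdsP H15.Ru.P Us2) Wsx2) (nat_lit 11) (lx2_1.Pt 0) = true := by decide +kernel
theorem lvx2_0e_0 : allZ (lx2_0.ent (wdsP (wdsP H15.Ru.P Us2) Wsx2)) (nat_lit 0) (nat_lit 3) = true := by decide +kernel
theorem lvx2_0b : 0 < lx2_0.n ∧ 0 < lx2_0.K ∧ lx2_0.Pt 0 < 4060 ∧ lx2_0.Q (lx2_0.Pt 0) = 0 ∧ 12 ≤ lx2_0.K ∧ fixLetters (wdsP (wdsP H15.Ru.P Us2) Wsx2) (nat_lit 12) (lx2_0.Pt 0) = true := by decide +kernel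
theorem basex2 : chainBase Lx2 = Bx2 ∧ ltAll (nat_lit 4060) Bx2 = 0 ∧ topK Lx2 = 14 := by decide +kernel
theorem h0_2 : allL (ltAll 7) Us2 = true ∧ allL (ltAll 7) Fs2 = true ∧ Us2.length ≤ c2.n ∧ 0 < 145926144000 := by decide +kernel
theorem h1_2 : allL (ltAll c2.n) Wsx2 = true ∧ chainCard Lx2 = (c2.p1 + 1) ^ c2.n ∧ c2.n * c2.n = 196 := by decide +kernel
theorem h2_2 : c2.Fmt ∧ c2.p1 + 1 = 2 ∧ c2.N1 + 1 = 2 ^ (1 + 1) ∧ 145926144000 = 2 ^ c2.n * (145926144000 / 2 ^ c2.n) ∧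
    Nat.Coprime (145926144000 / 2 ^ c2.n) (c2.N1 + 1) ∧ (Yo2.map (·.2.1)).prod ≤ 2 ^ 1 ∧ c2.n * c2.n = 196 := by decide +kernel
theorem h3_2 : c2.C = 14 := by decide +kernel

instance fin : Finite (gen H15.Ru.g 7) := Nat.finite_of_card_ne_zero (by rw [H15.Ru.card]; decide)
theorem zero5 : ∀ D ∈ Ds5, c5.Zero D := (Pc.zero_of_chk id5_0)
theorem rows5 : ∀ r < 9, c5.Row S5 (Yo5.map (·.1)) r :=
  (Pc.rows_glue zero5 Pc.rows_zero rw5_0)
theorem rule5 : ∀ i < 9, (c5.ruleEnt (wdsP H15.Ru.P Us5) H15.Ru.B) i = 0 := allZ_sound0 rule5_0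
theorem fus5 : ∀ i < 4, (c5.fusEnt (wdsP H15.Ru.P Us5) (wdsP H15.Ru.P Fs5) H15.Ru.B) i = 0 := allZ_sound0 fus5_0
theorem lvx5_2e : ∀ i < 4, (lx5_2.ent (wdsP (wdsP H15.Ru.P Us5) Wsx5)) i = 0 := allZ_sound0 lvx5_2e_0
theorem lvx5_1e : ∀ i < 4, (lx5_1.ent (wdsP (wdsP H15.Ru.P Us5) Wsx5)) i = 0 := allZ_sound0 lvx5_1e_0
theorem lvx5_0e : ∀ i < 4, (lx5_0.ent (wdsP (wdsP H15.Ru.P Us5) Wsx5)) i = 0 := allZ_sound0 lvx5_0e_0
theorem lowx5 : LowChain (wdsP (wdsP H15.Ru.P Us5) Wsx5) 4060 Lx5 :=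
  ⟨⟨lvx5_0b.1, lvx5_0b.2.1, lvx5_0b.2.2.1, lvx5_0b.2.2.2.1, lvx5_0e⟩, lvx5_0b.2.2.2.2.1, lvx5_0b.2.2.2.2.2, ⟨⟨lvx5_1b.1, lvx5_1b.2.1, lvx5_1b.2.2.1, lvx5_1b.2.2.2.1, lvx5_1e⟩, lvx5_1b.2.2.2.2.1, lvx5_1b.2.2.2.2.2, ⟨⟨lvx5_2b.1, lvx5_2b.2.1, lvx5_2b.2.2.1, lvx5_2b.2.2.2.1, lvx5_2e⟩, lvx5_2b.2.2.2.2.1, lvx5_2b.2.2.2.2.2, trivial⟩⟩⟩
open scoped Pointwise in
theorem pb5 : PB (gen H15.Ru.g 7) (5 ^ (0 + 1)) :=
  (Pc.gok_wds H15.Ru.act H15.Ru.card (ptF_inj 4060) H15.Ru.Blt H15.Ru.isBase h0_5 h1_5 rule5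
    (fun r h => fus5 r (h.trans_eq h3_5)) lowx5).pb (by norm_num) H15.Ru.card zero5 rows5 ord5 h2_5
theorem zero3 : ∀ D ∈ Ds3, c3.Zero D := (Pc.zero_of_chk id3_0)
theorem rows3 : ∀ r < 9, c3.Row S3 (Yo3.map (·.1)) r :=
  (Pc.rows_glue zero3 Pc.rows_zero rw3_0)
theorem rule3 : ∀ i < 9, (c3.ruleEnt (wdsP H15.Ru.P Us3) H15.Ru.B) i = 0 := allZ_sound0 rule3_0
theorem fus3 : ∀ i < 4, (c3.fusEnt (wdsP H15.Ru.P Us3) (wdsP H15.Ru.P Fs3) H15.Ru.B) i = 0 := allZ_sound0 fus3_0
theorem lvx3_1e : ∀ i < 2, (lx3_1.ent (wdsP (wdsP H15.Ru.P Us3) Wsx3)) i = 0 := allZ_sound0 lvx3_1e_0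
theorem lvx3_0e : ∀ i < 8, (lx3_0.ent (wdsP (wdsP H15.Ru.P Us3) Wsx3)) i = 0 := allZ_sound0 lvx3_0e_0
theorem lowx3 : LowChain (wdsP (wdsP H15.Ru.P Us3) Wsx3) 4060 Lx3 :=
  ⟨⟨lvx3_0b.1, lvx3_0b.2.1, lvx3_0b.2.2.1, lvx3_0b.2.2.2.1, lvx3_0e⟩, lvx3_0b.2.2.2.2.1, lvx3_0b.2.2.2.2.2, ⟨⟨lvx3_1b.1, lvx3_1b.2.1, lvx3_1b.2.2.1, lvx3_1b.2.2.2.1, lvx3_1e⟩, lvx3_1b.2.2.2.2.1, lvx3_1b.2.2.2.2.2, trivial⟩⟩
open scoped Pointwise in
theorem pb3 : PB (gen H15.Ru.g 7) (3 ^ (0 + 1)) :=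
  (Pc.gok_wds H15.Ru.act H15.Ru.card (ptF_inj 4060) H15.Ru.Blt H15.Ru.isBase h0_3 h1_3 rule3
    (fun r h => fus3 r (h.trans_eq h3_3)) lowx3).pb (by norm_num) H15.Ru.card zero3 rows3 ord3 h2_3
theorem zero2 : ∀ D ∈ Ds2, c2.Zero D := (Pc.zero_of_chk id2_0)
theorem rows2 : ∀ r < 196, c2.Row S2 (Yo2.map (·.1)) r :=
  (Pc.rows_glue zero2 Pc.rows_zero rw2_0)
theorem rule2_g0 : ∀ i < 192, (c2.ruleEnt (wdsP H15.Ru.P Us2) H15.Ru.B) i = 0 := allZ_sound0 rule2_0
theorem rule2 : ∀ i < 196, (c2.ruleEnt (wdsP H15.Ru.P Us2) H15.Ru.B) i = 0 := range_glue rule2_g0 rule2_1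
theorem fus2 : ∀ i < 14, (c2.fusEnt (wdsP H15.Ru.P Us2) (wdsP H15.Ru.P Fs2) H15.Ru.B) i = 0 := allZ_sound0 fus2_0
theorem lvx2_8e : ∀ i < 1, (lx2_8.ent (wdsP (wdsP H15.Ru.P Us2) Wsx2)) i = 0 := allZ_sound0 lvx2_8e_0
theorem lvx2_7e : ∀ i < 3, (lx2_7.ent (wdsP (wdsP H15.Ru.P Us2) Wsx2)) i = 0 := allZ_sound0 lvx2_7e_0
theorem lvx2_6e : ∀ i < 1, (lx2_6.ent (wdsP (wdsP H15.Ru.P Us2) Wsx2)) i = 0 := allZ_sound0 lvx2_6e_0
theorem lvx2_5e : ∀ i < 3, (lx2_5.ent (wdsP (wdsP H15.Ru.P Us2) Wsx2)) i = 0 := allZ_sound0 lvx2_5e_0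
theorem lvx2_4e : ∀ i < 1, (lx2_4.ent (wdsP (wdsP H15.Ru.P Us2) Wsx2)) i = 0 := allZ_sound0 lvx2_4e_0
theorem lvx2_3e : ∀ i < 1, (lx2_3.ent (wdsP (wdsP H15.Ru.P Us2) Wsx2)) i = 0 := allZ_sound0 lvx2_3e_0
theorem lvx2_2e : ∀ i < 7, (lx2_2.ent (wdsP (wdsP H15.Ru.P Us2) Wsx2)) i = 0 := allZ_sound0 lvx2_2e_0
theorem lvx2_1e : ∀ i < 1, (lx2_1.ent (wdsP (wdsP H15.Ru.P Us2) Wsx2)) i = 0 := allZ_sound0 lvx2_1e_0
theorem lvx2_0e : ∀ i < 3, (lx2_0.ent (wdsP (wdsP H15.Ru.P Us2) Wsx2)) i = 0 := allZ_sound0 lvx2_0e_0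
theorem lowx2 : LowChain (wdsP (wdsP H15.Ru.P Us2) Wsx2) 4060 Lx2 :=
  ⟨⟨lvx2_0b.1, lvx2_0b.2.1, lvx2_0b.2.2.1, lvx2_0b.2.2.2.1, lvx2_0e⟩, lvx2_0b.2.2.2.2.1, lvx2_0b.2.2.2.2.2, ⟨⟨lvx2_1b.1, lvx2_1b.2.1, lvx2_1b.2.2.1, lvx2_1b.2.2.2.1, lvx2_1e⟩, lvx2_1b.2.2.2.2.1, lvx2_1b.2.2.2.2.2, ⟨⟨lvx2_2b.1, lvx2_2b.2.1, lvx2_2b.2.2.1, lvx2_2b.2.2.2.1, lvx2_2e⟩, lvx2_2b.2.2.2.2.1, lvx2_2b.2.2.2.2.2, ⟨⟨lvx2_3b.1, lvx2_3b.2.1, lvx2_3b.2.2.1, lvx2_3b.2.2.2.1, lvx2_3e⟩, lvx2_3b.2.2.2.2.1, lvx2_3b.2.2.2.2.2, ⟨⟨lvx2_4b.1, lvx2_4b.2.1, lvx2_4b.2.2.1, lvx2_4b.2.2.2.1, lvx2_4e⟩, lvx2_4b.2.2.2.2.1, lvx2_4b.2.2.2.2.2, ⟨⟨lvx2_5b.1, lvx2_5b.2.1, lvx2_5b.2.2.1, lvx2_5b.2.2.2.1, lvx2_5e⟩, lvx2_5b.2.2.2.2.1, lvx2_5b.2.2.2.2.2, ⟨⟨lvx2_6b.1, lvx2_6b.2.1, lvx2_6b.2.2.1, lvx2_6b.2.2.2.1, lvx2_6e⟩, lvx2_6b.2.2.2.2.1, lvx2_6b.2.2.2.2.2, ⟨⟨lvx2_7b.1, lvx2_7b.2.1, lvx2_7b.2.2.1, lvx2_7b.2.2.2.1, lvx2_7e⟩, lvx2_7b.2.2.2.2.1, lvx2_7b.2.2.2.2.2, ⟨⟨lvx2_8b.1, lvx2_8b.2.1,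 lvx2_8b.2.2.1, lvx2_8b.2.2.2.1, lvx2_8e⟩, lvx2_8b.2.2.2.2.1, lvx2_8b.2.2.2.2.2, trivial⟩⟩⟩⟩⟩⟩⟩⟩⟩
open scoped Pointwise in
theorem pb2 : PB (gen H15.Ru.g 7) (2 ^ (1 + 1)) :=
  (Pc.gok_wds H15.Ru.act H15.Ru.card (ptF_inj 4060) H15.Ru.Blt H15.Ru.isBase h0_2 h1_2 rule2
    (fun r h => fus2 r (h.trans_eq h3_2)) lowx2).pb (by norm_num) H15.Ru.card zero2 rows2 ord2 h2_2
theorem ker_le (Δ : Type) [Group Δ] [Finite Δ] (τ : Δ →* (gen H15.Ru.g 7)) (h : Cfsg.IsStemExtension τ) :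
    Nat.card τ.ker ≤ 2 :=
  card_ker_le (L := [(2, 14, 1), (3, 3, 0), (5, 3, 0), (7, 1, 0), (13, 1, 0), (29, 1, 0)]) ⟨H15.Ru.card.trans (by decide +kernel), by decide +kernel⟩
    (all_cons ⟨by norm_num, pb2⟩
    (all_cons ⟨by norm_num, pb3⟩
    (all_cons ⟨by norm_num, pb5⟩
    (all_cons ⟨by norm_num, PB.of_not_sq (by norm_num) (by rw [H15.Ru.card]; decide)⟩
    (all_cons ⟨by norm_num, PB.of_not_sq (by norm_num) (by rw [H15.Ru.card]; decide)⟩
    (all_cons ⟨by norm_num, PB.of_not_sq (by norm_num) (by rw [H15.Ru.card]; decide)⟩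
    all_nil)))))) Δ τ h

end H16.ScRu
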