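import Cfsg.Agent.H16.Sch3
import Cfsg.Agent.H16.M.U62

/-! Generated by tools/h16 (computation kit). -/

set_option maxRecDepth 100000
set_option maxHeartbeats 0

namespace H16.ScU62

noncomputable def Us3 : List (List ℕ) := [[nat_lit 1, nat_lit 5, nat_lit 8, nat_lit 1, nat_lit 0, nat_lit 5, nat_lit 7, nat_lit 4, nat_lit 2, nat_lit 7, nat_lit 8, nat_lit 4, nat_lit 9],
  [nat_lit 1, nat_lit 6, nat_lit 1, nat_lit 0, nat_lit 8, nat_lit 0, nat_lit 3, nat_lit 9, nat_lit 8, nat_lit 2, nat_lit 7, nat_lit 2, nat_lit 9, nat_lit 8, nat_lit 1],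
  [nat_lit 0, nat_lit 1, nat_lit 3, nat_lit 0, nat_lit 1, nat_lit 6, nat_lit 8, nat_lit 2, nat_lit 6, nat_lit 8, nat_lit 4, nat_lit 3, nat_lit 9, nat_lit 8, nat_lit 4, nat_lit 8, nat_lit 2, nat_lit 6, nat_lit 9, nat_lit 6],
  [nat_lit 0, nat_lit 4, nat_lit 4, nat_lit 3, nat_lit 3, nat_lit 7, nat_lit 1, nat_lit 5, nat_lit 8, nat_lit 4, nat_lit 8, nat_lit 0, nat_lit 7, nat_lit 9, nat_lit 8, nat_lit 2, nat_lit 8, nat_lit 2, nat_lit 7, nat_lit 3],
  [nat_lit 2, nat_lit 2, nat_lit 6, nat_lit 8, nat_lit 5, nat_lit 8, nat_lit 9, nat_lit 8, nat_lit 4, nat_lit 7, nat_lit 3, nat_lit 3],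
  [nat_lit 5, nat_lit 2, nat_lit 6, nat_lit 1, nat_lit 8, nat_lit 1, nat_lit 0, nat_lit 4, nat_lit 8, nat_lit 2, nat_lit 9, nat_lit 8, nat_lit 4, nat_lit 9, nat_lit 8, nat_lit 4, nat_lit 9, nat_lit 8, nat_lit 0, nat_lit 8, nat_lit 7, nat_lit 1, nat_lit 3]]
noncomputable def Fs3 : List (List ℕ) := [[nat_lit 2, nat_lit 7, nat_lit 2, nat_lit 9, nat_lit 6, nat_lit 9, nat_lit 7, nat_lit 8, nat_lit 0, nat_lit 5, nat_lit 9, nat_lit 8, nat_lit 2, nat_lit 7, nat_lit 9, nat_lit 8, nat_lit 2, nat_lit 9, nat_lit 7, nat_lit 8, nat_lit 4],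
  [nat_lit 0, nat_lit 1, nat_lit 0, nat_lit 3, nat_lit 6, nat_lit 8, nat_lit 2, nat_lit 7, nat_lit 0, nat_lit 2, nat_lit 9, nat_lit 8, nat_lit 4, nat_lit 9, nat_lit 8, nat_lit 4, nat_lit 9, nat_lit 8, nat_lit 0, nat_lit 8, nat_lit 6, nat_lit 9, nat_lit 1],
  [nat_lit 9, nat_lit 4, nat_lit 7, nat_lit 4, nat_lit 4, nat_lit 4, nat_lit 6, nat_lit 3, nat_lit 8, nat_lit 4, nat_lit 6, nat_lit 8, nat_lit 0, nat_lit 2, nat_lit 9, nat_lit 8, nat_lit 0, nat_lit 2, nat_lit 9, nat_lit 8, nat_lit 9, nat_lit 8]]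
noncomputable def c3 : Pc := ⟨(nat_lit 2), (nat_lit 8), (nat_lit 6), (nat_lit 3), (nat_lit 9), (nat_lit 16),
  [[[nat_lit 5, nat_lit 5]],
  [[nat_lit 1, nat_lit 3], []],
  [[nat_lit 2, nat_lit 4], [nat_lit 2, nat_lit 3, nat_lit 3], [nat_lit 5]],
  [[nat_lit 3, nat_lit 5], [nat_lit 3, nat_lit 5, nat_lit 5], [nat_lit 3, nat_lit 5], []],
  [[nat_lit 4, nat_lit 5], [nat_lit 4], [nat_lit 4], [nat_lit 4], []],
  [[nat_lit 5], [nat_lit 5], [nat_lit 5], [nat_lit 5], [nat_lit 5], []]],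
  [((nat_lit 1), [nat_lit 4], [nat_lit 4, nat_lit 4, nat_lit 5, nat_lit 5]),
  ((nat_lit 1), [nat_lit 1], [nat_lit 1]),
  ((nat_lit 1), [nat_lit 2], [nat_lit 2, nat_lit 4, nat_lit 4, nat_lit 5]),
  ((nat_lit 0), [nat_lit 3], [nat_lit 4, nat_lit 5, nat_lit 5]),
  ((nat_lit 0), [nat_lit 1], [nat_lit 0, nat_lit 2, nat_lit 2, nat_lit 4, nat_lit 4, nat_lit 5, nat_lit 5]),
  ((nat_lit 0), [nat_lit 5], [nat_lit 5, nat_lit 5]),
  ((nat_lit 0), [nat_lit 0], [nat_lit 0, nat_lit 0, nat_lit 1, nat_lit 3, nat_lit 3, nat_lit 4, nat_lit 5]),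
  ((nat_lit 2), [nat_lit 1], [nat_lit 3, nat_lit 3, nat_lit 5]),
  ((nat_lit 2), [nat_lit 0, nat_lit 2, nat_lit 2], [nat_lit 4, nat_lit 5])]⟩
noncomputable def I3_0 : List Pc.Idn := [⟨false, (nat_lit 0), [nat_lit 2], [nat_lit 2, nat_lit 2], [((nat_lit 41), (nat_lit 1))]⟩,
  ⟨false, (nat_lit 0), [nat_lit 4], [nat_lit 1, nat_lit 1], [((nat_lit 34), (nat_lit 3))]⟩,
  ⟨false, (nat_lit 0), [nat_lit 5], [nat_lit 1, nat_lit 1], [((nat_lit 40), (nat_lit 3))]⟩,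
  ⟨false, (nat_lit 0), [nat_lit 4], [nat_lit 3, nat_lit 3], [((nat_lit 36), (nat_lit 3))]⟩,
  ⟨false, (nat_lit 0), [nat_lit 5], [nat_lit 3, nat_lit 3], [((nat_lit 42), (nat_lit 3))]⟩,
  ⟨false, (nat_lit 0), [nat_lit 4, nat_lit 4], [nat_lit 4, nat_lit 2], [((nat_lit 35), (nat_lit 6))]⟩,
  ⟨false, (nat_lit 0), [nat_lit 0], [nat_lit 0, nat_lit 0], [((nat_lit 39), (nat_lit 2))]⟩,
  ⟨false, (nat_lit 0), [nat_lit 4], [nat_lit 2, nat_lit 2], [((nat_lit 35), (nat_lit 3)), ((nat_lit 43), (nat_lit 1))]⟩,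
  ⟨false, (nat_lit 0), [nat_lit 5], [nat_lit 1, nat_lit 0], [((nat_lit 42), (nat_lit 8))]⟩,
  ⟨false, (nat_lit 0), [nat_lit 3, nat_lit 3], [nat_lit 3, nat_lit 0], [((nat_lit 27), (nat_lit 6)), ((nat_lit 42), (nat_lit 6)), ((nat_lit 44), (nat_lit 8))]⟩,
  ⟨false, (nat_lit 0), [nat_lit 4, nat_lit 4], [nat_lit 4, nat_lit 0], [((nat_lit 33), (nat_lit 6)), ((nat_lit 43), (nat_lit 6)), ((nat_lit 44), (nat_lit 8))]⟩,
  ⟨false, (nat_lit 0), [nat_lit 3, nat_lit 3], [nat_lit 3, nat_lit 2], [((nat_lit 29), (nat_lit 6)), ((nat_lit 42), (nat_lit 6)), ((nat_lit 44), (nat_lit 8))]⟩,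
  ⟨false, (nat_lit 0), [nat_lit 3], [nat_lit 1, nat_lit 1], [((nat_lit 28), (nat_lit 3)), ((nat_lit 40), (nat_lit 3)), ((nat_lit 44), (nat_lit 2))]⟩,
  ⟨false, (nat_lit 0), [nat_lit 4], [nat_lit 2, nat_lit 1], [((nat_lit 36), (nat_lit 7))]⟩,
  ⟨false, (nat_lit 0), [nat_lit 4], [nat_lit 1, nat_lit 0], [((nat_lit 36), (nat_lit 8)), ((nat_lit 40), (nat_lit 8)), ((nat_lit 42), (nat_lit 8))]⟩,
  ⟨false, (nat_lit 0), [nat_lit 2, nat_lit 2], [nat_lit 2, nat_lit 0], [((nat_lit 21), (nat_lit 6)), ((nat_lit 35), (nat_lit 6)), ((nat_lit 37), (nat_lit 8)), ((nat_lit 39), (nat_lit 1)), ((nat_lit 43), (nat_lit 6))]⟩,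
  ⟨false, (nat_lit 0), [nat_lit 2], [nat_lit 1, nat_lit 1], [((nat_lit 22), (nat_lit 3)), ((nat_lit 28), (nat_lit 3)), ((nat_lit 30), (nat_lit 2)), ((nat_lit 40), (nat_lit 1)), ((nat_lit 42), (nat_lit 2)), ((nat_lit 44), (nat_lit 2))]⟩,
  ⟨false, (nat_lit 0), [nat_lit 1, nat_lit 1], [nat_lit 1, nat_lit 0], [((nat_lit 15), (nat_lit 6)), ((nat_lit 28), (nat_lit 6)), ((nat_lit 30), (nat_lit 8)), ((nat_lit 40), (nat_lit 7)), ((nat_lit 42), (nat_lit 5)), ((nat_lit 44), (nat_lit 7))]⟩,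
  ⟨false, (nat_lit 0), [nat_lit 2], [nat_lit 1, nat_lit 0], [((nat_lit 27), (nat_lit 2)), ((nat_lit 29), (nat_lit 1)), ((nat_lit 34), (nat_lit 8)), ((nat_lit 36), (nat_lit 1)), ((nat_lit 42), (nat_lit 3)), ((nat_lit 43), (nat_lit 1)), ((nat_lit 44), (nat_lit 1))]⟩,
  ⟨true, (nat_lit 1), [nat_lit 0, nat_lit 1], [nat_lit 1, nat_lit 0], [((nat_lit 34), (nat_lit 8)), ((nat_lit 40), (nat_lit 7))]⟩,
  ⟨true, (nat_lit 1), [nat_lit 0, nat_lit 2], [nat_lit 2, nat_lit 0], [((nat_lit 35), (nat_lit 8)), ((nat_lit 41), (nat_lit 7)), ((nat_lit 43), (nat_lit 7))]⟩,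
  ⟨true, (nat_lit 0), [nat_lit 3, nat_lit 4], [nat_lit 4, nat_lit 3, nat_lit 5, nat_lit 5], [((nat_lit 5), (nat_lit 2)), ((nat_lit 28), (nat_lit 1)), ((nat_lit 33), (nat_lit 8)), ((nat_lit 35), (nat_lit 7)), ((nat_lit 39), (nat_lit 7)), ((nat_lit 43), (nat_lit 2)), ((nat_lit 44), (nat_lit 1))]⟩,
  ⟨true, (nat_lit 0), [nat_lit 3, nat_lit 6], [nat_lit 6, nat_lit 3, nat_lit 5], [((nat_lit 5), (nat_lit 1)), ((nat_lit 27), (nat_lit 1)), ((nat_lit 33), (nat_lit 7)), ((nat_lit 34), (nat_lit 8)), ((nat_lit 36), (nat_lit 7)), ((nat_lit 39), (nat_lit 7)), ((nat_lit 40), (nat_lit 8)), ((nat_lit 42), (nat_lit 7))]⟩,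
  ⟨true, (nat_lit 2), [nat_lit 7, nat_lit 8], [nat_lit 8, nat_lit 7], [((nat_lit 15), (nat_lit 1)), ((nat_lit 22), (nat_lit 7)), ((nat_lit 30), (nat_lit 8)), ((nat_lit 36), (nat_lit 2)), ((nat_lit 41), (nat_lit 1)), ((nat_lit 42), (nat_lit 6)), ((nat_lit 43), (nat_lit 8))]⟩]
noncomputable def Ds3 : List (List (ℕ × ℕ)) := I3_0.map Pc.Idn.D
noncomputable def S3 : List (List (ℕ × ℕ)) := [[],
  [],
  [],
  [((nat_lit 15), (nat_lit 1))],
  [((nat_lit 21), (nat_lit 1))],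
  [((nat_lit 27), (nat_lit 1))]]
noncomputable def Yo3 : List (List (ℕ × ℕ) × ℕ × ℕ) := [([((nat_lit 27), (nat_lit 8)), ((nat_lit 33), (nat_lit 1))], (nat_lit 3), nat_lit 0x3bb5409c2)]
noncomputable def La3 : List ℕ := [nat_lit 0,
  nat_lit 0,
  nat_lit 0,
  nat_lit 0,
  nat_lit 0,
  nat_lit 0,
  nat_lit 0,
  nat_lit 0,
  nat_lit 0,
  nat_lit 0,
  nat_lit 0,
  nat_lit 0,
  nat_lit 0,
  nat_lit 0x174d44492b53cdd4d2d7,
  nat_lit 0,
  nat_lit 0,
  nat_lit 0,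
  nat_lit 0,
  nat_lit 0,
  nat_lit 0x2e1472413972ba9b722,
  nat_lit 0x3ceda136d214a4036,
  nat_lit 0x3903c27a8d86b64e4426,
  nat_lit 0,
  nat_lit 0,
  nat_lit 1,
  nat_lit 0x1c1ee6c2540a14c67,
  nat_lit 0x1da877b2713d3cdcf9,
  nat_lit 0x14ce6b173298,
  nat_lit 0x11cbafaf29708732ac,
  nat_lit 0,
  nat_lit 0x16ce95d,
  nat_lit 0x410518c0e4f05,
  nat_lit 9,
  nat_lit 0x737d0bb5,
  nat_lit 0x11cb7b04aa686bb24b,
  nat_lit 0x6c3ea445e]
noncomputable def Wsx3 : List (List ℕ) := [[nat_lit 1, nat_lit 2, nat_lit 3, nat_lit 4, nat_lit 5],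
  [nat_lit 4, nat_lit 5],
  [nat_lit 3],
  [nat_lit 4],
  [nat_lit 0, nat_lit 2, nat_lit 2],
  [nat_lit 0]]
noncomputable def LDx3_4d : ℕ := nat_lit 4
noncomputable def LDx3_4 (u : ℕ) : ℕ := Nat.land (Nat.shiftRight LDx3_4d (Nat.mul u (nat_lit 1))) (nat_lit 1)
noncomputable def Ptx3_4d : ℕ := nat_lit 0x2849fc00
noncomputable def Ptx3_4 (u : ℕ) : ℕ := Nat.land (Nat.shiftRight Ptx3_4d (Nat.mul u (nat_lit 10))) (nat_lit 1023)
noncomputable def Qx3_4d : ℕ := nat_lit 0x20040000000000000000000000000000000000000000000000000000000000000000000000000000000000000000000000000000000000000000000000000000000000000000000000000000000000000000000000000000000000000000000000000000000000000000000000000000000000000000000000000000000000000000000000000000000000000000000000000000000000000000000000000000000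
noncomputable def Qx3_4 (u : ℕ) : ℕ := Nat.land (Nat.shiftRight Qx3_4d (Nat.mul u (nat_lit 2))) (nat_lit 3)
noncomputable def lx3_4 : Lev := ⟨3, 1, LDx3_4, Ptx3_4, Qx3_4⟩
noncomputable def LDx3_3d : ℕ := nat_lit 0x34
noncomputable def LDx3_3 (u : ℕ) : ℕ := Nat.land (Nat.shiftRight LDx3_3d (Nat.mul u (nat_lit 2))) (nat_lit 3)
noncomputable def Ptx3_3d : ℕ := nat_lit 0x1eba040a
noncomputable def Ptx3_3 (u : ℕ) : ℕ := Nat.land (Nat.shiftRight Ptx3_3d (Nat.mul u (nat_lit 10))) (nat_lit 1023)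
noncomputable def Qx3_3d : ℕ := nat_lit 0x400000000000000000000000000000000000000000000000000000000000000000000000000800000000000000000000000000000000000000000000000000000000000000000000000000000000000000000000000000000000000000000000000000000000000000000000000000000000000000000000000000000000000000000000000000000000000000000000000000000000000000000000000000000
noncomputable def Qx3_3 (u : ℕ) : ℕ := Nat.land (Nat.shiftRight Qx3_3d (Nat.mul u (nat_lit 2))) (nat_lit 3)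
noncomputable def lx3_3 : Lev := ⟨3, 2, LDx3_3, Ptx3_3, Qx3_3⟩
noncomputable def LDx3_2d : ℕ := nat_lit 0x1b9bd6730c40
noncomputable def LDx3_2 (u : ℕ) : ℕ := Nat.land (Nat.shiftRight LDx3_2d (Nat.mul u (nat_lit 5))) (nat_lit 31)
noncomputable def Ptx3_2d : ℕ := nat_lit 0x171608e1554ef3566755806
noncomputable def Ptx3_2 (u : ℕ) : ℕ := Nat.land (Nat.shiftRight Ptx3_2d (Nat.mul u (nat_lit 10))) (nat_lit 1023)
noncomputable def Qx3_2d : ℕ := nat_lit 0x2000000000000000000000000000000000000000000000000000000000000000000000000000000000000000000000000000000000000000000000000000000000000000000000000000000000000000000000000000000000000000000000000000000000000000000000000000000000000700000000000000008000000000000000000000000001500000000000000000000000000000000000000000000000000000000000000000000000000000000000000000000000000000400000000000006000000000003000000000000000000000000000000000000000000000000000000000000000000000000000000000000000000000000000000000000000000000000000000000000000000000000000000000000000000000000000000000000000000000000000000000000000000000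
noncomputable def Qx3_2 (u : ℕ) : ℕ := Nat.land (Nat.shiftRight Qx3_2d (Nat.mul u (nat_lit 4))) (nat_lit 15)
noncomputable def lx3_2 : Lev := ⟨9, 4, LDx3_2, Ptx3_2, Qx3_2⟩
noncomputable def LDx3_1d : ℕ := nat_lit 0x940
noncomputable def LDx3_1 (u : ℕ) : ℕ := Nat.land (Nat.shiftRight LDx3_1d (Nat.mul u (nat_lit 4))) (nat_lit 15)
noncomputable def Ptx3_1d : ℕ := nat_lit 0x241a622e
noncomputable def Ptx3_1 (u : ℕ) : ℕ := Nat.land (Nat.shiftRight Ptx3_1d (Nat.mul u (nat_lit 10))) (nat_lit 1023)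
noncomputable def Qx3_1d : ℕ := nat_lit 0x100000000000000000000000000000000000000000008000000000000000000000000000000000000000000000000000000000000000000000000000000000000000000000000000000000000000000000000000000000000000000000000000000000000000000000000000000000000000000000000000000000000000000000000000000000000000000000000000000000000000000000000000000000000000000000000
noncomputable def Qx3_1 (u : ℕ) : ℕ := Nat.land (Nat.shiftRight Qx3_1d (Nat.mul u (nat_lit 2))) (nat_lit 3)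
noncomputable def lx3_1 : Lev := ⟨3, 5, LDx3_1, Ptx3_1, Qx3_1⟩
noncomputable def LDx3_0d : ℕ := nat_lit 0xb50
noncomputable def LDx3_0 (u : ℕ) : ℕ := Nat.land (Nat.shiftRight LDx3_0d (Nat.mul u (nat_lit 4))) (nat_lit 15)
noncomputable def Ptx3_0d : ℕ := nat_lit 0x22f4207a
noncomputable def Ptx3_0 (u : ℕ) : ℕ := Nat.land (Nat.shiftRight Ptx3_0d (Nat.mul u (nat_lit 10))) (nat_lit 1023)
noncomputable def Qx3_0d : ℕ := nat_lit 0x8000000000000000000000000000000000000000000000000000000000000000000000000000000000000000000000000000000000000000000000000000000000000000000000000001000000000000000000000000000000000000000000000000000000000000000000000000000000000000000000000000000000000000000000000000000000000000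
noncomputable def Qx3_0 (u : ℕ) : ℕ := Nat.land (Nat.shiftRight Qx3_0d (Nat.mul u (nat_lit 2))) (nat_lit 3)
noncomputable def lx3_0 : Lev := ⟨3, 6, LDx3_0, Ptx3_0, Qx3_0⟩
noncomputable def Lx3 : List Lev := [lx3_0, lx3_1, lx3_2, lx3_3, lx3_4]
noncomputable def Bx3 : List ℕ := [nat_lit 122, nat_lit 558, nat_lit 6, nat_lit 10, nat_lit 0]
noncomputable def Us2 : List (List ℕ) := [[nat_lit 0, nat_lit 4, nat_lit 4, nat_lit 7, nat_lit 3, nat_lit 5, nat_lit 6, nat_lit 8, nat_lit 2, nat_lit 9, nat_lit 8, nat_lit 4, nat_lit 9, nat_lit 8, nat_lit 4, nat_lit 9, nat_lit 8, nat_lit 4, nat_lit 7, nat_lit 0],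
  [nat_lit 9, nat_lit 3, nat_lit 0, nat_lit 4, nat_lit 7, nat_lit 3, nat_lit 7, nat_lit 0, nat_lit 8, nat_lit 0, nat_lit 4, nat_lit 8, nat_lit 0, nat_lit 2, nat_lit 9, nat_lit 8, nat_lit 0, nat_lit 6],
  [nat_lit 4, nat_lit 6, nat_lit 1, nat_lit 2, nat_lit 8, nat_lit 3, nat_lit 0, nat_lit 8, nat_lit 6, nat_lit 5, nat_lit 9, nat_lit 8, nat_lit 4, nat_lit 8, nat_lit 2, nat_lit 6, nat_lit 9, nat_lit 8, nat_lit 2, nat_lit 1, nat_lit 3],
  [nat_lit 1, nat_lit 0, nat_lit 7, nat_lit 0, nat_lit 7, nat_lit 8, nat_lit 4, nat_lit 8, nat_lit 9, nat_lit 8, nat_lit 2, nat_lit 8, nat_lit 4, nat_lit 8, nat_lit 9, nat_lit 0, nat_lit 3],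
  [nat_lit 1, nat_lit 4, nat_lit 6, nat_lit 1, nat_lit 8, nat_lit 1, nat_lit 0, nat_lit 4, nat_lit 6, nat_lit 8, nat_lit 4, nat_lit 9, nat_lit 8, nat_lit 2, nat_lit 8, nat_lit 4, nat_lit 8, nat_lit 6],
  [nat_lit 4, nat_lit 0, nat_lit 6, nat_lit 1, nat_lit 7, nat_lit 8, nat_lit 4, nat_lit 6, nat_lit 9, nat_lit 8, nat_lit 3, nat_lit 0, nat_lit 7],
  [nat_lit 4, nat_lit 8, nat_lit 9, nat_lit 0, nat_lit 3, nat_lit 3, nat_lit 5, nat_lit 8, nat_lit 4, nat_lit 8, nat_lit 0, nat_lit 9, nat_lit 8, nat_lit 2, nat_lit 8],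
  [nat_lit 0, nat_lit 2, nat_lit 4, nat_lit 6, nat_lit 1, nat_lit 4, nat_lit 8, nat_lit 0, nat_lit 7, nat_lit 5, nat_lit 8, nat_lit 9, nat_lit 8, nat_lit 4, nat_lit 8, nat_lit 0, nat_lit 6, nat_lit 9, nat_lit 8, nat_lit 4, nat_lit 9, nat_lit 8, nat_lit 0, nat_lit 9, nat_lit 4],
  [nat_lit 1, nat_lit 5, nat_lit 7, nat_lit 0, nat_lit 1, nat_lit 3, nat_lit 8, nat_lit 0, nat_lit 7, nat_lit 5, nat_lit 8, nat_lit 9, nat_lit 8, nat_lit 2, nat_lit 8, nat_lit 2, nat_lit 5, nat_lit 9, nat_lit 8, nat_lit 2, nat_lit 1, nat_lit 7, nat_lit 9],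
  [nat_lit 6, nat_lit 1, nat_lit 8, nat_lit 2, nat_lit 6, nat_lit 4, nat_lit 8, nat_lit 1, nat_lit 9, nat_lit 8, nat_lit 0, nat_lit 7, nat_lit 1, nat_lit 5, nat_lit 8, nat_lit 4, nat_lit 7, nat_lit 8],
  [nat_lit 5, nat_lit 9, nat_lit 3, nat_lit 0, nat_lit 1, nat_lit 6, nat_lit 0, nat_lit 7, nat_lit 5, nat_lit 8, nat_lit 4, nat_lit 7, nat_lit 8, nat_lit 2, nat_lit 9],
  [nat_lit 1, nat_lit 4, nat_lit 4, nat_lit 7, nat_lit 3, nat_lit 5, nat_lit 7, nat_lit 8, nat_lit 2, nat_lit 4, nat_lit 9, nat_lit 8, nat_lit 2, nat_lit 9, nat_lit 7, nat_lit 8, nat_lit 4, nat_lit 9, nat_lit 8, nat_lit 4, nat_lit 3, nat_lit 7],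
  [nat_lit 1, nat_lit 0, nat_lit 7, nat_lit 1, nat_lit 0, nat_lit 8, nat_lit 4, nat_lit 6, nat_lit 8, nat_lit 4, nat_lit 9, nat_lit 8, nat_lit 4, nat_lit 8, nat_lit 4, nat_lit 8, nat_lit 9, nat_lit 8, nat_lit 2, nat_lit 8, nat_lit 6],
  [nat_lit 6, nat_lit 0, nat_lit 6, nat_lit 5, nat_lit 8, nat_lit 0, nat_lit 5, nat_lit 8, nat_lit 2, nat_lit 5, nat_lit 8, nat_lit 9, nat_lit 8, nat_lit 9, nat_lit 5, nat_lit 8, nat_lit 2, nat_lit 6, nat_lit 8, nat_lit 4, nat_lit 3, nat_lit 3],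
  [nat_lit 0, nat_lit 3, nat_lit 0, nat_lit 1, nat_lit 8, nat_lit 9, nat_lit 8, nat_lit 4, nat_lit 3, nat_lit 4]]
noncomputable def Fs2 : List (List ℕ) := [[nat_lit 0, nat_lit 1, nat_lit 0, nat_lit 7, nat_lit 3, nat_lit 3, nat_lit 8, nat_lit 2, nat_lit 6, nat_lit 8, nat_lit 0, nat_lit 5, nat_lit 9, nat_lit 8, nat_lit 0, nat_lit 6, nat_lit 0, nat_lit 3],
  [nat_lit 4, nat_lit 7, nat_lit 1, nat_lit 7, nat_lit 8, nat_lit 0, nat_lit 3, nat_lit 8, nat_lit 4, nat_lit 3, nat_lit 9, nat_lit 8, nat_lit 4, nat_lit 8, nat_lit 2, nat_lit 6, nat_lit 1, nat_lit 4],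
  [nat_lit 1, nat_lit 6, nat_lit 3, nat_lit 5, nat_lit 6, nat_lit 1, nat_lit 5, nat_lit 8, nat_lit 4, nat_lit 9, nat_lit 8, nat_lit 3, nat_lit 8, nat_lit 9, nat_lit 3, nat_lit 0, nat_lit 8, nat_lit 9],
  [nat_lit 0, nat_lit 7, nat_lit 1, nat_lit 0, nat_lit 4, nat_lit 6, nat_lit 8, nat_lit 1, nat_lit 9, nat_lit 8, nat_lit 2, nat_lit 6, nat_lit 9, nat_lit 8, nat_lit 2, nat_lit 7]]
noncomputable def c2 : Pc := ⟨(nat_lit 1), (nat_lit 7), (nat_lit 15), (nat_lit 5), (nat_lit 28), (nat_lit 20),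
  [[[nat_lit 9, nat_lit 10, nat_lit 14]],
  [[nat_lit 1, nat_lit 5], [nat_lit 5, nat_lit 6, nat_lit 7, nat_lit 10, nat_lit 11, nat_lit 12, nat_lit 14]],
  [[nat_lit 2, nat_lit 9, nat_lit 12, nat_lit 13, nat_lit 14], [nat_lit 2, nat_lit 6], [nat_lit 10, nat_lit 12, nat_lit 13, nat_lit 14]],
  [[nat_lit 3, nat_lit 5, nat_lit 9, nat_lit 10, nat_lit 14], [nat_lit 3, nat_lit 7], [nat_lit 3, nat_lit 6, nat_lit 9, nat_lit 10, nat_lit 12, nat_lit 13], [nat_lit 5, nat_lit 6, nat_lit 10, nat_lit 11, nat_lit 12, nat_lit 13, nat_lit 14]],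
  [[nat_lit 4, nat_lit 8], [nat_lit 4, nat_lit 6, nat_lit 8, nat_lit 10, nat_lit 12, nat_lit 14], [nat_lit 4, nat_lit 7, nat_lit 11, nat_lit 12], [nat_lit 4, nat_lit 7, nat_lit 8, nat_lit 9, nat_lit 10], [nat_lit 11, nat_lit 12, nat_lit 14]],
  [[nat_lit 5, nat_lit 13], [nat_lit 5, nat_lit 9], [nat_lit 5, nat_lit 10], [nat_lit 5, nat_lit 10, nat_lit 13, nat_lit 14], [nat_lit 5, nat_lit 11], []],
  [[nat_lit 6, nat_lit 10, nat_lit 13], [nat_lit 6, nat_lit 10, nat_lit 13], [nat_lit 6, nat_lit 12, nat_lit 13], [nat_lit 6, nat_lit 10, nat_lit 13], [nat_lit 6, nat_lit 12], [nat_lit 6, nat_lit 12, nat_lit 13], [nat_lit 14]],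
  [[nat_lit 7, nat_lit 9, nat_lit 10], [nat_lit 7, nat_lit 9, nat_lit 10], [nat_lit 7, nat_lit 13, nat_lit 14], [nat_lit 7, nat_lit 9, nat_lit 10], [nat_lit 7, nat_lit 12, nat_lit 13], [nat_lit 7, nat_lit 13], [nat_lit 7, nat_lit 14], [nat_lit 14]],
  [[nat_lit 8, nat_lit 12, nat_lit 13, nat_lit 14], [nat_lit 8, nat_lit 10, nat_lit 11, nat_lit 12, nat_lit 13, nat_lit 14], [nat_lit 8, nat_lit 9, nat_lit 10, nat_lit 12], [nat_lit 8, nat_lit 9, nat_lit 10, nat_lit 11, nat_lit 12, nat_lit 14], [nat_lit 8], [nat_lit 8], [nat_lit 8, nat_lit 12, nat_lit 14], [nat_lit 8, nat_lit 12, nat_lit 13, nat_lit 14], []],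
  [[nat_lit 9, nat_lit 14], [nat_lit 9, nat_lit 12], [nat_lit 9, nat_lit 14], [nat_lit 9, nat_lit 12, nat_lit 14], [nat_lit 9, nat_lit 13], [nat_lit 9], [nat_lit 9, nat_lit 14], [nat_lit 9, nat_lit 14], [nat_lit 9], []],
  [[nat_lit 10, nat_lit 14], [nat_lit 10, nat_lit 12, nat_lit 13], [nat_lit 10], [nat_lit 10, nat_lit 12, nat_lit 13, nat_lit 14], [nat_lit 10, nat_lit 12, nat_lit 14], [nat_lit 10], [nat_lit 10], [nat_lit 10, nat_lit 14], [nat_lit 10], [nat_lit 10], []],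
  [[nat_lit 11], [nat_lit 11, nat_lit 12, nat_lit 14], [nat_lit 11, nat_lit 12, nat_lit 13], [nat_lit 11, nat_lit 12, nat_lit 13], [nat_lit 11], [nat_lit 11], [nat_lit 11], [nat_lit 11], [nat_lit 11], [nat_lit 11], [nat_lit 11], []],
  [[nat_lit 12], [nat_lit 12], [nat_lit 12, nat_lit 14], [nat_lit 12, nat_lit 14], [nat_lit 12], [nat_lit 12], [nat_lit 12], [nat_lit 12], [nat_lit 12], [nat_lit 12], [nat_lit 12], [nat_lit 12], []],
  [[nat_lit 13], [nat_lit 13, nat_lit 14], [nat_lit 13, nat_lit 14], [nat_lit 13, nat_lit 14], [nat_lit 13], [nat_lit 13], [nat_lit 13], [nat_lit 13], [nat_lit 13], [nat_lit 13], [nat_lit 13], [nat_lit 13], [nat_lit 13], []],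
  [[nat_lit 14], [nat_lit 14], [nat_lit 14], [nat_lit 14], [nat_lit 14], [nat_lit 14], [nat_lit 14], [nat_lit 14], [nat_lit 14], [nat_lit 14], [nat_lit 14], [nat_lit 14], [nat_lit 14], [nat_lit 14], []]],
  [((nat_lit 1), [nat_lit 13], [nat_lit 11]),
  ((nat_lit 1), [nat_lit 2, nat_lit 3], [nat_lit 0, nat_lit 6, nat_lit 9, nat_lit 10]),
  ((nat_lit 0), [nat_lit 10], [nat_lit 6, nat_lit 9, nat_lit 14]),
  ((nat_lit 0), [nat_lit 7], [nat_lit 6, nat_lit 10]),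
  ((nat_lit 0), [nat_lit 14], [nat_lit 14]),
  ((nat_lit 2), [nat_lit 8], [nat_lit 0, nat_lit 7, nat_lit 10, nat_lit 12, nat_lit 13]),
  ((nat_lit 2), [nat_lit 5], [nat_lit 5]),
  ((nat_lit 2), [nat_lit 9], [nat_lit 12]),
  ((nat_lit 2), [nat_lit 6], [nat_lit 2, nat_lit 5, nat_lit 9, nat_lit 11, nat_lit 12, nat_lit 14]),
  ((nat_lit 2), [nat_lit 14], [nat_lit 14]),
  ((nat_lit 1), [nat_lit 10], [nat_lit 8, nat_lit 13, nat_lit 14]),
  ((nat_lit 1), [nat_lit 6], [nat_lit 4, nat_lit 9, nat_lit 11, nat_lit 12, nat_lit 14]),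
  ((nat_lit 0), [nat_lit 11], [nat_lit 11]),
  ((nat_lit 0), [nat_lit 2], [nat_lit 0, nat_lit 3, nat_lit 5, nat_lit 6, nat_lit 8, nat_lit 14]),
  ((nat_lit 0), [nat_lit 12], [nat_lit 12]),
  ((nat_lit 0), [nat_lit 13], [nat_lit 13]),
  ((nat_lit 2), [nat_lit 12], [nat_lit 9, nat_lit 12]),
  ((nat_lit 2), [nat_lit 13], [nat_lit 9, nat_lit 10, nat_lit 12]),
  ((nat_lit 1), [nat_lit 5], [nat_lit 5, nat_lit 10, nat_lit 11]),
  ((nat_lit 1), [nat_lit 12], [nat_lit 12, nat_lit 14]),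
  ((nat_lit 0), [nat_lit 1, nat_lit 3], [nat_lit 0, nat_lit 1, nat_lit 2, nat_lit 6, nat_lit 7, nat_lit 8, nat_lit 9, nat_lit 10, nat_lit 11, nat_lit 13, nat_lit 14]),
  ((nat_lit 2), [nat_lit 7], [nat_lit 1, nat_lit 3, nat_lit 5, nat_lit 7, nat_lit 10, nat_lit 12, nat_lit 13, nat_lit 14]),
  ((nat_lit 3), [nat_lit 13], [nat_lit 2, nat_lit 5, nat_lit 9, nat_lit 11]),
  ((nat_lit 3), [nat_lit 6], [nat_lit 1, nat_lit 3, nat_lit 5]),
  ((nat_lit 1), [nat_lit 0], [nat_lit 2, nat_lit 3, nat_lit 4, nat_lit 6, nat_lit 11, nat_lit 13]),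
  ((nat_lit 0), [nat_lit 8], [nat_lit 4, nat_lit 5, nat_lit 10, nat_lit 11, nat_lit 12]),
  ((nat_lit 0), [nat_lit 9], [nat_lit 6, nat_lit 7, nat_lit 9, nat_lit 10, nat_lit 12, nat_lit 14]),
  ((nat_lit 0), [nat_lit 5], [nat_lit 0, nat_lit 2, nat_lit 3, nat_lit 6, nat_lit 8, nat_lit 10, nat_lit 13, nat_lit 14])]⟩
noncomputable def I2_1 : List Pc.Idn := [⟨true, (nat_lit 0), [nat_lit 25, nat_lit 20], [nat_lit 20, nat_lit 25, nat_lit 26, nat_lit 15, nat_lit 4], [((nat_lit 26), (nat_lit 1)), ((nat_lit 15), (nat_lit 1)), ((nat_lit 4), (nat_lit 1)), ((nat_lit 88), (nat_lit 7)), ((nat_lit 89), (nat_lit 7)), ((nat_lit 90), (nat_lit 7)), ((nat_lit 103), (nat_lit 7)), ((nat_lit 104), (nat_lit 7)), ((nat_lit 105), (nat_lit 7)), ((nat_lit 120), (nat_lit 7)), ((nat_lit 122), (nat_lit 1)), ((nat_lit 137), (nat_lit 1)), ((nat_lit 139), (nat_lit 7)), ((nat_lit 151), (nat_lit 1)), ((nat_lit 152), (nat_lit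 1)), ((nat_lit 153), (nat_lit 7)), ((nat_lit 154), (nat_lit 1)), ((nat_lit 155), (nat_lit 1)), ((nat_lit 156), (nat_lit 7)), ((nat_lit 165), (nat_lit 7)), ((nat_lit 167), (nat_lit 1)), ((nat_lit 168), (nat_lit 1)), ((nat_lit 171), (nat_lit 6)), ((nat_lit 178), (nat_lit 7)), ((nat_lit 179), (nat_lit 7)), ((nat_lit 180), (nat_lit 7)), ((nat_lit 181), (nat_lit 1)), ((nat_lit 182), (nat_lit 1)), ((nat_lit 184), (nat_lit 7)), ((nat_lit 186), (nat_lit 7)), ((nat_lit 187), (nat_lit 6)), ((nat_lit 193), (nat_lit 7)), ((nat_lit 194), (nat_lit 7)), ((nat_lit 196), (nat_lit 1)), ((nat_lit 197), (nat_lit 1)), ((nat_lit 199), (nat_lit 6)), ((nat_lit 200), (nat_lit 7)), ((nat_lit 201), (nat_lit 7)), ((nat_lit 202), (nat_lit 6)), ((nat_lit 203), (nat_lit 6)), ((nat_lit 208), (nat_lit 7)), ((nat_lit 209), (nat_lit 7)), ((nat_lit 211), (nat_lit 1)), ((nat_lit 213), (nat_lit 7)), ((nat_lit 215), (nat_lit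 2)), ((nat_lit 217), (nat_lit 4)), ((nat_lit 219), (nat_lit 2)), ((nat_lit 220), (nat_lit 2)), ((nat_lit 224), (nat_lit 7)), ((nat_lit 226), (nat_lit 1)), ((nat_lit 227), (nat_lit 1)), ((nat_lit 228), (nat_lit 1)), ((nat_lit 230), (nat_lit 2)), ((nat_lit 231), (nat_lit 7)), ((nat_lit 232), (nat_lit 1)), ((nat_lit 233), (nat_lit 5)), ((nat_lit 234), (nat_lit 6)), ((nat_lit 235), (nat_lit 3)), ((nat_lit 236), (nat_lit 1)), ((nat_lit 239), (nat_lit 7)), ((nat_lit 240), (nat_lit 7)), ((nat_lit 241), (nat_lit 1)), ((nat_lit 242), (nat_lit 1)), ((nat_lit 243), (nat_lit 7)), ((nat_lit 244), (nat_lit 7)), ((nat_lit 247), (nat_lit 7)), ((nat_lit 249), (nat_lit 5)), ((nat_lit 250), (nat_lit 6)), ((nat_lit 251), (nat_lit 1)), ((nat_lit 252), (nat_lit 1))]⟩,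
  ⟨true, (nat_lit 0), [nat_lit 27, nat_lit 13], [nat_lit 13, nat_lit 27, nat_lit 2], [((nat_lit 2), (nat_lit 1)), ((nat_lit 58), (nat_lit 7)), ((nat_lit 75), (nat_lit 1)), ((nat_lit 103), (nat_lit 1)), ((nat_lit 105), (nat_lit 1)), ((nat_lit 106), (nat_lit 7)), ((nat_lit 120), (nat_lit 1)), ((nat_lit 121), (nat_lit 7)), ((nat_lit 123), (nat_lit 7)), ((nat_lit 124), (nat_lit 1)), ((nat_lit 150), (nat_lit 1)), ((nat_lit 153), (nat_lit 7)), ((nat_lit 165), (nat_lit 7)), ((nat_lit 168), (nat_lit 1)), ((nat_lit 169), (nat_lit 2)), ((nat_lit 171), (nat_lit 1)), ((nat_lit 172), (nat_lit 1)), ((nat_lit 178), (nat_lit 7)), ((nat_lit 181), (nat_lit 1)), ((nat_lit 183), (nat_lit 7)), ((nat_lit 184), (nat_lit 2)), ((nat_lit 186), (nat_lit 2)), ((nat_lit 198), (nat_lit 7)), ((nat_lit 199), (nat_lit 7)), ((nat_lit 203), (nat_lit 6)), ((nat_lit 210), (nat_lit 1)), ((nat_lit 211), (nat_lit 6)), ((nat_lit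 213), (nat_lit 6)), ((nat_lit 214), (nat_lit 1)), ((nat_lit 216), (nat_lit 1)), ((nat_lit 217), (nat_lit 1)), ((nat_lit 218), (nat_lit 2)), ((nat_lit 220), (nat_lit 1)), ((nat_lit 223), (nat_lit 7)), ((nat_lit 226), (nat_lit 6)), ((nat_lit 232), (nat_lit 3)), ((nat_lit 233), (nat_lit 1)), ((nat_lit 235), (nat_lit 1)), ((nat_lit 240), (nat_lit 7)), ((nat_lit 244), (nat_lit 7)), ((nat_lit 246), (nat_lit 1)), ((nat_lit 247), (nat_lit 3)), ((nat_lit 249), (nat_lit 7)), ((nat_lit 251), (nat_lit 7)), ((nat_lit 252), (nat_lit 7))]⟩,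
  ⟨true, (nat_lit 0), [nat_lit 13, nat_lit 20], [nat_lit 20, nat_lit 13, nat_lit 26, nat_lit 14], [((nat_lit 26), (nat_lit 1)), ((nat_lit 14), (nat_lit 1)), ((nat_lit 43), (nat_lit 1)), ((nat_lit 58), (nat_lit 1)), ((nat_lit 59), (nat_lit 1)), ((nat_lit 73), (nat_lit 7)), ((nat_lit 74), (nat_lit 7)), ((nat_lit 75), (nat_lit 6)), ((nat_lit 103), (nat_lit 7)), ((nat_lit 105), (nat_lit 1)), ((nat_lit 106), (nat_lit 1)), ((nat_lit 119), (nat_lit 7)), ((nat_lit 120), (nat_lit 7)), ((nat_lit 121), (nat_lit 2)), ((nat_lit 123), (nat_lit 1)), ((nat_lit 133), (nat_lit 1)), ((nat_lit 135), (nat_lit 7)), ((nat_lit 136), (nat_lit 1)), ((nat_lit 138), (nat_lit 1)), ((nat_lit 149), (nat_lit 7)), ((nat_lit 150), (nat_lit 7)), ((nat_lit 151), (nat_lit 1)), ((nat_lit 153), (nat_lit 1)), ((nat_lit 155), (nat_lit 7)), ((nat_lit 163), (nat_lit 1)), ((nat_lit 164), (nat_lit 1)), ((nat_lit 165), (nat_lit 1)),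 ((nat_lit 166), (nat_lit 7)), ((nat_lit 169), (nat_lit 7)), ((nat_lit 170), (nat_lit 7)), ((nat_lit 171), (nat_lit 1)), ((nat_lit 178), (nat_lit 1)), ((nat_lit 183), (nat_lit 1)), ((nat_lit 184), (nat_lit 1)), ((nat_lit 186), (nat_lit 6)), ((nat_lit 188), (nat_lit 1)), ((nat_lit 193), (nat_lit 1)), ((nat_lit 195), (nat_lit 7)), ((nat_lit 196), (nat_lit 1)), ((nat_lit 199), (nat_lit 7)), ((nat_lit 200), (nat_lit 7)), ((nat_lit 201), (nat_lit 7)), ((nat_lit 202), (nat_lit 7)), ((nat_lit 203), (nat_lit 7)), ((nat_lit 209), (nat_lit 7)), ((nat_lit 210), (nat_lit 7)), ((nat_lit 213), (nat_lit 1)), ((nat_lit 215), (nat_lit 3)), ((nat_lit 216), (nat_lit 2)), ((nat_lit 218), (nat_lit 1)), ((nat_lit 219), (nat_lit 4)), ((nat_lit 220), (nat_lit 7)), ((nat_lit 223), (nat_lit 1)), ((nat_lit 226), (nat_lit 1)), ((nat_lit 229), (nat_lit 1)), ((nat_lit 230), (nat_lit 2)), ((nat_lit 231), (nat_lit 7)),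 ((nat_lit 233), (nat_lit 6)), ((nat_lit 234), (nat_lit 6)), ((nat_lit 235), (nat_lit 6)), ((nat_lit 236), (nat_lit 7)), ((nat_lit 239), (nat_lit 1)), ((nat_lit 240), (nat_lit 1)), ((nat_lit 243), (nat_lit 1)), ((nat_lit 244), (nat_lit 2)), ((nat_lit 245), (nat_lit 1)), ((nat_lit 246), (nat_lit 6)), ((nat_lit 247), (nat_lit 1)), ((nat_lit 248), (nat_lit 2)), ((nat_lit 249), (nat_lit 7)), ((nat_lit 251), (nat_lit 3))]⟩]
noncomputable def I2_0 : List Pc.Idn := [⟨false, (nat_lit 0), [nat_lit 11], [nat_lit 11, nat_lit 0], [((nat_lit 193), (nat_lit 6))]⟩,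
  ⟨false, (nat_lit 0), [nat_lit 12], [nat_lit 12, nat_lit 0], [((nat_lit 208), (nat_lit 6))]⟩,
  ⟨false, (nat_lit 0), [nat_lit 13], [nat_lit 13, nat_lit 0], [((nat_lit 223), (nat_lit 6))]⟩,
  ⟨false, (nat_lit 0), [nat_lit 14], [nat_lit 14, nat_lit 0], [((nat_lit 238), (nat_lit 6))]⟩,
  ⟨false, (nat_lit 0), [nat_lit 14], [nat_lit 14, nat_lit 2], [((nat_lit 240), (nat_lit 6))]⟩,
  ⟨false, (nat_lit 0), [nat_lit 14], [nat_lit 14, nat_lit 3], [((nat_lit 241), (nat_lit 6))]⟩,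
  ⟨false, (nat_lit 0), [nat_lit 8], [nat_lit 8, nat_lit 4], [((nat_lit 152), (nat_lit 6))]⟩,
  ⟨false, (nat_lit 0), [nat_lit 11], [nat_lit 11, nat_lit 4], [((nat_lit 197), (nat_lit 6))]⟩,
  ⟨false, (nat_lit 0), [nat_lit 8], [nat_lit 8, nat_lit 5], [((nat_lit 153), (nat_lit 6))]⟩,
  ⟨false, (nat_lit 0), [nat_lit 9], [nat_lit 9, nat_lit 5], [((nat_lit 168), (nat_lit 6))]⟩,
  ⟨false, (nat_lit 0), [nat_lit 10], [nat_lit 10, nat_lit 5], [((nat_lit 183), (nat_lit 6))]⟩,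
  ⟨false, (nat_lit 0), [nat_lit 12], [nat_lit 12, nat_lit 5], [((nat_lit 213), (nat_lit 6))]⟩,
  ⟨false, (nat_lit 0), [nat_lit 13], [nat_lit 13, nat_lit 5], [((nat_lit 228), (nat_lit 6))]⟩,
  ⟨false, (nat_lit 0), [nat_lit 14], [nat_lit 14, nat_lit 5], [((nat_lit 243), (nat_lit 6))]⟩,
  ⟨false, (nat_lit 0), [nat_lit 6], [nat_lit 6, nat_lit 6], [((nat_lit 244), (nat_lit 1))]⟩,
  ⟨false, (nat_lit 0), [nat_lit 10], [nat_lit 10, nat_lit 6], [((nat_lit 184), (nat_lit 6))]⟩,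
  ⟨false, (nat_lit 0), [nat_lit 11], [nat_lit 11, nat_lit 6], [((nat_lit 199), (nat_lit 6))]⟩,
  ⟨false, (nat_lit 0), [nat_lit 12], [nat_lit 12, nat_lit 6], [((nat_lit 214), (nat_lit 6))]⟩,
  ⟨false, (nat_lit 0), [nat_lit 13], [nat_lit 13, nat_lit 6], [((nat_lit 229), (nat_lit 6))]⟩,
  ⟨false, (nat_lit 0), [nat_lit 7], [nat_lit 7, nat_lit 7], [((nat_lit 245), (nat_lit 1))]⟩,
  ⟨false, (nat_lit 0), [nat_lit 12], [nat_lit 12, nat_lit 7], [((nat_lit 215), (nat_lit 6))]⟩,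
  ⟨false, (nat_lit 0), [nat_lit 13], [nat_lit 13, nat_lit 7], [((nat_lit 230), (nat_lit 6))]⟩,
  ⟨false, (nat_lit 0), [nat_lit 9], [nat_lit 9, nat_lit 8], [((nat_lit 171), (nat_lit 6))]⟩,
  ⟨false, (nat_lit 0), [nat_lit 10], [nat_lit 10, nat_lit 8], [((nat_lit 186), (nat_lit 6))]⟩,
  ⟨false, (nat_lit 0), [nat_lit 11], [nat_lit 11, nat_lit 8], [((nat_lit 201), (nat_lit 6))]⟩,
  ⟨false, (nat_lit 0), [nat_lit 12], [nat_lit 12, nat_lit 8], [((nat_lit 216), (nat_lit 6))]⟩,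
  ⟨false, (nat_lit 0), [nat_lit 13], [nat_lit 13, nat_lit 8], [((nat_lit 231), (nat_lit 6))]⟩,
  ⟨false, (nat_lit 0), [nat_lit 14], [nat_lit 14, nat_lit 8], [((nat_lit 246), (nat_lit 6))]⟩,
  ⟨false, (nat_lit 0), [nat_lit 11], [nat_lit 11, nat_lit 9], [((nat_lit 202), (nat_lit 6))]⟩,
  ⟨false, (nat_lit 0), [nat_lit 12], [nat_lit 12, nat_lit 9], [((nat_lit 217), (nat_lit 6))]⟩,
  ⟨false, (nat_lit 0), [nat_lit 13], [nat_lit 13, nat_lit 9], [((nat_lit 232), (nat_lit 6))]⟩,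
  ⟨false, (nat_lit 0), [nat_lit 14], [nat_lit 14, nat_lit 9], [((nat_lit 247), (nat_lit 6))]⟩,
  ⟨false, (nat_lit 0), [nat_lit 11], [nat_lit 11, nat_lit 10], [((nat_lit 203), (nat_lit 6))]⟩,
  ⟨false, (nat_lit 0), [nat_lit 12], [nat_lit 12, nat_lit 10], [((nat_lit 218), (nat_lit 6))]⟩,
  ⟨false, (nat_lit 0), [nat_lit 13], [nat_lit 13, nat_lit 10], [((nat_lit 233), (nat_lit 6))]⟩,
  ⟨false, (nat_lit 0), [nat_lit 14], [nat_lit 14, nat_lit 10], [((nat_lit 248), (nat_lit 6))]⟩,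
  ⟨false, (nat_lit 0), [nat_lit 12], [nat_lit 12, nat_lit 11], [((nat_lit 219), (nat_lit 6))]⟩,
  ⟨false, (nat_lit 0), [nat_lit 13], [nat_lit 13, nat_lit 11], [((nat_lit 234), (nat_lit 6))]⟩,
  ⟨false, (nat_lit 0), [nat_lit 13], [nat_lit 13, nat_lit 12], [((nat_lit 235), (nat_lit 6))]⟩,
  ⟨false, (nat_lit 0), [nat_lit 14], [nat_lit 14, nat_lit 12], [((nat_lit 250), (nat_lit 6))]⟩,
  ⟨false, (nat_lit 0), [nat_lit 14], [nat_lit 14, nat_lit 13], [((nat_lit 251), (nat_lit 6))]⟩,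
  ⟨false, (nat_lit 0), [nat_lit 5], [nat_lit 5, nat_lit 0], [((nat_lit 103), (nat_lit 6)), ((nat_lit 228), (nat_lit 7)), ((nat_lit 236), (nat_lit 7))]⟩,
  ⟨false, (nat_lit 0), [nat_lit 9], [nat_lit 9, nat_lit 0], [((nat_lit 163), (nat_lit 6)), ((nat_lit 247), (nat_lit 7)), ((nat_lit 252), (nat_lit 7))]⟩,
  ⟨false, (nat_lit 0), [nat_lit 10], [nat_lit 10, nat_lit 0], [((nat_lit 178), (nat_lit 6)), ((nat_lit 248), (nat_lit 7)), ((nat_lit 252), (nat_lit 7))]⟩,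
  ⟨false, (nat_lit 0), [nat_lit 5], [nat_lit 5, nat_lit 1], [((nat_lit 104), (nat_lit 6)), ((nat_lit 168), (nat_lit 7)), ((nat_lit 172), (nat_lit 7))]⟩,
  ⟨false, (nat_lit 0), [nat_lit 9], [nat_lit 9, nat_lit 1], [((nat_lit 164), (nat_lit 6)), ((nat_lit 217), (nat_lit 7)), ((nat_lit 220), (nat_lit 7))]⟩,
  ⟨false, (nat_lit 0), [nat_lit 13], [nat_lit 13, nat_lit 1], [((nat_lit 224), (nat_lit 6)), ((nat_lit 251), (nat_lit 7)), ((nat_lit 252), (nat_lit 7))]⟩,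
  ⟨false, (nat_lit 0), [nat_lit 5], [nat_lit 5, nat_lit 2], [((nat_lit 105), (nat_lit 6)), ((nat_lit 183), (nat_lit 7)), ((nat_lit 188), (nat_lit 7))]⟩,
  ⟨false, (nat_lit 0), [nat_lit 9], [nat_lit 9, nat_lit 2], [((nat_lit 165), (nat_lit 6)), ((nat_lit 247), (nat_lit 7)), ((nat_lit 252), (nat_lit 7))]⟩,
  ⟨false, (nat_lit 0), [nat_lit 12], [nat_lit 12, nat_lit 2], [((nat_lit 210), (nat_lit 6)), ((nat_lit 250), (nat_lit 7)), ((nat_lit 252), (nat_lit 7))]⟩,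
  ⟨false, (nat_lit 0), [nat_lit 12], [nat_lit 12, nat_lit 3], [((nat_lit 211), (nat_lit 6)), ((nat_lit 250), (nat_lit 7)), ((nat_lit 252), (nat_lit 7))]⟩,
  ⟨false, (nat_lit 0), [nat_lit 13], [nat_lit 13, nat_lit 3], [((nat_lit 226), (nat_lit 6)), ((nat_lit 251), (nat_lit 7)), ((nat_lit 252), (nat_lit 7))]⟩,
  ⟨false, (nat_lit 0), [nat_lit 5], [nat_lit 5, nat_lit 4], [((nat_lit 107), (nat_lit 6)), ((nat_lit 198), (nat_lit 7)), ((nat_lit 204), (nat_lit 7))]⟩,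
  ⟨false, (nat_lit 0), [nat_lit 9], [nat_lit 9, nat_lit 4], [((nat_lit 167), (nat_lit 6)), ((nat_lit 232), (nat_lit 7)), ((nat_lit 236), (nat_lit 7))]⟩,
  ⟨false, (nat_lit 0), [nat_lit 7], [nat_lit 5, nat_lit 5], [((nat_lit 138), (nat_lit 2)), ((nat_lit 228), (nat_lit 1)), ((nat_lit 236), (nat_lit 1))]⟩,
  ⟨false, (nat_lit 0), [nat_lit 10], [nat_lit 6, nat_lit 6], [((nat_lit 184), (nat_lit 2)), ((nat_lit 248), (nat_lit 1))]⟩,
  ⟨false, (nat_lit 0), [nat_lit 11], [nat_lit 6, nat_lit 6], [((nat_lit 199), (nat_lit 2)), ((nat_lit 249), (nat_lit 1))]⟩,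
  ⟨false, (nat_lit 0), [nat_lit 12], [nat_lit 6, nat_lit 6], [((nat_lit 214), (nat_lit 2)), ((nat_lit 250), (nat_lit 1))]⟩,
  ⟨false, (nat_lit 0), [nat_lit 13], [nat_lit 6, nat_lit 6], [((nat_lit 229), (nat_lit 2)), ((nat_lit 251), (nat_lit 1))]⟩,
  ⟨false, (nat_lit 0), [nat_lit 9], [nat_lit 9, nat_lit 7], [((nat_lit 170), (nat_lit 6)), ((nat_lit 247), (nat_lit 7)), ((nat_lit 252), (nat_lit 7))]⟩,
  ⟨false, (nat_lit 0), [nat_lit 10], [nat_lit 10, nat_lit 7], [((nat_lit 185), (nat_lit 6)), ((nat_lit 248), (nat_lit 7)), ((nat_lit 252), (nat_lit 7))]⟩,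
  ⟨false, (nat_lit 0), [nat_lit 4], [nat_lit 4, nat_lit 4], [((nat_lit 197), (nat_lit 1)), ((nat_lit 212), (nat_lit 1)), ((nat_lit 242), (nat_lit 1))]⟩,
  ⟨false, (nat_lit 0), [nat_lit 7], [nat_lit 7, nat_lit 6], [((nat_lit 139), (nat_lit 6)), ((nat_lit 244), (nat_lit 1)), ((nat_lit 245), (nat_lit 7)), ((nat_lit 252), (nat_lit 7))]⟩,
  ⟨false, (nat_lit 0), [nat_lit 14], [nat_lit 0, nat_lit 0], [((nat_lit 238), (nat_lit 2)), ((nat_lit 247), (nat_lit 7)), ((nat_lit 248), (nat_lit 7))]⟩,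
  ⟨false, (nat_lit 0), [nat_lit 10], [nat_lit 10, nat_lit 1], [((nat_lit 179), (nat_lit 6)), ((nat_lit 218), (nat_lit 7)), ((nat_lit 220), (nat_lit 7)), ((nat_lit 233), (nat_lit 7)), ((nat_lit 235), (nat_lit 7)), ((nat_lit 236), (nat_lit 7))]⟩,
  ⟨false, (nat_lit 0), [nat_lit 11], [nat_lit 11, nat_lit 1], [((nat_lit 194), (nat_lit 6)), ((nat_lit 219), (nat_lit 7)), ((nat_lit 220), (nat_lit 7)), ((nat_lit 249), (nat_lit 7)), ((nat_lit 250), (nat_lit 7)), ((nat_lit 252), (nat_lit 7))]⟩,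
  ⟨false, (nat_lit 0), [nat_lit 11], [nat_lit 11, nat_lit 2], [((nat_lit 195), (nat_lit 6)), ((nat_lit 219), (nat_lit 7)), ((nat_lit 220), (nat_lit 7)), ((nat_lit 234), (nat_lit 7)), ((nat_lit 235), (nat_lit 7)), ((nat_lit 236), (nat_lit 7))]⟩,
  ⟨false, (nat_lit 0), [nat_lit 9], [nat_lit 9, nat_lit 3], [((nat_lit 166), (nat_lit 6)), ((nat_lit 217), (nat_lit 7)), ((nat_lit 220), (nat_lit 7)), ((nat_lit 247), (nat_lit 7)), ((nat_lit 250), (nat_lit 7)), ((nat_lit 252), (nat_lit 7))]⟩,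
  ⟨false, (nat_lit 0), [nat_lit 10], [nat_lit 10, nat_lit 4], [((nat_lit 182), (nat_lit 6)), ((nat_lit 218), (nat_lit 7)), ((nat_lit 220), (nat_lit 7)), ((nat_lit 248), (nat_lit 7)), ((nat_lit 250), (nat_lit 7)), ((nat_lit 252), (nat_lit 7))]⟩,
  ⟨false, (nat_lit 0), [nat_lit 11], [nat_lit 4, nat_lit 4], [((nat_lit 197), (nat_lit 2)), ((nat_lit 219), (nat_lit 1)), ((nat_lit 249), (nat_lit 1))]⟩,
  ⟨false, (nat_lit 0), [nat_lit 6], [nat_lit 5, nat_lit 5], [((nat_lit 123), (nat_lit 2)), ((nat_lit 213), (nat_lit 1)), ((nat_lit 220), (nat_lit 1)), ((nat_lit 228), (nat_lit 1)), ((nat_lit 235), (nat_lit 1)), ((nat_lit 236), (nat_lit 1))]⟩,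
  ⟨false, (nat_lit 0), [nat_lit 8], [nat_lit 8, nat_lit 6], [((nat_lit 154), (nat_lit 6)), ((nat_lit 216), (nat_lit 7)), ((nat_lit 220), (nat_lit 7)), ((nat_lit 246), (nat_lit 7)), ((nat_lit 250), (nat_lit 7)), ((nat_lit 252), (nat_lit 7))]⟩,
  ⟨false, (nat_lit 0), [nat_lit 0], [nat_lit 0, nat_lit 0], [((nat_lit 163), (nat_lit 1)), ((nat_lit 178), (nat_lit 1)), ((nat_lit 238), (nat_lit 1)), ((nat_lit 248), (nat_lit 1)), ((nat_lit 252), (nat_lit 1))]⟩,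
  ⟨false, (nat_lit 0), [nat_lit 12], [nat_lit 1, nat_lit 0], [((nat_lit 213), (nat_lit 7))]⟩,
  ⟨false, (nat_lit 0), [nat_lit 14], [nat_lit 1, nat_lit 0], [((nat_lit 243), (nat_lit 7))]⟩,
  ⟨false, (nat_lit 0), [nat_lit 11], [nat_lit 4, nat_lit 0], [((nat_lit 201), (nat_lit 7))]⟩,
  ⟨false, (nat_lit 0), [nat_lit 12], [nat_lit 4, nat_lit 0], [((nat_lit 216), (nat_lit 7))]⟩,
  ⟨false, (nat_lit 0), [nat_lit 13], [nat_lit 4, nat_lit 0], [((nat_lit 231), (nat_lit 7))]⟩,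
  ⟨false, (nat_lit 0), [nat_lit 14], [nat_lit 4, nat_lit 0], [((nat_lit 246), (nat_lit 7))]⟩,
  ⟨false, (nat_lit 0), [nat_lit 11], [nat_lit 5, nat_lit 0], [((nat_lit 234), (nat_lit 1))]⟩,
  ⟨false, (nat_lit 0), [nat_lit 12], [nat_lit 5, nat_lit 0], [((nat_lit 235), (nat_lit 1))]⟩,
  ⟨false, (nat_lit 0), [nat_lit 11], [nat_lit 0, nat_lit 0], [((nat_lit 193), (nat_lit 2)), ((nat_lit 202), (nat_lit 7)), ((nat_lit 203), (nat_lit 7)), ((nat_lit 249), (nat_lit 1))]⟩,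
  ⟨false, (nat_lit 0), [nat_lit 12], [nat_lit 0, nat_lit 0], [((nat_lit 208), (nat_lit 2)), ((nat_lit 217), (nat_lit 7)), ((nat_lit 218), (nat_lit 7)), ((nat_lit 250), (nat_lit 1))]⟩,
  ⟨false, (nat_lit 0), [nat_lit 13], [nat_lit 0, nat_lit 0], [((nat_lit 223), (nat_lit 2)), ((nat_lit 232), (nat_lit 7)), ((nat_lit 233), (nat_lit 7)), ((nat_lit 251), (nat_lit 1))]⟩,
  ⟨false, (nat_lit 0), [nat_lit 12], [nat_lit 5, nat_lit 1], [((nat_lit 217), (nat_lit 7))]⟩,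
  ⟨false, (nat_lit 0), [nat_lit 6], [nat_lit 6, nat_lit 4], [((nat_lit 122), (nat_lit 6)), ((nat_lit 214), (nat_lit 7)), ((nat_lit 220), (nat_lit 7)), ((nat_lit 242), (nat_lit 1)), ((nat_lit 250), (nat_lit 6))]⟩,
  ⟨false, (nat_lit 0), [nat_lit 7], [nat_lit 7, nat_lit 5], [((nat_lit 138), (nat_lit 6)), ((nat_lit 230), (nat_lit 7)), ((nat_lit 236), (nat_lit 7)), ((nat_lit 243), (nat_lit 1)), ((nat_lit 251), (nat_lit 6))]⟩,
  ⟨false, (nat_lit 0), [nat_lit 13], [nat_lit 6, nat_lit 0], [((nat_lit 233), (nat_lit 7))]⟩,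
  ⟨false, (nat_lit 0), [nat_lit 9], [nat_lit 0, nat_lit 0], [((nat_lit 163), (nat_lit 2)), ((nat_lit 187), (nat_lit 1)), ((nat_lit 238), (nat_lit 1)), ((nat_lit 247), (nat_lit 1)), ((nat_lit 252), (nat_lit 1))]⟩,
  ⟨false, (nat_lit 0), [nat_lit 7], [nat_lit 7, nat_lit 2], [((nat_lit 135), (nat_lit 6)), ((nat_lit 230), (nat_lit 7)), ((nat_lit 236), (nat_lit 7)), ((nat_lit 240), (nat_lit 1)), ((nat_lit 245), (nat_lit 7)), ((nat_lit 251), (nat_lit 7)), ((nat_lit 252), (nat_lit 7))]⟩,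
  ⟨false, (nat_lit 0), [nat_lit 8], [nat_lit 6, nat_lit 6], [((nat_lit 154), (nat_lit 2)), ((nat_lit 214), (nat_lit 1)), ((nat_lit 220), (nat_lit 1)), ((nat_lit 244), (nat_lit 1)), ((nat_lit 246), (nat_lit 1)), ((nat_lit 250), (nat_lit 1)), ((nat_lit 252), (nat_lit 1))]⟩,
  ⟨false, (nat_lit 0), [nat_lit 11], [nat_lit 6, nat_lit 0], [((nat_lit 203), (nat_lit 7)), ((nat_lit 234), (nat_lit 1))]⟩,
  ⟨false, (nat_lit 0), [nat_lit 2], [nat_lit 2, nat_lit 2], [((nat_lit 180), (nat_lit 1)), ((nat_lit 210), (nat_lit 1)), ((nat_lit 225), (nat_lit 1)), ((nat_lit 240), (nat_lit 1)), ((nat_lit 251), (nat_lit 1)), ((nat_lit 252), (nat_lit 1))]⟩,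
  ⟨false, (nat_lit 0), [nat_lit 13], [nat_lit 1, nat_lit 0], [((nat_lit 228), (nat_lit 7)), ((nat_lit 238), (nat_lit 1)), ((nat_lit 243), (nat_lit 7))]⟩,
  ⟨false, (nat_lit 0), [nat_lit 8], [nat_lit 8, nat_lit 0], [((nat_lit 148), (nat_lit 6)), ((nat_lit 216), (nat_lit 7)), ((nat_lit 220), (nat_lit 7)), ((nat_lit 231), (nat_lit 7)), ((nat_lit 235), (nat_lit 7)), ((nat_lit 236), (nat_lit 7)), ((nat_lit 246), (nat_lit 7)), ((nat_lit 250), (nat_lit 7)), ((nat_lit 251), (nat_lit 7)), ((nat_lit 252), (nat_lit 7))]⟩,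
  ⟨false, (nat_lit 0), [nat_lit 12], [nat_lit 2, nat_lit 1], [((nat_lit 214), (nat_lit 7)), ((nat_lit 239), (nat_lit 1)), ((nat_lit 244), (nat_lit 7))]⟩,
  ⟨false, (nat_lit 0), [nat_lit 12], [nat_lit 3, nat_lit 1], [((nat_lit 215), (nat_lit 7)), ((nat_lit 239), (nat_lit 1)), ((nat_lit 245), (nat_lit 7))]⟩,
  ⟨false, (nat_lit 0), [nat_lit 9], [nat_lit 5, nat_lit 2], [((nat_lit 187), (nat_lit 1)), ((nat_lit 243), (nat_lit 7)), ((nat_lit 248), (nat_lit 7))]⟩,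
  ⟨false, (nat_lit 0), [nat_lit 8], [nat_lit 8, nat_lit 2], [((nat_lit 150), (nat_lit 6)), ((nat_lit 171), (nat_lit 7)), ((nat_lit 172), (nat_lit 7)), ((nat_lit 186), (nat_lit 7)), ((nat_lit 187), (nat_lit 7)), ((nat_lit 188), (nat_lit 7)), ((nat_lit 216), (nat_lit 7)), ((nat_lit 217), (nat_lit 7)), ((nat_lit 218), (nat_lit 7)), ((nat_lit 220), (nat_lit 7))]⟩,
  ⟨false, (nat_lit 0), [nat_lit 12], [nat_lit 2, nat_lit 2], [((nat_lit 210), (nat_lit 2)), ((nat_lit 218), (nat_lit 7)), ((nat_lit 235), (nat_lit 1)), ((nat_lit 240), (nat_lit 1)), ((nat_lit 250), (nat_lit 1)), ((nat_lit 252), (nat_lit 1))]⟩,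
  ⟨false, (nat_lit 0), [nat_lit 5], [nat_lit 5, nat_lit 3], [((nat_lit 106), (nat_lit 6)), ((nat_lit 183), (nat_lit 7)), ((nat_lit 188), (nat_lit 7)), ((nat_lit 228), (nat_lit 7)), ((nat_lit 233), (nat_lit 7)), ((nat_lit 236), (nat_lit 7)), ((nat_lit 243), (nat_lit 7)), ((nat_lit 248), (nat_lit 7)), ((nat_lit 251), (nat_lit 7)), ((nat_lit 252), (nat_lit 7))]⟩,
  ⟨false, (nat_lit 0), [nat_lit 10], [nat_lit 10, nat_lit 3], [((nat_lit 181), (nat_lit 6)), ((nat_lit 218), (nat_lit 7)), ((nat_lit 220), (nat_lit 7)), ((nat_lit 233), (nat_lit 7)), ((nat_lit 235), (nat_lit 7)), ((nat_lit 236), (nat_lit 7)), ((nat_lit 248), (nat_lit 7)), ((nat_lit 250), (nat_lit 7)), ((nat_lit 251), (nat_lit 7)), ((nat_lit 252), (nat_lit 7))]⟩,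
  ⟨false, (nat_lit 0), [nat_lit 5], [nat_lit 0, nat_lit 0], [((nat_lit 103), (nat_lit 2)), ((nat_lit 168), (nat_lit 1)), ((nat_lit 183), (nat_lit 1)), ((nat_lit 223), (nat_lit 1)), ((nat_lit 236), (nat_lit 1)), ((nat_lit 243), (nat_lit 1)), ((nat_lit 251), (nat_lit 2))]⟩,
  ⟨false, (nat_lit 0), [nat_lit 13], [nat_lit 2, nat_lit 1], [((nat_lit 229), (nat_lit 7)), ((nat_lit 239), (nat_lit 1)), ((nat_lit 240), (nat_lit 7))]⟩,
  ⟨false, (nat_lit 0), [nat_lit 13], [nat_lit 3, nat_lit 1], [((nat_lit 230), (nat_lit 7)), ((nat_lit 239), (nat_lit 1)), ((nat_lit 241), (nat_lit 7))]⟩,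
  ⟨false, (nat_lit 0), [nat_lit 6], [nat_lit 4, nat_lit 4], [((nat_lit 122), (nat_lit 2)), ((nat_lit 199), (nat_lit 1)), ((nat_lit 212), (nat_lit 1)), ((nat_lit 214), (nat_lit 1)), ((nat_lit 220), (nat_lit 1)), ((nat_lit 244), (nat_lit 1)), ((nat_lit 250), (nat_lit 2))]⟩,
  ⟨false, (nat_lit 0), [nat_lit 9], [nat_lit 4, nat_lit 4], [((nat_lit 167), (nat_lit 2)), ((nat_lit 202), (nat_lit 1)), ((nat_lit 217), (nat_lit 1)), ((nat_lit 227), (nat_lit 1)), ((nat_lit 236), (nat_lit 1)), ((nat_lit 247), (nat_lit 1)), ((nat_lit 251), (nat_lit 2))]⟩,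
  ⟨false, (nat_lit 0), [nat_lit 6], [nat_lit 6, nat_lit 0], [((nat_lit 118), (nat_lit 6)), ((nat_lit 184), (nat_lit 7)), ((nat_lit 188), (nat_lit 7)), ((nat_lit 229), (nat_lit 7)), ((nat_lit 233), (nat_lit 7)), ((nat_lit 236), (nat_lit 7)), ((nat_lit 238), (nat_lit 1)), ((nat_lit 248), (nat_lit 6)), ((nat_lit 251), (nat_lit 6))]⟩,
  ⟨false, (nat_lit 0), [nat_lit 7], [nat_lit 7, nat_lit 0], [((nat_lit 133), (nat_lit 6)), ((nat_lit 170), (nat_lit 7)), ((nat_lit 172), (nat_lit 7)), ((nat_lit 185), (nat_lit 7)), ((nat_lit 187), (nat_lit 7)), ((nat_lit 188), (nat_lit 7)), ((nat_lit 238), (nat_lit 1)), ((nat_lit 247), (nat_lit 6)), ((nat_lit 248), (nat_lit 7)), ((nat_lit 252), (nat_lit 7))]⟩,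
  ⟨false, (nat_lit 0), [nat_lit 6], [nat_lit 6, nat_lit 1], [((nat_lit 119), (nat_lit 6)), ((nat_lit 184), (nat_lit 7)), ((nat_lit 188), (nat_lit 7)), ((nat_lit 229), (nat_lit 7)), ((nat_lit 233), (nat_lit 7)), ((nat_lit 236), (nat_lit 7)), ((nat_lit 239), (nat_lit 1)), ((nat_lit 248), (nat_lit 6)), ((nat_lit 251), (nat_lit 6))]⟩,
  ⟨false, (nat_lit 0), [nat_lit 7], [nat_lit 7, nat_lit 1], [((nat_lit 134), (nat_lit 6)), ((nat_lit 170), (nat_lit 7)), ((nat_lit 172), (nat_lit 7)), ((nat_lit 185), (nat_lit 7)), ((nat_lit 187), (nat_lit 7)), ((nat_lit 188), (nat_lit 7)), ((nat_lit 239), (nat_lit 1)), ((nat_lit 247), (nat_lit 6)), ((nat_lit 248), (nat_lit 7)), ((nat_lit 252), (nat_lit 7))]⟩,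
  ⟨false, (nat_lit 0), [nat_lit 6], [nat_lit 6, nat_lit 2], [((nat_lit 120), (nat_lit 6)), ((nat_lit 214), (nat_lit 7)), ((nat_lit 220), (nat_lit 7)), ((nat_lit 229), (nat_lit 7)), ((nat_lit 235), (nat_lit 7)), ((nat_lit 236), (nat_lit 7)), ((nat_lit 240), (nat_lit 1)), ((nat_lit 250), (nat_lit 6)), ((nat_lit 251), (nat_lit 6))]⟩,
  ⟨false, (nat_lit 0), [nat_lit 6], [nat_lit 6, nat_lit 3], [((nat_lit 121), (nat_lit 6)), ((nat_lit 184), (nat_lit 7)), ((nat_lit 188), (nat_lit 7)), ((nat_lit 229), (nat_lit 7)), ((nat_lit 233), (nat_lit 7)), ((nat_lit 236), (nat_lit 7)), ((nat_lit 241), (nat_lit 1)), ((nat_lit 248), (nat_lit 6)), ((nat_lit 251), (nat_lit 6))]⟩,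
  ⟨false, (nat_lit 0), [nat_lit 7], [nat_lit 7, nat_lit 3], [((nat_lit 136), (nat_lit 6)), ((nat_lit 170), (nat_lit 7)), ((nat_lit 172), (nat_lit 7)), ((nat_lit 185), (nat_lit 7)), ((nat_lit 187), (nat_lit 7)), ((nat_lit 188), (nat_lit 7)), ((nat_lit 241), (nat_lit 1)), ((nat_lit 247), (nat_lit 6)), ((nat_lit 248), (nat_lit 7)), ((nat_lit 252), (nat_lit 7))]⟩,
  ⟨false, (nat_lit 0), [nat_lit 8], [nat_lit 6, nat_lit 4], [((nat_lit 212), (nat_lit 1)), ((nat_lit 216), (nat_lit 1)), ((nat_lit 242), (nat_lit 1)), ((nat_lit 250), (nat_lit 7))]⟩,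
  ⟨false, (nat_lit 0), [nat_lit 7], [nat_lit 7, nat_lit 4], [((nat_lit 137), (nat_lit 6)), ((nat_lit 215), (nat_lit 7)), ((nat_lit 220), (nat_lit 7)), ((nat_lit 230), (nat_lit 7)), ((nat_lit 235), (nat_lit 7)), ((nat_lit 236), (nat_lit 7)), ((nat_lit 242), (nat_lit 1)), ((nat_lit 250), (nat_lit 6)), ((nat_lit 251), (nat_lit 6))]⟩,
  ⟨false, (nat_lit 0), [nat_lit 11], [nat_lit 1, nat_lit 0], [((nat_lit 198), (nat_lit 7)), ((nat_lit 208), (nat_lit 1)), ((nat_lit 213), (nat_lit 7)), ((nat_lit 238), (nat_lit 1)), ((nat_lit 243), (nat_lit 7))]⟩,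
  ⟨false, (nat_lit 0), [nat_lit 9], [nat_lit 1, nat_lit 0], [((nat_lit 168), (nat_lit 7)), ((nat_lit 208), (nat_lit 1)), ((nat_lit 213), (nat_lit 7)), ((nat_lit 239), (nat_lit 7)), ((nat_lit 243), (nat_lit 7)), ((nat_lit 250), (nat_lit 1))]⟩,
  ⟨false, (nat_lit 0), [nat_lit 5], [nat_lit 4, nat_lit 0], [((nat_lit 153), (nat_lit 1)), ((nat_lit 193), (nat_lit 1)), ((nat_lit 201), (nat_lit 7)), ((nat_lit 227), (nat_lit 7)), ((nat_lit 231), (nat_lit 7)), ((nat_lit 234), (nat_lit 1))]⟩,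
  ⟨false, (nat_lit 0), [nat_lit 9], [nat_lit 4, nat_lit 0], [((nat_lit 171), (nat_lit 7)), ((nat_lit 223), (nat_lit 1)), ((nat_lit 231), (nat_lit 7)), ((nat_lit 242), (nat_lit 7)), ((nat_lit 246), (nat_lit 7)), ((nat_lit 251), (nat_lit 1))]⟩,
  ⟨false, (nat_lit 0), [nat_lit 9], [nat_lit 6, nat_lit 4], [((nat_lit 217), (nat_lit 1)), ((nat_lit 229), (nat_lit 7)), ((nat_lit 235), (nat_lit 7)), ((nat_lit 242), (nat_lit 1)), ((nat_lit 250), (nat_lit 7)), ((nat_lit 251), (nat_lit 7))]⟩,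
  ⟨false, (nat_lit 0), [nat_lit 5], [nat_lit 1, nat_lit 0], [((nat_lit 163), (nat_lit 1)), ((nat_lit 168), (nat_lit 7)), ((nat_lit 224), (nat_lit 7)), ((nat_lit 228), (nat_lit 7)), ((nat_lit 232), (nat_lit 1)), ((nat_lit 243), (nat_lit 7))]⟩,
  ⟨false, (nat_lit 0), [nat_lit 4], [nat_lit 4, nat_lit 0], [((nat_lit 88), (nat_lit 6)), ((nat_lit 152), (nat_lit 7)), ((nat_lit 156), (nat_lit 7)), ((nat_lit 193), (nat_lit 1)), ((nat_lit 201), (nat_lit 6)), ((nat_lit 208), (nat_lit 1)), ((nat_lit 216), (nat_lit 6)), ((nat_lit 238), (nat_lit 1)), ((nat_lit 246), (nat_lit 6))]⟩,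
  ⟨false, (nat_lit 0), [nat_lit 10], [nat_lit 4, nat_lit 0], [((nat_lit 186), (nat_lit 7)), ((nat_lit 208), (nat_lit 1)), ((nat_lit 216), (nat_lit 7)), ((nat_lit 238), (nat_lit 1)), ((nat_lit 242), (nat_lit 7)), ((nat_lit 250), (nat_lit 1))]⟩,
  ⟨false, (nat_lit 0), [nat_lit 6], [nat_lit 0, nat_lit 0], [((nat_lit 118), (nat_lit 2)), ((nat_lit 169), (nat_lit 1)), ((nat_lit 178), (nat_lit 1)), ((nat_lit 184), (nat_lit 1)), ((nat_lit 188), (nat_lit 1)), ((nat_lit 223), (nat_lit 1)), ((nat_lit 233), (nat_lit 1)), ((nat_lit 236), (nat_lit 1)), ((nat_lit 244), (nat_lit 1)), ((nat_lit 248), (nat_lit 1)), ((nat_lit 251), (nat_lit 1)), ((nat_lit 252), (nat_lit 1))]⟩,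
  ⟨false, (nat_lit 0), [nat_lit 9], [nat_lit 2, nat_lit 1], [((nat_lit 169), (nat_lit 7)), ((nat_lit 210), (nat_lit 7)), ((nat_lit 214), (nat_lit 7)), ((nat_lit 239), (nat_lit 1)), ((nat_lit 250), (nat_lit 6)), ((nat_lit 252), (nat_lit 7))]⟩,
  ⟨false, (nat_lit 0), [nat_lit 10], [nat_lit 2, nat_lit 1], [((nat_lit 184), (nat_lit 7)), ((nat_lit 210), (nat_lit 7)), ((nat_lit 214), (nat_lit 7)), ((nat_lit 225), (nat_lit 7)), ((nat_lit 229), (nat_lit 7)), ((nat_lit 251), (nat_lit 7)), ((nat_lit 252), (nat_lit 7))]⟩,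
  ⟨false, (nat_lit 0), [nat_lit 9], [nat_lit 3, nat_lit 1], [((nat_lit 170), (nat_lit 7)), ((nat_lit 209), (nat_lit 1)), ((nat_lit 211), (nat_lit 7)), ((nat_lit 239), (nat_lit 1)), ((nat_lit 250), (nat_lit 7)), ((nat_lit 252), (nat_lit 7))]⟩,
  ⟨false, (nat_lit 0), [nat_lit 8], [nat_lit 5, nat_lit 2], [((nat_lit 168), (nat_lit 7)), ((nat_lit 183), (nat_lit 7)), ((nat_lit 186), (nat_lit 1)), ((nat_lit 187), (nat_lit 1)), ((nat_lit 213), (nat_lit 7)), ((nat_lit 218), (nat_lit 7))]⟩,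
  ⟨false, (nat_lit 0), [nat_lit 7], [nat_lit 5, nat_lit 4], [((nat_lit 200), (nat_lit 1)), ((nat_lit 213), (nat_lit 7)), ((nat_lit 219), (nat_lit 7)), ((nat_lit 227), (nat_lit 1)), ((nat_lit 228), (nat_lit 7)), ((nat_lit 235), (nat_lit 7))]⟩,
  ⟨false, (nat_lit 0), [nat_lit 7], [nat_lit 5, nat_lit 2], [((nat_lit 185), (nat_lit 1)), ((nat_lit 225), (nat_lit 1)), ((nat_lit 228), (nat_lit 7)), ((nat_lit 243), (nat_lit 7)), ((nat_lit 248), (nat_lit 7)), ((nat_lit 251), (nat_lit 1)), ((nat_lit 252), (nat_lit 1))]⟩,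
  ⟨false, (nat_lit 0), [nat_lit 5], [nat_lit 2, nat_lit 2], [((nat_lit 105), (nat_lit 2)), ((nat_lit 180), (nat_lit 1)), ((nat_lit 183), (nat_lit 1)), ((nat_lit 188), (nat_lit 1)), ((nat_lit 213), (nat_lit 1)), ((nat_lit 218), (nat_lit 2)), ((nat_lit 228), (nat_lit 1)), ((nat_lit 233), (nat_lit 2)), ((nat_lit 243), (nat_lit 1)), ((nat_lit 248), (nat_lit 2))]⟩,
  ⟨false, (nat_lit 0), [nat_lit 11], [nat_lit 1, nat_lit 1], [((nat_lit 194), (nat_lit 2)), ((nat_lit 198), (nat_lit 7)), ((nat_lit 199), (nat_lit 7)), ((nat_lit 200), (nat_lit 7)), ((nat_lit 203), (nat_lit 7)), ((nat_lit 209), (nat_lit 1)), ((nat_lit 219), (nat_lit 1)), ((nat_lit 220), (nat_lit 1)), ((nat_lit 239), (nat_lit 1)), ((nat_lit 249), (nat_lit 1)), ((nat_lit 250), (nat_lit 1)), ((nat_lit 252), (nat_lit 1))]⟩,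
  ⟨false, (nat_lit 0), [nat_lit 11], [nat_lit 2, nat_lit 1], [((nat_lit 199), (nat_lit 7)), ((nat_lit 209), (nat_lit 1)), ((nat_lit 210), (nat_lit 7)), ((nat_lit 224), (nat_lit 1)), ((nat_lit 229), (nat_lit 7)), ((nat_lit 235), (nat_lit 7)), ((nat_lit 240), (nat_lit 7)), ((nat_lit 250), (nat_lit 1)), ((nat_lit 251), (nat_lit 1))]⟩,
  ⟨false, (nat_lit 0), [nat_lit 11], [nat_lit 3, nat_lit 1], [((nat_lit 200), (nat_lit 7)), ((nat_lit 209), (nat_lit 1)), ((nat_lit 211), (nat_lit 7)), ((nat_lit 224), (nat_lit 1)), ((nat_lit 230), (nat_lit 7)), ((nat_lit 235), (nat_lit 7)), ((nat_lit 241), (nat_lit 7)), ((nat_lit 250), (nat_lit 1)), ((nat_lit 251), (nat_lit 1))]⟩,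
  ⟨false, (nat_lit 0), [nat_lit 1], [nat_lit 0, nat_lit 0], [((nat_lit 43), (nat_lit 2)), ((nat_lit 103), (nat_lit 1)), ((nat_lit 108), (nat_lit 1)), ((nat_lit 164), (nat_lit 1)), ((nat_lit 168), (nat_lit 2)), ((nat_lit 179), (nat_lit 1)), ((nat_lit 183), (nat_lit 2)), ((nat_lit 218), (nat_lit 1)), ((nat_lit 220), (nat_lit 1)), ((nat_lit 228), (nat_lit 2)), ((nat_lit 236), (nat_lit 1)), ((nat_lit 239), (nat_lit 1)), ((nat_lit 243), (nat_lit 2)), ((nat_lit 251), (nat_lit 1))]⟩,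
  ⟨false, (nat_lit 0), [nat_lit 8], [nat_lit 8, nat_lit 1], [((nat_lit 149), (nat_lit 6)), ((nat_lit 186), (nat_lit 7)), ((nat_lit 188), (nat_lit 7)), ((nat_lit 201), (nat_lit 7)), ((nat_lit 203), (nat_lit 7)), ((nat_lit 204), (nat_lit 7)), ((nat_lit 216), (nat_lit 7)), ((nat_lit 218), (nat_lit 7)), ((nat_lit 219), (nat_lit 7)), ((nat_lit 220), (nat_lit 7)), ((nat_lit 231), (nat_lit 7)), ((nat_lit 233), (nat_lit 7)), ((nat_lit 234), (nat_lit 7)), ((nat_lit 235), (nat_lit 7)), ((nat_lit 236), (nat_lit 7)), ((nat_lit 246), (nat_lit 7)), ((nat_lit 248), (nat_lit 7)), ((nat_lit 249), (nat_lit 7)), ((nat_lit 250), (nat_lit 7)), ((nat_lit 251), (nat_lit 7)), ((nat_lit 252), (nat_lit 7))]⟩,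
  ⟨false, (nat_lit 0), [nat_lit 7], [nat_lit 1, nat_lit 0], [((nat_lit 138), (nat_lit 7)), ((nat_lit 163), (nat_lit 1)), ((nat_lit 164), (nat_lit 7)), ((nat_lit 178), (nat_lit 1)), ((nat_lit 179), (nat_lit 7)), ((nat_lit 218), (nat_lit 7)), ((nat_lit 220), (nat_lit 7)), ((nat_lit 228), (nat_lit 7)), ((nat_lit 236), (nat_lit 7)), ((nat_lit 248), (nat_lit 1)), ((nat_lit 252), (nat_lit 1))]⟩,
  ⟨false, (nat_lit 0), [nat_lit 2], [nat_lit 0, nat_lit 0], [((nat_lit 58), (nat_lit 2)), ((nat_lit 163), (nat_lit 1)), ((nat_lit 165), (nat_lit 1)), ((nat_lit 172), (nat_lit 1)), ((nat_lit 180), (nat_lit 1)), ((nat_lit 187), (nat_lit 2)), ((nat_lit 208), (nat_lit 1)), ((nat_lit 217), (nat_lit 1)), ((nat_lit 220), (nat_lit 1)), ((nat_lit 223), (nat_lit 1)), ((nat_lit 232), (nat_lit 1)), ((nat_lit 235), (nat_lit 1)), ((nat_lit 236), (nat_lit 1)), ((nat_lit 238), (nat_lit 1)), ((nat_lit 240), (nat_lit 1)),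 ((nat_lit 247), (nat_lit 1)), ((nat_lit 248), (nat_lit 1)), ((nat_lit 252), (nat_lit 2))]⟩,
  ⟨false, (nat_lit 0), [nat_lit 4], [nat_lit 0, nat_lit 0], [((nat_lit 88), (nat_lit 2)), ((nat_lit 148), (nat_lit 1)), ((nat_lit 156), (nat_lit 1)), ((nat_lit 167), (nat_lit 1)), ((nat_lit 171), (nat_lit 2)), ((nat_lit 182), (nat_lit 1)), ((nat_lit 186), (nat_lit 2)), ((nat_lit 216), (nat_lit 2)), ((nat_lit 220), (nat_lit 1)), ((nat_lit 231), (nat_lit 2)), ((nat_lit 233), (nat_lit 1)), ((nat_lit 235), (nat_lit 2)), ((nat_lit 236), (nat_lit 1)), ((nat_lit 242), (nat_lit 1)), ((nat_lit 252), (nat_lit 1))]⟩,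
  ⟨false, (nat_lit 0), [nat_lit 10], [nat_lit 3, nat_lit 1], [((nat_lit 185), (nat_lit 7)), ((nat_lit 209), (nat_lit 1)), ((nat_lit 211), (nat_lit 7)), ((nat_lit 224), (nat_lit 1)), ((nat_lit 226), (nat_lit 7)), ((nat_lit 239), (nat_lit 1)), ((nat_lit 245), (nat_lit 7)), ((nat_lit 250), (nat_lit 7)), ((nat_lit 252), (nat_lit 7))]⟩,
  ⟨false, (nat_lit 0), [nat_lit 5], [nat_lit 2, nat_lit 1], [((nat_lit 123), (nat_lit 1)), ((nat_lit 165), (nat_lit 7)), ((nat_lit 169), (nat_lit 7)), ((nat_lit 179), (nat_lit 1)), ((nat_lit 184), (nat_lit 7)), ((nat_lit 187), (nat_lit 7)), ((nat_lit 217), (nat_lit 1)), ((nat_lit 218), (nat_lit 1)), ((nat_lit 220), (nat_lit 1)), ((nat_lit 232), (nat_lit 1)), ((nat_lit 233), (nat_lit 1)), ((nat_lit 235), (nat_lit 1)), ((nat_lit 236), (nat_lit 1)), ((nat_lit 244), (nat_lit 7)), ((nat_lit 248), (nat_lit 7)), ((nat_lit 252), (nat_lit 7))]⟩,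
  ⟨false, (nat_lit 0), [nat_lit 7], [nat_lit 2, nat_lit 1], [((nat_lit 139), (nat_lit 7)), ((nat_lit 165), (nat_lit 7)), ((nat_lit 169), (nat_lit 7)), ((nat_lit 180), (nat_lit 7)), ((nat_lit 184), (nat_lit 7)), ((nat_lit 224), (nat_lit 1)), ((nat_lit 229), (nat_lit 7)), ((nat_lit 232), (nat_lit 7)), ((nat_lit 233), (nat_lit 7)), ((nat_lit 239), (nat_lit 1)), ((nat_lit 247), (nat_lit 6)), ((nat_lit 252), (nat_lit 7))]⟩,
  ⟨false, (nat_lit 0), [nat_lit 6], [nat_lit 4, nat_lit 0], [((nat_lit 154), (nat_lit 1)), ((nat_lit 182), (nat_lit 7)), ((nat_lit 186), (nat_lit 7)), ((nat_lit 208), (nat_lit 1)), ((nat_lit 227), (nat_lit 7)), ((nat_lit 231), (nat_lit 7)), ((nat_lit 235), (nat_lit 1)), ((nat_lit 246), (nat_lit 7)), ((nat_lit 248), (nat_lit 1)), ((nat_lit 250), (nat_lit 1))]⟩,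
  ⟨false, (nat_lit 0), [nat_lit 2], [nat_lit 2, nat_lit 1], [((nat_lit 59), (nat_lit 6)), ((nat_lit 120), (nat_lit 7)), ((nat_lit 124), (nat_lit 7)), ((nat_lit 179), (nat_lit 1)), ((nat_lit 184), (nat_lit 6)), ((nat_lit 209), (nat_lit 1)), ((nat_lit 214), (nat_lit 7)), ((nat_lit 224), (nat_lit 1)), ((nat_lit 229), (nat_lit 7)), ((nat_lit 239), (nat_lit 1)), ((nat_lit 244), (nat_lit 6)), ((nat_lit 248), (nat_lit 7)), ((nat_lit 250), (nat_lit 7)), ((nat_lit 251), (nat_lit 7))]⟩,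
  ⟨false, (nat_lit 0), [nat_lit 6], [nat_lit 1, nat_lit 0], [((nat_lit 123), (nat_lit 7)), ((nat_lit 178), (nat_lit 1)), ((nat_lit 179), (nat_lit 7)), ((nat_lit 213), (nat_lit 7)), ((nat_lit 220), (nat_lit 7)), ((nat_lit 223), (nat_lit 1)), ((nat_lit 224), (nat_lit 7)), ((nat_lit 228), (nat_lit 7)), ((nat_lit 235), (nat_lit 6)), ((nat_lit 236), (nat_lit 7)), ((nat_lit 243), (nat_lit 7)), ((nat_lit 251), (nat_lit 1))]⟩,
  ⟨false, (nat_lit 0), [nat_lit 5], [nat_lit 3, nat_lit 1], [((nat_lit 138), (nat_lit 1)), ((nat_lit 166), (nat_lit 7)), ((nat_lit 170), (nat_lit 7)), ((nat_lit 179), (nat_lit 1)), ((nat_lit 185), (nat_lit 7)), ((nat_lit 187), (nat_lit 7)), ((nat_lit 215), (nat_lit 7)), ((nat_lit 224), (nat_lit 1)), ((nat_lit 230), (nat_lit 7)), ((nat_lit 233), (nat_lit 1)), ((nat_lit 236), (nat_lit 1)), ((nat_lit 239), (nat_lit 1)), ((nat_lit 247), (nat_lit 7)), ((nat_lit 248), (nat_lit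 7)), ((nat_lit 250), (nat_lit 7)), ((nat_lit 252), (nat_lit 7))]⟩,
  ⟨false, (nat_lit 0), [nat_lit 6], [nat_lit 3, nat_lit 1], [((nat_lit 139), (nat_lit 1)), ((nat_lit 179), (nat_lit 1)), ((nat_lit 181), (nat_lit 7)), ((nat_lit 215), (nat_lit 7)), ((nat_lit 224), (nat_lit 1)), ((nat_lit 226), (nat_lit 7)), ((nat_lit 230), (nat_lit 7)), ((nat_lit 248), (nat_lit 2)), ((nat_lit 250), (nat_lit 1)), ((nat_lit 251), (nat_lit 2))]⟩,
  ⟨false, (nat_lit 0), [nat_lit 3], [nat_lit 3, nat_lit 3], [((nat_lit 106), (nat_lit 1)), ((nat_lit 121), (nat_lit 1)), ((nat_lit 181), (nat_lit 1)), ((nat_lit 184), (nat_lit 1)), ((nat_lit 188), (nat_lit 1)), ((nat_lit 196), (nat_lit 1)), ((nat_lit 211), (nat_lit 1)), ((nat_lit 219), (nat_lit 1)), ((nat_lit 220), (nat_lit 1)), ((nat_lit 226), (nat_lit 1)), ((nat_lit 229), (nat_lit 1)), ((nat_lit 233), (nat_lit 1)), ((nat_lit 234), (nat_lit 1)), ((nat_lit 235), (nat_lit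 1)), ((nat_lit 236), (nat_lit 2)), ((nat_lit 241), (nat_lit 1)), ((nat_lit 244), (nat_lit 1)), ((nat_lit 248), (nat_lit 2)), ((nat_lit 250), (nat_lit 1)), ((nat_lit 251), (nat_lit 3)), ((nat_lit 252), (nat_lit 2))]⟩,
  ⟨false, (nat_lit 0), [nat_lit 7], [nat_lit 4, nat_lit 0], [((nat_lit 155), (nat_lit 1)), ((nat_lit 167), (nat_lit 7)), ((nat_lit 171), (nat_lit 7)), ((nat_lit 182), (nat_lit 7)), ((nat_lit 186), (nat_lit 7)), ((nat_lit 208), (nat_lit 1)), ((nat_lit 223), (nat_lit 1)), ((nat_lit 233), (nat_lit 1)), ((nat_lit 235), (nat_lit 1)), ((nat_lit 246), (nat_lit 7)), ((nat_lit 247), (nat_lit 1)), ((nat_lit 248), (nat_lit 1)), ((nat_lit 250), (nat_lit 1)), ((nat_lit 251), (nat_lit 1))]⟩,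
  ⟨false, (nat_lit 0), [nat_lit 3], [nat_lit 0, nat_lit 0], [((nat_lit 73), (nat_lit 2)), ((nat_lit 103), (nat_lit 1)), ((nat_lit 108), (nat_lit 1)), ((nat_lit 163), (nat_lit 1)), ((nat_lit 166), (nat_lit 1)), ((nat_lit 168), (nat_lit 1)), ((nat_lit 172), (nat_lit 1)), ((nat_lit 178), (nat_lit 1)), ((nat_lit 181), (nat_lit 1)), ((nat_lit 183), (nat_lit 1)), ((nat_lit 187), (nat_lit 1)), ((nat_lit 188), (nat_lit 1)), ((nat_lit 218), (nat_lit 1)), ((nat_lit 220), (nat_lit 1)), ((nat_lit 228), (nat_lit 2)), ((nat_lit 232), (nat_lit 1)), ((nat_lit 233), (nat_lit 1)), ((nat_lit 236), (nat_lit 1)), ((nat_lit 238), (nat_lit 1)), ((nat_lit 241), (nat_lit 1)), ((nat_lit 243), (nat_lit 1)), ((nat_lit 247), (nat_lit 1)), ((nat_lit 248), (nat_lit 3)), ((nat_lit 250), (nat_lit 1)), ((nat_lit 251), (nat_lit 1)), ((nat_lit 252), (nat_lit 3))]⟩,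
  ⟨false, (nat_lit 0), [nat_lit 4], [nat_lit 4, nat_lit 2], [((nat_lit 90), (nat_lit 6)), ((nat_lit 137), (nat_lit 7)), ((nat_lit 140), (nat_lit 7)), ((nat_lit 195), (nat_lit 1)), ((nat_lit 197), (nat_lit 7)), ((nat_lit 200), (nat_lit 7)), ((nat_lit 204), (nat_lit 7)), ((nat_lit 210), (nat_lit 1)), ((nat_lit 212), (nat_lit 7)), ((nat_lit 215), (nat_lit 6)), ((nat_lit 219), (nat_lit 7)), ((nat_lit 220), (nat_lit 7)), ((nat_lit 230), (nat_lit 7)), ((nat_lit 234), (nat_lit 6)), ((nat_lit 235), (nat_lit 7)), ((nat_lit 240), (nat_lit 1)), ((nat_lit 245), (nat_lit 6)), ((nat_lit 249), (nat_lit 7)), ((nat_lit 250), (nat_lit 5)), ((nat_lit 251), (nat_lit 6))]⟩,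
  ⟨false, (nat_lit 0), [nat_lit 5], [nat_lit 4, nat_lit 2], [((nat_lit 138), (nat_lit 1)), ((nat_lit 182), (nat_lit 7)), ((nat_lit 185), (nat_lit 7)), ((nat_lit 195), (nat_lit 1)), ((nat_lit 198), (nat_lit 1)), ((nat_lit 200), (nat_lit 7)), ((nat_lit 213), (nat_lit 1)), ((nat_lit 215), (nat_lit 7)), ((nat_lit 218), (nat_lit 1)), ((nat_lit 233), (nat_lit 1)), ((nat_lit 234), (nat_lit 2)), ((nat_lit 235), (nat_lit 2)), ((nat_lit 236), (nat_lit 1)), ((nat_lit 245), (nat_lit 7)), ((nat_lit 249), (nat_lit 7)), ((nat_lit 250), (nat_lit 7)), ((nat_lit 252), (nat_lit 7))]⟩,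
  ⟨false, (nat_lit 0), [nat_lit 3], [nat_lit 2, nat_lit 2], [((nat_lit 75), (nat_lit 2)), ((nat_lit 120), (nat_lit 1)), ((nat_lit 124), (nat_lit 1)), ((nat_lit 165), (nat_lit 1)), ((nat_lit 169), (nat_lit 1)), ((nat_lit 172), (nat_lit 1)), ((nat_lit 180), (nat_lit 1)), ((nat_lit 181), (nat_lit 1)), ((nat_lit 184), (nat_lit 1)), ((nat_lit 187), (nat_lit 1)), ((nat_lit 188), (nat_lit 1)), ((nat_lit 210), (nat_lit 1)), ((nat_lit 211), (nat_lit 1)), ((nat_lit 214), (nat_lit 1)), ((nat_lit 220), (nat_lit 2)), ((nat_lit 225), (nat_lit 1)), ((nat_lit 226), (nat_lit 1)), ((nat_lit 229), (nat_lit 1)), ((nat_lit 235), (nat_lit 2)), ((nat_lit 236), (nat_lit 2)), ((nat_lit 241), (nat_lit 1)), ((nat_lit 247), (nat_lit 1)), ((nat_lit 248), (nat_lit 1)), ((nat_lit 250), (nat_lit 2)), ((nat_lit 252), (nat_lit 4))]⟩,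
  ⟨false, (nat_lit 0), [nat_lit 2], [nat_lit 1, nat_lit 0], [((nat_lit 105), (nat_lit 1)), ((nat_lit 118), (nat_lit 1)), ((nat_lit 123), (nat_lit 7)), ((nat_lit 164), (nat_lit 7)), ((nat_lit 168), (nat_lit 7)), ((nat_lit 169), (nat_lit 1)), ((nat_lit 184), (nat_lit 1)), ((nat_lit 187), (nat_lit 1)), ((nat_lit 188), (nat_lit 1)), ((nat_lit 209), (nat_lit 7)), ((nat_lit 214), (nat_lit 1)), ((nat_lit 217), (nat_lit 7)), ((nat_lit 218), (nat_lit 1)), ((nat_lit 220), (nat_lit 7)), ((nat_lit 224), (nat_lit 7)), ((nat_lit 228), (nat_lit 7)), ((nat_lit 229), (nat_lit 1)), ((nat_lit 232), (nat_lit 7)), ((nat_lit 233), (nat_lit 1)), ((nat_lit 239), (nat_lit 7)), ((nat_lit 244), (nat_lit 1)), ((nat_lit 248), (nat_lit 1)), ((nat_lit 250), (nat_lit 1)), ((nat_lit 251), (nat_lit 1))]⟩,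
  ⟨false, (nat_lit 0), [nat_lit 4], [nat_lit 2, nat_lit 2], [((nat_lit 90), (nat_lit 2)), ((nat_lit 135), (nat_lit 1)), ((nat_lit 140), (nat_lit 1)), ((nat_lit 182), (nat_lit 1)), ((nat_lit 185), (nat_lit 2)), ((nat_lit 195), (nat_lit 1)), ((nat_lit 200), (nat_lit 1)), ((nat_lit 204), (nat_lit 1)), ((nat_lit 210), (nat_lit 1)), ((nat_lit 212), (nat_lit 1)), ((nat_lit 215), (nat_lit 1)), ((nat_lit 219), (nat_lit 1)), ((nat_lit 220), (nat_lit 2)), ((nat_lit 227), (nat_lit 1)), ((nat_lit 230), (nat_lit 2)), ((nat_lit 234), (nat_lit 1)), ((nat_lit 235), (nat_lit 2)), ((nat_lit 236), (nat_lit 1)), ((nat_lit 242), (nat_lit 1)), ((nat_lit 245), (nat_lit 1)), ((nat_lit 248), (nat_lit 1)), ((nat_lit 249), (nat_lit 1)), ((nat_lit 250), (nat_lit 2)), ((nat_lit 251), (nat_lit 3)), ((nat_lit 252), (nat_lit 3))]⟩,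
  ⟨false, (nat_lit 0), [nat_lit 1], [nat_lit 1, nat_lit 1], [((nat_lit 104), (nat_lit 1)), ((nat_lit 119), (nat_lit 1)), ((nat_lit 134), (nat_lit 1)), ((nat_lit 169), (nat_lit 1)), ((nat_lit 170), (nat_lit 1)), ((nat_lit 172), (nat_lit 1)), ((nat_lit 179), (nat_lit 1)), ((nat_lit 185), (nat_lit 1)), ((nat_lit 187), (nat_lit 1)), ((nat_lit 188), (nat_lit 1)), ((nat_lit 194), (nat_lit 1)), ((nat_lit 209), (nat_lit 1)), ((nat_lit 219), (nat_lit 1)), ((nat_lit 220), (nat_lit 1)), ((nat_lit 230), (nat_lit 1)), ((nat_lit 232), (nat_lit 1)), ((nat_lit 233), (nat_lit 2)), ((nat_lit 235), (nat_lit 1)), ((nat_lit 236), (nat_lit 1)), ((nat_lit 239), (nat_lit 1)), ((nat_lit 245), (nat_lit 1)), ((nat_lit 247), (nat_lit 1)), ((nat_lit 248), (nat_lit 4)), ((nat_lit 249), (nat_lit 1)), ((nat_lit 250), (nat_lit 2)), ((nat_lit 251), (nat_lit 2)), ((nat_lit 252), (nat_lit 2))]⟩,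
  ⟨false, (nat_lit 0), [nat_lit 4], [nat_lit 4, nat_lit 1], [((nat_lit 89), (nat_lit 6)), ((nat_lit 122), (nat_lit 7)), ((nat_lit 124), (nat_lit 7)), ((nat_lit 152), (nat_lit 7)), ((nat_lit 154), (nat_lit 7)), ((nat_lit 156), (nat_lit 7)), ((nat_lit 182), (nat_lit 7)), ((nat_lit 184), (nat_lit 7)), ((nat_lit 186), (nat_lit 7)), ((nat_lit 188), (nat_lit 7)), ((nat_lit 194), (nat_lit 1)), ((nat_lit 199), (nat_lit 6)), ((nat_lit 201), (nat_lit 6)), ((nat_lit 203), (nat_lit 6)), ((nat_lit 209), (nat_lit 1)), ((nat_lit 212), (nat_lit 7)), ((nat_lit 214), (nat_lit 7)), ((nat_lit 216), (nat_lit 7)), ((nat_lit 218), (nat_lit 6)), ((nat_lit 219), (nat_lit 7)), ((nat_lit 220), (nat_lit 6)), ((nat_lit 239), (nat_lit 1)), ((nat_lit 242), (nat_lit 7)), ((nat_lit 244), (nat_lit 6)), ((nat_lit 246), (nat_lit 5)), ((nat_lit 248), (nat_lit 6)), ((nat_lit 250), (nat_lit 5)), ((nat_lit 252), (nat_lit 6))]⟩,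
  ⟨false, (nat_lit 0), [nat_lit 3], [nat_lit 1, nat_lit 0], [((nat_lit 104), (nat_lit 7)), ((nat_lit 106), (nat_lit 1)), ((nat_lit 133), (nat_lit 1)), ((nat_lit 138), (nat_lit 6)), ((nat_lit 164), (nat_lit 7)), ((nat_lit 170), (nat_lit 1)), ((nat_lit 179), (nat_lit 7)), ((nat_lit 187), (nat_lit 1)), ((nat_lit 188), (nat_lit 1)), ((nat_lit 218), (nat_lit 7)), ((nat_lit 220), (nat_lit 7)), ((nat_lit 228), (nat_lit 1)), ((nat_lit 230), (nat_lit 1)), ((nat_lit 235), (nat_lit 6)), ((nat_lit 236), (nat_lit 7)), ((nat_lit 239), (nat_lit 7)), ((nat_lit 247), (nat_lit 2)), ((nat_lit 248), (nat_lit 2)), ((nat_lit 251), (nat_lit 1)), ((nat_lit 252), (nat_lit 1))]⟩,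
  ⟨false, (nat_lit 0), [nat_lit 5], [nat_lit 4, nat_lit 1], [((nat_lit 123), (nat_lit 1)), ((nat_lit 153), (nat_lit 1)), ((nat_lit 167), (nat_lit 7)), ((nat_lit 169), (nat_lit 7)), ((nat_lit 171), (nat_lit 7)), ((nat_lit 183), (nat_lit 1)), ((nat_lit 187), (nat_lit 1)), ((nat_lit 194), (nat_lit 1)), ((nat_lit 199), (nat_lit 7)), ((nat_lit 201), (nat_lit 7)), ((nat_lit 202), (nat_lit 7)), ((nat_lit 203), (nat_lit 7)), ((nat_lit 213), (nat_lit 1)), ((nat_lit 216), (nat_lit 1)), ((nat_lit 218), (nat_lit 1)), ((nat_lit 220), (nat_lit 1)), ((nat_lit 229), (nat_lit 7)), ((nat_lit 232), (nat_lit 1)), ((nat_lit 234), (nat_lit 1)), ((nat_lit 235), (nat_lit 1)), ((nat_lit 243), (nat_lit 1)), ((nat_lit 246), (nat_lit 7)), ((nat_lit 247), (nat_lit 1)), ((nat_lit 248), (nat_lit 7)), ((nat_lit 251), (nat_lit 7))]⟩,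
  ⟨false, (nat_lit 0), [nat_lit 2], [nat_lit 1, nat_lit 1], [((nat_lit 59), (nat_lit 2)), ((nat_lit 105), (nat_lit 1)), ((nat_lit 119), (nat_lit 1)), ((nat_lit 120), (nat_lit 1)), ((nat_lit 124), (nat_lit 1)), ((nat_lit 135), (nat_lit 1)), ((nat_lit 139), (nat_lit 2)), ((nat_lit 180), (nat_lit 1)), ((nat_lit 184), (nat_lit 1)), ((nat_lit 185), (nat_lit 1)), ((nat_lit 188), (nat_lit 1)), ((nat_lit 195), (nat_lit 1)), ((nat_lit 199), (nat_lit 2)), ((nat_lit 203), (nat_lit 1)), ((nat_lit 210), (nat_lit 1)), ((nat_lit 214), (nat_lit 2)), ((nat_lit 215), (nat_lit 1)), ((nat_lit 218), (nat_lit 2)), ((nat_lit 219), (nat_lit 1)), ((nat_lit 220), (nat_lit 1)), ((nat_lit 229), (nat_lit 2)), ((nat_lit 230), (nat_lit 1)), ((nat_lit 233), (nat_lit 1)), ((nat_lit 235), (nat_lit 1)), ((nat_lit 236), (nat_lit 2)), ((nat_lit 240), (nat_lit 1)), ((nat_lit 245), (nat_lit 1)), ((nat_lit 248), (nat_lit 1)),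 ((nat_lit 249), (nat_lit 1)), ((nat_lit 250), (nat_lit 2)), ((nat_lit 251), (nat_lit 4)), ((nat_lit 252), (nat_lit 3))]⟩,
  ⟨false, (nat_lit 0), [nat_lit 4], [nat_lit 2, nat_lit 0], [((nat_lit 133), (nat_lit 1)), ((nat_lit 150), (nat_lit 7)), ((nat_lit 155), (nat_lit 1)), ((nat_lit 167), (nat_lit 1)), ((nat_lit 170), (nat_lit 1)), ((nat_lit 171), (nat_lit 1)), ((nat_lit 187), (nat_lit 7)), ((nat_lit 193), (nat_lit 1)), ((nat_lit 201), (nat_lit 7)), ((nat_lit 202), (nat_lit 6)), ((nat_lit 203), (nat_lit 7)), ((nat_lit 208), (nat_lit 1)), ((nat_lit 212), (nat_lit 1)), ((nat_lit 215), (nat_lit 1)), ((nat_lit 218), (nat_lit 7)), ((nat_lit 227), (nat_lit 1)), ((nat_lit 232), (nat_lit 2)), ((nat_lit 233), (nat_lit 1)), ((nat_lit 234), (nat_lit 1)), ((nat_lit 235), (nat_lit 3)), ((nat_lit 236), (nat_lit 1)), ((nat_lit 242), (nat_lit 1)), ((nat_lit 245), (nat_lit 1)), ((nat_lit 246), (nat_lit 1)),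 ((nat_lit 247), (nat_lit 2)), ((nat_lit 248), (nat_lit 1)), ((nat_lit 249), (nat_lit 1)), ((nat_lit 250), (nat_lit 1)), ((nat_lit 252), (nat_lit 1))]⟩,
  ⟨false, (nat_lit 0), [nat_lit 5], [nat_lit 4, nat_lit 3], [((nat_lit 138), (nat_lit 1)), ((nat_lit 153), (nat_lit 1)), ((nat_lit 168), (nat_lit 1)), ((nat_lit 182), (nat_lit 7)), ((nat_lit 183), (nat_lit 1)), ((nat_lit 185), (nat_lit 7)), ((nat_lit 186), (nat_lit 7)), ((nat_lit 187), (nat_lit 7)), ((nat_lit 196), (nat_lit 1)), ((nat_lit 200), (nat_lit 7)), ((nat_lit 201), (nat_lit 7)), ((nat_lit 202), (nat_lit 7)), ((nat_lit 203), (nat_lit 6)), ((nat_lit 215), (nat_lit 7)), ((nat_lit 216), (nat_lit 7)), ((nat_lit 217), (nat_lit 7)), ((nat_lit 218), (nat_lit 7)), ((nat_lit 227), (nat_lit 7)), ((nat_lit 230), (nat_lit 7)), ((nat_lit 233), (nat_lit 1)), ((nat_lit 236), (nat_lit 1)), ((nat_lit 242), (nat_lit 7)), ((nat_lit 246), (nat_lit 7)),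 ((nat_lit 247), (nat_lit 7)), ((nat_lit 248), (nat_lit 7)), ((nat_lit 251), (nat_lit 7)), ((nat_lit 252), (nat_lit 7))]⟩,
  ⟨false, (nat_lit 0), [nat_lit 1], [nat_lit 1, nat_lit 0], [((nat_lit 43), (nat_lit 6)), ((nat_lit 103), (nat_lit 1)), ((nat_lit 104), (nat_lit 7)), ((nat_lit 108), (nat_lit 7)), ((nat_lit 118), (nat_lit 1)), ((nat_lit 123), (nat_lit 6)), ((nat_lit 133), (nat_lit 1)), ((nat_lit 138), (nat_lit 6)), ((nat_lit 168), (nat_lit 7)), ((nat_lit 178), (nat_lit 1)), ((nat_lit 183), (nat_lit 6)), ((nat_lit 185), (nat_lit 1)), ((nat_lit 188), (nat_lit 1)), ((nat_lit 193), (nat_lit 1)), ((nat_lit 198), (nat_lit 6)), ((nat_lit 202), (nat_lit 7)), ((nat_lit 208), (nat_lit 1)), ((nat_lit 213), (nat_lit 7)), ((nat_lit 215), (nat_lit 6)), ((nat_lit 217), (nat_lit 7)), ((nat_lit 218), (nat_lit 6)), ((nat_lit 219), (nat_lit 6)), ((nat_lit 220), (nat_lit 7)), ((nat_lit 229), (nat_lit 1)),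 ((nat_lit 230), (nat_lit 6)), ((nat_lit 233), (nat_lit 1)), ((nat_lit 236), (nat_lit 7)), ((nat_lit 238), (nat_lit 1)), ((nat_lit 243), (nat_lit 6)), ((nat_lit 248), (nat_lit 2)), ((nat_lit 252), (nat_lit 1))]⟩,
  ⟨false, (nat_lit 0), [nat_lit 3], [nat_lit 3, nat_lit 1], [((nat_lit 74), (nat_lit 6)), ((nat_lit 104), (nat_lit 1)), ((nat_lit 119), (nat_lit 1)), ((nat_lit 136), (nat_lit 7)), ((nat_lit 140), (nat_lit 7)), ((nat_lit 169), (nat_lit 1)), ((nat_lit 170), (nat_lit 7)), ((nat_lit 179), (nat_lit 1)), ((nat_lit 185), (nat_lit 7)), ((nat_lit 187), (nat_lit 7)), ((nat_lit 194), (nat_lit 1)), ((nat_lit 200), (nat_lit 6)), ((nat_lit 202), (nat_lit 7)), ((nat_lit 203), (nat_lit 7)), ((nat_lit 209), (nat_lit 1)), ((nat_lit 215), (nat_lit 6)), ((nat_lit 217), (nat_lit 7)), ((nat_lit 218), (nat_lit 7)), ((nat_lit 219), (nat_lit 1)), ((nat_lit 220), (nat_lit 1)), ((nat_lit 224), (nat_lit 1)),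 ((nat_lit 230), (nat_lit 6)), ((nat_lit 232), (nat_lit 7)), ((nat_lit 235), (nat_lit 1)), ((nat_lit 236), (nat_lit 1)), ((nat_lit 239), (nat_lit 1)), ((nat_lit 245), (nat_lit 7)), ((nat_lit 247), (nat_lit 7)), ((nat_lit 248), (nat_lit 2)), ((nat_lit 250), (nat_lit 1)), ((nat_lit 251), (nat_lit 1))]⟩,
  ⟨false, (nat_lit 0), [nat_lit 4], [nat_lit 1, nat_lit 0], [((nat_lit 107), (nat_lit 1)), ((nat_lit 118), (nat_lit 1)), ((nat_lit 123), (nat_lit 7)), ((nat_lit 148), (nat_lit 1)), ((nat_lit 149), (nat_lit 7)), ((nat_lit 154), (nat_lit 1)), ((nat_lit 178), (nat_lit 1)), ((nat_lit 198), (nat_lit 7)), ((nat_lit 199), (nat_lit 1)), ((nat_lit 201), (nat_lit 2)), ((nat_lit 203), (nat_lit 2)), ((nat_lit 208), (nat_lit 1)), ((nat_lit 219), (nat_lit 7)), ((nat_lit 228), (nat_lit 7)), ((nat_lit 231), (nat_lit 1)), ((nat_lit 234), (nat_lit 7)), ((nat_lit 235), (nat_lit 1)), ((nat_lit 238), (nat_lit 1)),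 ((nat_lit 250), (nat_lit 1)), ((nat_lit 251), (nat_lit 1)), ((nat_lit 252), (nat_lit 1))]⟩,
  ⟨false, (nat_lit 0), [nat_lit 4], [nat_lit 4, nat_lit 3], [((nat_lit 91), (nat_lit 6)), ((nat_lit 137), (nat_lit 7)), ((nat_lit 140), (nat_lit 7)), ((nat_lit 152), (nat_lit 7)), ((nat_lit 155), (nat_lit 7)), ((nat_lit 156), (nat_lit 7)), ((nat_lit 167), (nat_lit 7)), ((nat_lit 170), (nat_lit 7)), ((nat_lit 171), (nat_lit 7)), ((nat_lit 172), (nat_lit 7)), ((nat_lit 182), (nat_lit 7)), ((nat_lit 185), (nat_lit 7)), ((nat_lit 186), (nat_lit 7)), ((nat_lit 187), (nat_lit 7)), ((nat_lit 188), (nat_lit 7)), ((nat_lit 196), (nat_lit 1)), ((nat_lit 200), (nat_lit 6)), ((nat_lit 201), (nat_lit 6)), ((nat_lit 202), (nat_lit 6)), ((nat_lit 203), (nat_lit 6)), ((nat_lit 211), (nat_lit 1)), ((nat_lit 215), (nat_lit 6)), ((nat_lit 217), (nat_lit 7)), ((nat_lit 218), (nat_lit 7)), ((nat_lit 219), (nat_lit 7)),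 ((nat_lit 220), (nat_lit 7)), ((nat_lit 231), (nat_lit 6)), ((nat_lit 232), (nat_lit 5)), ((nat_lit 233), (nat_lit 6)), ((nat_lit 234), (nat_lit 7)), ((nat_lit 236), (nat_lit 7)), ((nat_lit 241), (nat_lit 1)), ((nat_lit 245), (nat_lit 7)), ((nat_lit 246), (nat_lit 6)), ((nat_lit 247), (nat_lit 7)), ((nat_lit 248), (nat_lit 6)), ((nat_lit 250), (nat_lit 5)), ((nat_lit 251), (nat_lit 5)), ((nat_lit 252), (nat_lit 6))]⟩,
  ⟨false, (nat_lit 0), [nat_lit 4], [nat_lit 3, nat_lit 3], [((nat_lit 91), (nat_lit 2)), ((nat_lit 107), (nat_lit 1)), ((nat_lit 122), (nat_lit 1)), ((nat_lit 136), (nat_lit 1)), ((nat_lit 140), (nat_lit 1)), ((nat_lit 151), (nat_lit 1)), ((nat_lit 155), (nat_lit 1)), ((nat_lit 156), (nat_lit 1)), ((nat_lit 166), (nat_lit 1)), ((nat_lit 170), (nat_lit 1)), ((nat_lit 172), (nat_lit 2)), ((nat_lit 181), (nat_lit 1)), ((nat_lit 182), (nat_lit 1)), ((nat_lit 185), (nat_lit 1)),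 ((nat_lit 186), (nat_lit 2)), ((nat_lit 187), (nat_lit 2)), ((nat_lit 188), (nat_lit 2)), ((nat_lit 197), (nat_lit 1)), ((nat_lit 199), (nat_lit 1)), ((nat_lit 202), (nat_lit 1)), ((nat_lit 203), (nat_lit 2)), ((nat_lit 204), (nat_lit 1)), ((nat_lit 212), (nat_lit 1)), ((nat_lit 215), (nat_lit 2)), ((nat_lit 216), (nat_lit 1)), ((nat_lit 217), (nat_lit 3)), ((nat_lit 218), (nat_lit 2)), ((nat_lit 220), (nat_lit 3)), ((nat_lit 227), (nat_lit 1)), ((nat_lit 230), (nat_lit 2)), ((nat_lit 231), (nat_lit 1)), ((nat_lit 232), (nat_lit 2)), ((nat_lit 233), (nat_lit 1)), ((nat_lit 235), (nat_lit 1)), ((nat_lit 236), (nat_lit 1)), ((nat_lit 242), (nat_lit 1)), ((nat_lit 245), (nat_lit 1)), ((nat_lit 246), (nat_lit 2)), ((nat_lit 247), (nat_lit 2)), ((nat_lit 248), (nat_lit 1)), ((nat_lit 249), (nat_lit 1)), ((nat_lit 250), (nat_lit 5)), ((nat_lit 251), (nat_lit 4)), ((nat_lit 252), (nat_lit 4))]⟩,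
  ⟨false, (nat_lit 0), [nat_lit 4], [nat_lit 2, nat_lit 1], [((nat_lit 120), (nat_lit 7)), ((nat_lit 122), (nat_lit 1)), ((nat_lit 134), (nat_lit 1)), ((nat_lit 139), (nat_lit 6)), ((nat_lit 150), (nat_lit 7)), ((nat_lit 154), (nat_lit 7)), ((nat_lit 155), (nat_lit 1)), ((nat_lit 169), (nat_lit 7)), ((nat_lit 180), (nat_lit 7)), ((nat_lit 185), (nat_lit 1)), ((nat_lit 187), (nat_lit 1)), ((nat_lit 194), (nat_lit 1)), ((nat_lit 199), (nat_lit 6)), ((nat_lit 201), (nat_lit 7)), ((nat_lit 202), (nat_lit 7)), ((nat_lit 203), (nat_lit 6)), ((nat_lit 209), (nat_lit 1)), ((nat_lit 210), (nat_lit 7)), ((nat_lit 216), (nat_lit 1)), ((nat_lit 218), (nat_lit 2)), ((nat_lit 229), (nat_lit 7)), ((nat_lit 231), (nat_lit 7)), ((nat_lit 234), (nat_lit 1)), ((nat_lit 240), (nat_lit 7)), ((nat_lit 244), (nat_lit 7)), ((nat_lit 245), (nat_lit 7)), ((nat_lit 247), (nat_lit 6)), ((nat_lit 249), (nat_lit 7)),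 ((nat_lit 250), (nat_lit 7)), ((nat_lit 251), (nat_lit 7)), ((nat_lit 252), (nat_lit 7))]⟩,
  ⟨false, (nat_lit 0), [nat_lit 4], [nat_lit 3, nat_lit 0], [((nat_lit 107), (nat_lit 1)), ((nat_lit 133), (nat_lit 1)), ((nat_lit 138), (nat_lit 7)), ((nat_lit 148), (nat_lit 1)), ((nat_lit 151), (nat_lit 7)), ((nat_lit 155), (nat_lit 1)), ((nat_lit 163), (nat_lit 1)), ((nat_lit 167), (nat_lit 1)), ((nat_lit 170), (nat_lit 1)), ((nat_lit 178), (nat_lit 1)), ((nat_lit 182), (nat_lit 1)), ((nat_lit 185), (nat_lit 1)), ((nat_lit 198), (nat_lit 7)), ((nat_lit 200), (nat_lit 1)), ((nat_lit 201), (nat_lit 2)), ((nat_lit 202), (nat_lit 2)), ((nat_lit 203), (nat_lit 2)), ((nat_lit 213), (nat_lit 7)), ((nat_lit 215), (nat_lit 1)), ((nat_lit 216), (nat_lit 1)), ((nat_lit 217), (nat_lit 1)), ((nat_lit 218), (nat_lit 1)), ((nat_lit 219), (nat_lit 1)), ((nat_lit 220), (nat_lit 1)), ((nat_lit 230), (nat_lit 1)),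 ((nat_lit 231), (nat_lit 1)), ((nat_lit 232), (nat_lit 1)), ((nat_lit 233), (nat_lit 2)), ((nat_lit 235), (nat_lit 1)), ((nat_lit 236), (nat_lit 1)), ((nat_lit 242), (nat_lit 1)), ((nat_lit 243), (nat_lit 7)), ((nat_lit 246), (nat_lit 1)), ((nat_lit 247), (nat_lit 1)), ((nat_lit 248), (nat_lit 1)), ((nat_lit 249), (nat_lit 1)), ((nat_lit 250), (nat_lit 2)), ((nat_lit 251), (nat_lit 2)), ((nat_lit 252), (nat_lit 3))]⟩,
  ⟨true, (nat_lit 1), [nat_lit 0, nat_lit 0], [], [((nat_lit 0), (nat_lit 6)), ((nat_lit 204), (nat_lit 7)), ((nat_lit 236), (nat_lit 1))]⟩,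
  ⟨true, (nat_lit 1), [nat_lit 0, nat_lit 1], [nat_lit 1, nat_lit 0], [((nat_lit 193), (nat_lit 7)), ((nat_lit 199), (nat_lit 7)), ((nat_lit 202), (nat_lit 7)), ((nat_lit 203), (nat_lit 7)), ((nat_lit 225), (nat_lit 1)), ((nat_lit 226), (nat_lit 1)), ((nat_lit 241), (nat_lit 1)), ((nat_lit 252), (nat_lit 1))]⟩,
  ⟨true, (nat_lit 0), [nat_lit 2, nat_lit 3], [nat_lit 3, nat_lit 2, nat_lit 4], [((nat_lit 4), (nat_lit 1)), ((nat_lit 169), (nat_lit 7)), ((nat_lit 184), (nat_lit 1)), ((nat_lit 185), (nat_lit 1)), ((nat_lit 187), (nat_lit 1)), ((nat_lit 244), (nat_lit 7))]⟩,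
  ⟨true, (nat_lit 2), [nat_lit 5, nat_lit 6], [nat_lit 6, nat_lit 5], [((nat_lit 103), (nat_lit 1)), ((nat_lit 138), (nat_lit 7)), ((nat_lit 153), (nat_lit 1)), ((nat_lit 183), (nat_lit 7)), ((nat_lit 213), (nat_lit 7)), ((nat_lit 228), (nat_lit 7)), ((nat_lit 230), (nat_lit 1))]⟩,
  ⟨true, (nat_lit 2), [nat_lit 7, nat_lit 8], [nat_lit 8, nat_lit 7, nat_lit 9], [((nat_lit 9), (nat_lit 1)), ((nat_lit 169), (nat_lit 1)), ((nat_lit 210), (nat_lit 7)), ((nat_lit 213), (nat_lit 7)), ((nat_lit 217), (nat_lit 7)), ((nat_lit 219), (nat_lit 7)), ((nat_lit 243), (nat_lit 7)), ((nat_lit 247), (nat_lit 7)), ((nat_lit 249), (nat_lit 7))]⟩,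
  ⟨true, (nat_lit 1), [nat_lit 10, nat_lit 11], [nat_lit 11, nat_lit 10], [((nat_lit 152), (nat_lit 7)), ((nat_lit 171), (nat_lit 1)), ((nat_lit 184), (nat_lit 1)), ((nat_lit 201), (nat_lit 1)), ((nat_lit 216), (nat_lit 1)), ((nat_lit 227), (nat_lit 7)), ((nat_lit 232), (nat_lit 7)), ((nat_lit 234), (nat_lit 7)), ((nat_lit 235), (nat_lit 7)), ((nat_lit 242), (nat_lit 7)), ((nat_lit 246), (nat_lit 1)), ((nat_lit 247), (nat_lit 7)), ((nat_lit 249), (nat_lit 7)), ((nat_lit 250), (nat_lit 7)), ((nat_lit 251), (nat_lit 1))]⟩,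
  ⟨true, (nat_lit 0), [nat_lit 12, nat_lit 13], [nat_lit 13, nat_lit 12, nat_lit 14, nat_lit 15], [((nat_lit 14), (nat_lit 1)), ((nat_lit 15), (nat_lit 1)), ((nat_lit 193), (nat_lit 7)), ((nat_lit 195), (nat_lit 1)), ((nat_lit 196), (nat_lit 7)), ((nat_lit 198), (nat_lit 7)), ((nat_lit 199), (nat_lit 7)), ((nat_lit 201), (nat_lit 7)), ((nat_lit 213), (nat_lit 7)), ((nat_lit 214), (nat_lit 7)), ((nat_lit 216), (nat_lit 7)), ((nat_lit 228), (nat_lit 7)), ((nat_lit 229), (nat_lit 7)), ((nat_lit 231), (nat_lit 7)), ((nat_lit 249), (nat_lit 1)), ((nat_lit 250), (nat_lit 1)), ((nat_lit 251), (nat_lit 1))]⟩,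
  ⟨true, (nat_lit 2), [nat_lit 8, nat_lit 6], [nat_lit 6, nat_lit 8, nat_lit 16, nat_lit 17], [((nat_lit 16), (nat_lit 1)), ((nat_lit 17), (nat_lit 1)), ((nat_lit 105), (nat_lit 1)), ((nat_lit 123), (nat_lit 1)), ((nat_lit 168), (nat_lit 7)), ((nat_lit 172), (nat_lit 1)), ((nat_lit 183), (nat_lit 1)), ((nat_lit 187), (nat_lit 3)), ((nat_lit 188), (nat_lit 1)), ((nat_lit 198), (nat_lit 7)), ((nat_lit 202), (nat_lit 2)), ((nat_lit 203), (nat_lit 1)), ((nat_lit 213), (nat_lit 7)), ((nat_lit 217), (nat_lit 1)), ((nat_lit 220), (nat_lit 1)), ((nat_lit 243), (nat_lit 7)), ((nat_lit 247), (nat_lit 2)), ((nat_lit 248), (nat_lit 1)), ((nat_lit 250), (nat_lit 2))]⟩,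
  ⟨true, (nat_lit 1), [nat_lit 11, nat_lit 18], [nat_lit 18, nat_lit 11, nat_lit 19, nat_lit 0], [((nat_lit 19), (nat_lit 1)), ((nat_lit 0), (nat_lit 1)), ((nat_lit 107), (nat_lit 1)), ((nat_lit 123), (nat_lit 1)), ((nat_lit 168), (nat_lit 7)), ((nat_lit 182), (nat_lit 1)), ((nat_lit 187), (nat_lit 1)), ((nat_lit 197), (nat_lit 1)), ((nat_lit 198), (nat_lit 7)), ((nat_lit 204), (nat_lit 1)), ((nat_lit 213), (nat_lit 7)), ((nat_lit 217), (nat_lit 1)), ((nat_lit 218), (nat_lit 7)), ((nat_lit 219), (nat_lit 2)), ((nat_lit 220), (nat_lit 1)), ((nat_lit 243), (nat_lit 7)), ((nat_lit 247), (nat_lit 1)), ((nat_lit 248), (nat_lit 7)), ((nat_lit 249), (nat_lit 2)), ((nat_lit 250), (nat_lit 1)), ((nat_lit 252), (nat_lit 1))]⟩,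
  ⟨true, (nat_lit 0), [nat_lit 12, nat_lit 20], [nat_lit 20, nat_lit 12, nat_lit 15], [((nat_lit 15), (nat_lit 1)), ((nat_lit 193), (nat_lit 7)), ((nat_lit 195), (nat_lit 7)), ((nat_lit 196), (nat_lit 1)), ((nat_lit 199), (nat_lit 7)), ((nat_lit 200), (nat_lit 7)), ((nat_lit 201), (nat_lit 7)), ((nat_lit 202), (nat_lit 7)), ((nat_lit 203), (nat_lit 7)), ((nat_lit 210), (nat_lit 7)), ((nat_lit 211), (nat_lit 1)), ((nat_lit 229), (nat_lit 7)), ((nat_lit 230), (nat_lit 7)), ((nat_lit 231), (nat_lit 7)), ((nat_lit 232), (nat_lit 7)), ((nat_lit 233), (nat_lit 7)), ((nat_lit 240), (nat_lit 7)), ((nat_lit 241), (nat_lit 1)), ((nat_lit 249), (nat_lit 1)), ((nat_lit 251), (nat_lit 1))]⟩,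
  ⟨true, (nat_lit 2), [nat_lit 21, nat_lit 6], [nat_lit 6, nat_lit 21, nat_lit 17], [((nat_lit 17), (nat_lit 1)), ((nat_lit 104), (nat_lit 1)), ((nat_lit 106), (nat_lit 1)), ((nat_lit 166), (nat_lit 1)), ((nat_lit 168), (nat_lit 1)), ((nat_lit 170), (nat_lit 1)), ((nat_lit 172), (nat_lit 1)), ((nat_lit 185), (nat_lit 1)), ((nat_lit 187), (nat_lit 1)), ((nat_lit 188), (nat_lit 1)), ((nat_lit 215), (nat_lit 1)), ((nat_lit 218), (nat_lit 1)), ((nat_lit 220), (nat_lit 1)), ((nat_lit 230), (nat_lit 1)), ((nat_lit 232), (nat_lit 1)), ((nat_lit 235), (nat_lit 1)), ((nat_lit 243), (nat_lit 7)), ((nat_lit 247), (nat_lit 2)), ((nat_lit 248), (nat_lit 2)), ((nat_lit 250), (nat_lit 2)), ((nat_lit 252), (nat_lit 2))]⟩,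
  ⟨true, (nat_lit 1), [nat_lit 11, nat_lit 1], [nat_lit 1, nat_lit 11, nat_lit 10, nat_lit 19], [((nat_lit 10), (nat_lit 1)), ((nat_lit 19), (nat_lit 1)), ((nat_lit 88), (nat_lit 7)), ((nat_lit 120), (nat_lit 1)), ((nat_lit 121), (nat_lit 1)), ((nat_lit 122), (nat_lit 1)), ((nat_lit 154), (nat_lit 7)), ((nat_lit 163), (nat_lit 7)), ((nat_lit 167), (nat_lit 1)), ((nat_lit 169), (nat_lit 7)), ((nat_lit 182), (nat_lit 1)), ((nat_lit 186), (nat_lit 1)), ((nat_lit 187), (nat_lit 1)), ((nat_lit 193), (nat_lit 7)), ((nat_lit 199), (nat_lit 7)), ((nat_lit 201), (nat_lit 1)), ((nat_lit 202), (nat_lit 7)), ((nat_lit 203), (nat_lit 7)), ((nat_lit 208), (nat_lit 7)), ((nat_lit 211), (nat_lit 1)), ((nat_lit 214), (nat_lit 7)), ((nat_lit 216), (nat_lit 1)), ((nat_lit 218), (nat_lit 1)), ((nat_lit 219), (nat_lit 7)), ((nat_lit 220), (nat_lit 1)), ((nat_lit 226), (nat_lit 1)), ((nat_lit 231), (nat_lit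 1)), ((nat_lit 232), (nat_lit 1)), ((nat_lit 233), (nat_lit 1)), ((nat_lit 234), (nat_lit 1)), ((nat_lit 235), (nat_lit 3)), ((nat_lit 236), (nat_lit 2)), ((nat_lit 238), (nat_lit 7)), ((nat_lit 250), (nat_lit 1)), ((nat_lit 251), (nat_lit 1)), ((nat_lit 252), (nat_lit 1))]⟩,
  ⟨true, (nat_lit 2), [nat_lit 5, nat_lit 8], [nat_lit 8, nat_lit 5, nat_lit 16, nat_lit 9], [((nat_lit 16), (nat_lit 1)), ((nat_lit 9), (nat_lit 1)), ((nat_lit 58), (nat_lit 1)), ((nat_lit 103), (nat_lit 1)), ((nat_lit 135), (nat_lit 7)), ((nat_lit 138), (nat_lit 7)), ((nat_lit 154), (nat_lit 1)), ((nat_lit 163), (nat_lit 1)), ((nat_lit 168), (nat_lit 1)), ((nat_lit 172), (nat_lit 1)), ((nat_lit 180), (nat_lit 7)), ((nat_lit 183), (nat_lit 7)), ((nat_lit 193), (nat_lit 1)), ((nat_lit 200), (nat_lit 1)), ((nat_lit 202), (nat_lit 1)), ((nat_lit 203), (nat_lit 1)), ((nat_lit 208), (nat_lit 1)), ((nat_lit 210), (nat_lit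 7)), ((nat_lit 217), (nat_lit 1)), ((nat_lit 220), (nat_lit 1)), ((nat_lit 225), (nat_lit 7)), ((nat_lit 228), (nat_lit 1)), ((nat_lit 233), (nat_lit 6)), ((nat_lit 234), (nat_lit 7)), ((nat_lit 235), (nat_lit 6)), ((nat_lit 238), (nat_lit 1)), ((nat_lit 245), (nat_lit 1)), ((nat_lit 247), (nat_lit 1)), ((nat_lit 249), (nat_lit 7)), ((nat_lit 251), (nat_lit 2))]⟩,
  ⟨true, (nat_lit 3), [nat_lit 22, nat_lit 23], [nat_lit 23, nat_lit 22], [((nat_lit 59), (nat_lit 7)), ((nat_lit 75), (nat_lit 1)), ((nat_lit 104), (nat_lit 7)), ((nat_lit 105), (nat_lit 1)), ((nat_lit 106), (nat_lit 7)), ((nat_lit 121), (nat_lit 7)), ((nat_lit 164), (nat_lit 7)), ((nat_lit 168), (nat_lit 2)), ((nat_lit 183), (nat_lit 1)), ((nat_lit 184), (nat_lit 7)), ((nat_lit 194), (nat_lit 7)), ((nat_lit 196), (nat_lit 7)), ((nat_lit 198), (nat_lit 7)), ((nat_lit 211), (nat_lit 7)), ((nat_lit 213), (nat_lit 1)), ((nat_lit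 217), (nat_lit 1)), ((nat_lit 218), (nat_lit 1)), ((nat_lit 220), (nat_lit 7)), ((nat_lit 226), (nat_lit 7)), ((nat_lit 228), (nat_lit 1)), ((nat_lit 232), (nat_lit 1)), ((nat_lit 234), (nat_lit 7)), ((nat_lit 235), (nat_lit 6)), ((nat_lit 236), (nat_lit 7)), ((nat_lit 241), (nat_lit 7)), ((nat_lit 244), (nat_lit 7)), ((nat_lit 248), (nat_lit 7)), ((nat_lit 249), (nat_lit 7)), ((nat_lit 250), (nat_lit 6)), ((nat_lit 251), (nat_lit 6)), ((nat_lit 252), (nat_lit 6))]⟩,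
  ⟨true, (nat_lit 2), [nat_lit 5, nat_lit 21], [nat_lit 21, nat_lit 5, nat_lit 16, nat_lit 17, nat_lit 9], [((nat_lit 16), (nat_lit 1)), ((nat_lit 17), (nat_lit 1)), ((nat_lit 9), (nat_lit 1)), ((nat_lit 43), (nat_lit 1)), ((nat_lit 73), (nat_lit 1)), ((nat_lit 103), (nat_lit 1)), ((nat_lit 106), (nat_lit 1)), ((nat_lit 108), (nat_lit 1)), ((nat_lit 133), (nat_lit 1)), ((nat_lit 134), (nat_lit 7)), ((nat_lit 136), (nat_lit 7)), ((nat_lit 138), (nat_lit 7)), ((nat_lit 155), (nat_lit 1)), ((nat_lit 166), (nat_lit 7)), ((nat_lit 168), (nat_lit 1)), ((nat_lit 170), (nat_lit 1)), ((nat_lit 172), (nat_lit 1)), ((nat_lit 178), (nat_lit 1)), ((nat_lit 179), (nat_lit 7)), ((nat_lit 185), (nat_lit 7)), ((nat_lit 187), (nat_lit 2)), ((nat_lit 188), (nat_lit 1)), ((nat_lit 208), (nat_lit 1)), ((nat_lit 209), (nat_lit 7)), ((nat_lit 213), (nat_lit 7)), ((nat_lit 217), (nat_lit 1)), ((nat_lit 218), (nat_lit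 1)), ((nat_lit 223), (nat_lit 1)), ((nat_lit 224), (nat_lit 7)), ((nat_lit 228), (nat_lit 2)), ((nat_lit 232), (nat_lit 1)), ((nat_lit 235), (nat_lit 6)), ((nat_lit 238), (nat_lit 1)), ((nat_lit 241), (nat_lit 7)), ((nat_lit 243), (nat_lit 1)), ((nat_lit 245), (nat_lit 1)), ((nat_lit 247), (nat_lit 2)), ((nat_lit 248), (nat_lit 2)), ((nat_lit 250), (nat_lit 1)), ((nat_lit 251), (nat_lit 1)), ((nat_lit 252), (nat_lit 1))]⟩,
  ⟨true, (nat_lit 1), [nat_lit 11, nat_lit 24], [nat_lit 24, nat_lit 11, nat_lit 10, nat_lit 0], [((nat_lit 10), (nat_lit 1)), ((nat_lit 0), (nat_lit 1)), ((nat_lit 90), (nat_lit 7)), ((nat_lit 91), (nat_lit 7)), ((nat_lit 118), (nat_lit 1)), ((nat_lit 122), (nat_lit 1)), ((nat_lit 136), (nat_lit 7)), ((nat_lit 140), (nat_lit 7)), ((nat_lit 152), (nat_lit 7)), ((nat_lit 154), (nat_lit 7)), ((nat_lit 155), (nat_lit 7)), ((nat_lit 165), (nat_lit 7)), ((nat_lit 166), (nat_lit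 7)), ((nat_lit 167), (nat_lit 7)), ((nat_lit 169), (nat_lit 7)), ((nat_lit 170), (nat_lit 7)), ((nat_lit 171), (nat_lit 1)), ((nat_lit 172), (nat_lit 7)), ((nat_lit 185), (nat_lit 7)), ((nat_lit 187), (nat_lit 7)), ((nat_lit 188), (nat_lit 7)), ((nat_lit 195), (nat_lit 7)), ((nat_lit 197), (nat_lit 1)), ((nat_lit 202), (nat_lit 6)), ((nat_lit 210), (nat_lit 7)), ((nat_lit 211), (nat_lit 7)), ((nat_lit 212), (nat_lit 7)), ((nat_lit 214), (nat_lit 1)), ((nat_lit 217), (nat_lit 2)), ((nat_lit 218), (nat_lit 6)), ((nat_lit 219), (nat_lit 6)), ((nat_lit 220), (nat_lit 6)), ((nat_lit 226), (nat_lit 7)), ((nat_lit 227), (nat_lit 1)), ((nat_lit 229), (nat_lit 7)), ((nat_lit 231), (nat_lit 1)), ((nat_lit 232), (nat_lit 6)), ((nat_lit 233), (nat_lit 6)), ((nat_lit 235), (nat_lit 5)), ((nat_lit 236), (nat_lit 7)), ((nat_lit 240), (nat_lit 7)), ((nat_lit 241), (nat_lit 7)), ((nat_lit 246), (nat_lit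 6)), ((nat_lit 247), (nat_lit 7)), ((nat_lit 248), (nat_lit 7)), ((nat_lit 249), (nat_lit 1)), ((nat_lit 250), (nat_lit 5)), ((nat_lit 251), (nat_lit 5)), ((nat_lit 252), (nat_lit 3))]⟩,
  ⟨true, (nat_lit 0), [nat_lit 25, nat_lit 13], [nat_lit 13, nat_lit 25, nat_lit 26, nat_lit 2, nat_lit 14], [((nat_lit 26), (nat_lit 1)), ((nat_lit 2), (nat_lit 1)), ((nat_lit 14), (nat_lit 1)), ((nat_lit 88), (nat_lit 7)), ((nat_lit 91), (nat_lit 7)), ((nat_lit 103), (nat_lit 7)), ((nat_lit 106), (nat_lit 7)), ((nat_lit 107), (nat_lit 1)), ((nat_lit 122), (nat_lit 1)), ((nat_lit 123), (nat_lit 1)), ((nat_lit 124), (nat_lit 1)), ((nat_lit 138), (nat_lit 6)), ((nat_lit 150), (nat_lit 1)), ((nat_lit 151), (nat_lit 7)), ((nat_lit 152), (nat_lit 1)), ((nat_lit 153), (nat_lit 7)), ((nat_lit 154), (nat_lit 2)), ((nat_lit 155), (nat_lit 1)), ((nat_lit 156), (nat_lit 7)), ((nat_lit 168), (nat_lit 7)), ((nat_lit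 169), (nat_lit 1)), ((nat_lit 171), (nat_lit 7)), ((nat_lit 178), (nat_lit 7)), ((nat_lit 181), (nat_lit 7)), ((nat_lit 183), (nat_lit 7)), ((nat_lit 184), (nat_lit 1)), ((nat_lit 185), (nat_lit 1)), ((nat_lit 187), (nat_lit 1)), ((nat_lit 188), (nat_lit 7)), ((nat_lit 193), (nat_lit 7)), ((nat_lit 196), (nat_lit 7)), ((nat_lit 198), (nat_lit 1)), ((nat_lit 199), (nat_lit 1)), ((nat_lit 201), (nat_lit 1)), ((nat_lit 208), (nat_lit 7)), ((nat_lit 211), (nat_lit 7)), ((nat_lit 213), (nat_lit 1)), ((nat_lit 214), (nat_lit 1)), ((nat_lit 216), (nat_lit 2)), ((nat_lit 217), (nat_lit 3)), ((nat_lit 218), (nat_lit 2)), ((nat_lit 219), (nat_lit 1)), ((nat_lit 220), (nat_lit 2)), ((nat_lit 226), (nat_lit 7)), ((nat_lit 228), (nat_lit 7)), ((nat_lit 229), (nat_lit 1)), ((nat_lit 230), (nat_lit 1)), ((nat_lit 232), (nat_lit 7)), ((nat_lit 233), (nat_lit 7)), ((nat_lit 236), (nat_lit 6)), ((nat_lit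 241), (nat_lit 7)), ((nat_lit 242), (nat_lit 1)), ((nat_lit 243), (nat_lit 1)), ((nat_lit 244), (nat_lit 1)), ((nat_lit 245), (nat_lit 1)), ((nat_lit 247), (nat_lit 1)), ((nat_lit 248), (nat_lit 2)), ((nat_lit 249), (nat_lit 6)), ((nat_lit 251), (nat_lit 7)), ((nat_lit 252), (nat_lit 1))]⟩]
noncomputable def Ds2 : List (List (ℕ × ℕ)) := I2_0.map Pc.Idn.D ++ (I2_1.map Pc.Idn.D)
noncomputable def S2 : List (List (ℕ × ℕ)) := [[],
  [],
  [],
  [],
  [],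
  [((nat_lit 43), (nat_lit 1))],
  [((nat_lit 59), (nat_lit 1))],
  [((nat_lit 74), (nat_lit 1))],
  [((nat_lit 88), (nat_lit 1))],
  [((nat_lit 104), (nat_lit 1))],
  [((nat_lit 105), (nat_lit 1))],
  [((nat_lit 107), (nat_lit 1))],
  [((nat_lit 164), (nat_lit 1))],
  [((nat_lit 167), (nat_lit 1))],
  [((nat_lit 210), (nat_lit 1))]]
noncomputable def Yo2 : List (List (ℕ × ℕ) × ℕ × ℕ) := [([((nat_lit 43), (nat_lit 4)), ((nat_lit 58), (nat_lit 2)), ((nat_lit 59), (nat_lit 2)), ((nat_lit 73), (nat_lit 4)), ((nat_lit 74), (nat_lit 3)), ((nat_lit 75), (nat_lit 5)), ((nat_lit 88), (nat_lit 2)), ((nat_lit 89), (nat_lit 1)), ((nat_lit 91), (nat_lit 5)), ((nat_lit 106), (nat_lit 1))], (nat_lit 2), nat_lit 0x304144b2892886ca6930100186124d4027c06d99af066333922b90989149229059f9d9e2e6163dd4b345ed46fe41e1124656472c7fb23b2202c181a058afe2ca956dbceb5ddea66),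
  ([((nat_lit 43), (nat_lit 1)), ((nat_lit 58), (nat_lit 1)), ((nat_lit 59), (nat_lit 1)), ((nat_lit 73), (nat_lit 7)), ((nat_lit 74), (nat_lit 7)), ((nat_lit 75), (nat_lit 7)), ((nat_lit 88), (nat_lit 7)), ((nat_lit 91), (nat_lit 1)), ((nat_lit 105), (nat_lit 1))], (nat_lit 2), nat_lit 0x121b45961b09909848d69e4c2002ba2ceb5050c361de3d46fb55abc085f3032bf44fcd7031a10be2628ae79295eac9f3fd3d92f116646f4179f2333f03d0c44985ad61bacd0ebc1)]
noncomputable def La2 : List ℕ := [nat_lit 0,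
  nat_lit 0,
  nat_lit 0,
  nat_lit 0,
  nat_lit 0,
  nat_lit 0,
  nat_lit 0,
  nat_lit 0,
  nat_lit 0,
  nat_lit 0,
  nat_lit 0,
  nat_lit 0,
  nat_lit 0,
  nat_lit 0,
  nat_lit 0,
  nat_lit 0,
  nat_lit 0,
  nat_lit 0,
  nat_lit 0,
  nat_lit 0,
  nat_lit 0,
  nat_lit 0,
  nat_lit 0,
  nat_lit 0,
  nat_lit 0,
  nat_lit 0,
  nat_lit 0,
  nat_lit 0,
  nat_lit 0,
  nat_lit 0,
  nat_lit 0xe9eeca2976e3163947fe519650c9240bb60c71ec6bb64c342c10f90a1ffba3212d376ecb08a69fc48ac4c03b1ac2d229637bb1822dd6c0ee937e20ce1e223036e658b246b698d1c7,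
  nat_lit 0,
  nat_lit 0,
  nat_lit 0,
  nat_lit 0,
  nat_lit 0,
  nat_lit 0,
  nat_lit 0,
  nat_lit 0,
  nat_lit 0,
  nat_lit 0,
  nat_lit 0,
  nat_lit 0,
  nat_lit 0,
  nat_lit 0,
  nat_lit 0x628b096757732f9c747a8904cd5d8851db0097f54adce3cf7f6d65420b84b64078b18888b4ebeef36980bf9b9c01e0f20f972bf9f64f991469580d3d9db66a5b60adf3d0b1ff6ce1,
  nat_lit 0,
  nat_lit 0x96c9c5264825be982110d0ac24800cdcc81304c04806496fb046f2e0c0a80305daee242c48cd49bb65982213c6a449a401b79f26b85236ed8824b68df47109faac7d36039e7be56,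
  nat_lit 0,
  nat_lit 0,
  nat_lit 0,
  nat_lit 0,
  nat_lit 0,
  nat_lit 0,
  nat_lit 0,
  nat_lit 0,
  nat_lit 0,
  nat_lit 0,
  nat_lit 0,
  nat_lit 0,
  nat_lit 0,
  nat_lit 0x7e1d44506f0ff06a396626c05d10cc2c787e84015f39965d5370a68ef7b589f9920015f8e33fb220cc2695c701a4eb76586a2a4fdb3d6a36db4506a8a84772c4c0649accea4358b1,
  nat_lit 0xd82659a43c3ea3732ddc8123be8c5c298f73dacaa44d35a68fe939506059487b61b97376c242c11c644d86f6215c6604dbf6024544e512d0f55bef9170c4dfec7e1d32592c680dda,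
  nat_lit 0x8208db8c4512714cb78db4b85edcac17e1bd565523aa8a692a50d36679d39751a8290c0770c023a6151d7d81bea95363ecb6f349b43efb94b67c279f5edb4aa0251410fa3c4a4b78,
  nat_lit 0,
  nat_lit 0,
  nat_lit 0,
  nat_lit 0,
  nat_lit 0,
  nat_lit 0,
  nat_lit 0,
  nat_lit 0,
  nat_lit 0,
  nat_lit 0,
  nat_lit 0,
  nat_lit 0x3f10971e0f8f6a839a333ac302bcd0651266e15be7158decc6425350b66a752e38c7612ac3a9847527568bc12847b5546da50b7c3940942c22aa2357464a4c923ec88a9db819254e,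
  nat_lit 0,
  nat_lit 0,
  nat_lit 0xee5d2144672b93e29cfbdae24becd02659e4f93858081514086c1a15c26cc5d8c396db9d1d52d54f0e74330e81edb52f7dcb14bd613420a505b96a6d7afe9c694e810a764da4e1a8,
  nat_lit 0,
  nat_lit 0x208920130482122120424c840c023a9b41ad3ec70f6b3930bfda489750b66286072621f956fd96be301646577a72b18433b703b7a63b8ce0c9390d9225af36f94440,
  nat_lit 0,
  nat_lit 0,
  nat_lit 0,
  nat_lit 0,
  nat_lit 0,
  nat_lit 0,
  nat_lit 0,
  nat_lit 0,
  nat_lit 0,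
  nat_lit 0x3f10971e0f8fc80aba20364110ac702755f4e45df54a6620f569a8a59f5a4962f24299274e7ba135f9c179170ebd92793bb91f0fc487d76076e3a92fb15f9bf096d8f513afa5f60e,
  nat_lit 0x79afeb2d7cc675b4f3679063c9b974dacdc24f916076f3138678d0caaa771dd7a460168a20d7aaffaaa69df2b8b23adea6436bcae3a5c83afab36cc39dcf43d98da33f692343b407,
  nat_lit 0xf730071e03b90b0170e55df90fbc60acaf5909d45751845bc407aba6c48851fb4ff3bb395a51ee7e4341cd16887333eb130a15a356c55786eea061c11029a2517caef2131d6cc94e,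
  nat_lit 0x238e6f3d71f0a6bdb537ebd875b8c4de00373f9fd70eb2870be208e8e29999dbfc916bf32a5254a4653ef1e49b3051682b270b988e01de7bce7625a490915b87b4884f883a288c25,
  nat_lit 0x6c5d134c62198369f47e38c5f69dd0f4caa13bc547aea7fcf25e2068c80cc3a9cce2988f260b232e03487f707a6e47b0003545d112603bba3b94ebf9f15086ba623721c95e27400e,
  nat_lit 0xfc1507dc2a0d01231ce85e45019df0243be6cc2c67d68d542de5d81babec405146123c1c2e3f5399ff988e2b58b6c17223b87bbee6578bda6d91cc5551cf36a071e9ccd396737628,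
  nat_lit 0x514d045260a05b6ffc566f0c976930d39cfbf4c984a72d3ebda2e38673c4ca2c8b3984159844bece1049143db7c39726f9b6dae597b7ca786df96a3c438c314163a9b2e4adde4b52,
  nat_lit 0,
  nat_lit 0,
  nat_lit 0,
  nat_lit 0,
  nat_lit 0,
  nat_lit 0,
  nat_lit 0,
  nat_lit 0,
  nat_lit 0x1000008044088a4018c82c85080100f200d683e05bb4b8ccef2bf48b4c7f8ce0dc0873ce3d28db7fb3b61e3442d849c4ba5f2f2ffdc147bde6d649ffe9ad83bfc59a491bc7fa4,
  nat_lit 0xb8aa7f7f50507c15f5bef16916f9d489a8503ac8c478907f3732d594b751ce7165a5229e264f5a8feb133da197876c173655d8e913023e4db95beadc117b5fd85c65cdac22693cc1,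
  nat_lit 0x2d58338e4a8d1b4a783ab03d3cc4302e3c705d4feffb51244297fb217e10c1fba084760c6be42c9035b39278e04eca34e0a7a70cc9b29eb1a483898b454d3f8066ec243fbc430f7c,
  nat_lit 0xfbaafb6d55e2241c17f25fb1e548e413e2c6429c6ad63c4db907ec95752bd8024f305bade436186f34cd6bec75810e4fa9c2aaac7d68afe810126fad00de780ab4ef5efa11e2ef05,
  nat_lit 0xaae35df71d666fdcd1affc8191383cdb80a44dd2f062b2a27953445927655f21af22548fe46afd5c158b2cf912882ebe040db79ac81cd9b723dde7a9a27fe278394c39b9ee518b25,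
  nat_lit 0xaf50930e07abc80bbab0774582dcf0b55fe6e712f10cc4c73ac9482bcf5a4991d0c25080435a31486f1b5b68f4a9c442fbd6da0f84e5657cf59c48504b6c87f97b82473b82300c2e,
  nat_lit 0x5a2120000934510434416ca41168a0ca0db18059b49b2104b04222b92d845aa8b799411ed06b9bd840260926909c245d0b601cb809ab7c2b61d8ca11830d92b005e4d989bccb8994,
  nat_lit 0x5a2414d029045024f058e6c8f4d930112624e1718ca7812220b2152be9c842fee0c604032a6f87f744447f4394e73319023f974c41fdc366c3b7a79f31d89a23b9e39e2a9db3e8f2,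
  nat_lit 0,
  nat_lit 0,
  nat_lit 0,
  nat_lit 0,
  nat_lit 0,
  nat_lit 0,
  nat_lit 0,
  nat_lit 0xc5f24cf116e3f75b9ddd649c741db434d1568d3ca9d0e25d1cb32fc871f11a115ae811d2def1ca9c1eaedf29aa9d8568cbec1b5ed6169c54a81c6c788eaea3c434e7cd8165608a79,
  nat_lit 0xd34c9452658a0be922fb2482495100836a3c379c604def9dd1534ef51402cc564d4fe93952bb64fb9c8a215c23253db49603a355dc49d8bfd4b1c887cf7d8a937c1b601d31ef3aa2,
  nat_lit 0xc5f268e11ecff5d70dc5a3ba3e0c3415b2f2909cb75d4c7718a06fbc2c7101809daee1854ad58f6f21c22662eb1e93e900f6cea62f6e89608afde6348f792429085a4d2460c4e47d,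
  nat_lit 0xb8aaf967587c7e9337b4b6ef3791e4b2a0a0b446d4d1d23560b41f93df839b657a63e7a3709c628829dde61a56cb75a16b2f0d69a82b7ba1602b410b9c990ecb3e33feded26e0453,
  nat_lit 0x96cb45264aa586d920a09a40249a09b2ca29b0016d86d32dae810b1403298940e587836f28effdf3e0546bc03db21814b3d18e92db7ddd457d96253ac6ec8216093a0caaa006e12,
  nat_lit 0x9041200008244284149a0d92906100c36ca09509068160fbe602a9815434de13fa4d3838e1826852c989daf951a17c99c5614d9991a5429ac2340920d628ff03fdda2c71082b99c0,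
  nat_lit 0xd7bb486157eb659f29d42d9aae3c34e7f5f883d8bb93af16ba481b204d5516f79b2c49ea8fd531d1380ebcf948b0dc964ed9505464aadfcfb273871407b3ffe7ec74342c57412f59,
  nat_lit 0x55b24cf116cbb7db9d4e219e767d34869462c8ddbbd1aa267a60a56060f1c4caad6d00ec0e05a3607a36bdf26f37d1601fcf2a5f42b9ed81fb7a8cea91b37db4f0653bd5d3ca06d9,
  nat_lit 0x8b64b0c22dbe0ba8829308369208a00804149461204201f9e75310a81422579b711e798c3b884d59402acbe44838313d8e3e9f5190aa52e186b24c3667ac6c6b12ec5e629471a836,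
  nat_lit 0,
  nat_lit 0,
  nat_lit 0,
  nat_lit 0,
  nat_lit 0,
  nat_lit 0,
  nat_lit 0xd82926984c36024024ca68129169201b44129128821b6054bd4daeda20a418e92c4a75a4936e93230832795b4eca45368a6418426eb977a5cc838d2c8bd5bda893a961d8a29360b0,
  nat_lit 0,
  nat_lit 0x514590c224a2db2db64329b4110080004d90c21d865828e1fce1865901a6082d2e1820b647176767941259384dc228a3197408c8458e6e2ab1c5abb04be5b13a6f0bba83a6823aa2,
  nat_lit 0x1b2594d22db6482c960b09840249a08b34b6194202482536a6e618b1083605810a585558126fd8cdec967e001f1ea9559f06114926a4f8552cc4eeb833df1f0df2e5199ab2817c36,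
  nat_lit 0,
  nat_lit 0x5145b6da28841a21065b68925b2180c34022d16d8493019601c91cf944164b013541381a02115e8ed403f742881a0c93d84fae62600c27b907086783f3969e40efcd9173b4891326,
  nat_lit 0xe00000000000000000000008000000000000000000000000000220000a00020018020020000000000a01000000000000,
  nat_lit 0x992db4526cb69b6c16884d10c808201b2c860105169a390141c998b821864ee83349711ea1450a057117ab23a24b6923556abe8809ad620ce759a222b834acd183b4d832880a2616,
  nat_lit 0x96db4526c965965360b04105a09200b2c808168060a08461108825a69861148144b5026530992880884964b960b6d92d301b0d809acec2d20494d2088433cc268828ae8bc1901b6,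
  nat_lit 0xd34c924a69840a6102c929b6c960804140265324849100b202c92c2b4c32d90113c3582e0270ea95bc052d4fb80a05b548429aa2203cf8d901182a8530fbaac3a27b931e949b7f22,
  nat_lit 0,
  nat_lit 0,
  nat_lit 0,
  nat_lit 0,
  nat_lit 0,
  nat_lit 0x820800804120514d30880494900180512196d305041068c435490859441052ad3cc03590302f8b7bcd966a633ad36596d35c1a2a0e396d23cc4240b983d12da8a60952b1b2813824,
  nat_lit 0x6778959643b9894eaa601be711b550fd7a62a77d7707c573fbccde6ae3ca819dc0c830b4a27a9d1afb19803112b0ece2a2e7d7e7aa4707ba5f55ceedb148057b6e06b737a62216be,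
  nat_lit 0xc10496da2080982512d36d22cb0100022db08864a09865439988863a682250e89698048caf17793e3cb3d615348b6db511589c5b05b8519237536a846a2302f87737fac200c34ea6,
  nat_lit 0x6778b79e4fbf8a433a795ac1cbf5503cbbe76a2d415da4afc3e7d69aa75a9e78f2f228643a7955b8d71da3343e26a45d65afe9df326b822d79d6c16a72b8a97f4c71a64fa6b3d2ba,
  nat_lit 0xcedff82373792dbf8bc661aa3e55143ff5d4c1d88dc0afb0a2e58de2485717cf2d3d20682664016e62b705efd534d0234ed722942298ecde396b63cc300b59fe488e426e598a4cef,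
  nat_lit 0x8b64b4d225b20a2982920d34026820484820424d16d349c6c1ec84f025224008b213088e9b487637dd140e5685d64cc3c21828f00d36981a9487a8b30a03305bf798690f06d83336,
  nat_lit 0xd34db65a69a40a6d36c36d025b4100906cb08a24849a6c428b8882ba692640e08a0845b4bb1f592c54b7441410112db103589ccb05bc90d333d26ba0286a02ea0714f88b24c30382,
  nat_lit 0x514596da28a49a2cb64229920160808069848865b451546389a8a0ab0096c0c82000419c2378767f74b20a3b3b1529d141383ecb413949d7c6c56da649893249b2c7b14318016622,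
  nat_lit 0x904024100804c30cb0990900586100d32496c30510d901a0db603a9a6c80c225835839903b1cf679a1a22c6b051b2972010698e8448e25d8b5cbc81d8b7e3e49096150909a4375a4,
  nat_lit 0x5a2126180d16d105344265860169a0ca2484c225860b08908a04a6016c94c84c108a4014e3086c5b8ca00338141b61a4db58163860a00a1a04404483880c908075a0b12130123094,
  nat_lit 0x992d94526c961a6886920514022820d84820c2453251484242a584306d26c009961109ba8949d2ecb534163b834e454542781830050a8877b49ce9951a0f10c89aa8bb0302485f12,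
  nat_lit 0,
  nat_lit 0,
  nat_lit 0,
  nat_lit 0,
  nat_lit 0x430db24a61a04bed36522824592180c261801c2db68b6cffb40b18c258069407489731bc336ed249e719203e60bd5c6f8f2a05c89815e2a4e5674f4e08781bc99e8eb5919e78fc22,
  nat_lit 0xaf51910603b98a821eb073f9cafc70a57bd64100d1dfe4b96a6af3f8e7de8e2826df58aca4cf809e2495c77088acc93e3794badc1c4aef1591806fa27caab7199c0f33c09d19c54a,
  nat_lit 0x628bdf7f55526e9183771fffbcc9245acba2accb5c0e7d2259496d7d83af8fc6e874092ea4d7b6c42f6667c0a93a7dd47407a492c87edf7ea42b286efe5c6050b3078089c1a104c7,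
  nat_lit 0xfba74bad31c0a77c91fe66eff4a14411eb14238e5a95510bb7867a39d22d92a501ada836ee42203fa7fe08d059c565e9b1760a987648bb102e5be35ed007c1013c9c678b439cb595,
  nat_lit 0x10000000000000000000000000001c0000000000e00a20000800020020020020000200000200000038000000,
  nat_lit 0x992db4526cb6d96c16894c10c849201b25861109269801229bcd9e1621a6810d015b3916a36176471987621bb4536917017db84a48ac3ff727522300a8552e50b949f25384996a96,
  nat_lit 0x1000000200000000006000200000040010800800c00a20000800020020120020830e00000001000038000000,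
  nat_lit 0xca6126180d36930c14c224a69329a05a2ca4820886894a96104484d344949b54048a400018c4844b0a28586db3e30934096198086db262dd920bc0f87d6432816c865e0104136134,
  nat_lit 0x80000000000000000000000000000000000001c0000000000000000000,
  nat_lit 0x9040041008240300009040200200001200008a41001009924a0c141001000a49908a6110c085a043073e4a20a21801b2180962036002d149820805505c6512136412c42800536120,
  nat_lit 0x124920804924904824100020904100924100920824024024020824900104024100800020828804104d0c124402c269248249209240201000004208844e01248049009d0904820924,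
  nat_lit 0x8b6494d225924b24329b4430584920096c8213092288012688c4aa0e60a2830507c959326120d2dd7881a27694d12931031488d6499ce49b21d26f00783d1ad3d8ff323e848b27b2,
  nat_lit 0,
  nat_lit 0,
  nat_lit 0,
  nat_lit 0xd34c924a69848a6102cb2196c92080c14802d32ca48309b201c03c1b0c32494911c1792282695a9e94276155804a48b3d8458e62290c25f1239267833051bed0ace962f2b48b1b22,
  nat_lit 0xd34c965a6180486002cb2992592080c109020348a01703b089811e573d12185221c1382eba35f22e1e97223a39600f07c816b0c02d3e0e0a950fea5c51fd1cc19de8bb5abc084aa2,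
  nat_lit 0,
  nat_lit 0x486802884c36c34c10516c820168a0582da4000d96973ebdda41a2e73c9056de160808288b00587962a00f79b1bb2e008d5c3e481597776a72c541f2aa06b00076e8316114002db0,
  nat_lit 0x904024100824810cb0980410580100132182514900400582902982801ca08b40904901221359062004b24a41bc634f145902320a0e34594d0c850192a9e90651693390019ac901a4,
  nat_lit 0x200000000000000000000000000000000000000000000038000000000,
  nat_lit 0x8209249041009040049049049201000208200241201008240009200248240248248041008058041040248e0138504c200008200049000248248a000040cb20904923120100020804,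
  nat_lit 0x820924904100904004904904920100020820024120100824000920024824024824804178803804104024960108d044200008200049000248249a0000c3c7208cc924120100020804,
  nat_lit 0x40000000000000000000000000000000000000e00000000000000000000,
  nat_lit 0xca6126180d16130c14c02c969329a0da2ca48200a6894916c24c82d364940848048a2130db44009a0922026910eb0e10196ca4086fb0fb680a054d10a909061364124149061141b4,
  nat_lit 0x5145b6da28a45829264a6c825b00808104241169b4084c96000db4c16c16800522c068804361948a2526010592646b148220b89268b45141224d43b86909949b69061041b4814526,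
  nat_lit 0x904004100824020820804924024100904900000104120024800904824920100400104020924800500004104000720420d248c01045205240341a0820b00804024426820004020120,
  nat_lit 0x5a21220805321104344065b29168a04a65a48201a29b4932424586512db41848049a6110494c008a09260229303902300b25a418229009283e1f45307b0902112c36c34902134094,
  nat_lit 0,
  nat_lit 0,
  nat_lit 0xd34cb24a69a44b6492c164b2936100402186502c804169748a2c8a1120b21229961879a408303eb901a9606e98ff5dd65337601a2c18afc8136fc20041d41a4954515fb5344121a6,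
  nat_lit 0x430db24a6180c96c36512502c960008269901221a49160d6b583247249260aad3d81248a82134b3cb9a35761608948071b722c8a673402972d8b6b20f16a87bb48c25be622885f22,
  nat_lit 0x514592ca20a01a25965021969161808268b45a4d90d14567c8e4a46b09b643ed1280008c285cd86638b5cc21361101338318aa594d0e00ba970b272262261619b2a5c0cf30834f22,
  nat_lit 0x8b6590c225924a24b68948800009a09b6d969d092652681affeb28ab011607a92a487538120e03d6b002bc58db8544f11d21b858d1a5b26cc49cac0052b229b3d4a570be92831e16,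
  nat_lit 0x992db04264929864369a4000c869a0d92180892936132014c80c12ca09864034a0c2213018a5a0910f22120ea343762403481adb62122afbbc3f806a1c012411012612e1b0d22196,
  nat_lit 0x8b6494d225924b2d128a4830c868a04b2980434512832080494022da09a29921344828048109825b20b84107a5ab1524c92cf64809124b09a6fb40363b6da0c149b615a5a68265b2,
  nat_lit 0x124820804120904180130490c86080824524406030c92026092826416890814c9a8a451cd172a5494c021e548e4a69868245220044a54060f05344b6db8336729030680c14d02880,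
  nat_lit 0x992db4526cb69865369841145869a0596180c94d129360b68044301828865244a0d2091082658513611ac27313211d005300c09b2036086e80f00c00f1293673412225e8b6d06c16,
  nat_lit 0x200000000000000000000000000000000000007000000000000000000000,
  nat_lit 0x430c965a61a00860025864925b40001344040329b09a6830534d80c92c12c1252452283000498603252cd00a93f21484802d442028b6d14ea6f90db3612010436d021dc5b2906402,
  nat_lit 0xd82806984432834530d02d96936820c86da41004820b6430d30592d924b01a6c361848b45a60a65145bc4a2d809d3ed04b294e5a2da2020591ae0bae5361125a4426c72436012990,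
  nat_lit 0x124920804924924824100020904100924100820824024100920004900104124020904000020104924118820506d268009248a4900024920104520024d24900820124154904004924,
  nat_lit 0x486806984412c24d105265929169a0586da4c86da60b48061309b0410d905265b01009140228a25168961922b12966149144048b0392100fbc560914b201b2d36010d9cd12412c30,
  nat_lit 0x430c965a61a00860025864925b40001344040329b09a6830534d80c92c12c1252452283000498603252cd00a93f21484802d440028b6d14ea6f90db4612010436d021dc5b2906402,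
  nat_lit 0,
  nat_lit 0xca6122080532530d14c22c820328a05a6d84426c821909b09a0da20325b45844309a403421081cc885a00158340920a4493832e821a01a0604c04d859805b0801ca07361101251b4,
  nat_lit 0x8209249041009040049049049201000208200241201008240009200248240248248041088058041040248e0138504c200008200049000248248a000040cb20904924120100020804,
  nat_lit 0x904104100020000184834d945a6180804d04422110d928020921064320b48304b60a0424514aa1590c268855869a25a6824d02000da54228d4d944b6184c16e2e9147a0d14d22084,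
  nat_lit 0x1b2490c22db6082532080810ca68a05b69a0cb0c32836892804d101a60a2500cc4524808021d8103213e54721bf151205308e09b69360a26a46a0c00b0ee16e3080637e9b6b26412,
  nat_lit 0x904024100824830590880c30c80100116086d34900c00c869068868065a09941b0db0126113902e00d96de408ca143340b04361a0a14c9451c9d00967aa702d327159000b65b00a4,
  nat_lit 0x1000000000000000000000000000000000000000000000e00000000000,
  nat_lit 0x1000000000000,
  nat_lit 0x8000000000000000,
  nat_lit 0xc105b2ca2080d82006c82ca6c94080114d148120909a0516004594112416012532d220a44025221a2936cf41a87a2b108044340065a0132436dd4904e3a294da64b28b49a0914506,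
  nat_lit 0x1249208049249240040201009041009000209000040248a4010800d209241349140009009065a65b60229a488010082690011cc2481013f02203c41ec04524506d20914c20826c24,
  nat_lit 0x820924904100104824824804920000004920104900104884130104504004814114100920d22c925a2926886920024922026128120930000c2681450c504404d04c20510400824504,
  nat_lit 0x6000000c00000000004000c00000180020000000800c40000000000000000000020400000006000010000000,
  nat_lit 0x820924904100924004924124920100820804924100100904c90134c248240009249020009261848b2002d8253480000680493cc20f0649c88e01c41a512432830016d02524806504,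
  nat_lit 0x8201009200041008249249200001248a0100534824820114116926914920412c001004265b4920004922d0cd249274ae46013881a136930d10192436120900100,
  nat_lit 0x820924904100924004924124920100820804924100100904c90134c248240009249020009261848b2002d8253480000680493cc20d0649c89601c41a512432830016d02524806504]
noncomputable def Wsx2 : List (List ℕ) := [[nat_lit 11, nat_lit 13, nat_lit 14],
  [nat_lit 11],
  [nat_lit 12],
  [nat_lit 13],
  [nat_lit 6],
  [nat_lit 7],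
  [nat_lit 4, nat_lit 9],
  [nat_lit 0, nat_lit 2, nat_lit 3, nat_lit 5, nat_lit 9, nat_lit 10],
  [nat_lit 0, nat_lit 3, nat_lit 9, nat_lit 10],
  [nat_lit 1, nat_lit 3, nat_lit 5, nat_lit 9, nat_lit 10],
  [nat_lit 0]]
noncomputable def LDx2_4d : ℕ := nat_lit 0
noncomputable def LDx2_4 (u : ℕ) : ℕ := Nat.land (Nat.shiftRight LDx2_4d (Nat.mul u (nat_lit 1))) (nat_lit 1)
noncomputable def Ptx2_4d : ℕ := nat_lit 0x841
noncomputable def Ptx2_4 (u : ℕ) : ℕ := Nat.land (Nat.shiftRight Ptx2_4d (Nat.mul u (nat_lit 6))) (nat_lit 63)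
noncomputable def Qx2_4d : ℕ := nat_lit 0x200000000
noncomputable def Qx2_4 (u : ℕ) : ℕ := Nat.land (Nat.shiftRight Qx2_4d (Nat.mul u (nat_lit 1))) (nat_lit 1)
noncomputable def lx2_4 : Lev := ⟨2, 1, LDx2_4, Ptx2_4, Qx2_4⟩
noncomputable def LDx2_3d : ℕ := nat_lit 0x9ace618820
noncomputable def LDx2_3 (u : ℕ) : ℕ := Nat.land (Nat.shiftRight LDx2_3d (Nat.mul u (nat_lit 5))) (nat_lit 31)
noncomputable def Ptx2_3d : ℕ := nat_lit 0xd8eb40c685c43f5e00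
noncomputable def Ptx2_3 (u : ℕ) : ℕ := Nat.land (Nat.shiftRight Ptx2_3d (Nat.mul u (nat_lit 9))) (nat_lit 511)
noncomputable def Qx2_3d : ℕ := nat_lit 0x38230000000000000000000000000000000000000000000000000000000000000000000000000000000000000000000000000000000000000000000000400000000000000000000000000000000000000000000000000000000000000003000000000000000000000000000000000000000000000000000000000004000000000000000000000000000000000000000000000000000000000000000000000000140000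
noncomputable def Qx2_3 (u : ℕ) : ℕ := Nat.land (Nat.shiftRight Qx2_3d (Nat.mul u (nat_lit 3))) (nat_lit 7)
noncomputable def lx2_3 : Lev := ⟨8, 4, LDx2_3, Ptx2_3, Qx2_3⟩
noncomputable def LDx2_2d : ℕ := nat_lit 0xbf1dbaf5c7cb961e386870c14200
noncomputable def LDx2_2 (u : ℕ) : ℕ := Nat.land (Nat.shiftRight LDx2_2d (Nat.mul u (nat_lit 7))) (nat_lit 127)
noncomputable def Ptx2_2d : ℕ := nat_lit 0x8415a0f9d276d5c9c22e61ca8304996714a1fc29
noncomputable def Ptx2_2 (u : ℕ) : ℕ := Nat.land (Nat.shiftRight Ptx2_2d (Nat.mul u (nat_lit 10))) (nat_lit 1023)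
noncomputable def Qx2_2d : ℕ := nat_lit 0x900000000000000000000000000000000000000000000000000000000000000000800000000000000000000000000000f0000000000000000000000000000000000000000000000000000b00000000c000000000000000000000000000000000000000000000000000003000000000000000000007000000000000000000000000000000000000000000a0e0000000000000002000000000000000000000000000000000000000000000000000000000000000000000000000000000000000000000000000000000000000000000000000000000000000050000000000000000000000006000000000000004000000000000000000000000010000000000000000000000000000000000000000000000000000000000000000d00000000000000000000000000000000000000000000000000000000000000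
noncomputable def Qx2_2 (u : ℕ) : ℕ := Nat.land (Nat.shiftRight Qx2_2d (Nat.mul u (nat_lit 4))) (nat_lit 15)
noncomputable def lx2_2 : Lev := ⟨16, 8, LDx2_2, Ptx2_2, Qx2_2⟩
noncomputable def LDx2_1d : ℕ := nat_lit 0x9a500
noncomputable def LDx2_1 (u : ℕ) : ℕ := Nat.land (Nat.shiftRight LDx2_1d (Nat.mul u (nat_lit 5))) (nat_lit 31)
noncomputable def Ptx2_1d : ℕ := nat_lit 0x990d964061
noncomputable def Ptx2_1 (u : ℕ) : ℕ := Nat.land (Nat.shiftRight Ptx2_1d (Nat.mul u (nat_lit 10))) (nat_lit 1023)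
noncomputable def Qx2_1d : ℕ := nat_lit 0x3000000000000000000000000000000000000000000000000000000000000000000000000000000000000000000000000000000000100000000000000000000000000000000000000000000000000000000000000000000000000000000000000000008000000000000000000000000000000000000000000000000000000000000000000000000000000000000000000000000000000000000
noncomputable def Qx2_1 (u : ℕ) : ℕ := Nat.land (Nat.shiftRight Qx2_1d (Nat.mul u (nat_lit 2))) (nat_lit 3)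
noncomputable def lx2_1 : Lev := ⟨4, 10, LDx2_1, Ptx2_1, Qx2_1⟩
noncomputable def LDx2_0d : ℕ := nat_lit 0x8934172af52265067f3c1b4ae532612082361a0cc4e200f07438150a04c24110803c1400
noncomputable def LDx2_0 (u : ℕ) : ℕ := Nat.land (Nat.shiftRight LDx2_0d (Nat.mul u (nat_lit 9))) (nat_lit 511)
noncomputable def Ptx2_0d : ℕ := nat_lit 0x8887a26db4a02061847f9917748c996402936635528c161d5d2a22e9c0755719c76dd20f95a84013
noncomputable def Ptx2_0 (u : ℕ) : ℕ := Nat.land (Nat.shiftRight Ptx2_0d (Nat.mul u (nat_lit 10))) (nat_lit 1023)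
noncomputable def Qx2_0d : ℕ := nat_lit 0x1b000000000000000000090000000000000170000000000000000000000000000000000000000000000000000000002000000002800000000000007c0000000000000000000001000000000006800000000000000000000000000000000000000000000000000002800000000010000000000000000000000000000000000001c000000000000000000000000000006000000000000013000000000068000000000000000000b00000000000000000000000000000001870080000000000000000003c00000000000000000000000000000000000000000000000a80000000000000000000000000000000000000000000000000000000000000000000000000000000000000000002200000000000000000000000000001c000000000000000000000000000000b000000000000000e8280000000000000000000000000000000c000007800001000000000000000000000000320000000000000000000000000000000000000000000c00000000000000000000000024000000000000000000000000000000000000000000000000000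
noncomputable def Qx2_0 (u : ℕ) : ℕ := Nat.land (Nat.shiftRight Qx2_0d (Nat.mul u (nat_lit 5))) (nat_lit 31)
noncomputable def lx2_0 : Lev := ⟨32, 11, LDx2_0, Ptx2_0, Qx2_0⟩
noncomputable def Lx2 : List Lev := [lx2_0, lx2_1, lx2_2, lx2_3, lx2_4]
noncomputable def Bx2 : List ℕ := [nat_lit 19, nat_lit 97, nat_lit 41, nat_lit 0, nat_lit 1]

theorem id3_0 : c3.idnChk (nat_lit 37) I3_0 = true := by decide +kernel
theorem rw3_0 : c3.rowChk S3 (Yo3.map (·.1) ++ Ds3) La3 (nat_lit 0) (nat_lit 36) = true := by decide +kernel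
theorem ord3 : c3.ordChk Yo3 Ds3 = true := by decide +kernel
theorem rule3_0 : allZ (c3.ruleEnt (wdsP H16.U62.P Us3) H16.U62.B) (nat_lit 0) (nat_lit 36) = true := by decide +kernel
theorem fus3_0 : allZ (c3.fusEnt (wdsP H16.U62.P Us3) (wdsP H16.U62.P Fs3) H16.U62.B) (nat_lit 0) (nat_lit 9) = true := by decide +kernel
theorem lvx3_4e_0 : allZ (lx3_4.ent (wdsP (wdsP H16.U62.P Us3) Wsx3)) (nat_lit 0) (nat_lit 2) = true := by decide +kernel
theorem lvx3_4b : 0 < lx3_4.n ∧ 0 < lx3_4.K ∧ lx3_4.Pt 0 < 672 ∧ lx3_4.Q (lx3_4.Pt 0) = 0 ∧ 0 ≤ lx3_4.K ∧ fixLetters (wdsP (wdsP H16.U62.P Us3) Wsx3) (nat_lit 0) (lx3_4.Pt 0) = true := by decide +kernel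
theorem lvx3_3e_0 : allZ (lx3_3.ent (wdsP (wdsP H16.U62.P Us3) Wsx3)) (nat_lit 0) (nat_lit 2) = true := by decide +kernel
theorem lvx3_3b : 0 < lx3_3.n ∧ 0 < lx3_3.K ∧ lx3_3.Pt 0 < 672 ∧ lx3_3.Q (lx3_3.Pt 0) = 0 ∧ 1 ≤ lx3_3.K ∧ fixLetters (wdsP (wdsP H16.U62.P Us3) Wsx3) (nat_lit 1) (lx3_3.Pt 0) = true := by decide +kernel
theorem lvx3_2e_0 : allZ (lx3_2.ent (wdsP (wdsP H16.U62.P Us3) Wsx3)) (nat_lit 0) (nat_lit 8) = true := by decide +kernel
theorem lvx3_2b : 0 < lx3_2.n ∧ 0 < lx3_2.K ∧ lx3_2.Pt 0 < 672 ∧ lx3_2.Q (lx3_2.Pt 0) = 0 ∧ 2 ≤ lx3_2.K ∧ fixLetters (wdsP (wdsP H16.U62.P Us3) Wsx3) (nat_lit 2) (lx3_2.Pt 0) = true := by decide +kernel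
theorem lvx3_1e_0 : allZ (lx3_1.ent (wdsP (wdsP H16.U62.P Us3) Wsx3)) (nat_lit 0) (nat_lit 2) = true := by decide +kernel
theorem lvx3_1b : 0 < lx3_1.n ∧ 0 < lx3_1.K ∧ lx3_1.Pt 0 < 672 ∧ lx3_1.Q (lx3_1.Pt 0) = 0 ∧ 4 ≤ lx3_1.K ∧ fixLetters (wdsP (wdsP H16.U62.P Us3) Wsx3) (nat_lit 4) (lx3_1.Pt 0) = true := by decide +kernel
theorem lvx3_0e_0 : allZ (lx3_0.ent (wdsP (wdsP H16.U62.P Us3) Wsx3)) (nat_lit 0) (nat_lit 2) = true := by decide +kernel
theorem lvx3_0b : 0 < lx3_0.n ∧ 0 < lx3_0.K ∧ lx3_0.Pt 0 < 672 ∧ lx3_0.Q (lx3_0.Pt 0) = 0 ∧ 5 ≤ lx3_0.K ∧ fixLetters (wdsP (wdsP H16.U62.P Us3) Wsx3) (nat_lit 5) (lx3_0.Pt 0) = true := by decide +kernel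
theorem basex3 : chainBase Lx3 = Bx3 ∧ ltAll (nat_lit 672) Bx3 = 0 ∧ topK Lx3 = 6 := by decide +kernel
theorem h0_3 : allL (ltAll 10) Us3 = true ∧ allL (ltAll 10) Fs3 = true ∧ Us3.length ≤ c3.n ∧ 0 < 9196830720 := by decide +kernel
theorem h1_3 : allL (ltAll c3.n) Wsx3 = true ∧ chainCard Lx3 = (c3.p1 + 1) ^ c3.n ∧ c3.n * c3.n = 36 := by decide +kernel
theorem h2_3 : c3.Fmt ∧ c3.p1 + 1 = 3 ∧ c3.N1 + 1 = 3 ^ (1 + 1) ∧ 9196830720 = 3 ^ c3.n * (9196830720 / 3 ^ c3.n) ∧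
    Nat.Coprime (9196830720 / 3 ^ c3.n) (c3.N1 + 1) ∧ (Yo3.map (·.2.1)).prod ≤ 3 ^ 1 ∧ c3.n * c3.n = 36 := by decide +kernel
theorem h3_3 : c3.C = 9 := by decide +kernel
theorem id2_1 : c2.idnChk (nat_lit 336) I2_1 = true := by decide +kernel
theorem id2_0 : c2.idnChk (nat_lit 336) I2_0 = true := by decide +kernel
theorem rw2_0 : c2.rowChk S2 (Yo2.map (·.1) ++ Ds2) La2 (nat_lit 0) (nat_lit 225) = true := by decide +kernel
theorem ord2 : c2.ordChk Yo2 Ds2 = true := by decide +kernel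
theorem rule2_0 : allZ (c2.ruleEnt (wdsP H16.U62.P Us2) H16.U62.B) (nat_lit 0) (nat_lit 225) = true := by decide +kernel
theorem fus2_0 : allZ (c2.fusEnt (wdsP H16.U62.P Us2) (wdsP H16.U62.P Fs2) H16.U62.B) (nat_lit 0) (nat_lit 28) = true := by decide +kernel
theorem lvx2_4e_0 : allZ (lx2_4.ent (wdsP (wdsP H16.U62.P Us2) Wsx2)) (nat_lit 0) (nat_lit 1) = true := by decide +kernel
theorem lvx2_4b : 0 < lx2_4.n ∧ 0 < lx2_4.K ∧ lx2_4.Pt 0 < 672 ∧ lx2_4.Q (lx2_4.Pt 0) = 0 ∧ 0 ≤ lx2_4.K ∧ fixLetters (wdsP (wdsP H16.U62.P Us2) Wsx2) (nat_lit 0) (lx2_4.Pt 0) = true := by decide +kernel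
theorem lvx2_3e_0 : allZ (lx2_3.ent (wdsP (wdsP H16.U62.P Us2) Wsx2)) (nat_lit 0) (nat_lit 7) = true := by decide +kernel
theorem lvx2_3b : 0 < lx2_3.n ∧ 0 < lx2_3.K ∧ lx2_3.Pt 0 < 672 ∧ lx2_3.Q (lx2_3.Pt 0) = 0 ∧ 1 ≤ lx2_3.K ∧ fixLetters (wdsP (wdsP H16.U62.P Us2) Wsx2) (nat_lit 1) (lx2_3.Pt 0) = true := by decide +kernel
theorem lvx2_2e_0 : allZ (lx2_2.ent (wdsP (wdsP H16.U62.P Us2) Wsx2)) (nat_lit 0) (nat_lit 15) = true := by decide +kernel
theorem lvx2_2b : 0 < lx2_2.n ∧ 0 < lx2_2.K ∧ lx2_2.Pt 0 < 672 ∧ lx2_2.Q (lx2_2.Pt 0) = 0 ∧ 4 ≤ lx2_2.K ∧ fixLetters (wdsP (wdsP H16.U62.P Us2) Wsx2) (nat_lit 4) (lx2_2.Pt 0) = true := by decide +kernel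
theorem lvx2_1e_0 : allZ (lx2_1.ent (wdsP (wdsP H16.U62.P Us2) Wsx2)) (nat_lit 0) (nat_lit 3) = true := by decide +kernel
theorem lvx2_1b : 0 < lx2_1.n ∧ 0 < lx2_1.K ∧ lx2_1.Pt 0 < 672 ∧ lx2_1.Q (lx2_1.Pt 0) = 0 ∧ 8 ≤ lx2_1.K ∧ fixLetters (wdsP (wdsP H16.U62.P Us2) Wsx2) (nat_lit 8) (lx2_1.Pt 0) = true := by decide +kernel
theorem lvx2_0e_0 : allZ (lx2_0.ent (wdsP (wdsP H16.U62.P Us2) Wsx2)) (nat_lit 0) (nat_lit 31) = true := by decide +kernel
theorem lvx2_0b : 0 < lx2_0.n ∧ 0 < lx2_0.K ∧ lx2_0.Pt 0 < 672 ∧ lx2_0.Q (lx2_0.Pt 0) = 0 ∧ 10 ≤ lx2_0.K ∧ fixLetters (wdsP (wdsP H16.U62.P Us2) Wsx2) (nat_lit 10) (lx2_0.Pt 0) = true := by decide +kernel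
theorem basex2 : chainBase Lx2 = Bx2 ∧ ltAll (nat_lit 672) Bx2 = 0 ∧ topK Lx2 = 11 := by decide +kernel
theorem h0_2 : allL (ltAll 10) Us2 = true ∧ allL (ltAll 10) Fs2 = true ∧ Us2.length ≤ c2.n ∧ 0 < 9196830720 := by decide +kernel
theorem h1_2 : allL (ltAll c2.n) Wsx2 = true ∧ chainCard Lx2 = (c2.p1 + 1) ^ c2.n ∧ c2.n * c2.n = 225 := by decide +kernel
theorem h2_2 : c2.Fmt ∧ c2.p1 + 1 = 2 ∧ c2.N1 + 1 = 2 ^ (2 + 1) ∧ 9196830720 = 2 ^ c2.n * (9196830720 / 2 ^ c2.n) ∧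
    Nat.Coprime (9196830720 / 2 ^ c2.n) (c2.N1 + 1) ∧ (Yo2.map (·.2.1)).prod ≤ 2 ^ 2 ∧ c2.n * c2.n = 225 := by decide +kernel
theorem h3_2 : c2.C = 28 := by decide +kernel

instance fin : Finite (gen H16.U62.g 10) := Nat.finite_of_card_ne_zero (by rw [H16.U62.card]; decide)
theorem zero3 : ∀ D ∈ Ds3, c3.Zero D := (Pc.zero_of_chk id3_0)
theorem rows3 : ∀ r < 36, c3.Row S3 (Yo3.map (·.1)) r :=
  (Pc.rows_glue zero3 Pc.rows_zero rw3_0)
theorem rule3 : ∀ i < 36, (c3.ruleEnt (wdsP H16.U62.P Us3) H16.U62.B) i = 0 := allZ_sound0 rule3_0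
theorem fus3 : ∀ i < 9, (c3.fusEnt (wdsP H16.U62.P Us3) (wdsP H16.U62.P Fs3) H16.U62.B) i = 0 := allZ_sound0 fus3_0
theorem lvx3_4e : ∀ i < 2, (lx3_4.ent (wdsP (wdsP H16.U62.P Us3) Wsx3)) i = 0 := allZ_sound0 lvx3_4e_0
theorem lvx3_3e : ∀ i < 2, (lx3_3.ent (wdsP (wdsP H16.U62.P Us3) Wsx3)) i = 0 := allZ_sound0 lvx3_3e_0
theorem lvx3_2e : ∀ i < 8, (lx3_2.ent (wdsP (wdsP H16.U62.P Us3) Wsx3)) i = 0 := allZ_sound0 lvx3_2e_0
theorem lvx3_1e : ∀ i < 2, (lx3_1.ent (wdsP (wdsP H16.U62.P Us3) Wsx3)) i = 0 := allZ_sound0 lvx3_1e_0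
theorem lvx3_0e : ∀ i < 2, (lx3_0.ent (wdsP (wdsP H16.U62.P Us3) Wsx3)) i = 0 := allZ_sound0 lvx3_0e_0
theorem lowx3 : LowChain (wdsP (wdsP H16.U62.P Us3) Wsx3) 672 Lx3 :=
  ⟨⟨lvx3_0b.1, lvx3_0b.2.1, lvx3_0b.2.2.1, lvx3_0b.2.2.2.1, lvx3_0e⟩, lvx3_0b.2.2.2.2.1, lvx3_0b.2.2.2.2.2, ⟨⟨lvx3_1b.1, lvx3_1b.2.1, lvx3_1b.2.2.1, lvx3_1b.2.2.2.1, lvx3_1e⟩, lvx3_1b.2.2.2.2.1, lvx3_1b.2.2.2.2.2, ⟨⟨lvx3_2b.1, lvx3_2b.2.1, lvx3_2b.2.2.1, lvx3_2b.2.2.2.1, lvx3_2e⟩, lvx3_2b.2.2.2.2.1, lvx3_2b.2.2.2.2.2, ⟨⟨lvx3_3b.1, lvx3_3b.2.1, lvx3_3b.2.2.1, lvx3_3b.2.2.2.1, lvx3_3e⟩, lvx3_3b.2.2.2.2.1, lvx3_3b.2.2.2.2.2, ⟨⟨lvx3_4b.1, lvx3_4b.2.1, lvx3_4b.2.2.1, lvx3_4b.2.2.2.1, lvx3_4e⟩, lvx3_4b.2.2.2.2.1, lvx3_4b.2.2.2.2.2, trivial⟩⟩⟩⟩⟩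
open scoped Pointwise in
theorem pb3 : PB (gen H16.U62.g 10) (3 ^ (1 + 1)) :=
  (Pc.gok_wds H16.U62.act H16.U62.card (ptF_inj 672) H16.U62.Blt H16.U62.isBase h0_3 h1_3 rule3
    (fun r h => fus3 r (h.trans_eq h3_3)) lowx3).pb (by norm_num) H16.U62.card zero3 rows3 ord3 h2_3
theorem zero2 : ∀ D ∈ Ds2, c2.Zero D := (Pc.zero_app (Pc.zero_of_chk id2_0) (Pc.zero_of_chk id2_1))
theorem rows2 : ∀ r < 225, c2.Row S2 (Yo2.map (·.1)) r :=
  (Pc.rows_glue zero2 Pc.rows_zero rw2_0)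
theorem rule2 : ∀ i < 225, (c2.ruleEnt (wdsP H16.U62.P Us2) H16.U62.B) i = 0 := allZ_sound0 rule2_0
theorem fus2 : ∀ i < 28, (c2.fusEnt (wdsP H16.U62.P Us2) (wdsP H16.U62.P Fs2) H16.U62.B) i = 0 := allZ_sound0 fus2_0
theorem lvx2_4e : ∀ i < 1, (lx2_4.ent (wdsP (wdsP H16.U62.P Us2) Wsx2)) i = 0 := allZ_sound0 lvx2_4e_0
theorem lvx2_3e : ∀ i < 7, (lx2_3.ent (wdsP (wdsP H16.U62.P Us2) Wsx2)) i = 0 := allZ_sound0 lvx2_3e_0
theorem lvx2_2e : ∀ i < 15, (lx2_2.ent (wdsP (wdsP H16.U62.P Us2) Wsx2)) i = 0 := allZ_sound0 lvx2_2e_0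
theorem lvx2_1e : ∀ i < 3, (lx2_1.ent (wdsP (wdsP H16.U62.P Us2) Wsx2)) i = 0 := allZ_sound0 lvx2_1e_0
theorem lvx2_0e : ∀ i < 31, (lx2_0.ent (wdsP (wdsP H16.U62.P Us2) Wsx2)) i = 0 := allZ_sound0 lvx2_0e_0
theorem lowx2 : LowChain (wdsP (wdsP H16.U62.P Us2) Wsx2) 672 Lx2 :=
  ⟨⟨lvx2_0b.1, lvx2_0b.2.1, lvx2_0b.2.2.1, lvx2_0b.2.2.2.1, lvx2_0e⟩, lvx2_0b.2.2.2.2.1, lvx2_0b.2.2.2.2.2, ⟨⟨lvx2_1b.1, lvx2_1b.2.1, lvx2_1b.2.2.1, lvx2_1b.2.2.2.1, lvx2_1e⟩, lvx2_1b.2.2.2.2.1, lvx2_1b.2.2.2.2.2, ⟨⟨lvx2_2b.1, lvx2_2b.2.1, lvx2_2b.2.2.1, lvx2_2b.2.2.2.1, lvx2_2e⟩, lvx2_2b.2.2.2.2.1, lvx2_2b.2.2.2.2.2, ⟨⟨lvx2_3b.1, lvx2_3b.2.1, lvx2_3b.2.2.1, lvx2_3b.2.2.2.1, lvx2_3e⟩, lvx2_3b.2.2.2.2.1, lvx2_3b.2.2.2.2.2, ⟨⟨lvx2_4b.1, lvx2_4b.2.1, lvx2_4b.2.2.1, lvx2_4b.2.2.2.1, lvx2_4e⟩, lvx2_4b.2.2.2.2.1, lvx2_4b.2.2.2.2.2, trivial⟩⟩⟩⟩⟩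
open scoped Pointwise in
theorem pb2 : PB (gen H16.U62.g 10) (2 ^ (2 + 1)) :=
  (Pc.gok_wds H16.U62.act H16.U62.card (ptF_inj 672) H16.U62.Blt H16.U62.isBase h0_2 h1_2 rule2
    (fun r h => fus2 r (h.trans_eq h3_2)) lowx2).pb (by norm_num) H16.U62.card zero2 rows2 ord2 h2_2
theorem ker_le (Δ : Type) [Group Δ] [Finite Δ] (τ : Δ →* (gen H16.U62.g 10)) (h : Cfsg.IsStemExtension τ) :
    Nat.card τ.ker ≤ 12 :=
  card_ker_le (L := [(2, 15, 2), (3, 6, 1), (5, 1, 0), (7, 1, 0), (11, 1, 0)]) ⟨H16.U62.card.trans (by decide +kernel), by decide +kernel⟩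
    (all_cons ⟨by norm_num, pb2⟩
    (all_cons ⟨by norm_num, pb3⟩
    (all_cons ⟨by norm_num, PB.of_not_sq (by norm_num) (by rw [H16.U62.card]; decide)⟩
    (all_cons ⟨by norm_num, PB.of_not_sq (by norm_num) (by rw [H16.U62.card]; decide)⟩
    (all_cons ⟨by norm_num, PB.of_not_sq (by norm_num) (by rw [H16.U62.card]; decide)⟩
    all_nil))))) Δ τ h

end H16.ScU62
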